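import Mathlib

set_option autoImplicit false

/-!
# Alternating bilinear forms have even rank

* `Cfsg.Agent.Lib.Helper36.even_finrank_of_isAlt_nondegenerate`: a finite-dimensional space carrying a
  nondegenerate alternating bilinear form has even dimension.
* `Cfsg.Agent.Lib.Helper36.even_rank_of_alt_matrix`: a square matrix `K` over a field with
  `v ⬝ᵥ K *ᵥ v = 0` for all `v` has even rank.
-/

namespace Cfsg.Agent.Lib.Helper36

open Module
open LinearMap (BilinForm)

universe u v

theorem even_finrank_aux {K : Type u} [Field K] :
    ∀ (n : ℕ) (V : Type v) [AddCommGroup V] [Module K V] [FiniteDimensional K V]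
      (B : BilinForm K V), B.IsAlt → B.Nondegenerate → finrank K V = n → Even n := by
  intro n
  induction n using Nat.strong_induction_on with
  | _ n ih =>
    intro V _ _ _ B hA hN hn
    rcases Nat.eq_zero_or_pos n with h0 | hpos
    · subst h0; exact Even.zero
    · rw [← hn] at hpos
      obtain ⟨u, hu⟩ := Module.finrank_pos_iff_exists_ne_zero.mp hpos
      have hex : ∃ w, B u w ≠ 0 := by
        by_contra hcon
        push Not at hcon
        exact hu (hN.1 u hcon)
      obtain ⟨w, hw⟩ := hex
      have hR : B.IsRefl := hA.isRefl
      have huu : B u u = 0 := hA u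
      have hww : B w w = 0 := hA w
      have hwu : B w u = - B u w := by
        have := hA.neg_eq u w
        rw [← this]
      set W : Submodule K V := Submodule.span K {u, w} with hW
      -- linear independence
      have hli : LinearIndependent K ![u, w] := by
        rw [LinearIndependent.pair_iff]
        intro a b hab
        have h1 : B u (a • u + b • w) = 0 := by rw [hab]; simp
        have h2 : B (a • u + b • w) w = 0 := by rw [hab]; simp
        simp only [map_add, map_smul, smul_eq_mul, huu, mul_zero, zero_add, LinearMap.add_apply,
          LinearMap.smul_apply, hww, add_zero] at h1 h2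
        constructor
        · exact (mul_eq_zero.mp h2).resolve_right hw
        · exact (mul_eq_zero.mp h1).resolve_right hw
      have hfW : finrank K W = 2 := by
        have := finrank_span_eq_card hli
        rw [Matrix.range_cons_cons_empty] at this
        simpa using this
      have hdisj : Disjoint W (B.orthogonal W) := by
        rw [Submodule.disjoint_def]
        intro x hxW hxO
        obtain ⟨a, b, rfl⟩ := Submodule.mem_span_pair.mp hxW
        have hu_mem : u ∈ W := Submodule.subset_span (by simp)
        have hw_mem : w ∈ W := Submodule.subset_span (by simp)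
        have h1 : B u (a • u + b • w) = 0 := hxO u hu_mem
        have h2 : B w (a • u + b • w) = 0 := hxO w hw_mem
        simp only [map_add, map_smul, smul_eq_mul, huu, mul_zero, zero_add, hww, add_zero, hwu,
          mul_neg, neg_eq_zero] at h1 h2
        have hb : b = 0 := (mul_eq_zero.mp h1).resolve_right hw
        have ha : a = 0 := (mul_eq_zero.mp h2).resolve_right hw
        simp [ha, hb]
      have hcompl : IsCompl W (B.orthogonal W) :=
        (LinearMap.BilinForm.isCompl_orthogonal_iff_disjoint hR).mpr hdisj
      have hNO : (B.restrict (B.orthogonal W)).Nondegenerate := by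
        rw [LinearMap.BilinForm.restrict_nondegenerate_iff_isCompl_orthogonal hR,
          LinearMap.BilinForm.orthogonal_orthogonal hN hR]
        exact hcompl.symm
      have hAO : (B.restrict (B.orthogonal W)).IsAlt := fun x => hA x
      have hfin : finrank K W + finrank K (B.orthogonal W) = finrank K V :=
        Submodule.finrank_add_eq_of_isCompl hcompl
      have hlt : finrank K (B.orthogonal W) < n := by omega
      have hev := ih _ hlt (B.orthogonal W) (B.restrict (B.orthogonal W)) hAO hNO rfl
      have : n = 2 + finrank K (B.orthogonal W) := by omega
      rw [this]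
      exact Even.add even_two hev

/-- A finite-dimensional vector space with a nondegenerate alternating bilinear form has even
dimension. -/
theorem even_finrank_of_isAlt_nondegenerate {K : Type u} [Field K] {V : Type v} [AddCommGroup V]
    [Module K V] [FiniteDimensional K V] (B : BilinForm K V) (hA : B.IsAlt)
    (hN : B.Nondegenerate) : Even (finrank K V) :=
  even_finrank_aux (finrank K V) V B hA hN rfl

/-- A square matrix `K` over a field with `v ⬝ᵥ K *ᵥ v = 0` for all `v` (an alternating matrix) has
even rank. -/
theorem even_rank_of_alt_matrix {K : Type u} [Field K] {ι : Type v} [Fintype ι] [DecidableEq ι]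
    (M : Matrix ι ι K) (hM : ∀ x : ι → K, dotProduct x (Matrix.mulVec M x) = 0) : Even M.rank := by
  classical
  set B : BilinForm K (ι → K) := Matrix.toBilin' M with hB
  have hBapp : ∀ x y, B x y = dotProduct x (Matrix.mulVec M y) := fun x y =>
    Matrix.toBilin'_apply' M x y
  have hA : B.IsAlt := fun x => by rw [hBapp]; exact hM x
  have hR : B.IsRefl := hA.isRefl
  set R : Submodule K (ι → K) := LinearMap.ker M.mulVecLin with hRdef
  obtain ⟨C, hC⟩ := Submodule.exists_isCompl R
  -- rank M = finrank C
  have hrank : M.rank = finrank K C := by
    have h1 : finrank K (LinearMap.range M.mulVecLin) + finrank K R = finrank K (ι → K) :=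
      LinearMap.finrank_range_add_finrank_ker M.mulVecLin
    have h2 : finrank K R + finrank K C = finrank K (ι → K) :=
      Submodule.finrank_add_eq_of_isCompl hC
    unfold Matrix.rank
    omega
  rw [hrank]
  have hdisj : Disjoint C (B.orthogonal C) := by
    rw [Submodule.disjoint_def]
    intro x hxC hxO
    -- B y x = 0 for all y
    have hall : ∀ y, B y x = 0 := by
      intro y
      have hy : y ∈ R ⊔ C := by rw [hC.sup_eq_top]; trivial
      obtain ⟨r, hr, c, hc, rfl⟩ := Submodule.mem_sup.mp hy
      have h1 : B c x = 0 := hxO c hc
      have h2 : B r x = 0 := by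
        have : B x r = 0 := by
          rw [hBapp]
          have : Matrix.mulVec M r = 0 := hr
          rw [this, dotProduct_zero]
        exact hR x r this
      rw [map_add, LinearMap.add_apply, h1, h2, add_zero]
    have hx0 : Matrix.mulVec M x = 0 := by
      apply dotProduct_eq_zero
      intro w
      rw [dotProduct_comm, ← hBapp]
      exact hall w
    have hxR : x ∈ R := hx0
    exact (Submodule.disjoint_def.mp hC.disjoint) x hxR hxC
  have hN : (B.restrict C).Nondegenerate :=
    B.nondegenerate_restrict_of_disjoint_orthogonal hR hdisj
  have hAC : (B.restrict C).IsAlt := fun x => hA x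
  exact even_finrank_of_isAlt_nondegenerate (B.restrict C) hAC hN

end Cfsg.Agent.Lib.Helper36
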