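import Mathlib
import Cfsg.Agent.Lib.Helper13.QuadWitt

set_option autoImplicit false

/-!
# The Dickson invariant step in characteristic two

For an isometry `g` of a quadratic form `Q` with non-degenerate polar form over a field of
characteristic two and a vector `u` with `Q u ≠ 0`, the fixed spaces of `g` and of `g ∘ r_u`
(`r_u` the orthogonal transvection) have dimensions differing by exactly one.
-/

namespace Cfsg.Agent.Lib.Helper36

open Module

variable {F V : Type*} [Field F] [AddCommGroup V] [Module F V]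

local notation "pol" => QuadraticMap.polar

/-- The fixed space of an endomorphism. -/
def fixSp (g : V →ₗ[F] V) : Submodule F V := LinearMap.ker (g - LinearMap.id)

theorem mem_fixSp {g : V →ₗ[F] V} {x : V} : x ∈ fixSp g ↔ g x = x := by
  simp [fixSp, LinearMap.mem_ker, sub_eq_zero]

/-- The kernel of a functional not vanishing on `W` cuts `W` in a hyperplane of `W`. -/
theorem finrank_inf_ker_add_one [FiniteDimensional F V] (W : Submodule F V) (φ : V →ₗ[F] F)
    (h : ∃ x ∈ W, φ x ≠ 0) : finrank F ↥(W ⊓ LinearMap.ker φ) + 1 = finrank F W := by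
  obtain ⟨x₀, hx₀W, hx₀⟩ := h
  set ψ : W →ₗ[F] F := φ ∘ₗ W.subtype with hψ
  have hrange : LinearMap.range ψ = ⊤ := by
    rw [LinearMap.range_eq_top]
    intro a
    refine ⟨(a / φ x₀) • ⟨x₀, hx₀W⟩, ?_⟩
    rw [map_smul, hψ, LinearMap.comp_apply, Submodule.subtype_apply, smul_eq_mul,
      div_mul_cancel₀ a hx₀]
  have h1 := LinearMap.finrank_range_add_finrank_ker ψ
  rw [hrange, finrank_top, Module.finrank_self] at h1
  have h2 : (LinearMap.ker ψ).map W.subtype = W ⊓ LinearMap.ker φ := by
    ext y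
    constructor
    · rintro ⟨z, hz, rfl⟩
      exact ⟨z.2, LinearMap.mem_ker.mpr (LinearMap.mem_ker.mp hz)⟩
    · rintro ⟨hyW, hyφ⟩
      exact ⟨⟨y, hyW⟩, LinearMap.mem_ker.mpr (LinearMap.mem_ker.mp hyφ), rfl⟩
  have h3 := Submodule.finrank_map_subtype_eq W (LinearMap.ker ψ)
  rw [h2] at h3
  omega

section CharTwo

variable [CharP F 2]

theorem Q_add_self_eq (Q : QuadraticForm F V) (g : V →ₗ[F] V) (hg : ∀ v, Q (g v) = Q v) (z : V) :
    Q (g z + z) = pol (⇑Q) (g z) z := by
  have h1 : Q (g z + z) = Q (g z) + Q z + pol (⇑Q) (g z) z := by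
    unfold QuadraticMap.polar; ring
  rw [h1, hg, CharTwo.add_self_eq_zero, zero_add]

theorem pol_self (Q : QuadraticForm F V) (z : V) : pol (⇑Q) z z = 0 := by
  rw [QuadraticMap.polar_self, two_nsmul]
  exact CharTwo.add_self_eq_zero _

omit [CharP F 2] in
theorem pol_map (Q : QuadraticForm F V) (g : V →ₗ[F] V) (hg : ∀ v, Q (g v) = Q v) (x y : V) :
    pol (⇑Q) (g x) (g y) = pol (⇑Q) x y := by
  unfold QuadraticMap.polar
  rw [← map_add, hg, hg, hg]

omit [CharP F 2] [Field F] [Module F V] in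
theorem add_self_vec (K : Type*) [Field K] [CharP K 2] [Module K V] (v : V) : v + v = 0 := by
  rw [← two_smul K v]
  have : (2 : K) = 0 := CharTwo.two_eq_zero
  rw [this, zero_smul]

omit [CharP F 2] [Field F] [Module F V] in
theorem neg_vec (K : Type*) [Field K] [CharP K 2] [Module K V] (v : V) : -v = v :=
  neg_eq_of_add_eq_zero_left (add_self_vec K v)

/-- The reflection in characteristic two. -/
theorem reflLin_apply_two (Q : QuadraticForm F V) (u z : V) :
    Cfsg.Agent.Lib.Helper13.reflLin Q u z = z + ((Q u)⁻¹ * pol (⇑Q) u z) • u := by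
  rw [Cfsg.Agent.Lib.Helper13.reflLin_apply, sub_eq_add_neg, neg_vec F]

/-- Core contradiction: there is no `z` orthogonal to `u` with `g z = z + c • g u`, `c ≠ 0`,
`Q u ≠ 0` and `Q (c • g u) = ...`; more precisely such a `z` forces `Q u = 0`. -/
theorem no_shift (Q : QuadraticForm F V) (g : V →ₗ[F] V) (hg : ∀ v, Q (g v) = Q v) (u z : V)
    (c : F) (hc : c ≠ 0) (huz : pol (⇑Q) u z = 0) (hgz : g z = z + c • g u) : Q u = 0 := by
  -- pol (g u) z = 0
  have h1 : pol (⇑Q) (g u) (g z) = 0 := by rw [pol_map Q g hg, huz]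
  rw [hgz, QuadraticMap.polar_add_right, QuadraticMap.polar_smul_right, pol_self, smul_zero,
    add_zero] at h1
  -- Q (g z + z) = pol (g z) z
  have h2 := Q_add_self_eq Q g hg z
  have h3 : g z + z = c • g u := by
    rw [hgz, add_comm z, add_assoc, ← two_smul F z]
    have : (2 : F) = 0 := CharTwo.two_eq_zero
    rw [this, zero_smul, add_zero]
  rw [h3, QuadraticMap.map_smul, hg, hgz, QuadraticMap.polar_add_left, pol_self, zero_add,
    QuadraticMap.polar_smul_left, h1, smul_zero, smul_eq_mul] at h2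
  rcases mul_eq_zero.mp h2 with h | h
  · exact absurd (mul_self_eq_zero.mp h) hc
  · exact h

omit [CharP F 2] [Field F] [Module F V] in
theorem ch2_move (K : Type*) [Field K] [CharP K 2] [Module K V] {a b c : V} (h : a + b = c) :
    a = c + b := by
  rw [← h, add_assoc, add_self_vec K b, add_zero]

/-- If `u` is orthogonal to the fixed space of the isometry `g` then `u = g x + x` for some `x`. -/
theorem exists_eq_add_of_orth_fix [FiniteDimensional F V] (Q : QuadraticForm F V)
    (hQ : (QuadraticMap.polarBilin Q).Nondegenerate) (g : V →ₗ[F] V) (hg : ∀ v, Q (g v) = Q v)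
    (u : V) (hu : ∀ x ∈ fixSp g, pol (⇑Q) u x = 0) : ∃ x, u = g x + x := by
  obtain ⟨T, hT⟩ := Cfsg.Agent.Lib.Helper13.exists_equiv_of_isom Q hQ g hg
  have hsurj : ∀ y, ∃ x, g x = y := fun y => ⟨T.symm y, by rw [← hT, T.apply_symm_apply]⟩
  obtain ⟨B, hB⟩ : ∃ B : LinearMap.BilinForm F V, B = QuadraticMap.polarBilin Q := ⟨_, rfl⟩
  have hQ' : B.Nondegenerate := by rw [hB]; exact hQ
  have hBapp : ∀ x y, B x y = pol (⇑Q) x y := fun x y => by rw [hB]; rfl
  have hrefl : B.IsRefl := by
    intro x y h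
    rw [hBapp, QuadraticMap.polar_comm, ← hBapp]
    exact h
  set R : Submodule F V := LinearMap.range (g - LinearMap.id) with hR
  have horth : ∀ m, m ∈ B.orthogonal R → g m = m := by
    intro m hm
    have h1 : ∀ x, B (g x) (m - g m) = 0 := by
      intro x
      have h2 := hm (g x - x) ⟨x, by simp⟩
      rw [hBapp, QuadraticMap.polar_sub_left] at h2
      rw [hBapp, QuadraticMap.polar_sub_right, pol_map Q g hg]
      exact h2
    have h3 : m - g m = 0 := by
      apply hQ'.2
      intro y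
      obtain ⟨x, rfl⟩ := hsurj y
      exact h1 x
    exact (sub_eq_zero.mp h3).symm
  have hu' : u ∈ B.orthogonal (B.orthogonal R) := by
    intro n hn
    have hn' : n ∈ fixSp g := mem_fixSp.mpr (horth n hn)
    show B n u = 0
    rw [hBapp, QuadraticMap.polar_comm]
    exact hu n hn'
  rw [LinearMap.BilinForm.orthogonal_orthogonal hQ' hrefl R] at hu'
  obtain ⟨x, hx⟩ := hu'
  refine ⟨x, ?_⟩
  rw [← hx, LinearMap.sub_apply, LinearMap.id_apply, sub_eq_add_neg, neg_vec F]

/-- **Dickson step**: composing an isometry with an orthogonal transvection changes the dimension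
of the fixed space by exactly one. -/
theorem finrank_fixSp_comp_refl [FiniteDimensional F V] (Q : QuadraticForm F V)
    (hQ : (QuadraticMap.polarBilin Q).Nondegenerate) (g : V →ₗ[F] V) (hg : ∀ v, Q (g v) = Q v)
    (u : V) (hu : Q u ≠ 0) :
    finrank F (fixSp (g ∘ₗ Cfsg.Agent.Lib.Helper13.reflLin Q u)) = finrank F (fixSp g) + 1 ∨
      finrank F (fixSp g) = finrank F (fixSp (g ∘ₗ Cfsg.Agent.Lib.Helper13.reflLin Q u)) + 1 := by
  set r := Cfsg.Agent.Lib.Helper13.reflLin Q u with hr
  set h : V →ₗ[F] V := g ∘ₗ r with hh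
  set c : F := (Q u)⁻¹ with hc
  have hc0 : c ≠ 0 := inv_ne_zero hu
  set φ : V →ₗ[F] F := QuadraticMap.polarBilin Q u with hφ
  have hφapp : ∀ z, φ z = pol (⇑Q) u z := fun z => rfl
  have hrapp : ∀ z, r z = z + (c * φ z) • u := fun z => reflLin_apply_two Q u z
  have hh_isom : ∀ v, Q (h v) = Q v := by
    intro v
    rw [hh, LinearMap.comp_apply, hg, hr, Cfsg.Agent.Lib.Helper13.reflLin_isom Q u hu]
  have hF1 : ∀ z, φ z = 0 → h z = g z := by
    intro z hz
    rw [hh, LinearMap.comp_apply, hrapp, hz, mul_zero, zero_smul, add_zero]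
  have hF2 : fixSp g ⊓ LinearMap.ker φ = fixSp h ⊓ LinearMap.ker φ := by
    ext z
    simp only [Submodule.mem_inf, mem_fixSp, LinearMap.mem_ker]
    constructor
    · rintro ⟨h1, h2⟩
      exact ⟨by rw [hF1 z h2]; exact h1, h2⟩
    · rintro ⟨h1, h2⟩
      exact ⟨by rw [← hF1 z h2]; exact h1, h2⟩
  -- (A)
  have hA : ¬ ((∃ x ∈ fixSp g, φ x ≠ 0) ∧ (∃ y ∈ fixSp h, φ y ≠ 0)) := by
    rintro ⟨⟨x, hx, hφx⟩, ⟨y, hy, hφy⟩⟩
    rw [mem_fixSp] at hx hy
    obtain ⟨x', hx'⟩ : ∃ x', x' = (φ x)⁻¹ • x := ⟨_, rfl⟩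
    obtain ⟨y', hy'⟩ : ∃ y', y' = (φ y)⁻¹ • y := ⟨_, rfl⟩
    have hφx' : φ x' = 1 := by rw [hx', map_smul, smul_eq_mul, inv_mul_cancel₀ hφx]
    have hφy' : φ y' = 1 := by rw [hy', map_smul, smul_eq_mul, inv_mul_cancel₀ hφy]
    have hgx' : g x' = x' := by rw [hx', map_smul, hx]
    have hhy' : h y' = y' := by rw [hy', map_smul, hy]
    have h1 : g y' + c • g u = y' := by
      have := hhy'
      rw [hh, LinearMap.comp_apply, hrapp, hφy', mul_one, map_add, map_smul] at this
      exact this
    have h2 : g y' = y' + c • g u := ch2_move F h1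
    apply hu
    apply no_shift Q g hg u (x' + y') c hc0
    · rw [← hφapp, map_add, hφx', hφy']
      exact CharTwo.add_self_eq_zero 1
    · rw [map_add, hgx', h2, add_assoc]
  -- (B)
  have hBB : ¬ ((∀ x ∈ fixSp g, φ x = 0) ∧ (∀ y ∈ fixSp h, φ y = 0)) := by
    rintro ⟨h1, h2⟩
    obtain ⟨x, hx⟩ := exists_eq_add_of_orth_fix Q hQ g hg u h1
    obtain ⟨y, hy⟩ := exists_eq_add_of_orth_fix Q hQ h hh_isom u h2
    have hφx : φ x = Q u := by
      rw [hφapp]
      conv_lhs => rw [hx]
      rw [QuadraticMap.polar_add_left, pol_self, add_zero, ← Q_add_self_eq Q g hg, ← hx]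
    have hφy : φ y = Q u := by
      rw [hφapp]
      conv_lhs => rw [hy]
      rw [QuadraticMap.polar_add_left, pol_self, add_zero, ← Q_add_self_eq Q h hh_isom, ← hy]
    have hry : r y = y + u := by
      rw [hrapp, hφy, hc, inv_mul_cancel₀ hu, one_smul]
    have hy2 : u = g y + g u + y := by
      have := hy
      rw [hh, LinearMap.comp_apply, hry, map_add] at this
      exact this
    have hgx : g x = u + x := ch2_move F hx.symm
    have hgy : g y = u + y + g u := by
      have h3 : g y + (g u + y) = u := by rw [← add_assoc]; exact hy2.symm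
      have h4 := ch2_move F h3
      rw [h4]; abel
    apply hu
    apply no_shift Q g hg u (x + y) 1 one_ne_zero
    · rw [← hφapp, map_add, hφx, hφy]
      exact CharTwo.add_self_eq_zero _
    · rw [map_add, hgx, hgy, one_smul]
      have : u + x + (u + y + g u) = (x + y + g u) + (u + u) := by abel
      rw [this, add_self_vec F u, add_zero]
  by_cases hcase : ∃ x ∈ fixSp g, φ x ≠ 0
  · right
    have hall : ∀ y ∈ fixSp h, φ y = 0 := by
      intro y hy
      by_contra hne
      exact hA ⟨hcase, ⟨y, hy, hne⟩⟩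
    have h1 := finrank_inf_ker_add_one (fixSp g) φ hcase
    have h2 : fixSp h ⊓ LinearMap.ker φ = fixSp h := by
      apply inf_eq_left.mpr
      intro y hy
      exact LinearMap.mem_ker.mpr (hall y hy)
    rw [hF2, h2] at h1
    exact h1.symm
  · left
    push Not at hcase
    have hex : ∃ y ∈ fixSp h, φ y ≠ 0 := by
      by_contra hne
      push Not at hne
      exact hBB ⟨hcase, hne⟩
    have h1 := finrank_inf_ker_add_one (fixSp h) φ hex
    have h2 : fixSp g ⊓ LinearMap.ker φ = fixSp g := by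
      apply inf_eq_left.mpr
      intro y hy
      exact LinearMap.mem_ker.mpr (hcase y hy)
    rw [← hF2, h2] at h1
    exact h1.symm

end CharTwo

end Cfsg.Agent.Lib.Helper36
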