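import Mathlib
import Cfsg.Agent.Lib.Helper13.ReflGen
import Cfsg.Agent.Lib.Helper36.Dickson

set_option autoImplicit false

/-!
# The Dickson invariant in characteristic two (abstract form)

For a quadratic form `Q` with non-degenerate polar form over a field of characteristic two, the
parity of the rank of `g - 1` is a homomorphism on the group generated by the orthogonal
transvections (helper13's `reflGroup Q`).  If all orthogonal transvections are conjugate in that
group (e.g. over a finite field), its kernel is the commutator subgroup.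
-/

namespace Cfsg.Agent.Lib.Helper36

open Module Cfsg.Agent.Lib.Helper13

variable {F V : Type*} [Field F] [AddCommGroup V] [Module F V]

/-- The isometry group of a quadratic form, inside `V ≃ₗ[F] V`. -/
def isoGroup (Q : QuadraticForm F V) : Subgroup (V ≃ₗ[F] V) where
  carrier := {g | ∀ z, Q (g z) = Q z}
  mul_mem' := by
    intro a b ha hb z
    rw [LinearEquiv.mul_apply, ha, hb]
  one_mem' := by
    intro z
    rfl
  inv_mem' := by
    intro a ha z
    have h := ha (a⁻¹ z)
    rw [← LinearEquiv.mul_apply, mul_inv_cancel] at h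
    exact h.symm

theorem mem_isoGroup {Q : QuadraticForm F V} {g : V ≃ₗ[F] V} :
    g ∈ isoGroup Q ↔ ∀ z, Q (g z) = Q z := Iff.rfl

theorem reflSet_subset_isoGroup (Q : QuadraticForm F V) :
    reflSet Q ⊆ (isoGroup Q : Set (V ≃ₗ[F] V)) := by
  rintro T ⟨v, hv, hT⟩ z
  rw [hT, reflLin_isom Q v hv]

theorem reflGroup_le_isoGroup (Q : QuadraticForm F V) : reflGroup Q ≤ isoGroup Q := by
  unfold reflGroup
  rw [Subgroup.closure_le]
  exact reflSet_subset_isoGroup Q

/-- Parity of the rank of `g - 1`. -/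
noncomputable def dick (g : V ≃ₗ[F] V) : ZMod 2 :=
  (finrank F (LinearMap.range ((g : V →ₗ[F] V) - LinearMap.id)) : ZMod 2)

theorem dick_add_fix [FiniteDimensional F V] (g : V ≃ₗ[F] V) :
    finrank F (LinearMap.range ((g : V →ₗ[F] V) - LinearMap.id)) +
      finrank F (fixSp (g : V →ₗ[F] V)) = finrank F V :=
  LinearMap.finrank_range_add_finrank_ker _

theorem dick_one : dick (1 : V ≃ₗ[F] V) = 0 := by
  unfold dick
  have : ((1 : V ≃ₗ[F] V) : V →ₗ[F] V) - LinearMap.id = 0 := by
    ext z
    simp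
  rw [this, LinearMap.range_zero, finrank_bot]
  simp

theorem zmod2_add_self (a : ZMod 2) : a + a = 0 := by
  revert a; decide

section CharTwo

variable [CharP F 2] [FiniteDimensional F V]

theorem dick_mul_refl (Q : QuadraticForm F V) (hQ : (QuadraticMap.polarBilin Q).Nondegenerate)
    (g T : V ≃ₗ[F] V) (hg : g ∈ isoGroup Q) (hT : T ∈ reflSet Q) :
    dick (g * T) = dick g + 1 := by
  obtain ⟨v, hv, hTv⟩ := hT
  have h1 : ((g * T : V ≃ₗ[F] V) : V →ₗ[F] V) = (g : V →ₗ[F] V) ∘ₗ reflLin Q v := by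
    ext z
    simp only [LinearEquiv.coe_coe, LinearEquiv.mul_apply, LinearMap.comp_apply]
    rw [hTv]
  have e1 := dick_add_fix g
  have e2 := dick_add_fix (g * T)
  unfold dick
  rw [h1] at e2 ⊢
  have hstep := finrank_fixSp_comp_refl Q hQ (g : V →ₗ[F] V) (fun z => hg z) v hv
  have h2 : (1 : ZMod 2) + 1 = 0 := by decide
  rcases hstep with h | h
  · -- fix grows by one, so the rank drops by one
    have : finrank F (LinearMap.range ((g : V →ₗ[F] V) - LinearMap.id)) =
        finrank F (LinearMap.range ((g : V →ₗ[F] V) ∘ₗ reflLin Q v - LinearMap.id)) + 1 := by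
      omega
    rw [this]
    push_cast
    rw [add_assoc, h2, add_zero]
  · have : finrank F (LinearMap.range ((g : V →ₗ[F] V) ∘ₗ reflLin Q v - LinearMap.id)) =
        finrank F (LinearMap.range ((g : V →ₗ[F] V) - LinearMap.id)) + 1 := by
      omega
    rw [this]
    push_cast
    rfl

theorem dick_refl (Q : QuadraticForm F V) (hQ : (QuadraticMap.polarBilin Q).Nondegenerate)
    (T : V ≃ₗ[F] V) (hT : T ∈ reflSet Q) : dick T = 1 := by
  have h := dick_mul_refl Q hQ 1 T (Subgroup.one_mem _) hT
  rwa [one_mul, dick_one, zero_add] at h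

theorem dick_mul (Q : QuadraticForm F V) (hQ : (QuadraticMap.polarBilin Q).Nondegenerate)
    (h : V ≃ₗ[F] V) (hh : h ∈ reflGroup Q) :
    ∀ g ∈ isoGroup Q, dick (g * h) = dick g + dick h := by
  unfold reflGroup at hh
  induction hh using Subgroup.closure_induction with
  | mem T hT =>
    intro g hg
    rw [dick_mul_refl Q hQ g T hg hT, dick_refl Q hQ T hT]
  | one =>
    intro g _
    rw [mul_one, dick_one, add_zero]
  | mul x y hx hy ihx ihy =>
    intro g hg
    have hx' : x ∈ isoGroup Q := reflGroup_le_isoGroup Q hx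
    rw [← mul_assoc, ihy (g * x) (Subgroup.mul_mem _ hg hx'), ihx g hg, ihy x hx', add_assoc]
  | inv x hx ihx =>
    intro g hg
    have hx' : x ∈ isoGroup Q := reflGroup_le_isoGroup Q hx
    have hxi : x⁻¹ ∈ isoGroup Q := Subgroup.inv_mem _ hx'
    have e1 := ihx (g * x⁻¹) (Subgroup.mul_mem _ hg hxi)
    rw [inv_mul_cancel_right] at e1
    have e2 := ihx x⁻¹ hxi
    rw [inv_mul_cancel, dick_one] at e2
    -- e1 : dick g = dick (g x⁻¹) + dick x ; e2 : 0 = dick x⁻¹ + dick x
    have e3 : dick x⁻¹ = dick x := by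
      have := congrArg (· + dick x) e2
      simp only [zero_add, add_assoc, zmod2_add_self, add_zero] at this
      exact this.symm
    rw [e3, e1, add_assoc, zmod2_add_self, add_zero]

/-- The Dickson invariant as a homomorphism on the group generated by reflections. -/
noncomputable def dicksonHom (Q : QuadraticForm F V)
    (hQ : (QuadraticMap.polarBilin Q).Nondegenerate) :
    ↥(reflGroup Q) →* Multiplicative (ZMod 2) where
  toFun g := Multiplicative.ofAdd (dick (g : V ≃ₗ[F] V))
  map_one' := by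
    rw [Subgroup.coe_one, dick_one]
    rfl
  map_mul' := by
    intro a b
    rw [Subgroup.coe_mul, dick_mul Q hQ b b.2 a (reflGroup_le_isoGroup Q a.2)]
    rfl

theorem dicksonHom_apply (Q : QuadraticForm F V)
    (hQ : (QuadraticMap.polarBilin Q).Nondegenerate) (g : ↥(reflGroup Q)) :
    dicksonHom Q hQ g = Multiplicative.ofAdd (dick (g : V ≃ₗ[F] V)) := rfl

end CharTwo

section Conj

local notation "pol" => QuadraticMap.polar

theorem reflLin_smul_vec (Q : QuadraticForm F V) (u : V) (hu : Q u ≠ 0) (l : F) (hl : l ≠ 0)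
    (z : V) : reflLin Q (l • u) z = reflLin Q u z := by
  rw [reflLin_apply, reflLin_apply, QuadraticMap.map_smul, QuadraticMap.polar_smul_left, smul_smul]
  congr 2
  simp only [smul_eq_mul]
  field_simp

theorem reflLin_involutive (Q : QuadraticForm F V) (u : V) (hu : Q u ≠ 0) (z : V) :
    reflLin Q u (reflLin Q u z) = z := by
  rw [reflLin_apply, reflLin_apply]
  simp only [QuadraticMap.polar_sub_right, QuadraticMap.polar_smul_right, polar_self', smul_eq_mul]
  match_scalars
  · field_simp
  · field_simp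
    ring

theorem polar_isoGroup (Q : QuadraticForm F V) (g : V ≃ₗ[F] V) (hg : g ∈ isoGroup Q) (x y : V) :
    pol (⇑Q) (g x) (g y) = pol (⇑Q) x y := by
  unfold QuadraticMap.polar
  rw [← map_add, hg, hg, hg]

theorem conj_reflLin (Q : QuadraticForm F V) (g : V ≃ₗ[F] V) (hg : g ∈ isoGroup Q) (u z : V) :
    g (reflLin Q u (g⁻¹ z)) = reflLin Q (g u) z := by
  have h1 : g (g⁻¹ z) = z := by
    rw [← LinearEquiv.mul_apply, mul_inv_cancel]
    rfl
  have h2 : pol (⇑Q) u (g⁻¹ z) = pol (⇑Q) (g u) z := by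
    rw [← polar_isoGroup Q g hg u (g⁻¹ z), h1]
  rw [reflLin_apply, reflLin_apply, map_sub, map_smul, h1, h2, hg u]

theorem refl_mul_self (Q : QuadraticForm F V) (T : V ≃ₗ[F] V) (hT : T ∈ reflSet Q) :
    T * T = 1 := by
  obtain ⟨v, hv, hTv⟩ := hT
  apply LinearEquiv.ext
  intro z
  rw [LinearEquiv.mul_apply, hTv, hTv, reflLin_involutive Q v hv]
  rfl

/-- Over a field in which every element is a square, with Cartan--Dieudonné available, any two
reflections are conjugate in the group generated by the reflections. -/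
theorem refl_conj [FiniteDimensional F V] (Q : QuadraticForm F V)
    (hQ : (QuadraticMap.polarBilin Q).Nondegenerate)
    (hF : (∀ a b : F, ∃ x : F, x ≠ a ∧ x ≠ b) ∨ Module.finrank F V ≠ 4)
    (hsq : ∀ a : F, IsSquare a) (T₁ T₂ : V ≃ₗ[F] V) (h1 : T₁ ∈ reflSet Q) (h2 : T₂ ∈ reflSet Q) :
    ∃ S ∈ reflGroup Q, T₂ = S * T₁ * S⁻¹ := by
  obtain ⟨u, hu, hT₁⟩ := h1
  obtain ⟨v, hv, hT₂⟩ := h2
  obtain ⟨l, hl⟩ := hsq (Q v / Q u)
  have hl0 : l ≠ 0 := by
    rintro rfl
    rw [mul_zero] at hl
    exact (div_ne_zero hv hu) hl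
  have hQu' : Q (l • u) = Q v := by
    rw [QuadraticMap.map_smul, smul_eq_mul, ← hl]
    field_simp
  have hu'0 : l • u ≠ 0 := by
    intro h0
    rw [h0, QuadraticMap.map_zero] at hQu'
    exact hv hQu'.symm
  have hv0 : v ≠ 0 := by
    rintro rfl
    exact hv (QuadraticMap.map_zero Q)
  obtain ⟨S, hSmem, hSiso, hSb⟩ := witt_families_quad_refl Q hQ hF 1 (fun _ => l • u) (fun _ => v)
    (linearIndependent_unique_iff.mpr hu'0) (linearIndependent_unique_iff.mpr hv0)
    (fun _ => hQu') (fun _ _ => by rw [polar_self', polar_self', hQu'])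
  refine ⟨S, hSmem, ?_⟩
  apply LinearEquiv.ext
  intro z
  rw [hT₂, LinearEquiv.mul_apply, LinearEquiv.mul_apply, hT₁, ← reflLin_smul_vec Q u hu l hl0,
    conj_reflLin Q S hSiso, hSb 0]

end Conj

section Comm

variable [CharP F 2] [FiniteDimensional F V]

/-- If all reflections are conjugate in the group they generate, the kernel of the Dickson
invariant is the commutator subgroup. -/
theorem mem_commutator_reflGroup_iff (Q : QuadraticForm F V)
    (hQ : (QuadraticMap.polarBilin Q).Nondegenerate)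
    (hconj : ∀ T₁ ∈ reflSet Q, ∀ T₂ ∈ reflSet Q, ∃ S ∈ reflGroup Q, T₂ = S * T₁ * S⁻¹)
    (g : ↥(reflGroup Q)) :
    g ∈ commutator ↥(reflGroup Q) ↔ dick (g : V ≃ₗ[F] V) = 0 := by
  constructor
  · intro hg
    have h := Abelianization.commutator_subset_ker (dicksonHom Q hQ) hg
    rw [MonoidHom.mem_ker, dicksonHom_apply] at h
    exact h
  · intro hg
    by_cases hne : (reflSet Q).Nonempty
    · obtain ⟨T₀, hT₀⟩ := hne
      set T₀' : ↥(reflGroup Q) := ⟨T₀, Subgroup.subset_closure hT₀⟩ with hT₀'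
      set π := QuotientGroup.mk' (commutator ↥(reflGroup Q)) with hπ
      have hcomm : ∀ a b : ↥(reflGroup Q) ⧸ commutator ↥(reflGroup Q), a * b = b * a := by
        intro a b
        exact mul_comm (G := Abelianization ↥(reflGroup Q)) a b
      have htop : Subgroup.closure (((↑) : ↥(reflGroup Q) → V ≃ₗ[F] V) ⁻¹' reflSet Q) = ⊤ :=
        Subgroup.closure_closure_coe_preimage
      have hle : Subgroup.closure (((↑) : ↥(reflGroup Q) → V ≃ₗ[F] V) ⁻¹' reflSet Q) ≤
          (Subgroup.zpowers (π T₀')).comap π := by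
        rw [Subgroup.closure_le]
        intro T hT
        obtain ⟨S, hS, hTS⟩ := hconj T₀ hT₀ T hT
        have hT' : T = (⟨S, hS⟩ : ↥(reflGroup Q)) * T₀' * (⟨S, hS⟩ : ↥(reflGroup Q))⁻¹ := by
          apply Subtype.ext
          exact hTS
        change π T ∈ Subgroup.zpowers (π T₀')
        rw [hT', map_mul, map_mul, map_inv, hcomm, ← mul_assoc, inv_mul_cancel, one_mul]
        exact Subgroup.mem_zpowers _
      have hgZ : π g ∈ Subgroup.zpowers (π T₀') := by
        have : g ∈ (Subgroup.zpowers (π T₀')).comap π := hle (by rw [htop]; trivial)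
        exact this
      obtain ⟨k, hk⟩ := Subgroup.mem_zpowers_iff.mp hgZ
      have hsq1 : π T₀' ^ (2 : ℤ) = 1 := by
        rw [zpow_two, ← map_mul]
        have : T₀' * T₀' = 1 := by
          apply Subtype.ext
          exact refl_mul_self Q T₀ hT₀
        rw [this, map_one]
      rcases Int.even_or_odd' k with ⟨j, hj | hj⟩
      · rw [hj, zpow_mul, hsq1, one_zpow] at hk
        exact (QuotientGroup.eq_one_iff g).mp hk.symm
      · exfalso
        rw [hj, zpow_add, zpow_mul, hsq1, one_zpow, one_mul, zpow_one] at hk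
        have h3 : (T₀')⁻¹ * g ∈ commutator ↥(reflGroup Q) := QuotientGroup.eq.mp hk
        have h4 := Abelianization.commutator_subset_ker (dicksonHom Q hQ) h3
        rw [MonoidHom.mem_ker, map_mul, map_inv, dicksonHom_apply, dicksonHom_apply, hg,
          dick_refl Q hQ T₀ hT₀] at h4
        revert h4
        decide
    · have hbot : reflGroup Q = ⊥ := by
        unfold reflGroup
        rw [Set.not_nonempty_iff_eq_empty.mp hne, Subgroup.closure_empty]
      have hg1 : g = 1 := by
        apply Subtype.ext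
        have h5 : (g : V ≃ₗ[F] V) ∈ (⊥ : Subgroup (V ≃ₗ[F] V)) := hbot ▸ g.2
        exact Subgroup.mem_bot.mp h5
      rw [hg1]
      exact Subgroup.one_mem _

theorem mem_commutator_iff_aux (Q : QuadraticForm F V)
    (hQ : (QuadraticMap.polarBilin Q).Nondegenerate)
    (hconj : ∀ T₁ ∈ reflSet Q, ∀ T₂ ∈ reflSet Q, ∃ S ∈ reflGroup Q, T₂ = S * T₁ * S⁻¹)
    (H : Subgroup (V ≃ₗ[F] V)) (hH : H = reflGroup Q) (g : ↥H) :
    g ∈ commutator ↥H ↔ dick (g : V ≃ₗ[F] V) = 0 := by
  subst hH
  exact mem_commutator_reflGroup_iff Q hQ hconj g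

/-- **Dickson invariant, char 2, perfect field**: an isometry lies in the commutator subgroup of
the full isometry group iff `g - 1` has even rank. -/
theorem mem_commutator_isoGroup_iff (Q : QuadraticForm F V)
    (hQ : (QuadraticMap.polarBilin Q).Nondegenerate)
    (hF : (∀ a b : F, ∃ x : F, x ≠ a ∧ x ≠ b) ∨ Module.finrank F V ≠ 4)
    (hsq : ∀ a : F, IsSquare a) (g : ↥(isoGroup Q)) :
    g ∈ commutator ↥(isoGroup Q) ↔
      Even (finrank F (LinearMap.range (((g : V ≃ₗ[F] V) : V →ₗ[F] V) - LinearMap.id))) := by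
  have hH : isoGroup Q = reflGroup Q :=
    le_antisymm (fun g hg => isometry_mem_reflGroup Q hQ hF g hg) (reflGroup_le_isoGroup Q)
  rw [mem_commutator_iff_aux Q hQ (fun T₁ h1 T₂ h2 => refl_conj Q hQ hF hsq T₁ T₂ h1 h2)
    (isoGroup Q) hH g]
  unfold dick
  exact ZMod.natCast_eq_zero_iff_even

end Comm

end Cfsg.Agent.Lib.Helper36
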