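import Mathlib

set_option autoImplicit false

/-!
# Norm surjectivity for an involutive automorphism of a finite field

`exists_mul_map_eq`: if `σ` is a non-identity involutive ring endomorphism of a finite field `F` and `σ a = a`
then `a = c * σ c` for some `c`.  (Hilbert 90 plus counting; no Galois theory.)
-/

namespace Cfsg.Agent.Lib.Helper36

variable {F : Type*} [Field F]

/-- Hilbert 90 for an involution `σ ≠ id` of a field: if `c * σ c = 1` then `c = σ y / y`. -/
theorem hilbert90_invol (σ : F →+* F) (hσ : σ ≠ RingHom.id F) (hσ2 : ∀ a : F, σ (σ a) = a)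
    (c : F) (hc : c * σ c = 1) : ∃ y : F, y ≠ 0 ∧ σ y = c * y := by
  have hσc : σ c * c = 1 := by rw [mul_comm]; exact hc
  by_cases h1 : (1 : F) + σ c * σ 1 = 0
  · -- then σ c = -1, c = -1
    have hsc : σ c = -1 := by
      rw [map_one, mul_one] at h1
      exact eq_neg_of_add_eq_zero_right h1
    have hc1 : c = -1 := by
      have := congrArg σ hsc
      rw [hσ2, map_neg, map_one] at this
      exact this
    -- pick x with σ x ≠ x
    have hex : ∃ x, σ x ≠ x := by
      by_contra hcon
      push Not at hcon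
      apply hσ
      ext x
      exact hcon x
    obtain ⟨x, hx⟩ := hex
    refine ⟨x - σ x, ?_, ?_⟩
    · intro h0
      exact hx (sub_eq_zero.mp h0).symm
    · rw [map_sub, hσ2, hc1]
      ring
  · refine ⟨1 + σ c * σ 1, h1, ?_⟩
    rw [map_add, map_mul, hσ2, hσ2, map_one, mul_add, mul_one, mul_one, hc, add_comm]

/-- Norm surjectivity: every `σ`-fixed element of a finite field is of the form `c * σ c`. -/
theorem exists_mul_map_eq [Finite F] (σ : F →+* F) (hσ : σ ≠ RingHom.id F) (hσ2 : ∀ a : F, σ (σ a) = a)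
    (a : F) (ha : σ a = a) : ∃ c : F, c * σ c = a := by
  rcases eq_or_ne a 0 with rfl | ha0
  · exact ⟨0, by simp⟩
  classical
  let σu : Fˣ →* Fˣ := Units.map σ.toMonoidHom
  have hσu : ∀ y : Fˣ, ((σu y : Fˣ) : F) = σ (y : F) := fun y => rfl
  -- ρ y = σ y / y
  let ρ : Fˣ →* Fˣ :=
    { toFun := fun y => σu y * y⁻¹
      map_one' := by simp
      map_mul' := fun x y => by
        rw [map_mul, mul_inv]
        exact mul_mul_mul_comm _ _ _ _ }
  have hρ : ∀ y, ρ y = σu y * y⁻¹ := fun y => rfl
  have hmemker : ∀ y : Fˣ, y ∈ ρ.ker ↔ σ (y : F) = (y : F) := by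
    intro y
    rw [MonoidHom.mem_ker, hρ, mul_inv_eq_one, Units.ext_iff, hσu]
  -- the norm map into ker ρ
  have hnorm_mem : ∀ c : Fˣ, c * σu c ∈ ρ.ker := by
    intro c
    rw [hmemker]
    simp only [Units.val_mul, hσu, map_mul, hσ2]
    ring
  let f : Fˣ →* ρ.ker :=
    { toFun := fun c => ⟨c * σu c, hnorm_mem c⟩
      map_one' := by
        apply Subtype.ext
        simp
      map_mul' := fun x y => by
        apply Subtype.ext
        simp only [map_mul, Subgroup.coe_mul]
        exact mul_mul_mul_comm _ _ _ _ }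
  have hf : ∀ c : Fˣ, ((f c : ρ.ker) : Fˣ) = c * σu c := fun c => rfl
  have hker_le : f.ker ≤ ρ.range := by
    intro c hc
    rw [MonoidHom.mem_ker] at hc
    have hc' : (c : F) * σ (c : F) = 1 := by
      have := congrArg (fun z : ρ.ker => ((z : Fˣ) : F)) hc
      simpa [hf, hσu] using this
    obtain ⟨y, hy0, hy⟩ := hilbert90_invol σ hσ hσ2 (c : F) hc'
    refine ⟨Units.mk0 y hy0, ?_⟩
    rw [hρ, mul_inv_eq_iff_eq_mul, Units.ext_iff]
    simp only [Units.val_mul, hσu, Units.val_mk0]
    exact hy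
  have hsurj : Function.Surjective f := by
    apply MonoidHom.surjective_of_card_ker_le_div
    have h1 : Nat.card f.ker ≤ Nat.card ρ.range := Subgroup.card_le_of_le hker_le
    have h2 : Nat.card ρ.range = ρ.ker.index := (Subgroup.index_ker ρ).symm
    have h3 : Nat.card ρ.ker * ρ.ker.index = Nat.card Fˣ := Subgroup.card_mul_index ρ.ker
    have h4 : ρ.ker.index = Nat.card Fˣ / Nat.card ρ.ker := by
      rw [← h3, Nat.mul_div_cancel_left _ Nat.card_pos]
    omega
  have hamem : Units.mk0 a ha0 ∈ ρ.ker := by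
    rw [hmemker]; exact ha
  obtain ⟨c, hc⟩ := hsurj ⟨Units.mk0 a ha0, hamem⟩
  refine ⟨(c : F), ?_⟩
  have := congrArg (fun z : ρ.ker => ((z : Fˣ) : F)) hc
  simpa [hf, hσu] using this

end Cfsg.Agent.Lib.Helper36
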