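import Mathlib
import Cfsg.Agent.Lib.Helper36.HermNorm

set_option autoImplicit false

/-!
# Orthonormal bases for Hermitian forms over finite fields

`exists_orthonormal_family`: for a non-identity involutive `σ` on a finite field `F` and a non-degenerate
conjugate-symmetric `σ`-sesquilinear form `B` on a finite-dimensional `F`-space `V` there is an orthonormal family
indexed by `Fin (finrank F V)`; `exists_orthonormal_basis` packages it as a basis.
-/

namespace Cfsg.Agent.Lib.Helper36

open Module

universe u v

variable {F : Type u} [Field F]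

/-- A non-zero conjugate-symmetric sesquilinear form (for `σ ≠ id`) has a non-isotropic vector. -/
theorem exists_apply_self_ne_zero {V : Type v} [AddCommGroup V] [Module F V] (σ : F →+* F)
    (hσ : σ ≠ RingHom.id F) (B : V →ₛₗ[σ] V →ₗ[F] F) (hS : B.IsSymm)
    (hne : ∃ u w, B u w ≠ 0) : ∃ v, B v v ≠ 0 := by
  by_contra hcon
  push Not at hcon
  obtain ⟨u, w, huw⟩ := hne
  apply huw
  have hex : ∃ c, σ c ≠ c := by
    by_contra hc
    push Not at hc
    apply hσ
    ext x
    exact hc x
  obtain ⟨c, hc⟩ := hex
  have hsym : B w u = σ (B u w) := (hS.eq u w).symm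
  have h1 : B u w + σ (B u w) = 0 := by
    have := hcon (u + w)
    simp only [map_add, LinearMap.add_apply, hcon u, hcon w, zero_add, add_zero, hsym] at this
    rw [add_comm]; exact this
  have h2 : σ c * B u w + c * σ (B u w) = 0 := by
    have := hcon (c • u + w)
    simp only [map_add, LinearMap.add_apply, LinearMap.map_smulₛₗ, LinearMap.smul_apply, map_smul,
      smul_eq_mul, hcon u, hcon w, mul_zero, zero_add, add_zero, hsym] at this
    rw [add_comm]; exact this
  have h3 : σ (B u w) = - B u w := eq_neg_of_add_eq_zero_right h1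
  rw [h3] at h2
  have h4 : (σ c - c) * B u w = 0 := by
    rw [sub_mul]
    linear_combination h2
  rcases mul_eq_zero.mp h4 with h | h
  · exact absurd (sub_eq_zero.mp h) hc
  · exact h

theorem exists_orthonormal_family_aux [Finite F] (σ : F →+* F) (hσ : σ ≠ RingHom.id F)
    (hσ2 : ∀ a : F, σ (σ a) = a) :
    ∀ (n : ℕ) (V : Type v) [AddCommGroup V] [Module F V] [FiniteDimensional F V]
      (B : V →ₛₗ[σ] V →ₗ[F] F), B.IsSymm → B.Nondegenerate → finrank F V = n →
      ∃ e : Fin n → V, ∀ i j, B (e i) (e j) = if i = j then 1 else 0 := by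
  intro n
  induction n with
  | zero =>
    intro V _ _ _ B _ _ _
    exact ⟨Fin.elim0, fun i => i.elim0⟩
  | succ n ih =>
    intro V _ _ _ B hS hN hn
    -- a non-isotropic vector
    have hpos : 0 < finrank F V := by omega
    obtain ⟨u, hu⟩ := Module.finrank_pos_iff_exists_ne_zero.mp hpos
    have hne : ∃ u w, B u w ≠ 0 := by
      by_contra hcon
      push Not at hcon
      exact hu (hN.1 u (hcon u))
    obtain ⟨v₀, hv₀⟩ := exists_apply_self_ne_zero σ hσ B hS hne
    have hfix : σ (B v₀ v₀) = B v₀ v₀ := hS.eq v₀ v₀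
    have hfix' : σ (B v₀ v₀)⁻¹ = (B v₀ v₀)⁻¹ := by rw [map_inv₀, hfix]
    obtain ⟨c, hc⟩ := exists_mul_map_eq σ hσ hσ2 (B v₀ v₀)⁻¹ hfix'
    have hexv : ∃ v, B v v = 1 := by
      refine ⟨c • v₀, ?_⟩
      simp only [LinearMap.map_smulₛₗ, LinearMap.smul_apply, RingHom.id_apply, smul_eq_mul]
      rw [← mul_assoc, hc, inv_mul_cancel₀ hv₀]
    obtain ⟨v, hvv⟩ := hexv
    -- the orthogonal complement W = ker (B v)
    obtain ⟨W, hW⟩ : ∃ W : Submodule F V, W = LinearMap.ker (B v) := ⟨_, rfl⟩
    have hWmem : ∀ w, w ∈ W ↔ B v w = 0 := fun w => by rw [hW]; exact LinearMap.mem_ker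
    have hWmem' : ∀ w, w ∈ W → B w v = 0 := by
      intro w hw
      rw [← hS.eq v w, (hWmem w).mp hw, map_zero]
    -- decomposition of any vector
    have hdecomp : ∀ x : V, x - (B v x) • v ∈ W := by
      intro x
      rw [hWmem, map_sub, map_smul, hvv, smul_eq_mul, mul_one, sub_self]
    have hrange : LinearMap.range (B v) = ⊤ := by
      rw [LinearMap.range_eq_top]
      intro a
      exact ⟨a • v, by rw [map_smul, hvv, smul_eq_mul, mul_one]⟩
    have hdimW : finrank F W = n := by
      have h1 := LinearMap.finrank_range_add_finrank_ker (B v)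
      rw [hrange, finrank_top, Module.finrank_self, ← hW] at h1
      omega
    -- restricted form
    set BW : W →ₛₗ[σ] W →ₗ[F] F := B.domRestrict₁₂ W W with hBW
    have hBWapp : ∀ x y : W, BW x y = B (x : V) (y : V) := fun x y => rfl
    have hSW : BW.IsSymm := hS.domRestrict W
    have hNW : BW.Nondegenerate := by
      constructor
      · intro x hx
        apply Subtype.ext
        apply hN.1 (x : V)
        intro y
        have hy := hdecomp y
        have h1 : B (x : V) (y - (B v y) • v) = 0 := hx ⟨_, hy⟩
        rw [map_sub, map_smul, hWmem' x x.2, smul_zero, sub_zero] at h1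
        exact h1
      · intro y hy
        apply Subtype.ext
        apply hN.2 (y : V)
        intro x
        have hx := hdecomp x
        have h1 : B (x - (B v x) • v) (y : V) = 0 := hy ⟨_, hx⟩
        rw [map_sub, LinearMap.sub_apply, LinearMap.map_smulₛₗ, LinearMap.smul_apply,
          (hWmem y).mp y.2, smul_zero, sub_zero] at h1
        exact h1
    obtain ⟨e, he⟩ := ih W BW hSW hNW hdimW
    refine ⟨Fin.cons v (fun i => (e i : V)), ?_⟩
    intro i j
    refine Fin.cases ?_ (fun i' => ?_) i <;> refine Fin.cases ?_ (fun j' => ?_) j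
    · simp [hvv]
    · simp only [Fin.cons_zero, Fin.cons_succ]
      rw [(hWmem _).mp (e j').2]
      simp [Fin.succ_ne_zero, eq_comm]
    · simp only [Fin.cons_zero, Fin.cons_succ]
      rw [hWmem' _ (e i').2]
      simp [Fin.succ_ne_zero]
    · simp only [Fin.cons_succ, Fin.succ_inj]
      rw [← hBWapp, he]

/-- Orthonormal family for a non-degenerate Hermitian form over a finite field. -/
theorem exists_orthonormal_family [Finite F] {V : Type v} [AddCommGroup V] [Module F V]
    [FiniteDimensional F V] (σ : F →+* F) (hσ : σ ≠ RingHom.id F) (hσ2 : ∀ a : F, σ (σ a) = a)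
    (B : V →ₛₗ[σ] V →ₗ[F] F) (hS : B.IsSymm) (hB : B.Nondegenerate) :
    ∃ e : Fin (finrank F V) → V, ∀ i j, B (e i) (e j) = if i = j then 1 else 0 :=
  exists_orthonormal_family_aux σ hσ hσ2 (finrank F V) V B hS hB rfl

/-- An orthonormal family (for a sesquilinear form) is linearly independent. -/
theorem linearIndependent_of_orthonormal {V : Type v} [AddCommGroup V] [Module F V] (σ : F →+* F)
    (B : V →ₛₗ[σ] V →ₗ[F] F) {ι : Type*} (e : ι → V) [DecidableEq ι]
    (he : ∀ i j, B (e i) (e j) = if i = j then 1 else 0) : LinearIndependent F e := by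
  rw [linearIndependent_iff']
  intro s g hg i hi
  have := congrArg (fun x => B (e i) x) hg
  simp only [map_sum, map_smul, he, smul_eq_mul, mul_ite, mul_one, mul_zero, map_zero,
    Finset.sum_ite_eq, hi, if_true] at this
  exact this

/-- Orthonormal basis for a non-degenerate Hermitian form over a finite field. -/
theorem exists_orthonormal_basis [Finite F] {V : Type v} [AddCommGroup V] [Module F V]
    [FiniteDimensional F V] (σ : F →+* F) (hσ : σ ≠ RingHom.id F) (hσ2 : ∀ a : F, σ (σ a) = a)
    (B : V →ₛₗ[σ] V →ₗ[F] F) (hS : B.IsSymm) (hB : B.Nondegenerate) :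
    ∃ b : Basis (Fin (finrank F V)) F V, ∀ i j, B (b i) (b j) = if i = j then 1 else 0 := by
  obtain ⟨e, he⟩ := exists_orthonormal_family σ hσ hσ2 B hS hB
  have hli := linearIndependent_of_orthonormal σ B e he
  refine ⟨basisOfLinearIndependentOfCardEqFinrank' e hli (by simp), ?_⟩
  intro i j
  rw [coe_basisOfLinearIndependentOfCardEqFinrank']
  exact he i j

end Cfsg.Agent.Lib.Helper36
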