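import Mathlib
import Cfsg.Agent.Lib.Helper36.DicksonAbs

set_option autoImplicit false

/-!
# `Ω` is generated by the products of two reflections (characteristic two)

and `Ω` is transitive on non-singular points.
-/

namespace Cfsg.Agent.Lib.Helper36

open Module Cfsg.Agent.Lib.Helper13

variable {F V : Type*} [Field F] [AddCommGroup V] [Module F V]

local notation "pol" => QuadraticMap.polar

/-- The reflection in a non-singular vector, as a linear equivalence. -/
noncomputable def reflEquiv (Q : QuadraticForm F V) (u : V) (hu : Q u ≠ 0) : V ≃ₗ[F] V :=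
  LinearEquiv.ofInvolutive (reflLin Q u) (reflLin_involutive Q u hu)

theorem reflEquiv_apply (Q : QuadraticForm F V) (u : V) (hu : Q u ≠ 0) (z : V) :
    reflEquiv Q u hu z = reflLin Q u z := rfl

theorem reflEquiv_mem (Q : QuadraticForm F V) (u : V) (hu : Q u ≠ 0) :
    reflEquiv Q u hu ∈ reflSet Q := ⟨u, hu, fun _ => rfl⟩

/-- Products of two reflections. -/
def pairSet (Q : QuadraticForm F V) : Set (V ≃ₗ[F] V) :=
  {T | ∃ u v : V, Q u ≠ 0 ∧ Q v ≠ 0 ∧ ∀ z, T z = reflLin Q u (reflLin Q v z)}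

/-- The group generated by the products of two reflections. -/
def pairGroup (Q : QuadraticForm F V) : Subgroup (V ≃ₗ[F] V) := Subgroup.closure (pairSet Q)

theorem mul_mem_pairSet (Q : QuadraticForm F V) (T₁ T₂ : V ≃ₗ[F] V) (h1 : T₁ ∈ reflSet Q)
    (h2 : T₂ ∈ reflSet Q) : T₁ * T₂ ∈ pairSet Q := by
  obtain ⟨u, hu, hT₁⟩ := h1
  obtain ⟨v, hv, hT₂⟩ := h2
  refine ⟨u, v, hu, hv, fun z => ?_⟩
  rw [LinearEquiv.mul_apply, hT₁, hT₂]

theorem pairSet_eq_mul (Q : QuadraticForm F V) (T : V ≃ₗ[F] V) (hT : T ∈ pairSet Q) :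
    ∃ T₁ ∈ reflSet Q, ∃ T₂ ∈ reflSet Q, T = T₁ * T₂ := by
  obtain ⟨u, v, hu, hv, hT⟩ := hT
  refine ⟨reflEquiv Q u hu, reflEquiv_mem Q u hu, reflEquiv Q v hv, reflEquiv_mem Q v hv, ?_⟩
  apply LinearEquiv.ext
  intro z
  rw [hT, LinearEquiv.mul_apply, reflEquiv_apply, reflEquiv_apply]

theorem pairGroup_le_reflGroup (Q : QuadraticForm F V) : pairGroup Q ≤ reflGroup Q := by
  unfold pairGroup
  rw [Subgroup.closure_le]
  intro T hT
  obtain ⟨T₁, h1, T₂, h2, rfl⟩ := pairSet_eq_mul Q T hT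
  exact Subgroup.mul_mem _ (Subgroup.subset_closure h1) (Subgroup.subset_closure h2)

/-- Conjugation by a reflection preserves the group generated by pairs. -/
theorem conj_mem_pairGroup (Q : QuadraticForm F V) (T₀ : V ≃ₗ[F] V) (hT₀ : T₀ ∈ reflSet Q)
    (x : V ≃ₗ[F] V) (hx : x ∈ pairGroup Q) : T₀ * x * T₀ ∈ pairGroup Q := by
  have hsq : T₀ * T₀ = 1 := refl_mul_self Q T₀ hT₀
  unfold pairGroup at hx ⊢
  induction hx using Subgroup.closure_induction with
  | mem T hT =>
    obtain ⟨T₁, h1, T₂, h2, rfl⟩ := pairSet_eq_mul Q T hT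
    have : T₀ * (T₁ * T₂) * T₀ = (T₀ * T₁) * (T₂ * T₀) := by group
    rw [this]
    exact Subgroup.mul_mem _ (Subgroup.subset_closure (mul_mem_pairSet Q _ _ hT₀ h1))
      (Subgroup.subset_closure (mul_mem_pairSet Q _ _ h2 hT₀))
  | one =>
    rw [mul_one, hsq]
    exact Subgroup.one_mem _
  | mul x y _ _ ihx ihy =>
    have : T₀ * (x * y) * T₀ = (T₀ * x * T₀) * (T₀ * y * T₀) := by
      calc T₀ * (x * y) * T₀ = T₀ * x * 1 * y * T₀ := by group
        _ = T₀ * x * (T₀ * T₀) * y * T₀ := by rw [hsq]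
        _ = (T₀ * x * T₀) * (T₀ * y * T₀) := by group
    rw [this]
    exact Subgroup.mul_mem _ ihx ihy
  | inv x _ ihx =>
    have hinv : T₀⁻¹ = T₀ := inv_eq_of_mul_eq_one_right hsq
    have : T₀ * x⁻¹ * T₀ = (T₀ * x * T₀)⁻¹ := by
      rw [mul_inv_rev, mul_inv_rev, hinv, mul_assoc]
    rw [this]
    exact Subgroup.inv_mem _ ihx

/-- Every product of reflections is in the pair group, or becomes so after multiplying by a fixed
reflection. -/
theorem mem_pairGroup_or (Q : QuadraticForm F V) (T₀ : V ≃ₗ[F] V) (hT₀ : T₀ ∈ reflSet Q)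
    (g : V ≃ₗ[F] V) (hg : g ∈ reflGroup Q) : g ∈ pairGroup Q ∨ g * T₀ ∈ pairGroup Q := by
  have hsq : T₀ * T₀ = 1 := refl_mul_self Q T₀ hT₀
  unfold reflGroup at hg
  induction hg using Subgroup.closure_induction with
  | mem T hT =>
    right
    exact Subgroup.subset_closure (mul_mem_pairSet Q _ _ hT hT₀)
  | one =>
    left
    exact Subgroup.one_mem _
  | mul x y _ _ ihx ihy =>
    rcases ihx with hx | hx <;> rcases ihy with hy | hy
    · left
      exact Subgroup.mul_mem _ hx hy
    · right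
      rw [mul_assoc]
      exact Subgroup.mul_mem _ hx hy
    · right
      have : x * y * T₀ = (x * T₀) * (T₀ * y * T₀) := by
        calc x * y * T₀ = x * 1 * y * T₀ := by group
          _ = x * (T₀ * T₀) * y * T₀ := by rw [hsq]
          _ = (x * T₀) * (T₀ * y * T₀) := by group
      rw [this]
      exact Subgroup.mul_mem _ hx (conj_mem_pairGroup Q T₀ hT₀ y hy)
    · left
      have : x * y = (x * T₀) * (T₀ * (y * T₀) * T₀) := by
        calc x * y = x * 1 * y * 1 := by group
          _ = x * (T₀ * T₀) * y * (T₀ * T₀) := by rw [hsq]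
          _ = (x * T₀) * (T₀ * (y * T₀) * T₀) := by group
      rw [this]
      exact Subgroup.mul_mem _ hx (conj_mem_pairGroup Q T₀ hT₀ _ hy)
  | inv x _ ihx =>
    have hinv : T₀⁻¹ = T₀ := inv_eq_of_mul_eq_one_right hsq
    rcases ihx with hx | hx
    · left
      exact Subgroup.inv_mem _ hx
    · right
      have h1 : T₀ * x⁻¹ ∈ pairGroup Q := by
        have := Subgroup.inv_mem _ hx
        rwa [mul_inv_rev, hinv] at this
      have h2 := conj_mem_pairGroup Q T₀ hT₀ _ h1
      have : T₀ * (T₀ * x⁻¹) * T₀ = x⁻¹ * T₀ := by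
        rw [← mul_assoc, hsq, one_mul]
      rwa [this] at h2

section CharTwo

variable [CharP F 2] [FiniteDimensional F V]

theorem dick_of_mem_pairGroup (Q : QuadraticForm F V)
    (hQ : (QuadraticMap.polarBilin Q).Nondegenerate) (x : V ≃ₗ[F] V) (hx : x ∈ pairGroup Q) :
    dick x = 0 := by
  have hle : pairGroup Q ≤ (dicksonHom Q hQ).ker.map (reflGroup Q).subtype := by
    unfold pairGroup
    rw [Subgroup.closure_le]
    intro T hT
    obtain ⟨T₁, h1, T₂, h2, rfl⟩ := pairSet_eq_mul Q T hT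
    refine ⟨⟨T₁ * T₂, Subgroup.mul_mem _ (Subgroup.subset_closure h1)
      (Subgroup.subset_closure h2)⟩, ?_, rfl⟩
    change dicksonHom Q hQ _ = 1
    rw [dicksonHom_apply]
    change Multiplicative.ofAdd (dick (T₁ * T₂)) = 1
    rw [dick_mul_refl Q hQ T₁ T₂ (reflSet_subset_isoGroup Q h1) h2, dick_refl Q hQ T₁ h1]
    rfl
  obtain ⟨y, hy, rfl⟩ := hle hx
  have : dicksonHom Q hQ y = 1 := hy
  rw [dicksonHom_apply] at this
  exact this

/-- In characteristic two, a product of reflections has even Dickson parity iff it is a product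
of pairs of reflections. -/
theorem mem_pairGroup_iff (Q : QuadraticForm F V)
    (hQ : (QuadraticMap.polarBilin Q).Nondegenerate) (g : V ≃ₗ[F] V) (hg : g ∈ reflGroup Q) :
    g ∈ pairGroup Q ↔ dick g = 0 := by
  constructor
  · exact dick_of_mem_pairGroup Q hQ g
  · intro h0
    by_cases hne : (reflSet Q).Nonempty
    · obtain ⟨T₀, hT₀⟩ := hne
      rcases mem_pairGroup_or Q T₀ hT₀ g hg with h | h
      · exact h
      · exfalso
        have h1 := dick_of_mem_pairGroup Q hQ _ h
        rw [dick_mul_refl Q hQ g T₀ (reflGroup_le_isoGroup Q hg) hT₀, h0] at h1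
        revert h1
        decide
    · have hbot : reflGroup Q = ⊥ := by
        unfold reflGroup
        rw [Set.not_nonempty_iff_eq_empty.mp hne, Subgroup.closure_empty]
      rw [hbot, Subgroup.mem_bot] at hg
      rw [hg]
      exact Subgroup.one_mem _

/-- **`Ω` is generated by the products of two reflections** (abstract form). -/
theorem mem_commutator_isoGroup_iff_pair (Q : QuadraticForm F V)
    (hQ : (QuadraticMap.polarBilin Q).Nondegenerate)
    (hF : (∀ a b : F, ∃ x : F, x ≠ a ∧ x ≠ b) ∨ Module.finrank F V ≠ 4)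
    (hsq : ∀ a : F, IsSquare a) (g : ↥(isoGroup Q)) :
    g ∈ commutator ↥(isoGroup Q) ↔ (g : V ≃ₗ[F] V) ∈ pairGroup Q := by
  rw [mem_commutator_isoGroup_iff Q hQ hF hsq,
    mem_pairGroup_iff Q hQ _ (isometry_mem_reflGroup Q hQ hF _ g.2)]
  unfold dick
  exact ZMod.natCast_eq_zero_iff_even.symm

omit [FiniteDimensional F V] in
/-- A reflection fixes its own vector in characteristic two. -/
theorem reflLin_self_char_two (Q : QuadraticForm F V) (u : V) : reflLin Q u u = u := by
  rw [reflLin_apply, pol_self, mul_zero, zero_smul, sub_zero]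

/-- **`Ω` is transitive on non-singular points** (abstract form, perfect field of char. 2). -/
theorem exists_commutator_map_span (Q : QuadraticForm F V)
    (hQ : (QuadraticMap.polarBilin Q).Nondegenerate)
    (hF : (∀ a b : F, ∃ x : F, x ≠ a ∧ x ≠ b) ∨ Module.finrank F V ≠ 4)
    (hsq : ∀ a : F, IsSquare a) (u v : V) (hu : Q u ≠ 0) (hv : Q v ≠ 0) :
    ∃ g : ↥(isoGroup Q), g ∈ commutator ↥(isoGroup Q) ∧ ∃ l : F, l ≠ 0 ∧
      (g : V ≃ₗ[F] V) u = l • v := by
  obtain ⟨l, hl⟩ := hsq (Q v / Q u)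
  have hl0 : l ≠ 0 := by
    rintro rfl
    rw [mul_zero] at hl
    exact (div_ne_zero hv hu) hl
  have hQu' : Q (l • u) = Q v := by
    rw [QuadraticMap.map_smul, smul_eq_mul, ← hl]
    field_simp
  have hu'0 : l • u ≠ 0 := by
    intro h0
    rw [h0, QuadraticMap.map_zero] at hQu'
    exact hv hQu'.symm
  have hv0 : v ≠ 0 := by
    rintro rfl
    exact hv (QuadraticMap.map_zero Q)
  obtain ⟨S, hSmem, hSiso, hSb⟩ := witt_families_quad_refl Q hQ hF 1 (fun _ => l • u) (fun _ => v)
    (linearIndependent_unique_iff.mpr hu'0) (linearIndependent_unique_iff.mpr hv0)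
    (fun _ => hQu') (fun _ _ => by rw [polar_self', polar_self', hQu'])
  have hSu : S u = l⁻¹ • v := by
    have h := hSb 0
    simp only [map_smul] at h
    rw [← h, smul_smul, inv_mul_cancel₀ hl0, one_smul]
  by_cases hd : dick S = 0
  · refine ⟨⟨S, hSiso⟩, ?_, l⁻¹, inv_ne_zero hl0, hSu⟩
    rw [mem_commutator_isoGroup_iff Q hQ hF hsq]
    exact ZMod.natCast_eq_zero_iff_even.mp hd
  · have hd1 : dick S = 1 := by
      revert hd
      generalize dick S = a
      revert a
      decide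
    have hmem : S * reflEquiv Q u hu ∈ isoGroup Q :=
      Subgroup.mul_mem _ hSiso (reflSet_subset_isoGroup Q (reflEquiv_mem Q u hu))
    refine ⟨⟨S * reflEquiv Q u hu, hmem⟩, ?_, l⁻¹, inv_ne_zero hl0, ?_⟩
    · rw [mem_commutator_isoGroup_iff Q hQ hF hsq]
      apply ZMod.natCast_eq_zero_iff_even.mp
      change dick (S * reflEquiv Q u hu) = 0
      rw [dick_mul_refl Q hQ S _ hSiso (reflEquiv_mem Q u hu), hd1]
      decide
    · change (S * reflEquiv Q u hu) u = _
      rw [LinearEquiv.mul_apply, reflEquiv_apply, reflLin_self_char_two, hSu]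

end CharTwo

end Cfsg.Agent.Lib.Helper36
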