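import Mathlib
import Cfsg.Agent.Lib.Helper36.DicksonGen

set_option autoImplicit false

/-!
# Conjugacy in `Ω` versus `O` in characteristic two, totally singular subspaces
-/

namespace Cfsg.Agent.Lib.Helper36

open Module Cfsg.Agent.Lib.Helper13

variable {F V : Type*} [Field F] [AddCommGroup V] [Module F V]

local notation "pol" => QuadraticMap.polar

/-- Totally singular subspaces. -/
def IsTS (Q : QuadraticForm F V) (W : Submodule F V) : Prop := ∀ w ∈ W, Q w = 0

theorem IsTS.polar_eq_zero {Q : QuadraticForm F V} {W : Submodule F V} (h : IsTS Q W) {x y : V}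
    (hx : x ∈ W) (hy : y ∈ W) : pol (⇑Q) x y = 0 := by
  unfold QuadraticMap.polar
  rw [h _ (W.add_mem hx hy), h x hx, h y hy]
  ring

theorem IsTS.mono {Q : QuadraticForm F V} {W W' : Submodule F V} (h : IsTS Q W) (hle : W' ≤ W) :
    IsTS Q W' := fun w hw => h w (hle hw)

/-- The preimage of a totally singular subspace under an isometry is totally singular. -/
theorem IsTS.comap {Q : QuadraticForm F V} {W : Submodule F V} (h : IsTS Q W) (g : V ≃ₗ[F] V)
    (hg : ∀ z, Q (g z) = Q z) : IsTS Q (W.comap (g : V →ₗ[F] V)) := by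
  intro w hw
  rw [← hg w]
  exact h _ hw

/-- The image of a totally singular subspace under an isometry is totally singular. -/
theorem IsTS.map {Q : QuadraticForm F V} {W : Submodule F V} (h : IsTS Q W) (g : V ≃ₗ[F] V)
    (hg : ∀ z, Q (g z) = Q z) : IsTS Q (W.map (g : V →ₗ[F] V)) := by
  rintro _ ⟨w, hw, rfl⟩
  change Q (g w) = 0
  rw [hg w]
  exact h _ hw

/-- All maximal totally singular subspaces have the same dimension (consequence of Witt's theorem):
any totally singular subspace has dimension at most that of a maximal one. -/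
theorem finrank_le_of_maximal_ts [FiniteDimensional F V] (Q : QuadraticForm F V)
    (hQ : (QuadraticMap.polarBilin Q).Nondegenerate) (E : Submodule F V) (hE : IsTS Q E)
    (hmax : ∀ W : Submodule F V, IsTS Q W → E ≤ W → W = E) (W : Submodule F V) (hW : IsTS Q W) :
    finrank F W ≤ finrank F E := by
  by_contra hlt
  push Not at hlt
  set bE := Module.finBasis F E with hbE
  set bW := Module.finBasis F W with hbW
  set b : Fin (finrank F E) → V := fun i => (bE i : V) with hb
  set c : Fin (finrank F E) → V := fun i => (bW (Fin.castLE hlt.le i) : V) with hc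
  have hbli : LinearIndependent F b :=
    bE.linearIndependent.map' E.subtype (Submodule.ker_subtype E)
  have hcli : LinearIndependent F c :=
    (bW.linearIndependent.comp (Fin.castLE hlt.le) (Fin.castLE_injective _)).map' W.subtype
      (Submodule.ker_subtype W)
  obtain ⟨g, hgiso, hgb⟩ := witt_families_quad Q hQ _ b c hbli hcli
    (fun i => by rw [hE _ (bE i).2, hW _ (bW _).2])
    (fun i j => by rw [hE.polar_eq_zero (bE i).2 (bE j).2, hW.polar_eq_zero (bW _).2 (bW _).2])
  have hEspan : E = Submodule.span F (Set.range b) := by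
    have h1 : Submodule.span F (Set.range bE) = ⊤ := bE.span_eq
    have h2 := congrArg (Submodule.map E.subtype) h1
    rw [Submodule.map_span, Submodule.map_subtype_top, ← Set.range_comp] at h2
    exact h2.symm
  have hEle : E ≤ W.comap (g : V →ₗ[F] V) := by
    rw [hEspan, Submodule.span_le]
    rintro _ ⟨i, rfl⟩
    change g (b i) ∈ W
    rw [hgb i]
    exact (bW _).2
  have h3 := hmax _ (hW.comap g hgiso) hEle
  have h4 : finrank F (W.comap (g : V →ₗ[F] V)) = finrank F W := by
    have : W.comap (g : V →ₗ[F] V) = W.map (g.symm : V →ₗ[F] V) :=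
      Submodule.comap_equiv_eq_map_symm g W
    rw [this]
    exact LinearEquiv.finrank_map_eq g.symm W
  rw [h3] at h4
  omega

section CharTwo

variable [CharP F 2]

/-- For an involution in characteristic two, the image of `t - 1` lies in the fixed space. -/
theorem range_le_fixSp_of_invol (t : V →ₗ[F] V) (ht : ∀ z, t (t z) = z) :
    LinearMap.range (t - LinearMap.id) ≤ fixSp t := by
  rintro _ ⟨z, rfl⟩
  rw [mem_fixSp, LinearMap.sub_apply, LinearMap.id_apply, map_sub, ht]
  have h := neg_vec F (t z - z)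
  rw [← h]
  abel

theorem finrank_le_two_mul_fixSp [FiniteDimensional F V] (t : V →ₗ[F] V)
    (ht : ∀ z, t (t z) = z) : finrank F V ≤ 2 * finrank F (fixSp t) := by
  have h1 := Submodule.finrank_mono (range_le_fixSp_of_invol t ht)
  have h2 : finrank F (LinearMap.range (t - LinearMap.id)) + finrank F (fixSp t) = finrank F V :=
    LinearMap.finrank_range_add_finrank_ker _
  omega

variable [FiniteDimensional F V]

/-- If an isometry `t` fixes a non-singular vector, every `O`-conjugate of `t` is an
`Ω`-conjugate. -/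
theorem exists_commutator_conj (Q : QuadraticForm F V)
    (hQ : (QuadraticMap.polarBilin Q).Nondegenerate)
    (hF : (∀ a b : F, ∃ x : F, x ≠ a ∧ x ≠ b) ∨ Module.finrank F V ≠ 4)
    (hsq : ∀ a : F, IsSquare a) (t g₀ : ↥(isoGroup Q)) (u : V) (hu : Q u ≠ 0)
    (htu : (t : V ≃ₗ[F] V) u = u) :
    ∃ g ∈ commutator ↥(isoGroup Q), g * t * g⁻¹ = g₀ * t * g₀⁻¹ := by
  set r : ↥(isoGroup Q) :=
    ⟨reflEquiv Q u hu, reflSet_subset_isoGroup Q (reflEquiv_mem Q u hu)⟩ with hr
  have hcomm : t * r * t⁻¹ = r := by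
    apply Subtype.ext
    apply LinearEquiv.ext
    intro z
    change ((t : V ≃ₗ[F] V) * reflEquiv Q u hu * (t : V ≃ₗ[F] V)⁻¹) z = reflEquiv Q u hu z
    rw [LinearEquiv.mul_apply, LinearEquiv.mul_apply, reflEquiv_apply, conj_reflLin Q _ t.2, htu]
    rfl
  have hrt : r * t * r⁻¹ = t := by
    have h1 : t * r = r * t := by
      have := congrArg (· * t) hcomm
      simpa using this
    rw [← h1, mul_inv_cancel_right]
  by_cases hg₀ : g₀ ∈ commutator ↥(isoGroup Q)
  · exact ⟨g₀, hg₀, rfl⟩
  · refine ⟨g₀ * r, ?_, ?_⟩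
    · rw [mem_commutator_isoGroup_iff Q hQ hF hsq] at hg₀ ⊢
      apply ZMod.natCast_eq_zero_iff_even.mp
      change dick ((g₀ : V ≃ₗ[F] V) * reflEquiv Q u hu) = 0
      rw [dick_mul_refl Q hQ _ _ g₀.2 (reflEquiv_mem Q u hu)]
      have hd : dick (g₀ : V ≃ₗ[F] V) ≠ 0 := by
        intro h0
        exact hg₀ (ZMod.natCast_eq_zero_iff_even.mp h0)
      revert hd
      generalize dick (g₀ : V ≃ₗ[F] V) = a
      revert a
      decide
    · calc g₀ * r * t * (g₀ * r)⁻¹ = g₀ * (r * t * r⁻¹) * g₀⁻¹ := by group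
        _ = g₀ * t * g₀⁻¹ := by rw [hrt]

/-- Version with the fixed space: if `Q` does not vanish on the fixed space of `t`. -/
theorem exists_commutator_conj_of_not_ts (Q : QuadraticForm F V)
    (hQ : (QuadraticMap.polarBilin Q).Nondegenerate)
    (hF : (∀ a b : F, ∃ x : F, x ≠ a ∧ x ≠ b) ∨ Module.finrank F V ≠ 4)
    (hsq : ∀ a : F, IsSquare a) (t g₀ : ↥(isoGroup Q))
    (hnts : ¬ IsTS Q (fixSp ((t : V ≃ₗ[F] V) : V →ₗ[F] V))) :
    ∃ g ∈ commutator ↥(isoGroup Q), g * t * g⁻¹ = g₀ * t * g₀⁻¹ := by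
  unfold IsTS at hnts
  push Not at hnts
  obtain ⟨u, hufix, hu⟩ := hnts
  exact exists_commutator_conj Q hQ hF hsq t g₀ u hu (mem_fixSp.mp hufix)

end CharTwo

end Cfsg.Agent.Lib.Helper36
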