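import Mathlib
import Cfsg.Agent.Lib.Helper36.OmegaConj

set_option autoImplicit false

/-!
# `Ω`-conjugacy of involutions in even-dimensional orthogonal groups of plus type, char. 2

The core of the argument, assuming the parity criterion `hPar` relating membership in `Ω` to the
class of a maximal totally singular subspace.
-/

namespace Cfsg.Agent.Lib.Helper36

open Module Cfsg.Agent.Lib.Helper13

variable {F V : Type*} [Field F] [AddCommGroup V] [Module F V]

local notation "pol" => QuadraticMap.polar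

/-- A totally singular subspace has dimension at most half the dimension of the space. -/
theorem IsTS.two_mul_finrank_le [FiniteDimensional F V] {Q : QuadraticForm F V}
    (hQ : (QuadraticMap.polarBilin Q).Nondegenerate) {W : Submodule F V} (hW : IsTS Q W) :
    2 * finrank F W ≤ finrank F V := by
  set B : LinearMap.BilinForm F V := QuadraticMap.polarBilin Q with hB
  have hle : W ≤ B.orthogonal W := by
    intro w hw n hn
    exact hW.polar_eq_zero hn hw
  have h1 := Submodule.finrank_mono hle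
  have h2 : finrank F (B.orthogonal W) = finrank F V - finrank F W :=
    LinearMap.BilinForm.finrank_orthogonal hQ W
  have h3 : finrank F W ≤ finrank F V := Submodule.finrank_le W
  omega

section CharTwo

variable [CharP F 2] [FiniteDimensional F V]

/-- If the fixed space of an involution `t` is totally singular, then `t - 1` has rank half the
dimension and its image (= the fixed space) is totally singular. -/
theorem invol_of_fix_ts (Q : QuadraticForm F V) (hQ : (QuadraticMap.polarBilin Q).Nondegenerate)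
    (m : ℕ) (hdim : finrank F V = 2 * m) (t : V →ₗ[F] V) (ht : ∀ z, t (t z) = z)
    (hts : IsTS Q (fixSp t)) :
    finrank F (LinearMap.range (t - LinearMap.id)) = m ∧ ∀ v, Q (v + t v) = 0 := by
  have h1 := hts.two_mul_finrank_le hQ
  have h2 := finrank_le_two_mul_fixSp t ht
  have h3 : finrank F (LinearMap.range (t - LinearMap.id)) + finrank F (fixSp t) = finrank F V :=
    LinearMap.finrank_range_add_finrank_ker _
  refine ⟨by omega, fun v => ?_⟩
  apply hts
  apply range_le_fixSp_of_invol t ht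
  refine ⟨v, ?_⟩
  rw [LinearMap.sub_apply, LinearMap.id_apply, sub_eq_add_neg, neg_vec F v, add_comm]

omit [FiniteDimensional F V] in
/-- If `t - 1` has rank `m` and `Q (v + t v) = 0` for all `v`, the image of `t - 1` is a
totally singular subspace of dimension `m`. -/
theorem range_ts_of_invol (Q : QuadraticForm F V) (t : V →ₗ[F] V)
    (h0 : ∀ v, Q (v + t v) = 0) : IsTS Q (LinearMap.range (t - LinearMap.id)) := by
  rintro _ ⟨v, rfl⟩
  rw [LinearMap.sub_apply, LinearMap.id_apply, sub_eq_add_neg, neg_vec F v, add_comm]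
  exact h0 v

omit [CharP F 2] [FiniteDimensional F V] in
/-- The image of `g t g⁻¹ - 1` is the image under `g` of the image of `t - 1`. -/
theorem range_conj_sub_one (g t : V ≃ₗ[F] V) :
    LinearMap.range (((g * t * g⁻¹ : V ≃ₗ[F] V) : V →ₗ[F] V) - LinearMap.id) =
      (LinearMap.range ((t : V →ₗ[F] V) - LinearMap.id)).map (g : V →ₗ[F] V) := by
  ext x
  constructor
  · rintro ⟨z, rfl⟩
    refine ⟨t (g⁻¹ z) - g⁻¹ z, ⟨g⁻¹ z, rfl⟩, ?_⟩
    have h1 : g (g⁻¹ z) = z := by
      rw [← LinearEquiv.mul_apply, mul_inv_cancel]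
      rfl
    simp only [LinearEquiv.coe_coe, map_sub, LinearMap.sub_apply, LinearMap.id_apply,
      LinearEquiv.mul_apply, h1]
  · rintro ⟨_, ⟨z, rfl⟩, rfl⟩
    refine ⟨g z, ?_⟩
    have h1 : g⁻¹ (g z) = z := by
      rw [← LinearEquiv.mul_apply, inv_mul_cancel]
      rfl
    simp only [LinearEquiv.coe_coe, map_sub, LinearMap.sub_apply, LinearMap.id_apply,
      LinearEquiv.mul_apply, h1]

/-- Core of the plus-type statement, given the parity criterion `hPar`. -/
theorem plus_conj_core (Q : QuadraticForm F V) (hQ : (QuadraticMap.polarBilin Q).Nondegenerate)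
    (hF : (∀ a b : F, ∃ x : F, x ≠ a ∧ x ≠ b) ∨ Module.finrank F V ≠ 4)
    (hsq : ∀ a : F, IsSquare a) (m : ℕ) (hdim : finrank F V = 2 * m)
    (hPar : ∀ U : Submodule F V, IsTS Q U → finrank F U = m → ∀ g : ↥(isoGroup Q),
      (g ∈ commutator ↥(isoGroup Q) ↔
        Even (m - finrank F ↥(U ⊓ U.map ((g : V ≃ₗ[F] V) : V →ₗ[F] V)))))
    (t s : ↥(isoGroup Q)) (htt : t * t = 1) (htO : t ∈ commutator ↥(isoGroup Q))
    (hconj : IsConj t s) :
    (¬ (finrank F (LinearMap.range (((t : V ≃ₗ[F] V) : V →ₗ[F] V) - LinearMap.id)) = m ∧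
        ∀ v, Q (v + (t : V ≃ₗ[F] V) v) = 0) →
      ∃ g ∈ commutator ↥(isoGroup Q), g * t * g⁻¹ = s) ∧
    ((finrank F (LinearMap.range (((t : V ≃ₗ[F] V) : V →ₗ[F] V) - LinearMap.id)) = m ∧
        ∀ v, Q (v + (t : V ≃ₗ[F] V) v) = 0) →
      ((∃ g ∈ commutator ↥(isoGroup Q), g * t * g⁻¹ = s) ↔
        Even (finrank F ↥(LinearMap.range (((t : V ≃ₗ[F] V) : V →ₗ[F] V) - LinearMap.id) ⊓
          LinearMap.range (((s : V ≃ₗ[F] V) : V →ₗ[F] V) - LinearMap.id))))) := by
  obtain ⟨g₀, hg₀⟩ := isConj_iff.mp hconj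
  have hinv : ∀ z, ((t : V ≃ₗ[F] V) : V →ₗ[F] V) (((t : V ≃ₗ[F] V) : V →ₗ[F] V) z) = z := by
    intro z
    have := congrArg (fun x : ↥(isoGroup Q) => (x : V ≃ₗ[F] V) z) htt
    exact this
  constructor
  · intro hnot
    have hnts : ¬ IsTS Q (fixSp ((t : V ≃ₗ[F] V) : V →ₗ[F] V)) := by
      intro hts
      exact hnot (invol_of_fix_ts Q hQ m hdim _ hinv hts)
    obtain ⟨g, hg, hgt⟩ := exists_commutator_conj_of_not_ts Q hQ hF hsq t g₀ hnts
    exact ⟨g, hg, hgt.trans hg₀⟩
  · rintro ⟨hrk, h0⟩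
    set Wt := LinearMap.range (((t : V ≃ₗ[F] V) : V →ₗ[F] V) - LinearMap.id) with hWt
    have hWts : IsTS Q Wt := range_ts_of_invol Q _ h0
    have hmeven : Even m := by
      have := (mem_commutator_isoGroup_iff Q hQ hF hsq t).mp htO
      rwa [hrk] at this
    have hkey : ∀ g : ↥(isoGroup Q), g * t * g⁻¹ = s →
        (g ∈ commutator ↥(isoGroup Q) ↔
          Even (finrank F ↥(Wt ⊓ LinearMap.range (((s : V ≃ₗ[F] V) : V →ₗ[F] V) -
            LinearMap.id)))) := by
      intro g hg
      have hWs : LinearMap.range (((s : V ≃ₗ[F] V) : V →ₗ[F] V) - LinearMap.id) =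
          Wt.map ((g : V ≃ₗ[F] V) : V →ₗ[F] V) := by
        rw [← hg]
        exact range_conj_sub_one (g : V ≃ₗ[F] V) (t : V ≃ₗ[F] V)
      rw [hWs, hPar Wt hWts hrk g]
      have hle : finrank F ↥(Wt ⊓ Wt.map ((g : V ≃ₗ[F] V) : V →ₗ[F] V)) ≤ m := by
        rw [← hrk]
        exact Submodule.finrank_mono inf_le_left
      obtain ⟨j, hj⟩ := hmeven
      constructor
      · intro he
        by_contra hodd
        rw [Nat.not_even_iff_odd] at hodd
        have : Odd (m - finrank F ↥(Wt ⊓ Wt.map ((g : V ≃ₗ[F] V) : V →ₗ[F] V))) := by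
          obtain ⟨i, hi⟩ := hodd
          exact ⟨j - i - 1, by omega⟩
        exact (Nat.not_even_iff_odd.mpr this) he
      · rintro ⟨i, hi⟩
        exact ⟨j - i, by omega⟩
    constructor
    · rintro ⟨g, hg, hgt⟩
      exact (hkey g hgt).mp hg
    · intro he
      exact ⟨g₀, (hkey g₀ hg₀).mpr he, hg₀⟩

end CharTwo

end Cfsg.Agent.Lib.Helper36
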