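import Mathlib
import Cfsg.Agent.Lib.Helper36.OmegaConj
import Cfsg.Agent.Lib.Helper36.PlusConj

set_option autoImplicit false

/-!
# Maximal totally singular subspaces of a quadratic space of dimension `2m` (any field)

`Q` has non-degenerate polar form on `V`, `finrank V = 2 * m`.  We study totally singular subspaces
of dimension `m` ("MTS"): a totally singular `(m-1)`-space lies in at most two of them, adjacent
MTS meet every MTS in dimensions differing by exactly one, and the parity of `m - dim (U ∩ W)` is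
additive (two classes).
-/

namespace Cfsg.Agent.Lib.Helper36

open Module Cfsg.Agent.Lib.Helper13

variable {F V : Type*} [Field F] [AddCommGroup V] [Module F V]

local notation "pol" => QuadraticMap.polar

/-- The orthogonal complement with respect to the polar form. -/
def perp (Q : QuadraticForm F V) (W : Submodule F V) : Submodule F V :=
  LinearMap.BilinForm.orthogonal (QuadraticMap.polarBilin Q : LinearMap.BilinForm F V) W

theorem mem_perp {Q : QuadraticForm F V} {W : Submodule F V} {x : V} :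
    x ∈ perp Q W ↔ ∀ w ∈ W, pol (⇑Q) w x = 0 := Iff.rfl

theorem finrank_perp [FiniteDimensional F V] {Q : QuadraticForm F V}
    (hQ : (QuadraticMap.polarBilin Q).Nondegenerate) (W : Submodule F V) :
    finrank F (perp Q W) = finrank F V - finrank F W :=
  LinearMap.BilinForm.finrank_orthogonal hQ W

theorem IsTS.le_perp {Q : QuadraticForm F V} {W : Submodule F V} (hW : IsTS Q W) :
    W ≤ perp Q W := fun _ hw _ hn => hW.polar_eq_zero hn hw

/-- A totally singular subspace of half the dimension is its own orthogonal complement. -/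
theorem IsTS.perp_eq_self [FiniteDimensional F V] {Q : QuadraticForm F V}
    (hQ : (QuadraticMap.polarBilin Q).Nondegenerate) {m : ℕ} (hdim : finrank F V = 2 * m)
    {U : Submodule F V} (hU : IsTS Q U) (hfU : finrank F U = m) : perp Q U = U := by
  symm
  apply Submodule.eq_of_le_of_finrank_eq hU.le_perp
  rw [finrank_perp hQ, hdim, hfU]
  omega

/-- Adding a singular vector orthogonal to a totally singular subspace. -/
theorem IsTS.sup_span {Q : QuadraticForm F V} {H : Submodule F V} (hH : IsTS Q H) (x : V)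
    (hx : Q x = 0) (hxH : ∀ h ∈ H, pol (⇑Q) h x = 0) : IsTS Q (H ⊔ Submodule.span F {x}) := by
  intro y hy
  obtain ⟨h, hh, z, hz, rfl⟩ := Submodule.mem_sup.mp hy
  obtain ⟨a, rfl⟩ := Submodule.mem_span_singleton.mp hz
  rw [Q_add', hH h hh, QuadraticMap.map_smul, hx, QuadraticMap.polar_smul_right, hxH h hh]
  simp

theorem sup_span_eq_of_finrank [FiniteDimensional F V] {H W : Submodule F V} (hle : H ≤ W)
    (hfin : finrank F H + 1 = finrank F W) {x : V} (hxW : x ∈ W) (hxH : x ∉ H) :
    H ⊔ Submodule.span F {x} = W := by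
  apply Submodule.eq_of_le_of_finrank_eq
  · exact sup_le hle ((Submodule.span_singleton_le_iff_mem x W).mpr hxW)
  · rw [Submodule.finrank_sup_span_singleton hxH, hfin]

theorem exists_mem_not_mem_of_finrank_lt [FiniteDimensional F V] {H W : Submodule F V}
    (hlt : finrank F H < finrank F W) : ∃ x ∈ W, x ∉ H := by
  by_contra hcon
  push Not at hcon
  have hle : W ≤ H := fun x hx => hcon x hx
  have := Submodule.finrank_mono hle
  omega

section MTS

variable [FiniteDimensional F V] (Q : QuadraticForm F V)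
  (hQ : (QuadraticMap.polarBilin Q).Nondegenerate) {m : ℕ} (hdim : finrank F V = 2 * m)

include hQ hdim

/-- If `x` is orthogonal to a hyperplane `H` of the MTS `W'` and to a vector `a' ∈ W' \ H`,
then `x ∈ W'`. -/
theorem mem_of_perp_pieces {H W' : Submodule F V} (hW' : IsTS Q W') (hfW' : finrank F W' = m)
    (hle : H ≤ W') (hfH : finrank F H + 1 = m) {a' : V} (ha'W : a' ∈ W') (ha'H : a' ∉ H) {x : V}
    (hxH : ∀ h ∈ H, pol (⇑Q) h x = 0) (hxa : pol (⇑Q) a' x = 0) : x ∈ W' := by
  rw [← hW'.perp_eq_self hQ hdim hfW', mem_perp]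
  intro y hy
  rw [← sup_span_eq_of_finrank hle (by rw [hfH, hfW']) ha'W ha'H] at hy
  obtain ⟨h, hh, z, hz, rfl⟩ := Submodule.mem_sup.mp hy
  obtain ⟨a, rfl⟩ := Submodule.mem_span_singleton.mp hz
  rw [QuadraticMap.polar_add_left, QuadraticMap.polar_smul_left, hxH h hh, hxa]
  simp

omit hQ hdim in
/-- The intersection of two distinct MTS containing a totally singular `(m-1)`-space `H` is `H`. -/
theorem inf_eq_of_ne {H W W' : Submodule F V} (hfW : finrank F W = m)
    (hleW : H ≤ W) (hleW' : H ≤ W') (hfH : finrank F H + 1 = m) (hne : W ≠ W')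
    (hfW' : finrank F W' = m) : W ⊓ W' = H := by
  symm
  apply Submodule.eq_of_le_of_finrank_le (le_inf hleW hleW')
  by_contra hlt
  push Not at hlt
  have h1 : finrank F ↥(W ⊓ W') ≤ m := by
    rw [← hfW]
    exact Submodule.finrank_mono inf_le_left
  have h2 : finrank F ↥(W ⊓ W') = m := by omega
  have e1 : W ⊓ W' = W := Submodule.eq_of_le_of_finrank_eq inf_le_left (by rw [h2, hfW])
  have e2 : W ⊓ W' = W' := Submodule.eq_of_le_of_finrank_eq inf_le_right (by rw [h2, hfW'])
  exact hne (e1.symm.trans e2)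

/-- **Two MTS through a hyperplane**: a singular vector orthogonal to `H = W ∩ W'` (of dimension
`m - 1`) lies in `W` or in `W'`. -/
theorem mem_or_mem_of_singular {W W' : Submodule F V} (hW : IsTS Q W) (hfW : finrank F W = m)
    (hW' : IsTS Q W') (hfW' : finrank F W' = m) (hfH : finrank F ↥(W ⊓ W') + 1 = m) {x : V}
    (hx : Q x = 0) (hxH : ∀ h ∈ W ⊓ W', pol (⇑Q) h x = 0) : x ∈ W ∨ x ∈ W' := by
  set H := W ⊓ W' with hH
  obtain ⟨a', ha'W', ha'H⟩ := exists_mem_not_mem_of_finrank_lt (H := H) (W := W') (by omega)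
  have ha'W : a' ∉ W := fun h => ha'H ⟨h, ha'W'⟩
  -- `perp H = W ⊔ span {a'}`
  have hperp : perp Q H = W ⊔ Submodule.span F {a'} := by
    symm
    apply Submodule.eq_of_le_of_finrank_eq
    · apply sup_le
      · intro w hw h hh
        exact hW.polar_eq_zero hh.1 hw
      · rw [Submodule.span_singleton_le_iff_mem]
        intro h hh
        exact hW'.polar_eq_zero hh.2 ha'W'
    · rw [Submodule.finrank_sup_span_singleton ha'W, finrank_perp hQ, hdim, hfW]
      omega
  have hxp : x ∈ perp Q H := hxH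
  rw [hperp] at hxp
  obtain ⟨w, hw, z, hz, rfl⟩ := Submodule.mem_sup.mp hxp
  obtain ⟨c, rfl⟩ := Submodule.mem_span_singleton.mp hz
  have hQx : c * pol (⇑Q) w a' = 0 := by
    rw [Q_add', hW w hw, QuadraticMap.map_smul, hW' a' ha'W', QuadraticMap.polar_smul_right] at hx
    simpa using hx
  rcases mul_eq_zero.mp hQx with hc | hp
  · left
    rw [hc, zero_smul, add_zero]
    exact hw
  · right
    have hwW' : w ∈ W' := by
      apply mem_of_perp_pieces Q hQ hdim hW' hfW' (inf_le_right : H ≤ W') hfH ha'W' ha'H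
      · intro h hh
        exact hW.polar_eq_zero hh.1 hw
      · rw [QuadraticMap.polar_comm]
        exact hp
    exact W'.add_mem hwW' (W'.smul_mem c ha'W')

/-- **At most two**: an MTS containing `H = W ∩ W'` is `W` or `W'`. -/
theorem eq_or_eq_of_le {W W' M : Submodule F V} (hW : IsTS Q W) (hfW : finrank F W = m)
    (hW' : IsTS Q W') (hfW' : finrank F W' = m) (hfH : finrank F ↥(W ⊓ W') + 1 = m)
    (hM : IsTS Q M) (hfM : finrank F M = m) (hle : W ⊓ W' ≤ M) : M = W ∨ M = W' := by
  obtain ⟨x, hxM, hxH⟩ := exists_mem_not_mem_of_finrank_lt (H := W ⊓ W') (W := M) (by omega)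
  have hMeq : (W ⊓ W') ⊔ Submodule.span F {x} = M :=
    sup_span_eq_of_finrank hle (by rw [hfH, hfM]) hxM hxH
  have hxperp : ∀ h ∈ W ⊓ W', pol (⇑Q) h x = 0 := fun h hh => hM.polar_eq_zero (hle hh) hxM
  rcases mem_or_mem_of_singular Q hQ hdim hW hfW hW' hfW' hfH (hM x hxM) hxperp with h | h
  · left
    apply Submodule.eq_of_le_of_finrank_eq _ (by rw [hfM, hfW])
    rw [← hMeq]
    exact sup_le inf_le_left ((Submodule.span_singleton_le_iff_mem x W).mpr h)
  · right
    apply Submodule.eq_of_le_of_finrank_eq _ (by rw [hfM, hfW'])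
    rw [← hMeq]
    exact sup_le inf_le_right ((Submodule.span_singleton_le_iff_mem x W').mpr h)

omit hQ hdim in
/-- A subspace of a space with a hyperplane `H` loses at most one dimension on intersecting
with `H`. -/
theorem finrank_le_inf_add_one {A H W : Submodule F V} (hA : A ≤ W) (hH : H ≤ W)
    (hfH : finrank F H + 1 = finrank F W) : finrank F A ≤ finrank F ↥(A ⊓ H) + 1 := by
  have h1 := Submodule.finrank_sup_add_finrank_inf_eq A H
  have h2 : finrank F ↥(A ⊔ H) ≤ finrank F W := Submodule.finrank_mono (sup_le hA hH)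
  omega

/-- **Key lemma**: adjacent MTS `W`, `W'` meet any MTS `U` in dimensions differing by exactly
one. -/
theorem adjacent_inter_finrank {U W W' : Submodule F V} (hU : IsTS Q U) (hfU : finrank F U = m)
    (hW : IsTS Q W) (hfW : finrank F W = m) (hW' : IsTS Q W') (hfW' : finrank F W' = m)
    (hfH : finrank F ↥(W ⊓ W') + 1 = m) :
    finrank F ↥(U ⊓ W) = finrank F ↥(U ⊓ W') + 1 ∨
      finrank F ↥(U ⊓ W') = finrank F ↥(U ⊓ W) + 1 := by
  set H := W ⊓ W' with hH
  have hUH1 : U ⊓ W ⊓ H = U ⊓ H := by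
    rw [hH, inf_assoc, ← inf_assoc W W W', inf_idem]
  have hUH2 : U ⊓ W' ⊓ H = U ⊓ H := by
    rw [hH, inf_assoc, inf_comm W W', ← inf_assoc W' W' W, inf_idem]
  have hd1 : finrank F ↥(U ⊓ W) ≤ finrank F ↥(U ⊓ H) + 1 := by
    have := finrank_le_inf_add_one (A := U ⊓ W) (H := H) (W := W) inf_le_right inf_le_left
      (by rw [hfH, hfW])
    rwa [hUH1] at this
  have hd2 : finrank F ↥(U ⊓ W') ≤ finrank F ↥(U ⊓ H) + 1 := by
    have := finrank_le_inf_add_one (A := U ⊓ W') (H := H) (W := W') inf_le_right inf_le_right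
      (by rw [hfH, hfW'])
    rwa [hUH2] at this
  have he1 : finrank F ↥(U ⊓ H) ≤ finrank F ↥(U ⊓ W) :=
    Submodule.finrank_mono (inf_le_inf_left U inf_le_left)
  have he2 : finrank F ↥(U ⊓ H) ≤ finrank F ↥(U ⊓ W') :=
    Submodule.finrank_mono (inf_le_inf_left U inf_le_right)
  -- not both `e + 1`
  have hnot1 : ¬ (finrank F ↥(U ⊓ W) = finrank F ↥(U ⊓ H) + 1 ∧
      finrank F ↥(U ⊓ W') = finrank F ↥(U ⊓ H) + 1) := by
    rintro ⟨h1, h2⟩
    obtain ⟨x, hx, hxH⟩ := exists_mem_not_mem_of_finrank_lt (H := U ⊓ H) (W := U ⊓ W) (by omega)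
    obtain ⟨x', hx', hx'H⟩ := exists_mem_not_mem_of_finrank_lt (H := U ⊓ H) (W := U ⊓ W')
      (by omega)
    have hx'H' : x' ∉ H := fun h => hx'H ⟨hx'.1, h⟩
    have hxW' : x ∈ W' := by
      apply mem_of_perp_pieces Q hQ hdim hW' hfW' (inf_le_right : H ≤ W') hfH hx'.2 hx'H'
      · intro h hh
        exact hW.polar_eq_zero hh.1 hx.2
      · exact hU.polar_eq_zero hx'.1 hx.1
    exact hxH ⟨hx.1, hx.2, hxW'⟩
  -- not both `e`
  have hnot2 : ¬ (finrank F ↥(U ⊓ W) = finrank F ↥(U ⊓ H) ∧
      finrank F ↥(U ⊓ W') = finrank F ↥(U ⊓ H)) := by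
    rintro ⟨h1, h2⟩
    have e1 : U ⊓ H = U ⊓ W :=
      Submodule.eq_of_le_of_finrank_eq (inf_le_inf_left U inf_le_left) h1.symm
    have e2 : U ⊓ H = U ⊓ W' :=
      Submodule.eq_of_le_of_finrank_eq (inf_le_inf_left U inf_le_right) h2.symm
    -- `U ⊓ perp H` has dimension `e + 1`
    have hA : U ⊓ perp Q H = perp Q (U ⊔ H) := by
      ext y
      constructor
      · rintro ⟨hyU, hyH⟩ z hz
        obtain ⟨u, hu, h, hh, rfl⟩ := Submodule.mem_sup.mp hz
        change pol (⇑Q) (u + h) y = 0
        have h3 : pol (⇑Q) h y = 0 := hyH h hh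
        rw [QuadraticMap.polar_add_left, hU.polar_eq_zero hu hyU, h3, add_zero]
      · intro hy
        constructor
        · rw [← hU.perp_eq_self hQ hdim hfU]
          intro u hu
          exact hy u (Submodule.mem_sup_left hu)
        · intro h hh
          exact hy h (Submodule.mem_sup_right hh)
    have hfA : finrank F ↥(U ⊓ perp Q H) = finrank F ↥(U ⊓ H) + 1 := by
      rw [hA, finrank_perp hQ, hdim]
      have := Submodule.finrank_sup_add_finrank_inf_eq U H
      omega
    obtain ⟨x, hx, hxH⟩ := exists_mem_not_mem_of_finrank_lt (H := U ⊓ H) (W := U ⊓ perp Q H)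
      (by omega)
    rcases mem_or_mem_of_singular Q hQ hdim hW hfW hW' hfW' hfH (hU x hx.1) hx.2 with h | h
    · apply hxH
      rw [e1]
      exact ⟨hx.1, h⟩
    · apply hxH
      rw [e2]
      exact ⟨hx.1, h⟩
  omega

/-- **Adjacent MTS through a singular vector**: for an MTS `W` and a singular `x ∉ W`, the space
`(W ∩ x^⊥) + ⟨x⟩` is an MTS meeting `W` in a hyperplane. -/
theorem exists_adjacent {W : Submodule F V} (hW : IsTS Q W) (hfW : finrank F W = m) {x : V}
    (hx : Q x = 0) (hxW : x ∉ W) :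
    ∃ W₁ : Submodule F V, IsTS Q W₁ ∧ finrank F W₁ = m ∧ finrank F ↥(W ⊓ W₁) + 1 = m ∧ x ∈ W₁ ∧
      ∀ y ∈ W, pol (⇑Q) x y = 0 → y ∈ W₁ := by
  set φ : V →ₗ[F] F := QuadraticMap.polarBilin Q x with hφ
  have hφapp : ∀ y, φ y = pol (⇑Q) x y := fun y => rfl
  have hex : ∃ w ∈ W, φ w ≠ 0 := by
    by_contra hcon
    push Not at hcon
    apply hxW
    rw [← hW.perp_eq_self hQ hdim hfW, mem_perp]
    intro w hw
    rw [QuadraticMap.polar_comm, ← hφapp]
    exact hcon w hw
  have hfH₁ : finrank F ↥(W ⊓ LinearMap.ker φ) + 1 = m := by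
    rw [finrank_inf_ker_add_one W φ hex, hfW]
  set H₁ := W ⊓ LinearMap.ker φ with hH₁
  have hxH₁ : x ∉ H₁ := fun h => hxW h.1
  have hperp : ∀ h ∈ H₁, pol (⇑Q) h x = 0 := by
    intro h hh
    rw [QuadraticMap.polar_comm, ← hφapp]
    exact LinearMap.mem_ker.mp hh.2
  set W₁ := H₁ ⊔ Submodule.span F {x} with hW₁
  have hW₁ts : IsTS Q W₁ := (hW.mono inf_le_left).sup_span x hx hperp
  have hfW₁ : finrank F W₁ = m := by
    rw [hW₁, Submodule.finrank_sup_span_singleton hxH₁, hfH₁]
  have hxW₁ : x ∈ W₁ := Submodule.mem_sup_right (Submodule.mem_span_singleton_self x)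
  have hne : W ≠ W₁ := by
    intro h
    apply hxW
    rw [h]
    exact hxW₁
  have hinf : W ⊓ W₁ = H₁ :=
    inf_eq_of_ne hfW inf_le_left le_sup_left hfH₁ hne hfW₁
  refine ⟨W₁, hW₁ts, hfW₁, by rw [hinf]; exact hfH₁, hxW₁, ?_⟩
  intro y hy hxy
  exact Submodule.mem_sup_left ⟨hy, LinearMap.mem_ker.mpr hxy⟩

omit hQ hdim in
theorem finrank_inf_le_left' {U W : Submodule F V} (hfU : finrank F U = m) :
    finrank F ↥(U ⊓ W) ≤ m := by
  rw [← hfU]
  exact Submodule.finrank_mono inf_le_left

/-- **Two classes**: the parity of `m - dim (U ∩ W)` is additive on maximal totally singular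
subspaces. -/
theorem even_delta_sum {U X : Submodule F V} (hU : IsTS Q U) (hfU : finrank F U = m)
    (hX : IsTS Q X) (hfX : finrank F X = m) :
    ∀ (k : ℕ) (W : Submodule F V), IsTS Q W → finrank F W = m → m - finrank F ↥(W ⊓ X) = k →
      Even ((m - finrank F ↥(U ⊓ W)) + (m - finrank F ↥(W ⊓ X)) + (m - finrank F ↥(U ⊓ X))) := by
  intro k
  induction k using Nat.strong_induction_on with
  | _ k ih =>
    intro W hW hfW hk
    by_cases hWX : W = X
    · subst hWX
      rw [inf_idem, hfW, Nat.sub_self, add_zero]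
      exact ⟨_, rfl⟩
    · -- a vector of `X` outside `W`
      have hnle : ¬ X ≤ W := by
        intro hle
        exact hWX (Submodule.eq_of_le_of_finrank_eq hle (by rw [hfX, hfW])).symm
      obtain ⟨x, hxX, hxW⟩ := Set.not_subset.mp hnle
      obtain ⟨W₁, hW₁, hfW₁, hadj, hxW₁, hW₁sub⟩ :=
        exists_adjacent Q hQ hdim hW hfW (hX x hxX) hxW
      -- the intersection with `X` grows
      have hgrow : finrank F ↥(W ⊓ X) + 1 ≤ finrank F ↥(W₁ ⊓ X) := by
        have hle : (W ⊓ X) ⊔ Submodule.span F {x} ≤ W₁ ⊓ X := by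
          apply sup_le
          · intro y hy
            exact ⟨hW₁sub y hy.1 (hX.polar_eq_zero hxX hy.2), hy.2⟩
          · rw [Submodule.span_singleton_le_iff_mem]
            exact ⟨hxW₁, hxX⟩
        have h1 := Submodule.finrank_mono hle
        have hxWX : x ∉ W ⊓ X := fun h => hxW h.1
        rwa [Submodule.finrank_sup_span_singleton hxWX] at h1
      have hb1 := finrank_inf_le_left' (U := W₁) (W := X) hfW₁
      have hb2 := finrank_inf_le_left' (U := W) (W := X) hfW
      have hb3 := finrank_inf_le_left' (U := U) (W := W) hfU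
      have hb4 := finrank_inf_le_left' (U := U) (W := W₁) hfU
      have hb5 := finrank_inf_le_left' (U := U) (W := X) hfU
      have hlt : m - finrank F ↥(W₁ ⊓ X) < k := by omega
      have hIH := ih _ hlt W₁ hW₁ hfW₁ rfl
      have hk1 := adjacent_inter_finrank Q hQ hdim hU hfU hW hfW hW₁ hfW₁ hadj
      have hk2 := adjacent_inter_finrank Q hQ hdim hX hfX hW hfW hW₁ hfW₁ hadj
      rw [inf_comm X W, inf_comm X W₁] at hk2
      rw [Nat.even_iff] at hIH ⊢
      omega

/-- Symmetric form of `even_delta_sum`. -/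
theorem even_delta_sum' {U W X : Submodule F V} (hU : IsTS Q U) (hfU : finrank F U = m)
    (hW : IsTS Q W) (hfW : finrank F W = m) (hX : IsTS Q X) (hfX : finrank F X = m) :
    Even ((m - finrank F ↥(U ⊓ W)) + (m - finrank F ↥(W ⊓ X)) + (m - finrank F ↥(U ⊓ X))) :=
  even_delta_sum Q hQ hdim hU hfU hX hfX _ W hW hfW rfl

/-- If some totally singular subspace has dimension `m`, every totally singular subspace lies in
one of dimension `m` (Witt). -/
theorem exists_mts_ge {E : Submodule F V} (hE : IsTS Q E) (hfE : finrank F E = m)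
    {H : Submodule F V} (hH : IsTS Q H) :
    ∃ W : Submodule F V, IsTS Q W ∧ finrank F W = m ∧ H ≤ W := by
  have hle : finrank F H ≤ finrank F E := by
    have := hH.two_mul_finrank_le hQ
    omega
  set bH := Module.finBasis F H with hbH
  set bE := Module.finBasis F E with hbE
  set b : Fin (finrank F H) → V := fun i => (bH i : V) with hb
  set c : Fin (finrank F H) → V := fun i => (bE (Fin.castLE hle i) : V) with hc
  have hbli : LinearIndependent F b :=
    bH.linearIndependent.map' H.subtype (Submodule.ker_subtype H)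
  have hcli : LinearIndependent F c :=
    (bE.linearIndependent.comp (Fin.castLE hle) (Fin.castLE_injective _)).map' E.subtype
      (Submodule.ker_subtype E)
  obtain ⟨g, hgiso, hgb⟩ := witt_families_quad Q hQ _ b c hbli hcli
    (fun i => by rw [hH _ (bH i).2, hE _ (bE _).2])
    (fun i j => by rw [hH.polar_eq_zero (bH i).2 (bH j).2, hE.polar_eq_zero (bE _).2 (bE _).2])
  have hHspan : H = Submodule.span F (Set.range b) := by
    have h1 : Submodule.span F (Set.range bH) = ⊤ := bH.span_eq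
    have h2 := congrArg (Submodule.map H.subtype) h1
    rw [Submodule.map_span, Submodule.map_subtype_top, ← Set.range_comp] at h2
    exact h2.symm
  refine ⟨E.comap (g : V →ₗ[F] V), hE.comap g hgiso, ?_, ?_⟩
  · have : E.comap (g : V →ₗ[F] V) = E.map (g.symm : V →ₗ[F] V) :=
      Submodule.comap_equiv_eq_map_symm g E
    rw [this, LinearEquiv.finrank_map_eq g.symm E, hfE]
  · rw [hHspan, Submodule.span_le]
    rintro _ ⟨i, rfl⟩
    change g (b i) ∈ E
    rw [hgb i]
    exact (bE _).2

/-- A second MTS through a totally singular `(m-1)`-space contained in an MTS. -/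
theorem exists_other_mts {H W : Submodule F V} (hH : IsTS Q H) (hfH : finrank F H + 1 = m)
    (hW : IsTS Q W) (hfW : finrank F W = m) (hle : H ≤ W) :
    ∃ W' : Submodule F V, IsTS Q W' ∧ finrank F W' = m ∧ H ≤ W' ∧ W' ≠ W := by
  have hWperp : W ≤ perp Q H := fun w hw h hh => hW.polar_eq_zero (hle hh) hw
  obtain ⟨y, hyp, hyW⟩ := exists_mem_not_mem_of_finrank_lt (H := W) (W := perp Q H)
    (by rw [finrank_perp hQ, hdim, hfW]; omega)
  have hex : ∃ w ∈ W, pol (⇑Q) w y ≠ 0 := by
    by_contra hcon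
    push Not at hcon
    apply hyW
    rw [← hW.perp_eq_self hQ hdim hfW, mem_perp]
    exact hcon
  obtain ⟨w, hw, hwy⟩ := hex
  set w' : V := (pol (⇑Q) w y)⁻¹ • w with hw'
  have hw'W : w' ∈ W := W.smul_mem _ hw
  have hw'y : pol (⇑Q) y w' = 1 := by
    rw [hw', QuadraticMap.polar_smul_right, QuadraticMap.polar_comm (⇑Q) y w, smul_eq_mul,
      inv_mul_cancel₀ hwy]
  set x : V := y - Q y • w' with hxdef
  have hQx : Q x = 0 := by
    rw [hxdef, Q_sub, QuadraticMap.map_smul, hW w' hw'W, QuadraticMap.polar_smul_right, hw'y]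
    simp
  have hxp : x ∈ perp Q H :=
    (perp Q H).sub_mem hyp ((perp Q H).smul_mem _ (hWperp hw'W))
  have hxW : x ∉ W := by
    intro h
    apply hyW
    have : y = x + Q y • w' := by rw [hxdef]; abel
    rw [this]
    exact W.add_mem h (W.smul_mem _ hw'W)
  have hxH : x ∉ H := fun h => hxW (hle h)
  refine ⟨H ⊔ Submodule.span F {x}, hH.sup_span x hQx hxp, ?_, le_sup_left, ?_⟩
  · rw [Submodule.finrank_sup_span_singleton hxH, hfH]
  · intro h
    apply hxW
    rw [← h]
    exact Submodule.mem_sup_right (Submodule.mem_span_singleton_self x)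

/-- **Exactly two** MTS contain a given totally singular `(m-1)`-space (when MTS exist). -/
theorem card_mts_ge_eq_two {E : Submodule F V} (hE : IsTS Q E) (hfE : finrank F E = m)
    {H : Submodule F V} (hH : IsTS Q H) (hfH : finrank F H + 1 = m) :
    Nat.card {W : Submodule F V // finrank F W = m ∧ (∀ w ∈ W, Q w = 0) ∧ H ≤ W} = 2 := by
  obtain ⟨W, hW, hfW, hle⟩ := exists_mts_ge Q hQ hdim hE hfE hH
  obtain ⟨W', hW', hfW', hle', hne⟩ := exists_other_mts Q hQ hdim hH hfH hW hfW hle
  have hinf : W ⊓ W' = H := inf_eq_of_ne hfW hle hle' hfH (Ne.symm hne) hfW'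
  rw [Nat.card_eq_two_iff]
  refine ⟨⟨W, hfW, hW, hle⟩, ⟨W', hfW', hW', hle'⟩, ?_, ?_⟩
  · intro h
    exact hne (congrArg Subtype.val h).symm
  · ext M
    simp only [Set.mem_insert_iff, Set.mem_singleton_iff, Set.mem_univ, iff_true]
    obtain ⟨M, hfM, hM, hleM⟩ := M
    rcases eq_or_eq_of_le Q hQ hdim hW hfW hW' hfW' (by rw [hinf]; exact hfH) hM hfM
      (by rw [hinf]; exact hleM) with h | h
    · left
      exact Subtype.ext h
    · right
      exact Subtype.ext h

/-- A reflection moves an MTS to an adjacent one. -/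
theorem finrank_inf_map_refl {U : Submodule F V} (hU : IsTS Q U) (hfU : finrank F U = m)
    (T : V ≃ₗ[F] V) (hT : T ∈ reflSet Q) :
    finrank F ↥(U ⊓ U.map (T : V →ₗ[F] V)) + 1 = m := by
  obtain ⟨u, hu, hTu⟩ := hT
  set φ : V →ₗ[F] F := QuadraticMap.polarBilin Q u with hφ
  have hφapp : ∀ y, φ y = pol (⇑Q) u y := fun y => rfl
  have huU : u ∉ U := fun h => hu (hU u h)
  have hex : ∃ w ∈ U, φ w ≠ 0 := by
    by_contra hcon
    push Not at hcon
    apply huU
    rw [← hU.perp_eq_self hQ hdim hfU, mem_perp]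
    intro w hw
    rw [QuadraticMap.polar_comm, ← hφapp]
    exact hcon w hw
  have hfH : finrank F ↥(U ⊓ LinearMap.ker φ) + 1 = m := by
    rw [finrank_inf_ker_add_one U φ hex, hfU]
  have hTiso : ∀ z, Q (T z) = Q z := fun z => by rw [hTu, reflLin_isom Q u hu]
  have hfTU : finrank F ↥(U.map (T : V →ₗ[F] V)) = m := by
    rw [LinearEquiv.finrank_map_eq T U, hfU]
  have hle : U ⊓ LinearMap.ker φ ≤ U.map (T : V →ₗ[F] V) := by
    rintro h ⟨hhU, hhk⟩
    refine ⟨h, hhU, ?_⟩
    change T h = h
    rw [hTu, reflLin_apply, ← hφapp, LinearMap.mem_ker.mp hhk, mul_zero, zero_smul, sub_zero]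
  have hne : U ≠ U.map (T : V →ₗ[F] V) := by
    intro heq
    obtain ⟨w, hw, hφw⟩ := hex
    have h1 : T w ∈ U := by
      rw [heq]
      exact ⟨w, hw, rfl⟩
    rw [hTu, reflLin_apply, ← hφapp] at h1
    have h2 : ((Q u)⁻¹ * φ w) • u ∈ U := by
      have := U.sub_mem hw h1
      rwa [sub_sub_cancel] at this
    apply huU
    have h3 := U.smul_mem ((Q u)⁻¹ * φ w)⁻¹ h2
    rwa [smul_smul, inv_mul_cancel₀ (mul_ne_zero (inv_ne_zero hu) hφw), one_smul] at h3
  rw [inf_eq_of_ne hfU inf_le_left hle hfH hne hfTU]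
  exact hfH

end MTS

section CharTwo

variable [CharP F 2] [FiniteDimensional F V] (Q : QuadraticForm F V)
  (hQ : (QuadraticMap.polarBilin Q).Nondegenerate) {m : ℕ} (hdim : finrank F V = 2 * m)

include hQ hdim

/-- The class of `g U` relative to `U` is the Dickson parity of `g` (on products of reflections). -/
theorem delta_eq_dick {U : Submodule F V} (hU : IsTS Q U) (hfU : finrank F U = m)
    (g : V ≃ₗ[F] V) (hg : g ∈ reflGroup Q) :
    ((m - finrank F ↥(U ⊓ U.map (g : V →ₗ[F] V)) : ℕ) : ZMod 2) = dick g := by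
  have hstep : ∀ (x : V ≃ₗ[F] V), x ∈ reflGroup Q → ∀ T ∈ reflSet Q,
      ((m - finrank F ↥(U ⊓ U.map (x : V →ₗ[F] V)) : ℕ) : ZMod 2) = dick x →
      ((m - finrank F ↥(U ⊓ U.map ((x * T : V ≃ₗ[F] V) : V →ₗ[F] V)) : ℕ) : ZMod 2) =
        dick (x * T) := by
    intro x hx T hT ih
    have hxiso : x ∈ isoGroup Q := reflGroup_le_isoGroup Q hx
    have hTiso : T ∈ isoGroup Q := reflSet_subset_isoGroup Q hT
    rw [dick_mul_refl Q hQ x T hxiso hT, ← ih]
    set W := U.map (x : V →ₗ[F] V) with hW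
    set W' := U.map ((x * T : V ≃ₗ[F] V) : V →ₗ[F] V) with hW'
    have hWts : IsTS Q W := hU.map x hxiso
    have hW'ts : IsTS Q W' := hU.map (x * T) (Subgroup.mul_mem _ hxiso hTiso)
    have hfW : finrank F W = m := by rw [hW, LinearEquiv.finrank_map_eq x U, hfU]
    have hfW' : finrank F W' = m := by rw [hW', LinearEquiv.finrank_map_eq (x * T) U, hfU]
    have hW'eq : W' = (U.map (T : V →ₗ[F] V)).map (x : V →ₗ[F] V) := by
      rw [hW', ← Submodule.map_comp]
      rfl
    have hadj : finrank F ↥(W ⊓ W') + 1 = m := by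
      have h1 : W ⊓ W' = (U ⊓ U.map (T : V →ₗ[F] V)).map (x : V →ₗ[F] V) := by
        rw [hW'eq, hW]
        exact (Submodule.map_inf (x : V →ₗ[F] V) x.injective).symm
      rw [h1, LinearEquiv.finrank_map_eq x]
      exact finrank_inf_map_refl Q hQ hdim hU hfU T hT
    have hkey := adjacent_inter_finrank Q hQ hdim hU hfU hWts hfW hW'ts hfW' hadj
    have hb1 := finrank_inf_le_left' (U := U) (W := W) hfU
    have hb2 := finrank_inf_le_left' (U := U) (W := W') hfU
    have h2 : (1 : ZMod 2) + 1 = 0 := by decide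
    rcases hkey with h | h
    · have : m - finrank F ↥(U ⊓ W') = (m - finrank F ↥(U ⊓ W)) + 1 := by omega
      rw [this]
      push_cast
      rfl
    · have : m - finrank F ↥(U ⊓ W) = (m - finrank F ↥(U ⊓ W')) + 1 := by omega
      rw [this]
      push_cast
      rw [add_assoc, h2, add_zero]
  unfold reflGroup at hg
  induction hg using Subgroup.closure_induction_right with
  | one =>
    have : U.map ((1 : V ≃ₗ[F] V) : V →ₗ[F] V) = U := Submodule.map_id U
    rw [this, inf_idem, hfU, Nat.sub_self, dick_one]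
    rfl
  | mul_right x hx T hT ih => exact hstep x hx T hT ih
  | mul_inv_cancel x hx T hT ih =>
    have hinv : T⁻¹ = T := inv_eq_of_mul_eq_one_right (refl_mul_self Q T hT)
    rw [hinv]
    exact hstep x hx T hT ih

/-- **Parity criterion**: in characteristic two an isometry lies in `Ω` iff it preserves the class
of a (any) maximal totally singular subspace of dimension `m`. -/
theorem mem_commutator_iff_even_delta
    (hF : (∀ a b : F, ∃ x : F, x ≠ a ∧ x ≠ b) ∨ Module.finrank F V ≠ 4)
    (hsq : ∀ a : F, IsSquare a) {U : Submodule F V} (hU : IsTS Q U) (hfU : finrank F U = m)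
    (g : ↥(isoGroup Q)) :
    g ∈ commutator ↥(isoGroup Q) ↔
      Even (m - finrank F ↥(U ⊓ U.map ((g : V ≃ₗ[F] V) : V →ₗ[F] V))) := by
  rw [mem_commutator_isoGroup_iff Q hQ hF hsq, ← ZMod.natCast_eq_zero_iff_even,
    ← ZMod.natCast_eq_zero_iff_even,
    delta_eq_dick Q hQ hdim hU hfU _ (isometry_mem_reflGroup Q hQ hF _ g.2)]
  rfl

end CharTwo

end Cfsg.Agent.Lib.Helper36
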