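import Mathlib
import Cfsg.Agent.Lib.Helper36.MaxTS
import Cfsg.Agent.Lib.Helper13.Dickson

set_option autoImplicit false
set_option linter.unusedSectionVars false

/-!
# Parity classes of maximal totally singular subspaces and the parity of an isometry (any field)

For a quadratic space of dimension `2m` with an MTS `U` (totally singular of dimension `m`) and a
product of reflections `g`: `m - dim (U ∩ gU) ≡ par g (mod 2)`.  For similarities the parity of
`m - dim (U ∩ gU)` does not depend on the MTS `U`.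
-/

namespace Cfsg.Agent.Lib.Helper36

open Module Cfsg.Agent.Lib.Helper13

variable {F V : Type*} [Field F] [AddCommGroup V] [Module F V]

local notation "pol" => QuadraticMap.polar

section

variable [FiniteDimensional F V] (Q : QuadraticForm F V)
  (hQ : (QuadraticMap.polarBilin Q).Nondegenerate) {m : ℕ} (hdim : finrank F V = 2 * m)

include hQ hdim

/-- The class of `g U` relative to `U` is the parity of `g` (on products of reflections). -/
theorem delta_eq_par {U : Submodule F V} (hU : IsTS Q U) (hfU : finrank F U = m)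
    (g : V ≃ₗ[F] V) (hg : g ∈ reflGroup Q) :
    ((m - finrank F ↥(U ⊓ U.map (g : V →ₗ[F] V)) : ℕ) : ZMod 2) = par g := by
  have hstep : ∀ (x : V ≃ₗ[F] V), x ∈ reflGroup Q → ∀ T ∈ reflSet Q,
      ((m - finrank F ↥(U ⊓ U.map (x : V →ₗ[F] V)) : ℕ) : ZMod 2) = par x →
      ((m - finrank F ↥(U ⊓ U.map ((x * T : V ≃ₗ[F] V) : V →ₗ[F] V)) : ℕ) : ZMod 2) =
        par (x * T) := by
    intro x hx T hT ih
    have hxiso : x ∈ isoGroup Q := reflGroup_le_isoGroup Q hx
    have hTiso : T ∈ isoGroup Q := reflSet_subset_isoGroup Q hT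
    rw [par_mul Q hQ x hx T hTiso, par_refl Q hQ T hT, ← ih]
    set W := U.map (x : V →ₗ[F] V) with hW
    set W' := U.map ((x * T : V ≃ₗ[F] V) : V →ₗ[F] V) with hW'
    have hWts : IsTS Q W := hU.map x hxiso
    have hW'ts : IsTS Q W' := hU.map (x * T) (Subgroup.mul_mem _ hxiso hTiso)
    have hfW : finrank F W = m := by rw [hW, LinearEquiv.finrank_map_eq x U, hfU]
    have hfW' : finrank F W' = m := by rw [hW', LinearEquiv.finrank_map_eq (x * T) U, hfU]
    have hW'eq : W' = (U.map (T : V →ₗ[F] V)).map (x : V →ₗ[F] V) := by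
      rw [hW', ← Submodule.map_comp]
      rfl
    have hadj : finrank F ↥(W ⊓ W') + 1 = m := by
      have h1 : W ⊓ W' = (U ⊓ U.map (T : V →ₗ[F] V)).map (x : V →ₗ[F] V) := by
        rw [hW'eq, hW]
        exact (Submodule.map_inf (x : V →ₗ[F] V) x.injective).symm
      rw [h1, LinearEquiv.finrank_map_eq x]
      exact finrank_inf_map_refl Q hQ hdim hU hfU T hT
    have hkey := adjacent_inter_finrank Q hQ hdim hU hfU hWts hfW hW'ts hfW' hadj
    have hb1 := finrank_inf_le_left' (U := U) (W := W) hfU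
    have hb2 := finrank_inf_le_left' (U := U) (W := W') hfU
    have h2 : (1 : ZMod 2) + 1 = 0 := by decide
    rcases hkey with h | h
    · have : m - finrank F ↥(U ⊓ W') = (m - finrank F ↥(U ⊓ W)) + 1 := by omega
      rw [this]
      push_cast
      rfl
    · have : m - finrank F ↥(U ⊓ W) = (m - finrank F ↥(U ⊓ W')) + 1 := by omega
      rw [this]
      push_cast
      rw [add_assoc, h2, add_zero]
  unfold reflGroup at hg
  induction hg using Subgroup.closure_induction_right with
  | one =>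
    have : U.map ((1 : V ≃ₗ[F] V) : V →ₗ[F] V) = U := Submodule.map_id U
    rw [this, inf_idem, hfU, Nat.sub_self, par_one]
    rfl
  | mul_right x hx T hT ih => exact hstep x hx T hT ih
  | mul_inv_cancel x hx T hT ih =>
    have hinv : T⁻¹ = T := inv_eq_of_mul_eq_one_right (refl_mul_self Q T hT)
    rw [hinv]
    exact hstep x hx T hT ih

/-- For a similarity `g`, the parity of `m - dim (U ∩ gU)` does not depend on the MTS `U`. -/
theorem even_delta_similarity {U₀ : Submodule F V} (hU₀ : IsTS Q U₀) (hfU₀ : finrank F U₀ = m)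
    (g : V ≃ₗ[F] V) (c : F) (hg : ∀ z, Q (g z) = c * Q z)
    {U : Submodule F V} (hU : IsTS Q U) (hfU : finrank F U = m) :
    Even (m - finrank F ↥(U ⊓ U.map (g : V →ₗ[F] V))) ↔
      Even (m - finrank F ↥(U₀ ⊓ U₀.map (g : V →ₗ[F] V))) := by
  have hmapTS : ∀ W : Submodule F V, IsTS Q W → IsTS Q (W.map (g : V →ₗ[F] V)) := by
    rintro W hW _ ⟨w, hw, rfl⟩
    change Q (g w) = 0
    rw [hg w, hW w hw, mul_zero]
  have hmapfr : ∀ W : Submodule F V, finrank F ↥(W.map (g : V →ₗ[F] V)) = finrank F W :=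
    fun W => LinearEquiv.finrank_map_eq g W
  have e1 := even_delta_sum' Q hQ hdim hU hfU hU₀ hfU₀ (hmapTS U hU)
    (by rw [hmapfr, hfU])
  have e2 := even_delta_sum' Q hQ hdim hU₀ hfU₀ (hmapTS U₀ hU₀) (by rw [hmapfr, hfU₀])
    (hmapTS U hU) (by rw [hmapfr, hfU])
  have e3 : finrank F ↥(U₀.map (g : V →ₗ[F] V) ⊓ U.map (g : V →ₗ[F] V)) =
      finrank F ↥(U ⊓ U₀) := by
    rw [← Submodule.map_inf (g : V →ₗ[F] V) g.injective, hmapfr, inf_comm]
  rw [e3] at e2
  have hb1 := finrank_inf_le_left' (U := U) (W := U₀) hfU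
  have hb2 := finrank_inf_le_left' (U := U₀) (W := U.map (g : V →ₗ[F] V)) hfU₀
  have hb3 := finrank_inf_le_left' (U := U) (W := U.map (g : V →ₗ[F] V)) hfU
  have hb4 := finrank_inf_le_left' (U := U₀) (W := U₀.map (g : V →ₗ[F] V)) hfU₀
  rw [Nat.even_iff] at e1 e2 ⊢
  rw [Nat.even_iff]
  omega

end

end Cfsg.Agent.Lib.Helper36
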