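import Mathlib
import Cfsg.Agent.Lib.Helper20.DihQuatLift

set_option autoImplicit false

/-!
# Recognising the dihedral group of order eight

A group of order eight with an involution `x` and an element `y` not commuting with `x` is
dihedral. Consequently a normal subgroup `I` of index eight of a group `P`, with `x² ∈ I` and
`[x, y] ∉ I`, is the kernel of a surjection `P → D₈`.
-/

namespace Cfsg.Agent.Lib.Helper36

open Cfsg.Agent.Lib.Helper20

/-- Dihedral presentation data give an isomorphism onto `DihedralGroup 4`. -/
theorem nonempty_mulEquiv_dihedral_four_of_data {G : Type*} [Group G] (hcard : Nat.card G = 8)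
    (ρ s : G) (hρ : orderOf ρ = 4) (hs : s * s = 1) (hsρ : s * ρ * s⁻¹ = ρ⁻¹)
    (hns : s ∉ Subgroup.zpowers ρ) : Nonempty (G ≃* DihedralGroup 4) := by
  have hfin : Finite G := Nat.finite_of_card_ne_zero (by rw [hcard]; norm_num)
  have hρ4 : ρ ^ 4 = 1 := by rw [← hρ]; exact pow_orderOf_eq_one ρ
  have hinj := dihHom_injective ρ s 4 hρ4 hs hsρ hρ hns
  have hbij : Function.Bijective (dihHom ρ s 4 hρ4 hs hsρ) := by
    rw [Nat.bijective_iff_injective_and_card]
    refine ⟨hinj, ?_⟩
    rw [DihedralGroup.nat_card, hcard]
  exact ⟨(MulEquiv.ofBijective _ hbij).symm⟩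

/-- The possible orders of elements of a group of order eight. -/
theorem orderOf_cases_of_card_eight {G : Type*} [Group G] (hcard : Nat.card G = 8) (g : G) :
    orderOf g = 1 ∨ orderOf g = 2 ∨ orderOf g = 4 ∨ orderOf g = 8 := by
  have h := orderOf_dvd_natCard g
  rw [hcard] at h
  have h8 : (8 : ℕ) = 2 ^ 3 := by norm_num
  rw [h8, Nat.dvd_prime_pow Nat.prime_two] at h
  obtain ⟨k, hk, hk'⟩ := h
  interval_cases k
  · left; rw [hk']; norm_num
  · right; left; rw [hk']; norm_num
  · right; right; left; rw [hk']; norm_num
  · right; right; right; rw [hk']; norm_num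

/-- In a non-commutative group of order eight no element has order eight. -/
theorem orderOf_ne_eight {G : Type*} [Group G] (hcard : Nat.card G = 8) (x y : G)
    (hxy : x * y ≠ y * x) (g : G) : orderOf g ≠ 8 := by
  intro h
  have hfin : Finite G := Nat.finite_of_card_ne_zero (by rw [hcard]; norm_num)
  have hcyc : IsCyclic G := isCyclic_of_orderOf_eq_card g (by rw [h, hcard])
  have hc : IsMulCommutative G := IsCyclic.isMulCommutative
  exact hxy (hc.is_comm.comm x y)

/-- **A group of order eight containing an involution and an element not commuting with it is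
dihedral.** -/
theorem nonempty_mulEquiv_dihedral_four {G : Type*} [Group G] (hcard : Nat.card G = 8) (x y : G)
    (hx : x * x = 1) (hxy : x * y ≠ y * x) : Nonempty (G ≃* DihedralGroup 4) := by
  have hfin : Finite G := Nat.finite_of_card_ne_zero (by rw [hcard]; norm_num)
  have hxinv : x⁻¹ = x := inv_eq_of_mul_eq_one_right hx
  rcases orderOf_cases_of_card_eight hcard y with h | h | h | h
  · -- `y = 1`
    rw [orderOf_eq_one_iff] at h
    exfalso
    apply hxy
    rw [h, mul_one, one_mul]
  · -- `y` an involution: rotation `x * y`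
    have hy : y * y = 1 := by
      have := pow_orderOf_eq_one y
      rw [h, pow_two] at this
      exact this
    have hyinv : y⁻¹ = y := inv_eq_of_mul_eq_one_right hy
    have hρ : orderOf (x * y) = 4 := by
      rcases orderOf_cases_of_card_eight hcard (x * y) with h' | h' | h' | h'
      · exfalso
        rw [orderOf_eq_one_iff] at h'
        apply hxy
        have h1 : x = y := by
          rw [← hyinv]
          exact eq_inv_of_mul_eq_one_left h'
        rw [h1]
      · exfalso
        have h1 := pow_orderOf_eq_one (x * y)
        rw [h', pow_two] at h1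
        apply hxy
        have h3 : x * y = (x * y)⁻¹ := eq_inv_of_mul_eq_one_left h1
        rw [mul_inv_rev, hxinv, hyinv] at h3
        exact h3
      · exact h'
      · exact absurd h' (orderOf_ne_eight hcard x y hxy _)
    apply nonempty_mulEquiv_dihedral_four_of_data hcard (x * y) x hρ hx
    · rw [mul_inv_rev, hxinv, hyinv, ← mul_assoc, hx, one_mul]
    · intro hmem
      obtain ⟨k, hk⟩ := Subgroup.mem_zpowers_iff.mp hmem
      have hcomm : Commute (x * y) x := by
        have h0 := (Commute.refl (x * y)).zpow_right k
        rw [hk] at h0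
        exact h0
      apply hxy
      have h1 : x * y * x = x * (x * y) := hcomm.eq
      rw [← mul_assoc, hx, one_mul] at h1
      have h3 : x * y = x * (x * y * x) := by rw [h1]
      rw [h3, ← mul_assoc, ← mul_assoc, hx, one_mul]
  · -- `y` of order four: rotation `y`
    have hy4 : y ^ 4 = 1 := by rw [← h]; exact pow_orderOf_eq_one y
    have hidx : (Subgroup.zpowers y).index = 2 := by
      have h1 := Subgroup.card_mul_index (Subgroup.zpowers y)
      rw [Nat.card_zpowers, h, hcard] at h1
      omega
    have hnorm : (Subgroup.zpowers y).Normal := Subgroup.normal_of_index_eq_two hidx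
    have hmem : x * y * x⁻¹ ∈ Subgroup.zpowers y :=
      hnorm.conj_mem y (Subgroup.mem_zpowers y) x
    obtain ⟨k, hk⟩ := Subgroup.mem_zpowers_iff.mp hmem
    have hk' : y ^ (k % 4) = x * y * x⁻¹ := by
      have := zpow_mod_orderOf y k
      rw [h] at this
      rw [← hk]
      exact_mod_cast this
    have hy2 : y ^ 2 ≠ 1 := by
      intro h2
      have := orderOf_dvd_of_pow_eq_one h2
      rw [h] at this
      omega
    have hk0 : 0 ≤ k % 4 := Int.emod_nonneg k (by norm_num)
    have hk4 : k % 4 < 4 := Int.emod_lt_of_pos k (by norm_num)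
    have hconj : x * y * x⁻¹ = y⁻¹ := by
      generalize k % 4 = j at hk' hk0 hk4
      interval_cases j
      · -- `x y x⁻¹ = 1`
        exfalso
        rw [zpow_zero] at hk'
        have : y = 1 := by
          have h1 : x⁻¹ * (x * y * x⁻¹) * x = y := by group
          rw [← h1, ← hk']
          group
        rw [this, orderOf_one] at h
        omega
      · exfalso
        rw [zpow_one] at hk'
        apply hxy
        have h1 : x * y = (x * y * x⁻¹) * x := by group
        rw [h1, ← hk']
      · exfalso
        apply hy2
        have h1 : (x * y * x⁻¹) ^ 2 = x * y ^ 2 * x⁻¹ := by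
          rw [pow_two, pow_two]; group
        have h3 : (y ^ (2 : ℤ)) ^ 2 = y ^ 4 := by
          rw [← zpow_natCast, ← zpow_mul]
          norm_num
        rw [hk'] at h3
        rw [h1, hy4] at h3
        have h5 : y ^ 2 = x⁻¹ * (x * y ^ 2 * x⁻¹) * x := by group
        rw [h5, h3]
        group
      · rw [← hk']
        have h1 : y ^ (3 : ℤ) * y = 1 := by
          have : y ^ (3 : ℤ) * y = y ^ 4 := by
            rw [← zpow_natCast]
            group
          rw [this, hy4]
        exact eq_inv_of_mul_eq_one_left h1
    apply nonempty_mulEquiv_dihedral_four_of_data hcard y x h hx hconj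
    intro hmem'
    obtain ⟨k', hk''⟩ := Subgroup.mem_zpowers_iff.mp hmem'
    have hcomm : Commute y x := by
      have h0 := (Commute.refl y).zpow_right k'
      rw [hk''] at h0
      exact h0
    exact hxy hcomm.eq.symm
  · exact absurd h (orderOf_ne_eight hcard x y hxy _)

/-- **Quotients of order eight that are dihedral.** -/
theorem exists_hom_dihedral_four {P : Type*} [Group P] (I : Subgroup P) [I.Normal]
    (hidx : I.index = 8) (x y : P) (hx : x * x ∈ I) (hxy : x * y * x⁻¹ * y⁻¹ ∉ I) :
    ∃ φ : P →* DihedralGroup 4, Function.Surjective φ ∧ φ.ker = I := by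
  have hcard : Nat.card (P ⧸ I) = 8 := by rw [← Subgroup.index_eq_card, hidx]
  have hx' : (QuotientGroup.mk x : P ⧸ I) * QuotientGroup.mk x = 1 := by
    rw [← QuotientGroup.mk_mul, QuotientGroup.eq_one_iff]
    exact hx
  have hxy' : (QuotientGroup.mk x : P ⧸ I) * QuotientGroup.mk y ≠
      QuotientGroup.mk y * QuotientGroup.mk x := by
    intro h
    apply hxy
    rw [← QuotientGroup.eq_one_iff, QuotientGroup.mk_mul, QuotientGroup.mk_mul,
      QuotientGroup.mk_mul, h, QuotientGroup.mk_inv, QuotientGroup.mk_inv]
    group
  obtain ⟨e⟩ := nonempty_mulEquiv_dihedral_four hcard _ _ hx' hxy'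
  refine ⟨e.toMonoidHom.comp (QuotientGroup.mk' I),
    e.surjective.comp (QuotientGroup.mk'_surjective I), ?_⟩
  ext g
  rw [MonoidHom.mem_ker, MonoidHom.comp_apply]
  change e (QuotientGroup.mk' I g) = 1 ↔ _
  rw [e.map_eq_one_iff, QuotientGroup.mk'_apply, QuotientGroup.eq_one_iff]

end Cfsg.Agent.Lib.Helper36
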