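import Mathlib

set_option autoImplicit false

/-!
# The action of a normaliser on the central quotient of a commutator subgroup

For a subgroup `O` of a group `𝔾`, the normaliser of `O` acts by conjugation on `O`, hence on the
commutator subgroup `Ω` of `O` (characteristic in `O`), hence on `Ω / Z(Ω)`.  This file builds the
homomorphism `normAut O : N(O) →* MulAut (Ω ⧸ Z(Ω))` and collects general lemmas on images of
subgroups under a homomorphism.
-/

namespace Cfsg.Agent.Lib.Helper36

section AutQuot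

variable {K : Type*} [Group K]

/-- Automorphisms of a group act on its central quotient. -/
def autQuotCenter : MulAut K →* MulAut (K ⧸ Subgroup.center K) where
  toFun e := QuotientGroup.congr (Subgroup.center K) (Subgroup.center K) e
    (Subgroup.characteristic_iff_map_eq.mp inferInstance e)
  map_one' := by
    ext x
    induction x using QuotientGroup.induction_on with
    | H x => rfl
  map_mul' e₁ e₂ := by
    ext x
    induction x using QuotientGroup.induction_on with
    | H x => rfl

theorem autQuotCenter_mk (e : MulAut K) (x : K) :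
    autQuotCenter e (QuotientGroup.mk x : K ⧸ Subgroup.center K) = QuotientGroup.mk (e x) := rfl

end AutQuot

section NormAut

variable {𝔾 : Type*} [Group 𝔾] (O : Subgroup 𝔾)

/-- The action of the normaliser of `O` on the central quotient of the commutator subgroup of
`O`. -/
def normAut : ↥(Subgroup.normalizer (O : Set 𝔾)) →*
    MulAut (↥(commutator ↥O) ⧸ Subgroup.center ↥(commutator ↥O)) :=
  (autQuotCenter.comp (MulAut.characteristic (commutator ↥O))).comp O.normalizerMonoidHom

theorem normAut_mk (g : ↥(Subgroup.normalizer (O : Set 𝔾))) (s s' : ↥(commutator ↥O))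
    (h : ((s' : ↥O) : 𝔾) = (g : 𝔾) * ((s : ↥O) : 𝔾) * (g : 𝔾)⁻¹) :
    normAut O g (QuotientGroup.mk s) = QuotientGroup.mk s' := by
  unfold normAut
  rw [MonoidHom.comp_apply, MonoidHom.comp_apply, autQuotCenter_mk]
  congr 1
  apply Subtype.ext
  apply Subtype.ext
  rw [h]
  rfl

/-- The conjugate of an element of the commutator subgroup of `O` by an element of the
normaliser, as an element of the commutator subgroup. -/
theorem exists_conj (g : ↥(Subgroup.normalizer (O : Set 𝔾))) (s : ↥(commutator ↥O)) :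
    ∃ s' : ↥(commutator ↥O), ((s' : ↥O) : 𝔾) = (g : 𝔾) * ((s : ↥O) : 𝔾) * (g : 𝔾)⁻¹ :=
  ⟨MulAut.characteristic (commutator ↥O) (O.normalizerMonoidHom g) s, rfl⟩

/-- If `g` acts trivially on the central quotient, every conjugate `g s g⁻¹` is `s` times a
central element of the commutator subgroup. -/
theorem exists_center_of_normAut_eq_one (g : ↥(Subgroup.normalizer (O : Set 𝔾)))
    (hg : normAut O g = 1) (s : ↥(commutator ↥O)) :
    ∃ z : ↥(commutator ↥O), z ∈ Subgroup.center ↥(commutator ↥O) ∧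
      (g : 𝔾) * ((s : ↥O) : 𝔾) * (g : 𝔾)⁻¹ = ((s : ↥O) : 𝔾) * ((z : ↥O) : 𝔾) := by
  obtain ⟨s', hs'⟩ := exists_conj O g s
  have h1 := normAut_mk O g s s' hs'
  rw [hg, MulAut.one_apply] at h1
  have h2 : s⁻¹ * s' ∈ Subgroup.center ↥(commutator ↥O) := QuotientGroup.eq.mp h1
  refine ⟨s⁻¹ * s', h2, ?_⟩
  rw [← hs']
  have : s' = s * (s⁻¹ * s') := by group
  conv_lhs => rw [this]
  rfl

end NormAut

section Lift

variable {G A B : Type*} [Group G] [Group A] [Group B]

/-- A homomorphism `ψ` that is trivial on the kernel of `Φ` descends to the range of `Φ`. -/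
theorem exists_hom_range (Φ : G →* A) (ψ : G →* B) (hker : Φ.ker ≤ ψ.ker)
    (hsurj : Function.Surjective ψ) :
    ∃ φ : ↥Φ.range →* B, Function.Surjective φ ∧ ∀ g : G, φ ⟨Φ g, ⟨g, rfl⟩⟩ = ψ g := by
  let φ : ↥Φ.range →* B :=
    (QuotientGroup.lift Φ.ker ψ (fun x hx => hker hx)).comp
      (QuotientGroup.quotientKerEquivRange Φ).symm.toMonoidHom
  have key : ∀ g : G, φ ⟨Φ g, ⟨g, rfl⟩⟩ = ψ g := by
    intro g
    have h1 : (QuotientGroup.quotientKerEquivRange Φ).symm ⟨Φ g, ⟨g, rfl⟩⟩ =
        (QuotientGroup.mk g : G ⧸ Φ.ker) := by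
      rw [MulEquiv.symm_apply_eq]
      rfl
    change (QuotientGroup.lift Φ.ker ψ (fun x hx => hker hx))
      ((QuotientGroup.quotientKerEquivRange Φ).symm ⟨Φ g, ⟨g, rfl⟩⟩) = ψ g
    rw [h1]
    rfl
  refine ⟨φ, ?_, key⟩
  intro b
  obtain ⟨g, rfl⟩ := hsurj b
  exact ⟨_, key g⟩

/-- Version of `exists_hom_range` for a subgroup `P` equal to the range, with the kernel
identified. -/
theorem exists_hom_of_eq_range (Φ : G →* A) (ψ : G →* B) (hker : Φ.ker ≤ ψ.ker)
    (hsurj : Function.Surjective ψ) (P S : Subgroup A) (hP : P = Φ.range)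
    (hS : S = ψ.ker.map Φ) :
    ∃ φ : ↥P →* B, Function.Surjective φ ∧ φ.ker = S.subgroupOf P := by
  subst hP hS
  obtain ⟨φ, hφs, hφ⟩ := exists_hom_range Φ ψ hker hsurj
  refine ⟨φ, hφs, ?_⟩
  ext ⟨β, g, rfl⟩
  rw [MonoidHom.mem_ker, hφ, Subgroup.mem_subgroupOf]
  constructor
  · intro h
    exact ⟨g, h, rfl⟩
  · rintro ⟨g', hg', hgg'⟩
    have h1 : g'⁻¹ * g ∈ Φ.ker := by
      rw [MonoidHom.mem_ker, map_mul, map_inv]
      change (Φ g')⁻¹ * Φ g = 1
      rw [hgg']
      exact inv_mul_cancel _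
    have h2 := hker h1
    rw [MonoidHom.mem_ker, map_mul, map_inv, (MonoidHom.mem_ker).mp hg', inv_one, one_mul] at h2
    exact h2

end Lift

end Cfsg.Agent.Lib.Helper36
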