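import Mathlib
import Cfsg.Prelude.Def_Classical
import Cfsg.Agent.Lib.Helper13.Orth
import Cfsg.Agent.Lib.Helper36.DicksonAbs

set_option autoImplicit false

/-!
# The Dickson invariant for `Cfsg.isometryGroup` / `Cfsg.Omega` in characteristic two

Transport of `mem_commutator_isoGroup_iff` to the matrix groups of `Def_Classical`:
for a quadratic form `Q` on `ι → F` with non-degenerate polar form over a perfect field of
characteristic two, `t ∈ Ω(Q) ↔ Even (rank (t - 1))`.
-/

namespace Cfsg.Agent.Lib.Helper36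

open Module Matrix

/-- A group isomorphism carries the commutator subgroup onto the commutator subgroup. -/
theorem mem_commutator_iff_equiv {G G' : Type*} [Group G] [Group G'] (e : G ≃* G') (x : G) :
    x ∈ commutator G ↔ e x ∈ commutator G' := by
  have h : (commutator G).map e.toMonoidHom = commutator G' := by
    rw [commutator_def, commutator_def, Subgroup.map_commutator,
      Subgroup.map_top_of_surjective _ e.surjective]
  rw [← h]
  exact (Subgroup.mem_map_iff_mem e.injective).symm

/-- Restriction of a group isomorphism to corresponding subgroups. -/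
def subgroupEquivOfIff {G G' : Type*} [Group G] [Group G'] (e : G ≃* G') (H : Subgroup G)
    (H' : Subgroup G') (h : ∀ g, g ∈ H ↔ e g ∈ H') : ↥H ≃* ↥H' where
  toFun x := ⟨e x, (h x).1 x.2⟩
  invFun y := ⟨e.symm y, (h _).2 (by rw [MulEquiv.apply_symm_apply]; exact y.2)⟩
  left_inv x := by
    apply Subtype.ext
    exact e.symm_apply_apply _
  right_inv y := by
    apply Subtype.ext
    exact e.apply_symm_apply _
  map_mul' x y := by
    apply Subtype.ext
    exact map_mul e _ _

theorem subgroupEquivOfIff_coe {G G' : Type*} [Group G] [Group G'] (e : G ≃* G') (H : Subgroup G)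
    (H' : Subgroup G') (h : ∀ g, g ∈ H ↔ e g ∈ H') (x : ↥H) :
    ((subgroupEquivOfIff e H H' h x : ↥H') : G') = e x := rfl

variable {ι : Type} [Fintype ι] [DecidableEq ι] {F : Type*} [Field F]

/-- `GL ι F` as linear equivalences of `ι → F`. -/
noncomputable def glLinEquiv (ι : Type) [Fintype ι] [DecidableEq ι] (F : Type*) [Field F] :
    GL ι F ≃* ((ι → F) ≃ₗ[F] (ι → F)) :=
  (Matrix.GeneralLinearGroup.toLin).trans
    (LinearMap.GeneralLinearGroup.generalLinearEquiv F (ι → F))

theorem glLinEquiv_apply (g : GL ι F) (v : ι → F) :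
    glLinEquiv ι F g v = (g : Matrix ι ι F).mulVec v := rfl

theorem glLinEquiv_coe (g : GL ι F) :
    ((glLinEquiv ι F g : (ι → F) ≃ₗ[F] (ι → F)) : (ι → F) →ₗ[F] (ι → F)) =
      (g : Matrix ι ι F).mulVecLin := by
  apply LinearMap.ext
  intro v
  rfl

theorem mem_isometryGroup_iff_isoGroup (Q : QuadraticForm F (ι → F)) (g : GL ι F) :
    g ∈ Cfsg.isometryGroup F (⇑Q) ↔ glLinEquiv ι F g ∈ isoGroup Q := by
  rw [Cfsg.Agent.Lib.Helper13.mem_isometryGroup_iff, mem_isoGroup]
  rfl

/-- The matrix isometry group is isomorphic to the abstract one. -/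
noncomputable def isometryGroupEquiv (Q : QuadraticForm F (ι → F)) :
    ↥(Cfsg.isometryGroup F (⇑Q)) ≃* ↥(isoGroup Q) :=
  subgroupEquivOfIff (glLinEquiv ι F) _ _ (mem_isometryGroup_iff_isoGroup Q)

theorem rank_sub_one_eq (g : GL ι F) :
    ((g : Matrix ι ι F) - 1).rank =
      finrank F (LinearMap.range
        (((glLinEquiv ι F g : (ι → F) ≃ₗ[F] (ι → F)) : (ι → F) →ₗ[F] (ι → F)) - LinearMap.id)) := by
  have h : ((g : Matrix ι ι F) - 1).mulVecLin = (g : Matrix ι ι F).mulVecLin - LinearMap.id := by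
    apply LinearMap.ext
    intro v
    simp
  rw [glLinEquiv_coe, Matrix.rank, h]

/-- **Dickson invariant** for the matrix groups: over a perfect field of characteristic two, an
element of `O(Q)` lies in `Ω(Q)` iff `t - 1` has even rank. -/
theorem mem_Omega_iff_even_rank [CharP F 2] (Q : QuadraticForm F (ι → F))
    (hQ : (QuadraticMap.polarBilin Q).Nondegenerate)
    (hF : (∀ a b : F, ∃ x : F, x ≠ a ∧ x ≠ b) ∨ Fintype.card ι ≠ 4)
    (hsq : ∀ a : F, IsSquare a) (t : ↥(Cfsg.isometryGroup F (⇑Q))) :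
    t ∈ Cfsg.Omega F (⇑Q) ↔ Even (((t : GL ι F) : Matrix ι ι F) - 1).rank := by
  have hF' : (∀ a b : F, ∃ x : F, x ≠ a ∧ x ≠ b) ∨ Module.finrank F (ι → F) ≠ 4 := by
    rw [Module.finrank_fintype_fun_eq_card]
    exact hF
  change t ∈ commutator ↥(Cfsg.isometryGroup F (⇑Q)) ↔ _
  rw [mem_commutator_iff_equiv (isometryGroupEquiv Q) t,
    mem_commutator_isoGroup_iff Q hQ hF' hsq, rank_sub_one_eq]
  rfl

end Cfsg.Agent.Lib.Helper36
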