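import Mathlib
import Cfsg.Prelude.Def_SporadicB
import Cfsg.Agent.Lib.Helper36.DicksonGen

set_option autoImplicit false

/-!
# The orthogonal transvections of `O^±_{2m}(2)` form a class of 3-transpositions
-/

namespace Cfsg.Agent.Lib.Helper36

open Module Cfsg.Agent.Lib.Helper13

variable {F V : Type*} [Field F] [AddCommGroup V] [Module F V]

local notation "pol" => QuadraticMap.polar

/-- An isometry `g` with `g z = z + φ z • w` (`φ ≠ 0`, `w ≠ 0`) is the reflection in `w`. -/
theorem isometry_transvection_eq_refl (Q : QuadraticForm F V)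
    (hQ : (QuadraticMap.polarBilin Q).Nondegenerate) (g : V →ₗ[F] V) (hg : ∀ z, Q (g z) = Q z)
    (φ : V →ₗ[F] F) (w : V) (hw : w ≠ 0) (hφ : φ ≠ 0) (hgz : ∀ z, g z = z + φ z • w) :
    Q w ≠ 0 ∧ ∀ z, g z = reflLin Q w z := by
  have key : ∀ z, φ z * (φ z * Q w + pol (⇑Q) z w) = 0 := by
    intro z
    have h := hg z
    rw [hgz, Q_add', QuadraticMap.map_smul, QuadraticMap.polar_smul_right, smul_eq_mul,
      smul_eq_mul] at h
    linear_combination h
  obtain ⟨z₁, hz₁⟩ : ∃ z₁, φ z₁ ≠ 0 := by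
    by_contra hcon
    push Not at hcon
    exact hφ (LinearMap.ext hcon)
  have hψ : ∀ z, φ z * Q w + pol (⇑Q) z w = 0 := by
    intro z₀
    by_contra hne
    have h0 : φ z₀ = 0 := by
      rcases mul_eq_zero.mp (key z₀) with h | h
      · exact h
      · exact absurd h hne
    have h1 : φ z₁ * Q w + pol (⇑Q) z₁ w = 0 := by
      rcases mul_eq_zero.mp (key z₁) with h | h
      · exact absurd h hz₁
      · exact h
    have h2 : φ (z₀ + z₁) * Q w + pol (⇑Q) (z₀ + z₁) w = 0 := by
      rcases mul_eq_zero.mp (key (z₀ + z₁)) with h | h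
      · rw [map_add, h0, zero_add] at h
        exact absurd h hz₁
      · exact h
    rw [map_add, QuadraticMap.polar_add_left, h0] at h2
    apply hne
    rw [h0]
    linear_combination h2 - h1
  have hQw : Q w ≠ 0 := by
    intro h0
    apply hw
    apply hQ.2 w
    intro z
    have := hψ z
    rw [h0, mul_zero, zero_add] at this
    exact this
  refine ⟨hQw, fun z => ?_⟩
  rw [hgz, reflLin_apply, QuadraticMap.polar_comm (⇑Q) w z, sub_eq_add_neg, ← neg_smul]
  congr 2
  have := hψ z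
  field_simp
  linear_combination this

/-- In a finite-dimensional space with non-degenerate polar form, an isometry whose `g - 1` has
rank one is a reflection. -/
theorem refl_of_rank_one [FiniteDimensional F V] (Q : QuadraticForm F V)
    (hQ : (QuadraticMap.polarBilin Q).Nondegenerate) (g : V ≃ₗ[F] V) (hg : g ∈ isoGroup Q)
    (hrk : finrank F (LinearMap.range ((g : V →ₗ[F] V) - LinearMap.id)) = 1) :
    g ∈ reflSet Q := by
  set N : V →ₗ[F] V := (g : V →ₗ[F] V) - LinearMap.id with hN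
  obtain ⟨⟨w, hwmem⟩, hw0, hwspan⟩ := finrank_eq_one_iff'.mp hrk
  have hw : w ≠ 0 := by
    intro h
    apply hw0
    exact Subtype.ext h
  -- a functional with value one at `w`
  obtain ⟨y, hy⟩ : ∃ y, pol (⇑Q) w y ≠ 0 := by
    by_contra hcon
    push Not at hcon
    exact hw (hQ.1 w hcon)
  set lam : V →ₗ[F] F := (pol (⇑Q) w y)⁻¹ • (QuadraticMap.polarBilin Q).flip y with hlam
  have hlamw : lam w = 1 := by
    rw [hlam, LinearMap.smul_apply, LinearMap.flip_apply]
    change (pol (⇑Q) w y)⁻¹ • pol (⇑Q) w y = 1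
    rw [smul_eq_mul, inv_mul_cancel₀ hy]
  set φ : V →ₗ[F] F := lam ∘ₗ N with hφdef
  have hNz : ∀ z, N z = φ z • w := by
    intro z
    obtain ⟨c, hc⟩ := hwspan ⟨N z, LinearMap.mem_range_self N z⟩
    have hc' : c • w = N z := congrArg Subtype.val hc
    rw [hφdef, LinearMap.comp_apply, ← hc', map_smul, hlamw, smul_eq_mul, mul_one]
  have hgz : ∀ z, (g : V →ₗ[F] V) z = z + φ z • w := by
    intro z
    rw [← hNz, hN, LinearMap.sub_apply, LinearMap.id_apply]
    abel
  have hφ0 : φ ≠ 0 := by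
    intro h0
    obtain ⟨z, hz⟩ := hwmem
    have := hNz z
    rw [h0, LinearMap.zero_apply, zero_smul, hz] at this
    exact hw this
  obtain ⟨hQw, hrefl⟩ := isometry_transvection_eq_refl Q hQ (g : V →ₗ[F] V) (fun z => hg z) φ w hw
    hφ0 hgz
  exact ⟨w, hQw, hrefl⟩

/-- A reflection has `g - 1` of rank one. -/
theorem rank_one_of_refl [FiniteDimensional F V] (Q : QuadraticForm F V)
    (hQ : (QuadraticMap.polarBilin Q).Nondegenerate) (g : V ≃ₗ[F] V) (hg : g ∈ reflSet Q) :
    finrank F (LinearMap.range ((g : V →ₗ[F] V) - LinearMap.id)) = 1 := by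
  obtain ⟨u, hu, hgu⟩ := hg
  have hu0 : u ≠ 0 := by
    rintro rfl
    exact hu (QuadraticMap.map_zero Q)
  have hrange : LinearMap.range ((g : V →ₗ[F] V) - LinearMap.id) = F ∙ u := by
    apply le_antisymm
    · rintro _ ⟨z, rfl⟩
      rw [LinearMap.sub_apply, LinearMap.id_apply, LinearEquiv.coe_coe, hgu, reflLin_apply]
      rw [sub_sub_cancel_left, ← neg_smul]
      exact Submodule.smul_mem _ _ (Submodule.mem_span_singleton_self u)
    · rw [Submodule.span_singleton_le_iff_mem]
      obtain ⟨y, hy⟩ : ∃ y, pol (⇑Q) u y ≠ 0 := by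
        by_contra hcon
        push Not at hcon
        exact hu0 (hQ.1 u hcon)
      refine ⟨(-((Q u)⁻¹ * pol (⇑Q) u y))⁻¹ • y, ?_⟩
      rw [map_smul, LinearMap.sub_apply, LinearMap.id_apply, LinearEquiv.coe_coe, hgu,
        reflLin_apply, sub_sub_cancel_left, ← neg_smul, smul_smul, inv_mul_cancel₀, one_smul]
      exact neg_ne_zero.mpr (mul_ne_zero (inv_ne_zero hu) hy)
  rw [hrange, finrank_span_singleton hu0]

theorem mem_reflSet_iff_rank_one [FiniteDimensional F V] (Q : QuadraticForm F V)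
    (hQ : (QuadraticMap.polarBilin Q).Nondegenerate) (g : V ≃ₗ[F] V) (hg : g ∈ isoGroup Q) :
    g ∈ reflSet Q ↔ finrank F (LinearMap.range ((g : V →ₗ[F] V) - LinearMap.id)) = 1 :=
  ⟨rank_one_of_refl Q hQ g, refl_of_rank_one Q hQ g hg⟩

/-- Conjugating a reflection by an isometry gives the reflection in the image vector. -/
theorem conj_mem_reflSet (Q : QuadraticForm F V) (c T : V ≃ₗ[F] V) (hc : c ∈ isoGroup Q)
    (v : V) (hv : Q v ≠ 0) (hT : ∀ z, T z = reflLin Q v z) :
    Q (c v) ≠ 0 ∧ ∀ z, (c * T * c⁻¹) z = reflLin Q (c v) z := by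
  refine ⟨by rw [hc v]; exact hv, fun z => ?_⟩
  rw [LinearEquiv.mul_apply, LinearEquiv.mul_apply, hT, conj_reflLin Q c hc]

theorem exists_Q_ne_zero [Nontrivial V] (Q : QuadraticForm F V)
    (hQ : (QuadraticMap.polarBilin Q).Nondegenerate) : ∃ v, Q v ≠ 0 := by
  by_contra hcon
  push Not at hcon
  obtain ⟨x, hx⟩ := exists_ne (0 : V)
  apply hx
  apply hQ.1 x
  intro y
  change pol (⇑Q) x y = 0
  unfold QuadraticMap.polar
  rw [hcon, hcon, hcon]
  ring

theorem closure_refl_eq_top_aux (Q : QuadraticForm F V) (H : Subgroup (V ≃ₗ[F] V))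
    (hH : H = reflGroup Q) :
    Subgroup.closure {T : ↥H | (T : V ≃ₗ[F] V) ∈ reflSet Q} = ⊤ := by
  subst hH
  exact Subgroup.closure_closure_coe_preimage

section F2

variable [CharP F 2] [FiniteDimensional F V]

omit [FiniteDimensional F V] in
/-- Over the field with two elements, two reflections generate a group of order dividing 4 or 6:
`(T₁ T₂)² = 1` or `(T₁ T₂)³ = 1`. -/
theorem refl_mul_pow (Q : QuadraticForm F V) (h01 : ∀ a : F, a = 0 ∨ a = 1)
    (T₁ T₂ : V ≃ₗ[F] V) (h1 : T₁ ∈ reflSet Q) (h2 : T₂ ∈ reflSet Q) :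
    (T₁ * T₂) ^ 2 = 1 ∨ (T₁ * T₂) ^ 3 = 1 := by
  have hs1 : T₁ * T₁ = 1 := refl_mul_self Q T₁ h1
  have hs2 : T₂ * T₂ = 1 := refl_mul_self Q T₂ h2
  have hi1 : T₁⁻¹ = T₁ := inv_eq_of_mul_eq_one_right hs1
  have hi2 : T₂⁻¹ = T₂ := inv_eq_of_mul_eq_one_right hs2
  have h1iso : T₁ ∈ isoGroup Q := reflSet_subset_isoGroup Q h1
  have h2iso : T₂ ∈ isoGroup Q := reflSet_subset_isoGroup Q h2
  obtain ⟨u, hu, hT₁⟩ := h1
  obtain ⟨v, hv, hT₂⟩ := h2
  have hQu : Q u = 1 := (h01 (Q u)).resolve_left hu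
  have hQv : Q v = 1 := (h01 (Q v)).resolve_left hv
  obtain ⟨hA0, hA⟩ := conj_mem_reflSet Q T₁ T₂ h1iso v hv hT₂
  obtain ⟨hB0, hB⟩ := conj_mem_reflSet Q T₂ T₁ h2iso u hu hT₁
  rw [hi1] at hA
  rw [hi2] at hB
  have hT₁v : T₁ v = v + pol (⇑Q) u v • u := by
    rw [hT₁, reflLin_apply_two, hQu, inv_one, one_mul]
  have hT₂u : T₂ u = u + pol (⇑Q) v u • v := by
    rw [hT₂, reflLin_apply_two, hQv, inv_one, one_mul]
  rcases h01 (pol (⇑Q) u v) with h0 | h0
  · left
    have hAT : T₁ * T₂ * T₁ = T₂ := by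
      apply LinearEquiv.ext
      intro z
      rw [hA, hT₁v, h0, zero_smul, add_zero, hT₂]
    calc (T₁ * T₂) ^ 2 = (T₁ * T₂ * T₁) * T₂ := by rw [pow_two]; simp only [mul_assoc]
      _ = 1 := by rw [hAT, hs2]
  · right
    have h0' : pol (⇑Q) v u = 1 := by rw [QuadraticMap.polar_comm]; exact h0
    have hAB : T₁ * T₂ * T₁ = T₂ * T₁ * T₂ := by
      apply LinearEquiv.ext
      intro z
      rw [hA, hB, hT₁v, hT₂u, h0, h0', one_smul, one_smul, add_comm]
    have hAA : (T₁ * T₂ * T₁) * (T₁ * T₂ * T₁) = 1 :=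
      refl_mul_self Q _ ⟨T₁ v, hA0, hA⟩
    calc (T₁ * T₂) ^ 3 = (T₁ * T₂ * T₁) * (T₂ * T₁ * T₂) := by
          rw [pow_succ, pow_two]; simp only [mul_assoc]
      _ = 1 := by rw [← hAB, hAA]

/-- **The reflections of an orthogonal group over `𝔽₂` form a class of 3-transpositions.** -/
theorem isThreeTranspositionClass_refl [Nontrivial V] (Q : QuadraticForm F V)
    (hQ : (QuadraticMap.polarBilin Q).Nondegenerate) (h01 : ∀ a : F, a = 0 ∨ a = 1)
    (hdim : Module.finrank F V ≠ 4) :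
    Cfsg.IsThreeTranspositionClass {T : ↥(isoGroup Q) | (T : V ≃ₗ[F] V) ∈ reflSet Q} := by
  have hF : (∀ a b : F, ∃ x : F, x ≠ a ∧ x ≠ b) ∨ Module.finrank F V ≠ 4 := Or.inr hdim
  have hsq : ∀ a : F, IsSquare a := by
    intro a
    rcases h01 a with rfl | rfl
    · exact ⟨0, by ring⟩
    · exact ⟨1, by ring⟩
  have hH : isoGroup Q = reflGroup Q :=
    le_antisymm (fun g hg => isometry_mem_reflGroup Q hQ hF g hg) (reflGroup_le_isoGroup Q)
  refine ⟨⟨?_, ?_⟩, ?_, ?_⟩
  · -- order two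
    intro T hT
    have hT' : (T : V ≃ₗ[F] V) ∈ reflSet Q := hT
    have : Fact (Nat.Prime 2) := ⟨Nat.prime_two⟩
    apply orderOf_eq_prime
    · apply Subtype.ext
      rw [pow_two]
      exact refl_mul_self Q _ hT'
    · intro h1
      have hd := dick_refl Q hQ _ hT'
      rw [h1, Subgroup.coe_one, dick_one] at hd
      revert hd
      decide
  · intro d hd e he
    rcases refl_mul_pow Q h01 _ _ hd he with h | h
    · left
      apply Subtype.ext
      exact h
    · right
      apply Subtype.ext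
      exact h
  · obtain ⟨v, hv⟩ := exists_Q_ne_zero Q hQ
    set d₀ : ↥(isoGroup Q) := ⟨reflEquiv Q v hv, reflSet_subset_isoGroup Q (reflEquiv_mem Q v hv)⟩
      with hd₀
    refine ⟨d₀, reflEquiv_mem Q v hv, ?_⟩
    ext T
    change _ ↔ IsConj d₀ T
    rw [isConj_iff]
    constructor
    · intro hT
      obtain ⟨S, hS, hTS⟩ := refl_conj Q hQ hF hsq _ _ (reflEquiv_mem Q v hv) hT
      refine ⟨⟨S, reflGroup_le_isoGroup Q hS⟩, ?_⟩
      apply Subtype.ext
      exact hTS.symm
    · rintro ⟨c, rfl⟩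
      obtain ⟨h0, h⟩ := conj_mem_reflSet Q (c : V ≃ₗ[F] V) (reflEquiv Q v hv) c.2 v hv
        (fun z => rfl)
      exact ⟨_, h0, h⟩
  · exact closure_refl_eq_top_aux Q (isoGroup Q) hH

end F2

/-- Transport of a class of 3-transpositions along a group isomorphism. -/
theorem isThreeTranspositionClass_of_equiv {G G' : Type*} [Group G] [Group G'] (e : G ≃* G')
    (D : Set G) (D' : Set G') (h : ∀ g, g ∈ D ↔ e g ∈ D')
    (hD' : Cfsg.IsThreeTranspositionClass D') : Cfsg.IsThreeTranspositionClass D := by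
  obtain ⟨⟨ho, hp⟩, ⟨d', hd', hconj⟩, hgen⟩ := hD'
  refine ⟨⟨?_, ?_⟩, ?_, ?_⟩
  · intro d hd
    rw [← MulEquiv.orderOf_eq e d]
    exact ho _ ((h d).1 hd)
  · intro d hd x hx
    rcases hp _ ((h d).1 hd) _ ((h x).1 hx) with h2 | h3
    · left
      apply e.injective
      rw [map_pow, map_mul, map_one]
      exact h2
    · right
      apply e.injective
      rw [map_pow, map_mul, map_one]
      exact h3
  · refine ⟨e.symm d', (h _).2 (by rw [MulEquiv.apply_symm_apply]; exact hd'), ?_⟩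
    ext g
    rw [h g, hconj]
    change IsConj d' (e g) ↔ IsConj (e.symm d') g
    rw [isConj_iff, isConj_iff]
    constructor
    · rintro ⟨c, hc⟩
      refine ⟨e.symm c, ?_⟩
      apply e.injective
      rw [map_mul, map_mul, map_inv, MulEquiv.apply_symm_apply, MulEquiv.apply_symm_apply]
      exact hc
    · rintro ⟨c, hc⟩
      refine ⟨e c, ?_⟩
      rw [← hc, map_mul, map_mul, map_inv, MulEquiv.apply_symm_apply]
  · have hDD' : D = e ⁻¹' D' := by
      ext g
      exact h g
    have : Subgroup.closure D = (Subgroup.closure D').comap e.toMonoidHom := by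
      rw [hDD']
      apply le_antisymm
      · rw [Subgroup.closure_le]
        intro g hg
        exact Subgroup.subset_closure hg
      · intro g hg
        have hg' : e g ∈ Subgroup.closure D' := hg
        have hmap : Subgroup.closure D' ≤ (Subgroup.closure (e ⁻¹' D')).map e.toMonoidHom := by
          rw [Subgroup.closure_le]
          intro x hx
          refine ⟨e.symm x, Subgroup.subset_closure ?_, e.apply_symm_apply x⟩
          change e (e.symm x) ∈ D'
          rw [MulEquiv.apply_symm_apply]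
          exact hx
        obtain ⟨y, hy, hyg⟩ := hmap hg'
        have : y = g := e.injective hyg
        rw [← this]
        exact hy
    rw [this, hgen]
    rfl

end Cfsg.Agent.Lib.Helper36
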