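import Mathlib
import Cfsg.Agent.Lib.Helper36.DicksonAbs
import Cfsg.Agent.Lib.Helper36.ThreeTransp

set_option autoImplicit false

/-!
# Orthogonal sums: extending isometries of a summand by the identity

`V` is identified with `V₁ × V₂` by `e`, and `Q v = Q₁ (e v).1 + Q₂ (e v).2`.
-/

namespace Cfsg.Agent.Lib.Helper36

open Module

variable {F V V₁ V₂ : Type*} [Field F] [AddCommGroup V] [Module F V]
  [AddCommGroup V₁] [Module F V₁] [AddCommGroup V₂] [Module F V₂]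

local notation "pol" => QuadraticMap.polar

/-- `g ⊕ 1` on `V ≅ V₁ × V₂`. -/
def inlE (e : V ≃ₗ[F] V₁ × V₂) (g : V₁ ≃ₗ[F] V₁) : V ≃ₗ[F] V :=
  (e.trans (g.prodCongr (LinearEquiv.refl F V₂))).trans e.symm

/-- `1 ⊕ g` on `V ≅ V₁ × V₂`. -/
def inrE (e : V ≃ₗ[F] V₁ × V₂) (g : V₂ ≃ₗ[F] V₂) : V ≃ₗ[F] V :=
  (e.trans ((LinearEquiv.refl F V₁).prodCongr g)).trans e.symm

theorem inlE_apply (e : V ≃ₗ[F] V₁ × V₂) (g : V₁ ≃ₗ[F] V₁) (v : V) :
    inlE e g v = e.symm (g (e v).1, (e v).2) := rfl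

theorem inrE_apply (e : V ≃ₗ[F] V₁ × V₂) (g : V₂ ≃ₗ[F] V₂) (v : V) :
    inrE e g v = e.symm ((e v).1, g (e v).2) := rfl

theorem e_inlE (e : V ≃ₗ[F] V₁ × V₂) (g : V₁ ≃ₗ[F] V₁) (v : V) :
    e (inlE e g v) = (g (e v).1, (e v).2) := by
  rw [inlE_apply, LinearEquiv.apply_symm_apply]

theorem e_inrE (e : V ≃ₗ[F] V₁ × V₂) (g : V₂ ≃ₗ[F] V₂) (v : V) :
    e (inrE e g v) = ((e v).1, g (e v).2) := by
  rw [inrE_apply, LinearEquiv.apply_symm_apply]

/-- `g ↦ g ⊕ 1` as a group homomorphism. -/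
def inlHom (e : V ≃ₗ[F] V₁ × V₂) : (V₁ ≃ₗ[F] V₁) →* (V ≃ₗ[F] V) where
  toFun := inlE e
  map_one' := by
    apply LinearEquiv.ext
    intro v
    rw [inlE_apply]
    change e.symm ((e v).1, (e v).2) = v
    exact e.symm_apply_apply v
  map_mul' := by
    intro a b
    apply LinearEquiv.ext
    intro v
    rw [LinearEquiv.mul_apply, inlE_apply, inlE_apply, e_inlE]
    rfl

/-- `g ↦ 1 ⊕ g` as a group homomorphism. -/
def inrHom (e : V ≃ₗ[F] V₁ × V₂) : (V₂ ≃ₗ[F] V₂) →* (V ≃ₗ[F] V) where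
  toFun := inrE e
  map_one' := by
    apply LinearEquiv.ext
    intro v
    rw [inrE_apply]
    change e.symm ((e v).1, (e v).2) = v
    exact e.symm_apply_apply v
  map_mul' := by
    intro a b
    apply LinearEquiv.ext
    intro v
    rw [LinearEquiv.mul_apply, inrE_apply, inrE_apply, e_inrE]
    rfl

theorem inlHom_apply (e : V ≃ₗ[F] V₁ × V₂) (g : V₁ ≃ₗ[F] V₁) : inlHom e g = inlE e g := rfl

theorem inrHom_apply (e : V ≃ₗ[F] V₁ × V₂) (g : V₂ ≃ₗ[F] V₂) : inrHom e g = inrE e g := rfl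

section Forms

variable (e : V ≃ₗ[F] V₁ × V₂) (Q : QuadraticForm F V) (Q₁ : QuadraticForm F V₁)
  (Q₂ : QuadraticForm F V₂) (hQe : ∀ v, Q v = Q₁ (e v).1 + Q₂ (e v).2)

include hQe

theorem polar_sum (x y : V) :
    pol (⇑Q) x y = pol (⇑Q₁) (e x).1 (e y).1 + pol (⇑Q₂) (e x).2 (e y).2 := by
  unfold QuadraticMap.polar
  rw [hQe, hQe, hQe, map_add]
  simp only [Prod.fst_add, Prod.snd_add]
  ring

theorem Q_symm_inl (v : V₁) : Q (e.symm (v, 0)) = Q₁ v := by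
  rw [hQe, LinearEquiv.apply_symm_apply]
  simp

theorem Q_symm_inr (v : V₂) : Q (e.symm (0, v)) = Q₂ v := by
  rw [hQe, LinearEquiv.apply_symm_apply]
  simp

/-- The orthogonal sum of two forms with non-degenerate polar forms has non-degenerate polar
form. -/
theorem sum_nondeg (h₁ : (QuadraticMap.polarBilin Q₁).Nondegenerate)
    (h₂ : (QuadraticMap.polarBilin Q₂).Nondegenerate) :
    (QuadraticMap.polarBilin Q).Nondegenerate := by
  have hleft : ∀ x : V, (∀ y, pol (⇑Q) x y = 0) → x = 0 := by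
    intro x hx
    have h1 : (e x).1 = 0 := by
      apply h₁.1
      intro y₁
      have := hx (e.symm (y₁, 0))
      rw [polar_sum e Q Q₁ Q₂ hQe, LinearEquiv.apply_symm_apply] at this
      simpa using this
    have h2 : (e x).2 = 0 := by
      apply h₂.1
      intro y₂
      have := hx (e.symm (0, y₂))
      rw [polar_sum e Q Q₁ Q₂ hQe, LinearEquiv.apply_symm_apply] at this
      simpa using this
    apply e.injective
    rw [map_zero]
    exact Prod.ext h1 h2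
  constructor
  · intro x hx
    exact hleft x hx
  · intro y hy
    apply hleft y
    intro x
    rw [QuadraticMap.polar_comm]
    exact hy x

theorem inlE_mem_isoGroup (g : V₁ ≃ₗ[F] V₁) (hg : g ∈ isoGroup Q₁) : inlE e g ∈ isoGroup Q := by
  intro v
  rw [hQe, e_inlE, hQe v]
  change Q₁ (g (e v).1) + _ = _
  rw [hg]

theorem inrE_mem_isoGroup (g : V₂ ≃ₗ[F] V₂) (hg : g ∈ isoGroup Q₂) : inrE e g ∈ isoGroup Q := by
  intro v
  rw [hQe, e_inrE, hQe v]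
  change _ + Q₂ (g (e v).2) = _
  rw [hg]

open Cfsg.Agent.Lib.Helper13 in
theorem inlE_mem_reflSet (T : V₁ ≃ₗ[F] V₁) (hT : T ∈ reflSet Q₁) : inlE e T ∈ reflSet Q := by
  obtain ⟨v, hv, hTv⟩ := hT
  refine ⟨e.symm (v, 0), by rw [Q_symm_inl e Q Q₁ Q₂ hQe]; exact hv, fun z => ?_⟩
  apply e.injective
  rw [e_inlE, reflLin_apply, map_sub, map_smul, LinearEquiv.apply_symm_apply,
    Q_symm_inl e Q Q₁ Q₂ hQe, polar_sum e Q Q₁ Q₂ hQe, LinearEquiv.apply_symm_apply, hTv,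
    reflLin_apply]
  ext
  · simp
  · simp

open Cfsg.Agent.Lib.Helper13 in
theorem inrE_mem_reflSet (T : V₂ ≃ₗ[F] V₂) (hT : T ∈ reflSet Q₂) : inrE e T ∈ reflSet Q := by
  obtain ⟨v, hv, hTv⟩ := hT
  refine ⟨e.symm (0, v), by rw [Q_symm_inr e Q Q₁ Q₂ hQe]; exact hv, fun z => ?_⟩
  apply e.injective
  rw [e_inrE, reflLin_apply, map_sub, map_smul, LinearEquiv.apply_symm_apply,
    Q_symm_inr e Q Q₁ Q₂ hQe, polar_sum e Q Q₁ Q₂ hQe, LinearEquiv.apply_symm_apply, hTv,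
    reflLin_apply]
  ext
  · simp
  · simp

/-- `g ↦ g ⊕ 1` on isometry groups. -/
def inlIso : ↥(isoGroup Q₁) →* ↥(isoGroup Q) where
  toFun g := ⟨inlE e g, inlE_mem_isoGroup e Q Q₁ Q₂ hQe g g.2⟩
  map_one' := by
    apply Subtype.ext
    exact map_one (inlHom e)
  map_mul' := by
    intro a b
    apply Subtype.ext
    exact map_mul (inlHom e) (a : V₁ ≃ₗ[F] V₁) (b : V₁ ≃ₗ[F] V₁)

/-- `g ↦ 1 ⊕ g` on isometry groups. -/
def inrIso : ↥(isoGroup Q₂) →* ↥(isoGroup Q) where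
  toFun g := ⟨inrE e g, inrE_mem_isoGroup e Q Q₁ Q₂ hQe g g.2⟩
  map_one' := by
    apply Subtype.ext
    exact map_one (inrHom e)
  map_mul' := by
    intro a b
    apply Subtype.ext
    exact map_mul (inrHom e) (a : V₂ ≃ₗ[F] V₂) (b : V₂ ≃ₗ[F] V₂)

end Forms

/-- The rank of `(g ⊕ 1) - 1` is the rank of `g - 1`. -/
theorem finrank_range_inlE (e : V ≃ₗ[F] V₁ × V₂) (g : V₁ ≃ₗ[F] V₁) :
    finrank F (LinearMap.range (((inlE e g : V ≃ₗ[F] V) : V →ₗ[F] V) - LinearMap.id)) =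
      finrank F (LinearMap.range ((g : V₁ →ₗ[F] V₁) - LinearMap.id)) := by
  set ι : V₁ →ₗ[F] V := (e.symm : V₁ × V₂ →ₗ[F] V) ∘ₗ LinearMap.inl F V₁ V₂ with hι
  have hιinj : Function.Injective ι := by
    intro a b hab
    have := e.symm.injective hab
    exact (Prod.ext_iff.mp this).1
  have hrange : LinearMap.range (((inlE e g : V ≃ₗ[F] V) : V →ₗ[F] V) - LinearMap.id) =
      (LinearMap.range ((g : V₁ →ₗ[F] V₁) - LinearMap.id)).map ι := by
    ext x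
    constructor
    · rintro ⟨z, rfl⟩
      refine ⟨g (e z).1 - (e z).1, ⟨(e z).1, rfl⟩, ?_⟩
      apply e.injective
      simp only [hι, LinearMap.comp_apply, LinearEquiv.coe_coe, LinearEquiv.apply_symm_apply,
        LinearMap.sub_apply, LinearMap.id_apply, map_sub, e_inlE, LinearMap.inl_apply]
      ext <;> simp
    · rintro ⟨_, ⟨z₁, rfl⟩, rfl⟩
      refine ⟨e.symm (z₁, 0), ?_⟩
      apply e.injective
      simp only [hι, LinearMap.comp_apply, LinearEquiv.coe_coe, LinearEquiv.apply_symm_apply,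
        LinearMap.sub_apply, LinearMap.id_apply, map_sub, e_inlE, LinearMap.inl_apply]
  rw [hrange]
  exact (Submodule.equivMapOfInjective ι hιinj _).finrank_eq.symm

/-- The rank of `(1 ⊕ g) - 1` is the rank of `g - 1`. -/
theorem finrank_range_inrE (e : V ≃ₗ[F] V₁ × V₂) (g : V₂ ≃ₗ[F] V₂) :
    finrank F (LinearMap.range (((inrE e g : V ≃ₗ[F] V) : V →ₗ[F] V) - LinearMap.id)) =
      finrank F (LinearMap.range ((g : V₂ →ₗ[F] V₂) - LinearMap.id)) := by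
  set ι : V₂ →ₗ[F] V := (e.symm : V₁ × V₂ →ₗ[F] V) ∘ₗ LinearMap.inr F V₁ V₂ with hι
  have hιinj : Function.Injective ι := by
    intro a b hab
    have := e.symm.injective hab
    exact (Prod.ext_iff.mp this).2
  have hrange : LinearMap.range (((inrE e g : V ≃ₗ[F] V) : V →ₗ[F] V) - LinearMap.id) =
      (LinearMap.range ((g : V₂ →ₗ[F] V₂) - LinearMap.id)).map ι := by
    ext x
    constructor
    · rintro ⟨z, rfl⟩
      refine ⟨g (e z).2 - (e z).2, ⟨(e z).2, rfl⟩, ?_⟩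
      apply e.injective
      simp only [hι, LinearMap.comp_apply, LinearEquiv.coe_coe, LinearEquiv.apply_symm_apply,
        LinearMap.sub_apply, LinearMap.id_apply, map_sub, e_inrE, LinearMap.inr_apply]
      ext <;> simp
    · rintro ⟨_, ⟨z₂, rfl⟩, rfl⟩
      refine ⟨e.symm (0, z₂), ?_⟩
      apply e.injective
      simp only [hι, LinearMap.comp_apply, LinearEquiv.coe_coe, LinearEquiv.apply_symm_apply,
        LinearMap.sub_apply, LinearMap.id_apply, map_sub, e_inrE, LinearMap.inr_apply]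
  rw [hrange]
  exact (Submodule.equivMapOfInjective ι hιinj _).finrank_eq.symm

theorem dick_inlE (e : V ≃ₗ[F] V₁ × V₂) (g : V₁ ≃ₗ[F] V₁) : dick (inlE e g) = dick g := by
  unfold dick
  rw [finrank_range_inlE]

theorem dick_inrE (e : V ≃ₗ[F] V₁ × V₂) (g : V₂ ≃ₗ[F] V₂) : dick (inrE e g) = dick g := by
  unfold dick
  rw [finrank_range_inrE]

/-- A group homomorphism maps the commutator subgroup into the commutator subgroup. -/
theorem map_mem_commutator {G G' : Type*} [Group G] [Group G'] (f : G →* G') {x : G}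
    (hx : x ∈ commutator G) : f x ∈ commutator G' := by
  have h1 : (commutator G).map f ≤ commutator G' := by
    rw [commutator_def, commutator_def, Subgroup.map_commutator]
    exact Subgroup.commutator_mono le_top le_top
  exact h1 ⟨x, hx, rfl⟩

section CharTwo

variable [CharP F 2] [FiniteDimensional F V] [FiniteDimensional F V₁] [FiniteDimensional F V₂]
  (e : V ≃ₗ[F] V₁ × V₂) (Q : QuadraticForm F V) (Q₁ : QuadraticForm F V₁)
  (Q₂ : QuadraticForm F V₂) (hQe : ∀ v, Q v = Q₁ (e v).1 + Q₂ (e v).2)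

omit [FiniteDimensional F V₂] in
/-- Characteristic two: `g ⊕ 1 ∈ Ω(Q₁ ⊕ Q₂) ↔ g ∈ Ω(Q₁)`. -/
theorem inl_mem_commutator_iff_two (h₁ : (QuadraticMap.polarBilin Q₁).Nondegenerate)
    (h₂ : (QuadraticMap.polarBilin Q₂).Nondegenerate)
    (hF₁ : (∀ a b : F, ∃ x : F, x ≠ a ∧ x ≠ b) ∨ Module.finrank F V₁ ≠ 4)
    (hF : (∀ a b : F, ∃ x : F, x ≠ a ∧ x ≠ b) ∨ Module.finrank F V ≠ 4)
    (hsq : ∀ a : F, IsSquare a) (g : ↥(isoGroup Q₁)) :
    inlIso e Q Q₁ Q₂ hQe g ∈ commutator ↥(isoGroup Q) ↔ g ∈ commutator ↥(isoGroup Q₁) := by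
  rw [mem_commutator_isoGroup_iff Q (sum_nondeg e Q Q₁ Q₂ hQe h₁ h₂) hF hsq,
    mem_commutator_isoGroup_iff Q₁ h₁ hF₁ hsq]
  have key : finrank F (LinearMap.range ((((inlIso e Q Q₁ Q₂ hQe g : ↥(isoGroup Q)) :
      V ≃ₗ[F] V) : V →ₗ[F] V) - LinearMap.id)) =
      finrank F (LinearMap.range (((g : V₁ ≃ₗ[F] V₁) : V₁ →ₗ[F] V₁) - LinearMap.id)) :=
    finrank_range_inlE e (g : V₁ ≃ₗ[F] V₁)
  rw [key]

omit [FiniteDimensional F V₁] [FiniteDimensional F V₂] in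
/-- Characteristic two: `g₁ ⊕ g₂ ∈ Ω(Q₁ ⊕ Q₂)` when `g₁ - 1` and `g₂ - 1` have ranks of the same
parity. -/
theorem inl_mul_inr_mem_commutator_two (h₁ : (QuadraticMap.polarBilin Q₁).Nondegenerate)
    (h₂ : (QuadraticMap.polarBilin Q₂).Nondegenerate)
    (hF : (∀ a b : F, ∃ x : F, x ≠ a ∧ x ≠ b) ∨ Module.finrank F V ≠ 4)
    (hsq : ∀ a : F, IsSquare a) (g₁ : ↥(isoGroup Q₁)) (g₂ : ↥(isoGroup Q₂))
    (hpar : dick (g₁ : V₁ ≃ₗ[F] V₁) = dick (g₂ : V₂ ≃ₗ[F] V₂)) :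
    inlIso e Q Q₁ Q₂ hQe g₁ * inrIso e Q Q₁ Q₂ hQe g₂ ∈ commutator ↥(isoGroup Q) := by
  have hQ := sum_nondeg e Q Q₁ Q₂ hQe h₁ h₂
  rw [mem_commutator_isoGroup_iff Q hQ hF hsq]
  apply ZMod.natCast_eq_zero_iff_even.mp
  change dick (inlE e (g₁ : V₁ ≃ₗ[F] V₁) * inrE e (g₂ : V₂ ≃ₗ[F] V₂)) = 0
  rw [dick_mul Q hQ _ (Cfsg.Agent.Lib.Helper13.isometry_mem_reflGroup Q hQ hF _
    (inrE_mem_isoGroup e Q Q₁ Q₂ hQe _ g₂.2)) _ (inlE_mem_isoGroup e Q Q₁ Q₂ hQe _ g₁.2),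
    dick_inlE, dick_inrE, hpar]
  exact zmod2_add_self _

end CharTwo

end Cfsg.Agent.Lib.Helper36
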