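import Mathlib
import Cfsg.Agent.Lib.Helper13.SpinorIndex
import Cfsg.Agent.Lib.Helper36.OrthSum

set_option autoImplicit false
set_option linter.unusedSectionVars false

/-!
# Orthogonal sums in odd characteristic: parity and spinor norm of `g ⊕ 1`

Uses helper13's `par`, `spin` and `commutator_isoGroup_eq_ker`.
-/

namespace Cfsg.Agent.Lib.Helper36

open Module

variable {F V V₁ V₂ : Type*} [Field F] [Fintype F] [DecidableEq F] [AddCommGroup V] [Module F V]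
  [AddCommGroup V₁] [Module F V₁] [AddCommGroup V₂] [Module F V₂]
  [FiniteDimensional F V] [FiniteDimensional F V₁] [FiniteDimensional F V₂]

local notation "pol" => QuadraticMap.polar

section Forms

variable (e : V ≃ₗ[F] V₁ × V₂) (Q : QuadraticForm F V) (Q₁ : QuadraticForm F V₁)
  (Q₂ : QuadraticForm F V₂) (hQe : ∀ v, Q v = Q₁ (e v).1 + Q₂ (e v).2)

include hQe

omit [Fintype F] [DecidableEq F] [FiniteDimensional F V] [FiniteDimensional F V₁]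
  [FiniteDimensional F V₂] in
theorem inlE_refl_apply (v : V₁) (T : V₁ ≃ₗ[F] V₁)
    (hTv : ∀ z, T z = Cfsg.Agent.Lib.Helper13.reflLin Q₁ v z) (z : V) :
    inlE e T z = Cfsg.Agent.Lib.Helper13.reflLin Q (e.symm (v, 0)) z := by
  apply e.injective
  rw [e_inlE, Cfsg.Agent.Lib.Helper13.reflLin_apply, map_sub, map_smul,
    LinearEquiv.apply_symm_apply, Q_symm_inl e Q Q₁ Q₂ hQe, polar_sum e Q Q₁ Q₂ hQe,
    LinearEquiv.apply_symm_apply, hTv, Cfsg.Agent.Lib.Helper13.reflLin_apply]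
  ext
  · simp
  · simp

omit [Fintype F] [DecidableEq F] [FiniteDimensional F V] [FiniteDimensional F V₁]
  [FiniteDimensional F V₂] in
theorem inrE_refl_apply (v : V₂) (T : V₂ ≃ₗ[F] V₂)
    (hTv : ∀ z, T z = Cfsg.Agent.Lib.Helper13.reflLin Q₂ v z) (z : V) :
    inrE e T z = Cfsg.Agent.Lib.Helper13.reflLin Q (e.symm (0, v)) z := by
  apply e.injective
  rw [e_inrE, Cfsg.Agent.Lib.Helper13.reflLin_apply, map_sub, map_smul,
    LinearEquiv.apply_symm_apply, Q_symm_inr e Q Q₁ Q₂ hQe, polar_sum e Q Q₁ Q₂ hQe,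
    LinearEquiv.apply_symm_apply, hTv, Cfsg.Agent.Lib.Helper13.reflLin_apply]
  ext
  · simp
  · simp

/-- Parity and spinor norm of `x ⊕ 1` agree with those of `x` (for products of reflections). -/
theorem inv_inlE (hQ : (QuadraticMap.polarBilin Q).Nondegenerate)
    (h₁ : (QuadraticMap.polarBilin Q₁).Nondegenerate) (x : V₁ ≃ₗ[F] V₁)
    (hx : x ∈ Cfsg.Agent.Lib.Helper13.reflGroup Q₁) :
    Cfsg.Agent.Lib.Helper13.par (inlE e x) = Cfsg.Agent.Lib.Helper13.par x ∧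
      Cfsg.Agent.Lib.Helper13.spin Q (inlE e x) = Cfsg.Agent.Lib.Helper13.spin Q₁ x := by
  have step : ∀ T ∈ Cfsg.Agent.Lib.Helper13.reflSet Q₁, ∀ y : V₁ ≃ₗ[F] V₁,
      y ∈ Cfsg.Agent.Lib.Helper13.isoGroup Q₁ →
      (Cfsg.Agent.Lib.Helper13.par (inlE e y) = Cfsg.Agent.Lib.Helper13.par y ∧
        Cfsg.Agent.Lib.Helper13.spin Q (inlE e y) = Cfsg.Agent.Lib.Helper13.spin Q₁ y) →
      (Cfsg.Agent.Lib.Helper13.par (inlE e (T * y)) = Cfsg.Agent.Lib.Helper13.par (T * y) ∧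
        Cfsg.Agent.Lib.Helper13.spin Q (inlE e (T * y)) =
          Cfsg.Agent.Lib.Helper13.spin Q₁ (T * y)) := by
    intro T hT y hy ih
    have hTset : inlE e T ∈ Cfsg.Agent.Lib.Helper13.reflSet Q := inlE_mem_reflSet e Q Q₁ Q₂ hQe T hT
    obtain ⟨v, hv, hTv⟩ := hT
    have hmul : inlE e (T * y) = inlE e T * inlE e y := map_mul (inlHom e) T y
    have hyi : inlE e y ∈ Cfsg.Agent.Lib.Helper13.isoGroup Q :=
      inlE_mem_isoGroup e Q Q₁ Q₂ hQe y hy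
    have hQv : Q (e.symm (v, 0)) ≠ 0 := by
      rw [Q_symm_inl e Q Q₁ Q₂ hQe]
      exact hv
    rw [hmul]
    constructor
    · rw [Cfsg.Agent.Lib.Helper13.par_refl_mul Q hQ _ hyi _ hTset,
        Cfsg.Agent.Lib.Helper13.par_refl_mul Q₁ h₁ y hy T ⟨v, hv, hTv⟩, ih.1]
    · rw [Cfsg.Agent.Lib.Helper13.spin_refl_mul Q hQ _ hyi (e.symm (v, 0)) hQv (inlE e T)
          (inlE_refl_apply e Q Q₁ Q₂ hQe v T hTv),
        Cfsg.Agent.Lib.Helper13.spin_refl_mul Q₁ h₁ y hy v hv T hTv, ih.2,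
        Q_symm_inl e Q Q₁ Q₂ hQe]
  unfold Cfsg.Agent.Lib.Helper13.reflGroup at hx
  induction hx using Subgroup.closure_induction_left with
  | one =>
    have h1 : inlE e (1 : V₁ ≃ₗ[F] V₁) = 1 := map_one (inlHom e)
    rw [h1, Cfsg.Agent.Lib.Helper13.par_one, Cfsg.Agent.Lib.Helper13.par_one,
      Cfsg.Agent.Lib.Helper13.spin_one, Cfsg.Agent.Lib.Helper13.spin_one]
    exact ⟨rfl, rfl⟩
  | mul_left T hT y hy ih =>
    exact step T hT y (Cfsg.Agent.Lib.Helper13.reflGroup_le_isoGroup Q₁ hy) ih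
  | inv_mul_cancel T hT y hy ih =>
    have hinv : T⁻¹ = T := inv_eq_of_mul_eq_one_right (refl_mul_self Q₁ T hT)
    rw [hinv]
    exact step T hT y (Cfsg.Agent.Lib.Helper13.reflGroup_le_isoGroup Q₁ hy) ih

/-- Parity and spinor norm of `1 ⊕ x` agree with those of `x` (for products of reflections). -/
theorem inv_inrE (hQ : (QuadraticMap.polarBilin Q).Nondegenerate)
    (h₂ : (QuadraticMap.polarBilin Q₂).Nondegenerate) (x : V₂ ≃ₗ[F] V₂)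
    (hx : x ∈ Cfsg.Agent.Lib.Helper13.reflGroup Q₂) :
    Cfsg.Agent.Lib.Helper13.par (inrE e x) = Cfsg.Agent.Lib.Helper13.par x ∧
      Cfsg.Agent.Lib.Helper13.spin Q (inrE e x) = Cfsg.Agent.Lib.Helper13.spin Q₂ x := by
  have step : ∀ T ∈ Cfsg.Agent.Lib.Helper13.reflSet Q₂, ∀ y : V₂ ≃ₗ[F] V₂,
      y ∈ Cfsg.Agent.Lib.Helper13.isoGroup Q₂ →
      (Cfsg.Agent.Lib.Helper13.par (inrE e y) = Cfsg.Agent.Lib.Helper13.par y ∧
        Cfsg.Agent.Lib.Helper13.spin Q (inrE e y) = Cfsg.Agent.Lib.Helper13.spin Q₂ y) →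
      (Cfsg.Agent.Lib.Helper13.par (inrE e (T * y)) = Cfsg.Agent.Lib.Helper13.par (T * y) ∧
        Cfsg.Agent.Lib.Helper13.spin Q (inrE e (T * y)) =
          Cfsg.Agent.Lib.Helper13.spin Q₂ (T * y)) := by
    intro T hT y hy ih
    have hTset : inrE e T ∈ Cfsg.Agent.Lib.Helper13.reflSet Q := inrE_mem_reflSet e Q Q₁ Q₂ hQe T hT
    obtain ⟨v, hv, hTv⟩ := hT
    have hmul : inrE e (T * y) = inrE e T * inrE e y := map_mul (inrHom e) T y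
    have hyi : inrE e y ∈ Cfsg.Agent.Lib.Helper13.isoGroup Q :=
      inrE_mem_isoGroup e Q Q₁ Q₂ hQe y hy
    have hQv : Q (e.symm (0, v)) ≠ 0 := by
      rw [Q_symm_inr e Q Q₁ Q₂ hQe]
      exact hv
    rw [hmul]
    constructor
    · rw [Cfsg.Agent.Lib.Helper13.par_refl_mul Q hQ _ hyi _ hTset,
        Cfsg.Agent.Lib.Helper13.par_refl_mul Q₂ h₂ y hy T ⟨v, hv, hTv⟩, ih.1]
    · rw [Cfsg.Agent.Lib.Helper13.spin_refl_mul Q hQ _ hyi (e.symm (0, v)) hQv (inrE e T)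
          (inrE_refl_apply e Q Q₁ Q₂ hQe v T hTv),
        Cfsg.Agent.Lib.Helper13.spin_refl_mul Q₂ h₂ y hy v hv T hTv, ih.2,
        Q_symm_inr e Q Q₁ Q₂ hQe]
  unfold Cfsg.Agent.Lib.Helper13.reflGroup at hx
  induction hx using Subgroup.closure_induction_left with
  | one =>
    have h1 : inrE e (1 : V₂ ≃ₗ[F] V₂) = 1 := map_one (inrHom e)
    rw [h1, Cfsg.Agent.Lib.Helper13.par_one, Cfsg.Agent.Lib.Helper13.par_one,
      Cfsg.Agent.Lib.Helper13.spin_one, Cfsg.Agent.Lib.Helper13.spin_one]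
    exact ⟨rfl, rfl⟩
  | mul_left T hT y hy ih =>
    exact step T hT y (Cfsg.Agent.Lib.Helper13.reflGroup_le_isoGroup Q₂ hy) ih
  | inv_mul_cancel T hT y hy ih =>
    have hinv : T⁻¹ = T := inv_eq_of_mul_eq_one_right (refl_mul_self Q₂ T hT)
    rw [hinv]
    exact step T hT y (Cfsg.Agent.Lib.Helper13.reflGroup_le_isoGroup Q₂ hy) ih

end Forms

/-- Membership in the commutator subgroup via parity and spinor norm (odd characteristic,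
dimension at least two). -/
theorem mem_commutator_iff_par_spin (Q : QuadraticForm F V)
    (hQ : (QuadraticMap.polarBilin Q).Nondegenerate) (h2 : (2 : F) ≠ 0)
    (hdim : 2 ≤ Module.finrank F V) (g : ↥(Cfsg.Agent.Lib.Helper13.isoGroup Q)) :
    g ∈ commutator ↥(Cfsg.Agent.Lib.Helper13.isoGroup Q) ↔
      Cfsg.Agent.Lib.Helper13.par (g : V ≃ₗ[F] V) = 0 ∧
        Cfsg.Agent.Lib.Helper13.spin Q (g : V ≃ₗ[F] V) = 1 := by
  have hF : (∀ a b : F, ∃ x : F, x ≠ a ∧ x ≠ b) ∨ Module.finrank F V ≠ 4 :=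
    Or.inl (Cfsg.Agent.Lib.Helper13.exists_ne_ne_of_two_ne_zero h2)
  obtain ⟨-, hker, -⟩ := Cfsg.Agent.Lib.Helper13.commutator_isoGroup_eq_ker Q hQ h2 hdim hF
  rw [hker, MonoidHom.mem_ker, MonoidHom.prod_apply, Prod.mk_eq_one,
    Cfsg.Agent.Lib.Helper13.parHom_apply]
  constructor
  · rintro ⟨h1, h2'⟩
    refine ⟨h1, ?_⟩
    rw [← Cfsg.Agent.Lib.Helper13.spinHom_coe Q hQ hF g, h2']
    rfl
  · rintro ⟨h1, h2'⟩
    refine ⟨by rw [h1]; rfl, ?_⟩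
    apply Units.ext
    rw [Cfsg.Agent.Lib.Helper13.spinHom_coe Q hQ hF g, h2']
    rfl

/-- Parity and spinor norm vanish on the commutator subgroup (any dimension). -/
theorem par_spin_of_mem_commutator (Q : QuadraticForm F V)
    (hQ : (QuadraticMap.polarBilin Q).Nondegenerate) (h2 : (2 : F) ≠ 0)
    (g : ↥(Cfsg.Agent.Lib.Helper13.isoGroup Q))
    (hg : g ∈ commutator ↥(Cfsg.Agent.Lib.Helper13.isoGroup Q)) :
    Cfsg.Agent.Lib.Helper13.par (g : V ≃ₗ[F] V) = 0 ∧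
      Cfsg.Agent.Lib.Helper13.spin Q (g : V ≃ₗ[F] V) = 1 := by
  have hF : (∀ a b : F, ∃ x : F, x ≠ a ∧ x ≠ b) ∨ Module.finrank F V ≠ 4 :=
    Or.inl (Cfsg.Agent.Lib.Helper13.exists_ne_ne_of_two_ne_zero h2)
  have h := Abelianization.commutator_subset_ker
    ((Cfsg.Agent.Lib.Helper13.parHom Q hQ hF).prod (Cfsg.Agent.Lib.Helper13.spinHom Q hQ hF)) hg
  rw [MonoidHom.mem_ker, MonoidHom.prod_apply, Prod.mk_eq_one,
    Cfsg.Agent.Lib.Helper13.parHom_apply] at h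
  refine ⟨h.1, ?_⟩
  rw [← Cfsg.Agent.Lib.Helper13.spinHom_coe Q hQ hF g, h.2]
  rfl

/-- In dimension at most one, an isometry of even parity is the identity. -/
theorem eq_one_of_par_eq_zero (g : V ≃ₗ[F] V) (hdim : Module.finrank F V < 2)
    (hpar : Cfsg.Agent.Lib.Helper13.par g = 0) : g = 1 := by
  unfold Cfsg.Agent.Lib.Helper13.par at hpar
  rw [← Nat.cast_add, ZMod.natCast_eq_zero_iff_even] at hpar
  have hle : finrank F (Cfsg.Agent.Lib.Helper13.fixSub g) ≤ finrank F V := Submodule.finrank_le _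
  have heq : finrank F (Cfsg.Agent.Lib.Helper13.fixSub g) = finrank F V := by
    obtain ⟨k, hk⟩ := hpar
    omega
  have htop : Cfsg.Agent.Lib.Helper13.fixSub g = ⊤ := Submodule.eq_top_of_finrank_eq heq
  apply LinearEquiv.ext
  intro z
  have hz : z ∈ Cfsg.Agent.Lib.Helper13.fixSub g := by rw [htop]; trivial
  exact (Cfsg.Agent.Lib.Helper13.mem_fixSub g z).mp hz

section Forms2

variable (e : V ≃ₗ[F] V₁ × V₂) (Q : QuadraticForm F V) (Q₁ : QuadraticForm F V₁)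
  (Q₂ : QuadraticForm F V₂) (hQe : ∀ v, Q v = Q₁ (e v).1 + Q₂ (e v).2)

/-- Odd characteristic: `g ⊕ 1 ∈ Ω(Q₁ ⊕ Q₂) ↔ g ∈ Ω(Q₁)`. -/
theorem inl_mem_commutator_iff_odd (h2 : (2 : F) ≠ 0)
    (h₁ : (QuadraticMap.polarBilin Q₁).Nondegenerate)
    (h₂ : (QuadraticMap.polarBilin Q₂).Nondegenerate) (g : ↥(isoGroup Q₁)) :
    inlIso e Q Q₁ Q₂ hQe g ∈ commutator ↥(isoGroup Q) ↔ g ∈ commutator ↥(isoGroup Q₁) := by
  have hQ := sum_nondeg e Q Q₁ Q₂ hQe h₁ h₂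
  have hF₁ : (∀ a b : F, ∃ x : F, x ≠ a ∧ x ≠ b) ∨ Module.finrank F V₁ ≠ 4 :=
    Or.inl (Cfsg.Agent.Lib.Helper13.exists_ne_ne_of_two_ne_zero h2)
  constructor
  · intro hx
    have hx' := par_spin_of_mem_commutator Q hQ h2 (inlIso e Q Q₁ Q₂ hQe g) hx
    have hg' : (g : V₁ ≃ₗ[F] V₁) ∈ Cfsg.Agent.Lib.Helper13.reflGroup Q₁ :=
      Cfsg.Agent.Lib.Helper13.isometry_mem_reflGroup Q₁ h₁ hF₁ _ g.2
    obtain ⟨e1, e2⟩ := inv_inlE e Q Q₁ Q₂ hQe hQ h₁ (g : V₁ ≃ₗ[F] V₁) hg'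
    have hp : Cfsg.Agent.Lib.Helper13.par (g : V₁ ≃ₗ[F] V₁) = 0 := by
      rw [← e1]
      exact hx'.1
    have hs : Cfsg.Agent.Lib.Helper13.spin Q₁ (g : V₁ ≃ₗ[F] V₁) = 1 := by
      rw [← e2]
      exact hx'.2
    by_cases hdim : 2 ≤ Module.finrank F V₁
    · exact (mem_commutator_iff_par_spin Q₁ h₁ h2 hdim g).mpr ⟨hp, hs⟩
    · have h1 : (g : V₁ ≃ₗ[F] V₁) = 1 := eq_one_of_par_eq_zero _ (by omega) hp
      have h1' : g = 1 := Subtype.ext h1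
      rw [h1']
      exact Subgroup.one_mem _
  · intro hg
    exact map_mem_commutator (inlIso e Q Q₁ Q₂ hQe) hg

/-- Odd characteristic: `g₁ ⊕ g₂ ∈ Ω(Q₁ ⊕ Q₂)` when `g₁`, `g₂` have the same parity and spinor
norm. -/
theorem inl_mul_inr_mem_commutator_odd (h2 : (2 : F) ≠ 0)
    (h₁ : (QuadraticMap.polarBilin Q₁).Nondegenerate)
    (h₂ : (QuadraticMap.polarBilin Q₂).Nondegenerate) (g₁ : ↥(isoGroup Q₁)) (g₂ : ↥(isoGroup Q₂))
    (hpar : Cfsg.Agent.Lib.Helper13.par (g₁ : V₁ ≃ₗ[F] V₁) =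
      Cfsg.Agent.Lib.Helper13.par (g₂ : V₂ ≃ₗ[F] V₂))
    (hspin : Cfsg.Agent.Lib.Helper13.spin Q₁ (g₁ : V₁ ≃ₗ[F] V₁) =
      Cfsg.Agent.Lib.Helper13.spin Q₂ (g₂ : V₂ ≃ₗ[F] V₂)) :
    inlIso e Q Q₁ Q₂ hQe g₁ * inrIso e Q Q₁ Q₂ hQe g₂ ∈ commutator ↥(isoGroup Q) := by
  have hQ := sum_nondeg e Q Q₁ Q₂ hQe h₁ h₂
  have hF : (∀ a b : F, ∃ x : F, x ≠ a ∧ x ≠ b) ∨ Module.finrank F V ≠ 4 :=
    Or.inl (Cfsg.Agent.Lib.Helper13.exists_ne_ne_of_two_ne_zero h2)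
  have hF₁ : (∀ a b : F, ∃ x : F, x ≠ a ∧ x ≠ b) ∨ Module.finrank F V₁ ≠ 4 :=
    Or.inl (Cfsg.Agent.Lib.Helper13.exists_ne_ne_of_two_ne_zero h2)
  have hF₂ : (∀ a b : F, ∃ x : F, x ≠ a ∧ x ≠ b) ∨ Module.finrank F V₂ ≠ 4 :=
    Or.inl (Cfsg.Agent.Lib.Helper13.exists_ne_ne_of_two_ne_zero h2)
  have hg₁ : (g₁ : V₁ ≃ₗ[F] V₁) ∈ Cfsg.Agent.Lib.Helper13.reflGroup Q₁ :=
    Cfsg.Agent.Lib.Helper13.isometry_mem_reflGroup Q₁ h₁ hF₁ _ g₁.2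
  have hg₂ : (g₂ : V₂ ≃ₗ[F] V₂) ∈ Cfsg.Agent.Lib.Helper13.reflGroup Q₂ :=
    Cfsg.Agent.Lib.Helper13.isometry_mem_reflGroup Q₂ h₂ hF₂ _ g₂.2
  obtain ⟨a1, a2⟩ := inv_inlE e Q Q₁ Q₂ hQe hQ h₁ _ hg₁
  obtain ⟨b1, b2⟩ := inv_inrE e Q Q₁ Q₂ hQe hQ h₂ _ hg₂
  have hxl : inlE e (g₁ : V₁ ≃ₗ[F] V₁) ∈ Cfsg.Agent.Lib.Helper13.reflGroup Q :=
    Cfsg.Agent.Lib.Helper13.isometry_mem_reflGroup Q hQ hF _
      (inlE_mem_isoGroup e Q Q₁ Q₂ hQe _ g₁.2)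
  have hxr : inrE e (g₂ : V₂ ≃ₗ[F] V₂) ∈ Cfsg.Agent.Lib.Helper13.isoGroup Q :=
    inrE_mem_isoGroup e Q Q₁ Q₂ hQe _ g₂.2
  have hp : Cfsg.Agent.Lib.Helper13.par
      (inlE e (g₁ : V₁ ≃ₗ[F] V₁) * inrE e (g₂ : V₂ ≃ₗ[F] V₂)) = 0 := by
    rw [Cfsg.Agent.Lib.Helper13.par_mul Q hQ _ hxl _ hxr, a1, b1, hpar]
    exact zmod2_add_self _
  have hs : Cfsg.Agent.Lib.Helper13.spin Q
      (inlE e (g₁ : V₁ ≃ₗ[F] V₁) * inrE e (g₂ : V₂ ≃ₗ[F] V₂)) = 1 := by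
    rw [Cfsg.Agent.Lib.Helper13.spin_mul Q hQ _ hxl _ hxr, a2, b2, hspin]
    have hu := Int.units_mul_self (Cfsg.Agent.Lib.Helper13.spinHom Q₂ h₂ hF₂ g₂)
    have hu' : ((Cfsg.Agent.Lib.Helper13.spinHom Q₂ h₂ hF₂ g₂ : ℤˣ) : ℤ) *
        ((Cfsg.Agent.Lib.Helper13.spinHom Q₂ h₂ hF₂ g₂ : ℤˣ) : ℤ) = 1 := by
      rw [← Units.val_mul, hu, Units.val_one]
    exact hu'
  by_cases hdim : 2 ≤ Module.finrank F V
  · exact (mem_commutator_iff_par_spin Q hQ h2 hdim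
      (inlIso e Q Q₁ Q₂ hQe g₁ * inrIso e Q Q₁ Q₂ hQe g₂)).mpr ⟨hp, hs⟩
  · have h1 : inlE e (g₁ : V₁ ≃ₗ[F] V₁) * inrE e (g₂ : V₂ ≃ₗ[F] V₂) = 1 :=
      eq_one_of_par_eq_zero _ (by omega) hp
    have h1' : inlIso e Q Q₁ Q₂ hQe g₁ * inrIso e Q Q₁ Q₂ hQe g₂ = 1 := Subtype.ext h1
    rw [h1']
    exact Subgroup.one_mem _

end Forms2

end Cfsg.Agent.Lib.Helper36
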