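import Mathlib
import Cfsg.Agent.Lib.Helper36.MaxTS
import Cfsg.Agent.Lib.Helper36.OrthSumOdd

set_option autoImplicit false
set_option linter.unusedSectionVars false

/-!
# Transitivity of `Ω` on subspaces: adjusting a Witt isometry by stabiliser elements
-/

namespace Cfsg.Agent.Lib.Helper36

open Module

variable {F V : Type*} [Field F] [AddCommGroup V] [Module F V]

local notation "pol" => QuadraticMap.polar

theorem map_eq_of_map_le [FiniteDimensional F V] (h : V ≃ₗ[F] V) (W : Submodule F V)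
    (hle : W.map (h : V →ₗ[F] V) ≤ W) : W.map (h : V →ₗ[F] V) = W :=
  Submodule.eq_of_le_of_finrank_eq hle (LinearEquiv.finrank_map_eq h W)

theorem map_mul_eq (a b : V ≃ₗ[F] V) (U : Submodule F V) :
    U.map ((a * b : V ≃ₗ[F] V) : V →ₗ[F] V) = (U.map (b : V →ₗ[F] V)).map (a : V →ₗ[F] V) := by
  rw [← Submodule.map_comp]
  rfl

/-- A reflection in a vector orthogonal to `W` fixes `W`. -/
theorem map_refl_of_mem_perp [FiniteDimensional F V] (Q : QuadraticForm F V) (W : Submodule F V)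
    (T : V ≃ₗ[F] V) (u : V) (hu : u ∈ perp Q W)
    (hT : ∀ z, T z = Cfsg.Agent.Lib.Helper13.reflLin Q u z) : W.map (T : V →ₗ[F] V) = W := by
  apply map_eq_of_map_le
  rintro _ ⟨w, hw, rfl⟩
  change T w ∈ W
  have h0 : pol (⇑Q) w u = 0 := hu w hw
  rw [hT, Cfsg.Agent.Lib.Helper13.reflLin_apply, QuadraticMap.polar_comm, h0, mul_zero,
    zero_smul, sub_zero]
  exact hw

/-- A reflection in a vector of `W` stabilises `W`. -/
theorem map_refl_of_mem [FiniteDimensional F V] (Q : QuadraticForm F V) (W : Submodule F V)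
    (T : V ≃ₗ[F] V) (u : V) (hu : u ∈ W)
    (hT : ∀ z, T z = Cfsg.Agent.Lib.Helper13.reflLin Q u z) : W.map (T : V →ₗ[F] V) = W := by
  apply map_eq_of_map_le
  rintro _ ⟨w, hw, rfl⟩
  change T w ∈ W
  rw [hT, Cfsg.Agent.Lib.Helper13.reflLin_apply]
  exact W.sub_mem hw (W.smul_mem _ hu)

/-- A subspace of more than half the dimension contains a non-singular vector. -/
theorem exists_nonsingular_of_finrank [FiniteDimensional F V] (Q : QuadraticForm F V)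
    (hQ : (QuadraticMap.polarBilin Q).Nondegenerate) (W : Submodule F V)
    (hW : finrank F V < 2 * finrank F W) : ∃ u ∈ W, Q u ≠ 0 := by
  by_contra hcon
  push Not at hcon
  have hts : IsTS Q W := hcon
  have := hts.two_mul_finrank_le hQ
  omega

section CharTwo

variable [CharP F 2] [FiniteDimensional F V]

/-- Characteristic two: a Witt isometry `g₀ : U → W` can be corrected into `Ω` when some reflection
stabilises `W`. -/
theorem exists_adjust_two (Q : QuadraticForm F V)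
    (hQ : (QuadraticMap.polarBilin Q).Nondegenerate)
    (hF : (∀ a b : F, ∃ x : F, x ≠ a ∧ x ≠ b) ∨ Module.finrank F V ≠ 4)
    (hsq : ∀ a : F, IsSquare a) (U W : Submodule F V) (T : V ≃ₗ[F] V)
    (hT : T ∈ Cfsg.Agent.Lib.Helper13.reflSet Q) (hTW : W.map (T : V →ₗ[F] V) = W)
    (g₀ : ↥(isoGroup Q)) (hg₀ : U.map ((g₀ : V ≃ₗ[F] V) : V →ₗ[F] V) = W) :
    ∃ g : ↥(isoGroup Q), g ∈ commutator ↥(isoGroup Q) ∧
      U.map ((g : V ≃ₗ[F] V) : V →ₗ[F] V) = W := by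
  by_cases hg : g₀ ∈ commutator ↥(isoGroup Q)
  · exact ⟨g₀, hg, hg₀⟩
  · have hTiso : T ∈ isoGroup Q := reflSet_subset_isoGroup Q hT
    refine ⟨⟨T, hTiso⟩ * g₀, ?_, ?_⟩
    · rw [mem_commutator_isoGroup_iff Q hQ hF hsq] at hg ⊢
      apply ZMod.natCast_eq_zero_iff_even.mp
      change dick (T * (g₀ : V ≃ₗ[F] V)) = 0
      rw [dick_mul Q hQ _ (Cfsg.Agent.Lib.Helper13.isometry_mem_reflGroup Q hQ hF _ g₀.2) T hTiso,
        dick_refl Q hQ T hT]
      have hd : dick (g₀ : V ≃ₗ[F] V) ≠ 0 := fun h0 => hg (ZMod.natCast_eq_zero_iff_even.mp h0)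
      revert hd
      generalize dick (g₀ : V ≃ₗ[F] V) = a
      revert a
      decide
    · change U.map ((T * (g₀ : V ≃ₗ[F] V) : V ≃ₗ[F] V) : V →ₗ[F] V) = W
      rw [map_mul_eq, hg₀, hTW]

end CharTwo

section Odd

variable [Fintype F] [DecidableEq F] [FiniteDimensional F V]

/-- Odd characteristic: a Witt isometry `g₀ : U → W` can be corrected into `Ω` when the stabiliser
of `W` contains an element of odd parity and an element of even parity and spinor norm `-1`. -/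
theorem exists_adjust_odd (Q : QuadraticForm F V)
    (hQ : (QuadraticMap.polarBilin Q).Nondegenerate) (h2 : (2 : F) ≠ 0)
    (hdim : 2 ≤ Module.finrank F V) (U W : Submodule F V) (h₁ h₂ : V ≃ₗ[F] V)
    (hh₁ : h₁ ∈ isoGroup Q) (hh₂ : h₂ ∈ isoGroup Q)
    (hW₁ : W.map (h₁ : V →ₗ[F] V) = W) (hW₂ : W.map (h₂ : V →ₗ[F] V) = W)
    (hp₁ : Cfsg.Agent.Lib.Helper13.par h₁ = 1) (hp₂ : Cfsg.Agent.Lib.Helper13.par h₂ = 0)
    (hs₂ : Cfsg.Agent.Lib.Helper13.spin Q h₂ = -1)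
    (g₀ : ↥(isoGroup Q)) (hg₀ : U.map ((g₀ : V ≃ₗ[F] V) : V →ₗ[F] V) = W) :
    ∃ g : ↥(isoGroup Q), g ∈ commutator ↥(isoGroup Q) ∧
      U.map ((g : V ≃ₗ[F] V) : V →ₗ[F] V) = W := by
  have hF : (∀ a b : F, ∃ x : F, x ≠ a ∧ x ≠ b) ∨ Module.finrank F V ≠ 4 :=
    Or.inl (Cfsg.Agent.Lib.Helper13.exists_ne_ne_of_two_ne_zero h2)
  have hrefl : ∀ x : V ≃ₗ[F] V, x ∈ isoGroup Q → x ∈ Cfsg.Agent.Lib.Helper13.reflGroup Q :=
    fun x hx => Cfsg.Agent.Lib.Helper13.isometry_mem_reflGroup Q hQ hF x hx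
  have hspin_sq : ∀ x : V ≃ₗ[F] V, x ∈ isoGroup Q →
      Cfsg.Agent.Lib.Helper13.spin Q x = 1 ∨ Cfsg.Agent.Lib.Helper13.spin Q x = -1 := by
    intro x hx
    rcases Int.units_eq_one_or (Cfsg.Agent.Lib.Helper13.spinHom Q hQ hF ⟨x, hx⟩) with h | h
    · left
      have := congrArg (fun u : ℤˣ => (u : ℤ)) h
      exact this
    · right
      have := congrArg (fun u : ℤˣ => (u : ℤ)) h
      exact this
  have hpar01 : ∀ a : ZMod 2, a = 0 ∨ a = 1 := by decide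
  -- reduce to even parity
  have key : ∀ x : ↥(isoGroup Q), U.map ((x : V ≃ₗ[F] V) : V →ₗ[F] V) = W →
      Cfsg.Agent.Lib.Helper13.par (x : V ≃ₗ[F] V) = 0 →
      ∃ g : ↥(isoGroup Q), g ∈ commutator ↥(isoGroup Q) ∧
        U.map ((g : V ≃ₗ[F] V) : V →ₗ[F] V) = W := by
    intro x hx hpx
    rcases hspin_sq x x.2 with hs | hs
    · exact ⟨x, (mem_commutator_iff_par_spin Q hQ h2 hdim x).mpr ⟨hpx, hs⟩, hx⟩
    · refine ⟨⟨h₂, hh₂⟩ * x, ?_, ?_⟩
      · apply (mem_commutator_iff_par_spin Q hQ h2 hdim ((⟨h₂, hh₂⟩ : ↥(isoGroup Q)) * x)).mpr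
        constructor
        · change Cfsg.Agent.Lib.Helper13.par (h₂ * (x : V ≃ₗ[F] V)) = 0
          rw [Cfsg.Agent.Lib.Helper13.par_mul Q hQ h₂ (hrefl h₂ hh₂) _ x.2, hp₂, hpx, add_zero]
        · change Cfsg.Agent.Lib.Helper13.spin Q (h₂ * (x : V ≃ₗ[F] V)) = 1
          rw [Cfsg.Agent.Lib.Helper13.spin_mul Q hQ h₂ (hrefl h₂ hh₂) _ x.2, hs₂, hs]
          norm_num
      · change U.map ((h₂ * (x : V ≃ₗ[F] V) : V ≃ₗ[F] V) : V →ₗ[F] V) = W
        rw [map_mul_eq, hx, hW₂]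
  rcases hpar01 (Cfsg.Agent.Lib.Helper13.par (g₀ : V ≃ₗ[F] V)) with hp | hp
  · exact key g₀ hg₀ hp
  · apply key (⟨h₁, hh₁⟩ * g₀)
    · change U.map ((h₁ * (g₀ : V ≃ₗ[F] V) : V ≃ₗ[F] V) : V →ₗ[F] V) = W
      rw [map_mul_eq, hg₀, hW₁]
    · change Cfsg.Agent.Lib.Helper13.par (h₁ * (g₀ : V ≃ₗ[F] V)) = 0
      rw [Cfsg.Agent.Lib.Helper13.par_mul Q hQ h₁ (hrefl h₁ hh₁) _ g₀.2, hp₁, hp]
      decide

end Odd

end Cfsg.Agent.Lib.Helper36
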