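import Mathlib
import Cfsg.Agent.Lib.Helper36.DicksonMatrix
import Cfsg.Agent.Lib.Helper36.DicksonGen

set_option autoImplicit false

/-!
# Matrix forms of the char-2 results on `Ω`: generation by pairs of reflections, transitivity on
non-singular points.
-/

namespace Cfsg.Agent.Lib.Helper36

open Module Matrix Cfsg.Agent.Lib.Helper13

variable {ι : Type} [Fintype ι] [DecidableEq ι] {F : Type*} [Field F]

theorem reflectionMatrix_mulVec_eq_reflLin (Q : QuadraticForm F (ι → F)) (v x : ι → F) :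
    (Cfsg.reflectionMatrix (⇑Q) v) *ᵥ x = reflLin Q v x := by
  rw [reflectionMatrix_mulVec, reflLin_apply]

omit [DecidableEq ι] in
theorem matrix_eq_of_mulVec (A B : Matrix ι ι F) (h : ∀ z, A *ᵥ z = B *ᵥ z) : A = B := by
  classical
  apply Matrix.toLin'.injective
  apply LinearMap.ext
  intro z
  rw [Matrix.toLin'_apply, Matrix.toLin'_apply, h]

theorem isometryGroupEquiv_apply (Q : QuadraticForm F (ι → F))
    (g : ↥(Cfsg.isometryGroup F (⇑Q))) (z : ι → F) :
    ((isometryGroupEquiv Q g : ↥(isoGroup Q)) : (ι → F) ≃ₗ[F] (ι → F)) z =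
      ((g : GL ι F) : Matrix ι ι F) *ᵥ z := rfl

/-- The pair group corresponds to the subgroup generated by products of two reflection
matrices. -/
theorem mem_closure_pairs_iff (Q : QuadraticForm F (ι → F)) (g : ↥(Cfsg.isometryGroup F (⇑Q))) :
    g ∈ Subgroup.closure {g : ↥(Cfsg.isometryGroup F (⇑Q)) | ∃ u v : ι → F, Q u ≠ 0 ∧ Q v ≠ 0 ∧
      ((g : GL ι F) : Matrix ι ι F) = Cfsg.reflectionMatrix (⇑Q) u * Cfsg.reflectionMatrix (⇑Q) v} ↔
    ((isometryGroupEquiv Q g : ↥(isoGroup Q)) : (ι → F) ≃ₗ[F] (ι → F)) ∈ pairGroup Q := by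
  set S : Set ↥(Cfsg.isometryGroup F (⇑Q)) := {g | ∃ u v : ι → F, Q u ≠ 0 ∧ Q v ≠ 0 ∧
      ((g : GL ι F) : Matrix ι ι F) = Cfsg.reflectionMatrix (⇑Q) u * Cfsg.reflectionMatrix (⇑Q) v}
    with hS
  set φ : ↥(Cfsg.isometryGroup F (⇑Q)) →* ((ι → F) ≃ₗ[F] (ι → F)) :=
    (isoGroup Q).subtype.comp (isometryGroupEquiv Q).toMonoidHom with hφ
  have hφinj : Function.Injective φ := by
    intro a b hab
    apply (isometryGroupEquiv Q).injective
    apply Subtype.ext
    exact hab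
  have hmap : (Subgroup.closure S).map φ = pairGroup Q := by
    rw [MonoidHom.map_closure]
    unfold pairGroup
    congr 1
    ext T
    constructor
    · rintro ⟨g, ⟨u, v, hu, hv, hg⟩, rfl⟩
      refine ⟨u, v, hu, hv, fun z => ?_⟩
      change ((isometryGroupEquiv Q g : ↥(isoGroup Q)) : (ι → F) ≃ₗ[F] (ι → F)) z = _
      rw [isometryGroupEquiv_apply, hg, ← Matrix.mulVec_mulVec, reflectionMatrix_mulVec_eq_reflLin,
        reflectionMatrix_mulVec_eq_reflLin]
    · rintro ⟨u, v, hu, hv, hT⟩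
      have hTiso : T ∈ isoGroup Q := by
        intro z
        rw [hT, reflLin_isom Q u hu, reflLin_isom Q v hv]
      refine ⟨(isometryGroupEquiv Q).symm ⟨T, hTiso⟩, ⟨u, v, hu, hv, ?_⟩, ?_⟩
      · apply matrix_eq_of_mulVec
        intro z
        rw [← isometryGroupEquiv_apply, MulEquiv.apply_symm_apply, ← Matrix.mulVec_mulVec,
          reflectionMatrix_mulVec_eq_reflLin, reflectionMatrix_mulVec_eq_reflLin]
        exact hT z
      · change ((isometryGroupEquiv Q ((isometryGroupEquiv Q).symm ⟨T, hTiso⟩) : ↥(isoGroup Q)) :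
          (ι → F) ≃ₗ[F] (ι → F)) = T
        rw [MulEquiv.apply_symm_apply]
  rw [← hmap]
  exact (Subgroup.mem_map_iff_mem hφinj).symm

/-- **`Ω` is generated by the products of two reflections** (perfect field of char. 2). -/
theorem Omega_eq_closure_pairs [CharP F 2] (Q : QuadraticForm F (ι → F))
    (hQ : (QuadraticMap.polarBilin Q).Nondegenerate)
    (hF : (∀ a b : F, ∃ x : F, x ≠ a ∧ x ≠ b) ∨ Fintype.card ι ≠ 4)
    (hsq : ∀ a : F, IsSquare a) :
    Cfsg.Omega F (⇑Q) = Subgroup.closure {g : ↥(Cfsg.isometryGroup F (⇑Q)) |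
      ∃ u v : ι → F, Q u ≠ 0 ∧ Q v ≠ 0 ∧ ((g : GL ι F) : Matrix ι ι F) =
        Cfsg.reflectionMatrix (⇑Q) u * Cfsg.reflectionMatrix (⇑Q) v} := by
  have hF' : (∀ a b : F, ∃ x : F, x ≠ a ∧ x ≠ b) ∨ Module.finrank F (ι → F) ≠ 4 := by
    rw [Module.finrank_fintype_fun_eq_card]
    exact hF
  ext g
  rw [mem_closure_pairs_iff]
  change g ∈ commutator ↥(Cfsg.isometryGroup F (⇑Q)) ↔ _
  rw [mem_commutator_iff_equiv (isometryGroupEquiv Q) g,
    mem_commutator_isoGroup_iff_pair Q hQ hF' hsq]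

/-- **`Ω` is transitive on non-singular points** (perfect field of char. 2). -/
theorem exists_Omega_map_span [CharP F 2] (Q : QuadraticForm F (ι → F))
    (hQ : (QuadraticMap.polarBilin Q).Nondegenerate)
    (hF : (∀ a b : F, ∃ x : F, x ≠ a ∧ x ≠ b) ∨ Fintype.card ι ≠ 4)
    (hsq : ∀ a : F, IsSquare a) (u v : ι → F) (hu : Q u ≠ 0) (hv : Q v ≠ 0) :
    ∃ g : ↥(Cfsg.isometryGroup F (⇑Q)), g ∈ Cfsg.Omega F (⇑Q) ∧
      (F ∙ (((g : GL ι F) : Matrix ι ι F).mulVec u)) = F ∙ v := by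
  have hF' : (∀ a b : F, ∃ x : F, x ≠ a ∧ x ≠ b) ∨ Module.finrank F (ι → F) ≠ 4 := by
    rw [Module.finrank_fintype_fun_eq_card]
    exact hF
  obtain ⟨g', hg', l, hl, hgu⟩ := exists_commutator_map_span Q hQ hF' hsq u v hu hv
  refine ⟨(isometryGroupEquiv Q).symm g', ?_, ?_⟩
  · change _ ∈ commutator ↥(Cfsg.isometryGroup F (⇑Q))
    rw [mem_commutator_iff_equiv (isometryGroupEquiv Q), MulEquiv.apply_symm_apply]
    exact hg'
  · rw [← isometryGroupEquiv_apply, MulEquiv.apply_symm_apply, hgu]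
    exact Submodule.span_singleton_smul_eq (IsUnit.mk0 l hl) v

end Cfsg.Agent.Lib.Helper36
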