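import Mathlib
import Cfsg.Agent.Lib.Helper36.OmegaTrans
import Cfsg.Agent.Lib.Helper36.ReflMatrix

set_option autoImplicit false
set_option linter.unusedSectionVars false

/-!
# `Ω` is transitive on totally singular subspaces of a given dimension `k < n/2` and on
non-degenerate subspaces of each isometry type (finite fields)
-/

namespace Cfsg.Agent.Lib.Helper36

open Module

variable {F V : Type*} [Field F] [AddCommGroup V] [Module F V] [FiniteDimensional F V]

local notation "pol" => QuadraticMap.polar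

/-- Witt: two totally singular subspaces of the same dimension are conjugate under `O(Q)`. -/
theorem exists_isometry_map_ts (Q : QuadraticForm F V)
    (hQ : (QuadraticMap.polarBilin Q).Nondegenerate) (U W : Submodule F V) (k : ℕ)
    (hfU : finrank F U = k) (hfW : finrank F W = k) (hU : IsTS Q U) (hW : IsTS Q W) :
    ∃ g₀ : ↥(isoGroup Q), U.map ((g₀ : V ≃ₗ[F] V) : V →ₗ[F] V) = W := by
  set bU := Module.finBasisOfFinrankEq F U hfU with hbU
  set bW := Module.finBasisOfFinrankEq F W hfW with hbW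
  set b : Fin k → V := fun i => (bU i : V) with hb
  set c : Fin k → V := fun i => (bW i : V) with hc
  have hbli : LinearIndependent F b :=
    bU.linearIndependent.map' U.subtype (Submodule.ker_subtype U)
  have hcli : LinearIndependent F c :=
    bW.linearIndependent.map' W.subtype (Submodule.ker_subtype W)
  obtain ⟨g, hgiso, hgb⟩ := Cfsg.Agent.Lib.Helper13.witt_families_quad Q hQ _ b c hbli hcli
    (fun i => by rw [hU _ (bU i).2, hW _ (bW i).2])
    (fun i j => by rw [hU.polar_eq_zero (bU i).2 (bU j).2, hW.polar_eq_zero (bW i).2 (bW j).2])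
  have hUspan : U = Submodule.span F (Set.range b) := by
    have h1 : Submodule.span F (Set.range bU) = ⊤ := bU.span_eq
    have h2 := congrArg (Submodule.map U.subtype) h1
    rw [Submodule.map_span, Submodule.map_subtype_top, ← Set.range_comp] at h2
    exact h2.symm
  have hWspan : W = Submodule.span F (Set.range c) := by
    have h1 : Submodule.span F (Set.range bW) = ⊤ := bW.span_eq
    have h2 := congrArg (Submodule.map W.subtype) h1
    rw [Submodule.map_span, Submodule.map_subtype_top, ← Set.range_comp] at h2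
    exact h2.symm
  refine ⟨⟨g, hgiso⟩, ?_⟩
  change U.map (g : V →ₗ[F] V) = W
  rw [hUspan, Submodule.map_span, hWspan, ← Set.range_comp]
  congr 2
  funext i
  exact hgb i

/-- A hyperbolic partner of a non-zero singular vector. -/
theorem exists_hyperbolic_partner (Q : QuadraticForm F V)
    (hQ : (QuadraticMap.polarBilin Q).Nondegenerate) (p : V) (hp0 : p ≠ 0) (hp : Q p = 0) :
    ∃ p' : V, Q p' = 0 ∧ pol (⇑Q) p p' = 1 := by
  obtain ⟨y', hpy'⟩ : ∃ y', pol (⇑Q) p y' = 1 := by
    obtain ⟨y, hy⟩ : ∃ y, pol (⇑Q) p y ≠ 0 := by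
      by_contra hcon
      push Not at hcon
      exact hp0 (hQ.1 p hcon)
    refine ⟨(pol (⇑Q) p y)⁻¹ • y, ?_⟩
    rw [QuadraticMap.polar_smul_right, smul_eq_mul, inv_mul_cancel₀ hy]
  refine ⟨y' - Q y' • p, ?_, ?_⟩
  · rw [Cfsg.Agent.Lib.Helper13.Q_sub, QuadraticMap.map_smul, hp, QuadraticMap.polar_smul_right,
      QuadraticMap.polar_comm (⇑Q) y' p, hpy']
    simp
  · rw [QuadraticMap.polar_sub_right, QuadraticMap.polar_smul_right,
      Cfsg.Agent.Lib.Helper13.polar_self', hp, hpy']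
    simp

/-- **`Ω` is transitive on the totally singular `k`-subspaces, `2k < n`** (finite field). -/
theorem exists_commutator_map_ts [Fintype F] (Q : QuadraticForm F V)
    (hQ : (QuadraticMap.polarBilin Q).Nondegenerate)
    (hF : (∀ a b : F, ∃ x : F, x ≠ a ∧ x ≠ b) ∨ Module.finrank F V ≠ 4)
    (U W : Submodule F V) (k : ℕ) (hk : 2 * k < finrank F V)
    (hfU : finrank F U = k) (hfW : finrank F W = k) (hU : IsTS Q U) (hW : IsTS Q W) :
    ∃ g : ↥(isoGroup Q), g ∈ commutator ↥(isoGroup Q) ∧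
      U.map ((g : V ≃ₗ[F] V) : V →ₗ[F] V) = W := by
  classical
  obtain ⟨g₀, hg₀⟩ := exists_isometry_map_ts Q hQ U W k hfU hfW hU hW
  -- a non-singular vector orthogonal to `W`
  have hfp : finrank F (perp Q W) = finrank F V - k := by rw [finrank_perp hQ, hfW]
  obtain ⟨d, hdp, hd⟩ := exists_nonsingular_of_finrank Q hQ (perp Q W) (by rw [hfp]; omega)
  have hT₁W : W.map ((reflEquiv Q d hd : V ≃ₗ[F] V) : V →ₗ[F] V) = W :=
    map_refl_of_mem_perp Q W _ d hdp (fun _ => rfl)
  by_cases h2 : (2 : F) = 0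
  · have : CharP F 2 := CharTwo.of_one_ne_zero_of_two_eq_zero one_ne_zero h2
    have hsq : ∀ a : F, IsSquare a :=
      fun a => FiniteField.isSquare_of_char_two (ringChar.eq F 2) a
    exact exists_adjust_two Q hQ hF hsq U W _ (reflEquiv_mem Q d hd) hT₁W g₀ hg₀
  · by_cases hk0 : k = 0
    · refine ⟨1, Subgroup.one_mem _, ?_⟩
      have hU0 : U = ⊥ := Submodule.finrank_eq_zero.mp (by rw [hfU, hk0])
      have hW0 : W = ⊥ := Submodule.finrank_eq_zero.mp (by rw [hfW, hk0])
      rw [hU0, hW0, Submodule.map_bot]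
    · -- a hyperbolic rotation along a vector of `W`
      have hWne : W ≠ ⊥ := by
        intro h
        rw [h, finrank_bot] at hfW
        exact hk0 hfW.symm
      obtain ⟨p, hpW, hp0⟩ := Submodule.exists_mem_ne_zero_of_ne_bot hWne
      have hp : Q p = 0 := hW p hpW
      obtain ⟨p', hp', hpp'⟩ := exists_hyperbolic_partner Q hQ p hp0 hp
      have hchar : ringChar F ≠ 2 := by
        intro h
        apply h2
        have : ((2 : ℕ) : F) = 0 := by
          rw [← h]
          exact ringChar.Nat.cast_ringChar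
        exact_mod_cast this
      obtain ⟨η, hη⟩ := FiniteField.exists_nonsquare hchar
      have hη0 : η ≠ 0 := by
        rintro rfl
        exact hη IsSquare.zero
      have hp'p : pol (⇑Q) p' p = 1 := by rw [QuadraticMap.polar_comm]; exact hpp'
      have hQ1 : Q (p + p') = 1 := by
        rw [Cfsg.Agent.Lib.Helper13.Q_add', hp, hp', hpp']
        ring
      have hQη : Q (p + η • p') = η := by
        rw [Cfsg.Agent.Lib.Helper13.Q_add', QuadraticMap.map_smul, hp, hp',
          QuadraticMap.polar_smul_right, hpp']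
        simp
      have hQ1' : Q (p + p') ≠ 0 := by rw [hQ1]; exact one_ne_zero
      have hQη' : Q (p + η • p') ≠ 0 := by rw [hQη]; exact hη0
      set T₁ := reflEquiv Q (p + p') hQ1' with hT₁
      set T₂ := reflEquiv Q (p + η • p') hQη' with hT₂
      have hT₁set := reflEquiv_mem Q (p + p') hQ1'
      have hT₂set := reflEquiv_mem Q (p + η • p') hQη'
      have hT₂iso : T₂ ∈ isoGroup Q := reflSet_subset_isoGroup Q hT₂set
      have hrot : ∀ z, (T₁ * T₂) z = Cfsg.Agent.Lib.Helper13.hrotLin Q p p' η z := by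
        intro z
        rw [Cfsg.Agent.Lib.Helper13.hrot_eq_refl_refl Q p p' η hη0 hp hp' hpp' z]
        rfl
      have hW₂ : W.map ((T₁ * T₂ : V ≃ₗ[F] V) : V →ₗ[F] V) = W := by
        apply map_eq_of_map_le
        rintro _ ⟨w, hw, rfl⟩
        change (T₁ * T₂) w ∈ W
        rw [hrot, Cfsg.Agent.Lib.Helper13.hrotLin_apply, hW.polar_eq_zero hpW hw, mul_zero,
          zero_smul, add_zero]
        exact W.add_mem hw (W.smul_mem _ hpW)
      have hpar₂ : Cfsg.Agent.Lib.Helper13.par (T₁ * T₂) = 0 := by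
        rw [Cfsg.Agent.Lib.Helper13.par_refl_mul Q hQ T₂ hT₂iso T₁ hT₁set,
          Cfsg.Agent.Lib.Helper13.par_refl Q hQ T₂ hT₂set]
        decide
      have hspin₂ : Cfsg.Agent.Lib.Helper13.spin Q (T₁ * T₂) = -1 := by
        rw [Cfsg.Agent.Lib.Helper13.spin_refl_mul Q hQ T₂ hT₂iso (p + p') hQ1' T₁ (fun _ => rfl),
          Cfsg.Agent.Lib.Helper13.spin_refl Q hQ (p + η • p') hQη' T₂ (fun _ => rfl), hQ1, hQη,
          map_one, one_mul]
        exact quadraticChar_neg_one_iff_not_isSquare.mpr hη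
      have hdim2 : 2 ≤ finrank F V := by omega
      exact exists_adjust_odd Q hQ h2 hdim2 U W (reflEquiv Q d hd) (T₁ * T₂)
        (reflSet_subset_isoGroup Q (reflEquiv_mem Q d hd))
        (Subgroup.mul_mem _ (reflSet_subset_isoGroup Q hT₁set) hT₂iso) hT₁W hW₂
        (Cfsg.Agent.Lib.Helper13.par_refl Q hQ _ (reflEquiv_mem Q d hd)) hpar₂ hspin₂ g₀ hg₀

/-- The restriction of `Q` to a subspace meeting its orthogonal complement trivially has
non-degenerate polar form. -/
theorem restrict_nondeg (Q : QuadraticForm F V) (W' : Submodule F V)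
    (hW' : W' ⊓ perp Q W' = ⊥) :
    (QuadraticMap.polarBilin (Q.comp W'.subtype)).Nondegenerate := by
  have h1 : (LinearMap.BilinForm.restrict (QuadraticMap.polarBilin Q) W').Nondegenerate :=
    LinearMap.BilinForm.nondegenerate_restrict_of_disjoint_orthogonal _
      (Cfsg.Agent.Lib.Helper13.polarBilin_isRefl Q) (disjoint_iff.mpr hW')
  have h2 : QuadraticMap.polarBilin (Q.comp W'.subtype) =
      LinearMap.BilinForm.restrict (QuadraticMap.polarBilin Q) W' := by
    apply LinearMap.ext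
    intro a
    apply LinearMap.ext
    intro b
    change QuadraticMap.polar (⇑(Q.comp W'.subtype)) a b = QuadraticMap.polar (⇑Q) a b
    unfold QuadraticMap.polar
    simp only [QuadraticMap.comp_apply, Submodule.subtype_apply, Submodule.coe_add]
  rw [h2]
  exact h1

/-- Adjusting by reflections in vectors of a non-degenerate subspace `W'` of dimension at least two
whose reflections stabilise `W`. -/
theorem exists_commutator_map_of_refl_stab [Fintype F] (Q : QuadraticForm F V)
    (hQ : (QuadraticMap.polarBilin Q).Nondegenerate)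
    (hF : (∀ a b : F, ∃ x : F, x ≠ a ∧ x ≠ b) ∨ Module.finrank F V ≠ 4)
    (U W W' : Submodule F V) (hW' : W' ⊓ perp Q W' = ⊥) (hdimW' : 2 ≤ finrank F W')
    (hstab : ∀ u ∈ W', ∀ T : V ≃ₗ[F] V, (∀ z, T z = Cfsg.Agent.Lib.Helper13.reflLin Q u z) →
      W.map (T : V →ₗ[F] V) = W)
    (g₀ : ↥(isoGroup Q)) (hg₀ : U.map ((g₀ : V ≃ₗ[F] V) : V →ₗ[F] V) = W) :
    ∃ g : ↥(isoGroup Q), g ∈ commutator ↥(isoGroup Q) ∧
      U.map ((g : V ≃ₗ[F] V) : V →ₗ[F] V) = W := by
  classical
  by_cases h2 : (2 : F) = 0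
  · have : CharP F 2 := CharTwo.of_one_ne_zero_of_two_eq_zero one_ne_zero h2
    have hsq : ∀ a : F, IsSquare a :=
      fun a => FiniteField.isSquare_of_char_two (ringChar.eq F 2) a
    have hex : ∃ u ∈ W', Q u ≠ 0 := by
      by_contra hcon
      push Not at hcon
      have hts : IsTS Q W' := hcon
      have hle : W' ≤ W' ⊓ perp Q W' := le_inf le_rfl hts.le_perp
      rw [hW', le_bot_iff] at hle
      rw [hle, finrank_bot] at hdimW'
      omega
    obtain ⟨u, huW', hu⟩ := hex
    exact exists_adjust_two Q hQ hF hsq U W _ (reflEquiv_mem Q u hu)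
      (hstab u huW' _ (fun _ => rfl)) g₀ hg₀
  · have hchar : ringChar F ≠ 2 := by
      intro h
      apply h2
      have : ((2 : ℕ) : F) = 0 := by
        rw [← h]
        exact ringChar.Nat.cast_ringChar
      exact_mod_cast this
    obtain ⟨η, hη⟩ := FiniteField.exists_nonsquare hchar
    have hη0 : η ≠ 0 := by
      rintro rfl
      exact hη IsSquare.zero
    have hnd' := restrict_nondeg Q W' hW'
    obtain ⟨v₁, hv₁⟩ := Cfsg.Agent.Lib.Helper13.exists_Q_eq (Q.comp W'.subtype) hnd' h2 hdimW' 1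
      one_ne_zero
    obtain ⟨v₂, hv₂⟩ := Cfsg.Agent.Lib.Helper13.exists_Q_eq (Q.comp W'.subtype) hnd' h2 hdimW' η
      hη0
    have hQ1 : Q (v₁ : V) = 1 := hv₁
    have hQη : Q (v₂ : V) = η := hv₂
    have hQ1' : Q (v₁ : V) ≠ 0 := by rw [hQ1]; exact one_ne_zero
    have hQη' : Q (v₂ : V) ≠ 0 := by rw [hQη]; exact hη0
    set T₁ := reflEquiv Q (v₁ : V) hQ1' with hT₁
    set T₂ := reflEquiv Q (v₂ : V) hQη' with hT₂
    have hT₁set := reflEquiv_mem Q (v₁ : V) hQ1'
    have hT₂set := reflEquiv_mem Q (v₂ : V) hQη'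
    have hT₁iso : T₁ ∈ isoGroup Q := reflSet_subset_isoGroup Q hT₁set
    have hT₂iso : T₂ ∈ isoGroup Q := reflSet_subset_isoGroup Q hT₂set
    have hW₁ : W.map (T₁ : V →ₗ[F] V) = W := hstab _ v₁.2 T₁ (fun _ => rfl)
    have hW₂' : W.map (T₂ : V →ₗ[F] V) = W := hstab _ v₂.2 T₂ (fun _ => rfl)
    have hW₂ : W.map ((T₁ * T₂ : V ≃ₗ[F] V) : V →ₗ[F] V) = W := by
      rw [map_mul_eq, hW₂', hW₁]
    have hpar₂ : Cfsg.Agent.Lib.Helper13.par (T₁ * T₂) = 0 := by
      rw [Cfsg.Agent.Lib.Helper13.par_refl_mul Q hQ T₂ hT₂iso T₁ hT₁set,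
        Cfsg.Agent.Lib.Helper13.par_refl Q hQ T₂ hT₂set]
      decide
    have hspin₂ : Cfsg.Agent.Lib.Helper13.spin Q (T₁ * T₂) = -1 := by
      rw [Cfsg.Agent.Lib.Helper13.spin_refl_mul Q hQ T₂ hT₂iso (v₁ : V) hQ1' T₁ (fun _ => rfl),
        Cfsg.Agent.Lib.Helper13.spin_refl Q hQ (v₂ : V) hQη' T₂ (fun _ => rfl), hQ1, hQη,
        map_one, one_mul]
      exact quadraticChar_neg_one_iff_not_isSquare.mpr hη
    have hdim2 : 2 ≤ finrank F V := le_trans hdimW' (Submodule.finrank_le W')
    exact exists_adjust_odd Q hQ h2 hdim2 U W T₁ (T₁ * T₂) hT₁iso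
      (Subgroup.mul_mem _ hT₁iso hT₂iso) hW₁ hW₂
      (Cfsg.Agent.Lib.Helper13.par_refl Q hQ _ hT₁set) hpar₂ hspin₂ g₀ hg₀

/-- **`Ω` is transitive on the non-degenerate subspaces of each isometry type**, `n ≥ 3`. -/
theorem exists_commutator_map_nondeg [Fintype F] (Q : QuadraticForm F V)
    (hQ : (QuadraticMap.polarBilin Q).Nondegenerate) (hn : 3 ≤ finrank F V)
    (hF : (∀ a b : F, ∃ x : F, x ≠ a ∧ x ≠ b) ∨ Module.finrank F V ≠ 4)
    (U W : Submodule F V) (hW : W ⊓ perp Q W = ⊥)
    (g₀ : ↥(isoGroup Q)) (hg₀ : U.map ((g₀ : V ≃ₗ[F] V) : V →ₗ[F] V) = W) :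
    ∃ g : ↥(isoGroup Q), g ∈ commutator ↥(isoGroup Q) ∧
      U.map ((g : V ≃ₗ[F] V) : V →ₗ[F] V) = W := by
  by_cases hdW : 2 ≤ finrank F W
  · exact exists_commutator_map_of_refl_stab Q hQ hF U W W hW hdW
      (fun u hu T hT => map_refl_of_mem Q W T u hu hT) g₀ hg₀
  · have hpp : perp Q (perp Q W) = W :=
      LinearMap.BilinForm.orthogonal_orthogonal hQ (Cfsg.Agent.Lib.Helper13.polarBilin_isRefl Q) W
    have hW' : perp Q W ⊓ perp Q (perp Q W) = ⊥ := by
      rw [hpp, inf_comm]
      exact hW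
    have hfp : finrank F (perp Q W) = finrank F V - finrank F W := finrank_perp hQ W
    exact exists_commutator_map_of_refl_stab Q hQ hF U W (perp Q W) hW' (by omega)
      (fun u hu T hT => map_refl_of_mem_perp Q W T u hu hT) g₀ hg₀

end Cfsg.Agent.Lib.Helper36
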