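import Mathlib
import Cfsg.Agent.Lib.Helper13.SpinorIndex
import Cfsg.Agent.Lib.Helper36.OmegaTrans2

set_option autoImplicit false
set_option linter.unusedSectionVars false

/-!
# The group generated by the reflections of one norm class over the field with three elements

Abstract form: for a non-degenerate quadratic space of dimension at least five over `ZMod 3`, the
reflections in vectors of norm `c ≠ 0` generate a subgroup `N` of the isometry group such that,
for any reflection `T'` in a vector of norm `-c`, every isometry `g` satisfies exactly one of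
`g ∈ N`, `g * T' ∈ N`.
-/

namespace Cfsg.Agent.Lib.Helper36

open Module Cfsg.Agent.Lib.Helper13

section General

variable {F V : Type*} [Field F] [AddCommGroup V] [Module F V]

local notation "pol" => QuadraticMap.polar

/-- The reflections in vectors of norm `c`. -/
def reflSetOf (Q : QuadraticForm F V) (c : F) : Set (V ≃ₗ[F] V) :=
  {T | ∃ v : V, Q v = c ∧ ∀ z, T z = reflLin Q v z}

/-- The group generated by the reflections in vectors of norm `c`. -/
def reflGroupOf (Q : QuadraticForm F V) (c : F) : Subgroup (V ≃ₗ[F] V) :=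
  Subgroup.closure (reflSetOf Q c)

theorem reflSetOf_subset (Q : QuadraticForm F V) (c : F) (hc : c ≠ 0) :
    reflSetOf Q c ⊆ reflSet Q := by
  rintro T ⟨v, hv, hT⟩
  exact ⟨v, by rw [hv]; exact hc, hT⟩

theorem reflGroupOf_le_reflGroup (Q : QuadraticForm F V) (c : F) (hc : c ≠ 0) :
    reflGroupOf Q c ≤ reflGroup Q :=
  Subgroup.closure_mono (reflSetOf_subset Q c hc)

theorem conj_mem_reflSetOf (Q : QuadraticForm F V) (c : F) (g : V ≃ₗ[F] V) (hg : g ∈ isoGroup Q)
    (T : V ≃ₗ[F] V) (hT : T ∈ reflSetOf Q c) : g * T * g⁻¹ ∈ reflSetOf Q c := by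
  obtain ⟨v, hv, hT⟩ := hT
  refine ⟨g v, by rw [hg v]; exact hv, fun z => ?_⟩
  rw [LinearEquiv.mul_apply, LinearEquiv.mul_apply, hT, conj_reflLin Q g hg]

/-- The group generated by a class of reflections is normalised by all isometries. -/
theorem conj_mem_reflGroupOf (Q : QuadraticForm F V) (c : F) (g : V ≃ₗ[F] V) (hg : g ∈ isoGroup Q)
    (x : V ≃ₗ[F] V) (hx : x ∈ reflGroupOf Q c) : g * x * g⁻¹ ∈ reflGroupOf Q c := by
  unfold reflGroupOf at hx ⊢
  induction hx using Subgroup.closure_induction with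
  | mem T hT => exact Subgroup.subset_closure (conj_mem_reflSetOf Q c g hg T hT)
  | one =>
    rw [mul_one, mul_inv_cancel]
    exact Subgroup.one_mem _
  | mul x y _ _ ihx ihy =>
    have : g * (x * y) * g⁻¹ = (g * x * g⁻¹) * (g * y * g⁻¹) := by group
    rw [this]
    exact Subgroup.mul_mem _ ihx ihy
  | inv x _ ihx =>
    have : g * x⁻¹ * g⁻¹ = (g * x * g⁻¹)⁻¹ := by group
    rw [this]
    exact Subgroup.inv_mem _ ihx

/-- The product of the reflections in two orthogonal vectors. -/
theorem reflLin_reflLin_of_orth (Q : QuadraticForm F V) (u v : V) (huv : pol (⇑Q) u v = 0) (z : V) :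
    reflLin Q u (reflLin Q v z) =
      z - ((Q u)⁻¹ * pol (⇑Q) u z) • u - ((Q v)⁻¹ * pol (⇑Q) v z) • v := by
  rw [reflLin_apply, reflLin_apply, QuadraticMap.polar_sub_right, QuadraticMap.polar_smul_right,
    huv, smul_zero, sub_zero]
  abel

end General

section Exists

variable {F V : Type*} [Field F] [Fintype F] [DecidableEq F] [AddCommGroup V] [Module F V]
  [FiniteDimensional F V]

local notation "pol" => QuadraticMap.polar

/-- In dimension at least five over a finite field of odd characteristic: a vector of prescribed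
non-zero norm orthogonal to two given vectors, one of which is non-singular. -/
theorem exists_orth_Q_eq (Q : QuadraticForm F V) (hQ : (QuadraticMap.polarBilin Q).Nondegenerate)
    (h2 : (2 : F) ≠ 0) (hdim : 5 ≤ finrank F V) (w w' : V) (hw : Q w ≠ 0) (d : F) (hd : d ≠ 0) :
    ∃ x : V, Q x = d ∧ pol (⇑Q) w x = 0 ∧ pol (⇑Q) w' x = 0 := by
  classical
  set S : Submodule F V := Submodule.span F (({w, w'} : Finset V) : Set V) with hS
  have hwS : w ∈ S := Submodule.subset_span (by simp)
  have hw'S : w' ∈ S := Submodule.subset_span (by simp)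
  have hfS : finrank F S ≤ 2 :=
    le_trans (finrank_span_finset_le_card ({w, w'} : Finset V)) Finset.card_le_two
  set P : Submodule F V := perp Q S with hP
  have hfP : finrank F P = finrank F V - finrank F S := finrank_perp hQ S
  have hperpP : perp Q P = S :=
    LinearMap.BilinForm.orthogonal_orthogonal hQ (polarBilin_isRefl Q) S
  have hwP : w ∉ P := by
    intro hwP
    have h1 := (mem_perp.mp hwP) w hwS
    rw [QuadraticMap.polar_self, nsmul_eq_mul] at h1
    rcases mul_eq_zero.mp h1 with h | h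
    · exact h2 (by exact_mod_cast h)
    · exact hw h
  set R : Submodule F V := P ⊓ S with hR
  have hRlt : finrank F R < finrank F S := by
    apply Submodule.finrank_lt_finrank_of_lt
    refine lt_of_le_of_ne inf_le_right ?_
    intro h
    have : w ∈ R := by rw [h]; exact hwS
    exact hwP this.1
  obtain ⟨C, hC⟩ := Submodule.exists_isCompl R
  set P' : Submodule F V := P ⊓ C with hP'
  have hsup : P' ⊔ R = P := by
    have hRP : R ≤ P := inf_le_left
    rw [hP', sup_comm, inf_comm, ← sup_inf_assoc_of_le C hRP, hC.sup_eq_top, top_inf_eq]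
  have hinf : P' ⊓ R = ⊥ := by
    rw [eq_bot_iff]
    calc P' ⊓ R ≤ C ⊓ R := inf_le_inf_right R inf_le_right
      _ = ⊥ := by rw [inf_comm]; exact hC.inf_eq_bot
  have hfP' : finrank F P' + finrank F R = finrank F P := by
    have := Submodule.finrank_sup_add_finrank_inf_eq P' R
    rw [hsup, hinf, finrank_bot, add_zero] at this
    exact this.symm
  have hnd : P' ⊓ perp Q P' = ⊥ := by
    rw [eq_bot_iff]
    rintro x ⟨hxP', hxperp⟩
    have hxP : x ∈ P := hxP'.1
    have hxPP : x ∈ perp Q P := by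
      rw [mem_perp]
      intro p hp
      rw [← hsup] at hp
      obtain ⟨a, ha, b, hb, rfl⟩ := Submodule.mem_sup.mp hp
      rw [QuadraticMap.polar_add_left, mem_perp.mp hxperp a ha, zero_add]
      have hbS : b ∈ perp Q P := by rw [hperpP]; exact hb.2
      rw [QuadraticMap.polar_comm]
      exact mem_perp.mp hbS x hxP
    have hxR : x ∈ R := ⟨hxP, by rw [← hperpP]; exact hxPP⟩
    have : x ∈ P' ⊓ R := ⟨hxP', hxR⟩
    rw [hinf] at this
    exact this
  have hdimP' : 2 ≤ finrank F P' := by omega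
  obtain ⟨v, hv⟩ := exists_Q_eq (Q.comp P'.subtype) (restrict_nondeg Q P' hnd) h2 hdimP' d hd
  refine ⟨v.1, hv, ?_, ?_⟩
  · exact mem_perp.mp (v.2.1) w hwS
  · exact mem_perp.mp v.2.1 w' hw'S

end Exists

section Three

variable {V : Type*} [AddCommGroup V] [Module (ZMod 3) V]

local notation "pol" => QuadraticMap.polar

theorem zmod3_eq_or_eq_neg : ∀ a c : ZMod 3, a ≠ 0 → c ≠ 0 → a = c ∨ a = -c := by decide

theorem zmod3_mul_self : ∀ c : ZMod 3, c ≠ 0 → c * c = 1 := by decide

theorem zmod3_inv (c : ZMod 3) (hc : c ≠ 0) : c⁻¹ = c :=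
  inv_eq_of_mul_eq_one_right (zmod3_mul_self c hc)

theorem zmod3_scal1' : ∀ c α β : ZMod 3, (-c) * α = c * (α + β) + c * (α - β) := by decide

theorem zmod3_scal2' : ∀ c α β : ZMod 3, (-c) * β = c * (α + β) - c * (α - β) := by decide

theorem zmod3_scal1 (c α β : ZMod 3) (hc : c ≠ 0) :
    (-c)⁻¹ * α = c⁻¹ * (α + β) + c⁻¹ * (α - β) := by
  rw [zmod3_inv c hc, zmod3_inv (-c) (neg_ne_zero.mpr hc)]
  exact zmod3_scal1' c α β

theorem zmod3_scal2 (c α β : ZMod 3) (hc : c ≠ 0) :
    (-c)⁻¹ * β = c⁻¹ * (α + β) - c⁻¹ * (α - β) := by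
  rw [zmod3_inv c hc, zmod3_inv (-c) (neg_ne_zero.mpr hc)]
  exact zmod3_scal2' c α β

theorem zmod3_neg_add_neg : ∀ c : ZMod 3, -c + -c = c := by decide

/-- Over the field with three elements the product of the reflections in two orthogonal vectors
of norm `-c` is the product of the reflections in their sum and difference, of norm `c`. -/
theorem refl_pair_eq (Q : QuadraticForm (ZMod 3) V) (c : ZMod 3) (hc : c ≠ 0) (w w₂ : V)
    (hw : Q w = -c) (hw₂ : Q w₂ = -c) (horth : pol (⇑Q) w w₂ = 0) :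
    Q (w + w₂) = c ∧ Q (w - w₂) = c ∧
      ∀ z, reflLin Q w (reflLin Q w₂ z) = reflLin Q (w + w₂) (reflLin Q (w - w₂) z) := by
  have h1 : Q (w + w₂) = c := by
    rw [Q_add', hw, hw₂, horth, add_zero]
    exact zmod3_neg_add_neg c
  have h2 : Q (w - w₂) = c := by
    rw [sub_eq_add_neg, Q_add', QuadraticMap.map_neg, hw, hw₂, QuadraticMap.polar_neg_right, horth,
      neg_zero, add_zero]
    exact zmod3_neg_add_neg c
  have h3 : pol (⇑Q) (w + w₂) (w - w₂) = 0 := by
    rw [QuadraticMap.polar_add_left, QuadraticMap.polar_sub_right, QuadraticMap.polar_sub_right,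
      QuadraticMap.polar_self, QuadraticMap.polar_self, hw, hw₂, horth,
      QuadraticMap.polar_comm (⇑Q) w₂ w, horth]
    simp
  refine ⟨h1, h2, fun z => ?_⟩
  rw [reflLin_reflLin_of_orth Q w w₂ horth, reflLin_reflLin_of_orth Q _ _ h3, h1, h2, hw, hw₂,
    QuadraticMap.polar_add_left, QuadraticMap.polar_sub_left,
    zmod3_scal1 c (pol (⇑Q) w z) (pol (⇑Q) w₂ z) hc, zmod3_scal2 c (pol (⇑Q) w z) (pol (⇑Q) w₂ z) hc]
  module

variable [FiniteDimensional (ZMod 3) V]

theorem zmod3_hF : (∀ a b : ZMod 3, ∃ x : ZMod 3, x ≠ a ∧ x ≠ b) ∨ finrank (ZMod 3) V ≠ 4 :=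
  Or.inl (by decide)

theorem zmod2_cases : ∀ a : ZMod 2, a = 0 ∨ a = 1 := by decide

theorem quadraticChar_neg_zmod3 (c : ZMod 3) :
    quadraticChar (ZMod 3) (-c) = -quadraticChar (ZMod 3) c := by
  have h1 : quadraticChar (ZMod 3) (-1) = -1 := by
    rw [quadraticChar_neg_one_iff_not_isSquare]
    decide
  rw [← neg_one_mul c, map_mul, h1, neg_one_mul]

/-- On the group generated by the reflections of norm `c`, the spinor norm is determined by the
parity. -/
theorem spin_eq_of_mem_reflGroupOf (Q : QuadraticForm (ZMod 3) V)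
    (hQ : (QuadraticMap.polarBilin Q).Nondegenerate) (c : ZMod 3) (hc : c ≠ 0) (g : V ≃ₗ[ZMod 3] V)
    (hg : g ∈ reflGroupOf Q c) :
    spin Q g = if par g = 0 then 1 else quadraticChar (ZMod 3) c := by
  have hsq : quadraticChar (ZMod 3) c * quadraticChar (ZMod 3) c = 1 := by
    have := quadraticChar_sq_one hc
    rw [pow_two] at this
    exact this
  have hle := reflGroupOf_le_reflGroup Q c hc
  have hle' : reflGroupOf Q c ≤ isoGroup Q := fun x hx => reflGroup_le_isoGroup Q (hle hx)
  have h10 : (1 : ZMod 2) ≠ 0 := by decide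
  have key : ∀ x ∈ reflGroupOf Q c, ∀ y ∈ reflGroupOf Q c,
      (spin Q x = if par x = 0 then 1 else quadraticChar (ZMod 3) c) →
      (spin Q y = if par y = 0 then 1 else quadraticChar (ZMod 3) c) →
      spin Q (x * y) = if par (x * y) = 0 then 1 else quadraticChar (ZMod 3) c := by
    intro x hx y hy ihx ihy
    rw [spin_mul Q hQ x (hle hx) y (hle' hy), par_mul Q hQ x (hle hx) y (hle' hy), ihx, ihy]
    rcases zmod2_cases (par x) with hx0 | hx1 <;> rcases zmod2_cases (par y) with hy0 | hy1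
    · rw [hx0, hy0]; simp
    · rw [hx0, hy1]; simp
    · rw [hx1, hy0]; simp
    · rw [hx1, hy1]
      have h11 : (1 : ZMod 2) + 1 = 0 := by decide
      rw [h11, if_neg h10, if_pos rfl, hsq]
  unfold reflGroupOf at hg
  induction hg using Subgroup.closure_induction with
  | mem T hT =>
    obtain ⟨v, hv, hTv⟩ := hT
    have hv0 : Q v ≠ 0 := by rw [hv]; exact hc
    rw [par_refl Q hQ T ⟨v, hv0, hTv⟩, spin_refl Q hQ v hv0 T hTv, if_neg h10, hv]
  | one =>
    rw [par_one, spin_one, if_pos rfl]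
  | mul x y hx hy ihx ihy => exact key x hx y hy ihx ihy
  | inv x hx ihx =>
    have hx' : x ∈ reflGroupOf Q c := hx
    have hxi : x⁻¹ ∈ reflGroupOf Q c := Subgroup.inv_mem _ hx'
    have hp : par x⁻¹ = par x := by
      have h1 := par_mul Q hQ x (hle hx') x⁻¹ (hle' hxi)
      rw [mul_inv_cancel, par_one] at h1
      have : ∀ a b : ZMod 2, 0 = a + b → b = a := by decide
      exact this _ _ h1
    have hs : spin Q x⁻¹ = spin Q x := by
      have h1 := spin_mul Q hQ x (hle hx') x⁻¹ (hle' hxi)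
      rw [mul_inv_cancel, spin_one] at h1
      have h2 : spin Q x * spin Q x = 1 := by
        rw [ihx]
        split_ifs
        · simp
        · exact hsq
      calc spin Q x⁻¹ = (spin Q x * spin Q x) * spin Q x⁻¹ := by rw [h2, one_mul]
        _ = spin Q x * (spin Q x * spin Q x⁻¹) := by ring
        _ = spin Q x := by rw [← h1, mul_one]
    rw [hp, hs]
    exact ihx

/-- A reflection in a vector of norm `-c` is not in the group generated by the reflections of
norm `c`. -/
theorem not_mem_reflGroupOf (Q : QuadraticForm (ZMod 3) V)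
    (hQ : (QuadraticMap.polarBilin Q).Nondegenerate) (c : ZMod 3) (hc : c ≠ 0)
    (T' : V ≃ₗ[ZMod 3] V) (hT' : T' ∈ reflSetOf Q (-c)) : T' ∉ reflGroupOf Q c := by
  intro hmem
  obtain ⟨w, hw, hTw⟩ := hT'
  have hw0 : Q w ≠ 0 := by rw [hw]; exact neg_ne_zero.mpr hc
  have h1 := spin_eq_of_mem_reflGroupOf Q hQ c hc T' hmem
  have h10 : (1 : ZMod 2) ≠ 0 := by decide
  rw [par_refl Q hQ T' ⟨w, hw0, hTw⟩, spin_refl Q hQ w hw0 T' hTw, if_neg h10, hw,
    quadraticChar_neg_zmod3 c] at h1
  have hsq := quadraticChar_sq_one hc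
  have h0 : quadraticChar (ZMod 3) c = 0 := by linarith
  rw [h0] at hsq
  norm_num at hsq

theorem two_ne_zero_zmod3' : (2 : ZMod 3) ≠ 0 := by decide

/-- The product of the reflections in two orthogonal vectors of norm `-c` lies in the group
generated by the reflections of norm `c`. -/
theorem orth_pair_mem (Q : QuadraticForm (ZMod 3) V) (c : ZMod 3) (hc : c ≠ 0) (w w₂ : V)
    (hw : Q w = -c) (hw₂ : Q w₂ = -c) (horth : pol (⇑Q) w w₂ = 0) (T₁ T₂ : V ≃ₗ[ZMod 3] V)
    (hT₁ : ∀ z, T₁ z = reflLin Q w z) (hT₂ : ∀ z, T₂ z = reflLin Q w₂ z) :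
    T₁ * T₂ ∈ reflGroupOf Q c := by
  obtain ⟨h1, h2, h3⟩ := refl_pair_eq Q c hc w w₂ hw hw₂ horth
  have h1' : Q (w + w₂) ≠ 0 := by rw [h1]; exact hc
  have h2' : Q (w - w₂) ≠ 0 := by rw [h2]; exact hc
  have heq : T₁ * T₂ = reflEquiv Q (w + w₂) h1' * reflEquiv Q (w - w₂) h2' := by
    apply LinearEquiv.ext
    intro z
    rw [LinearEquiv.mul_apply, LinearEquiv.mul_apply, hT₁, hT₂, h3 z, reflEquiv_apply,
      reflEquiv_apply]
  rw [heq]
  exact Subgroup.mul_mem _ (Subgroup.subset_closure ⟨w + w₂, h1, fun _ => rfl⟩)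
    (Subgroup.subset_closure ⟨w - w₂, h2, fun _ => rfl⟩)

/-- The product of any two reflections of norm `-c` lies in the group generated by the
reflections of norm `c` (dimension at least five). -/
theorem mul_mem_reflGroupOf_of_neg (Q : QuadraticForm (ZMod 3) V)
    (hQ : (QuadraticMap.polarBilin Q).Nondegenerate) (hdim : 5 ≤ finrank (ZMod 3) V)
    (c : ZMod 3) (hc : c ≠ 0) (T₁ T₂ : V ≃ₗ[ZMod 3] V) (h₁ : T₁ ∈ reflSetOf Q (-c))
    (h₂ : T₂ ∈ reflSetOf Q (-c)) : T₁ * T₂ ∈ reflGroupOf Q c := by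
  obtain ⟨w, hw, hT₁⟩ := h₁
  obtain ⟨w', hw', hT₂⟩ := h₂
  have hnc : -c ≠ 0 := neg_ne_zero.mpr hc
  have hw0 : Q w ≠ 0 := by rw [hw]; exact hnc
  obtain ⟨x, hx, hwx, hw'x⟩ := exists_orth_Q_eq Q hQ two_ne_zero_zmod3' hdim w w' hw0 (-c) hnc
  have hx0 : Q x ≠ 0 := by rw [hx]; exact hnc
  have hsq : reflEquiv Q x hx0 * reflEquiv Q x hx0 = 1 :=
    refl_mul_self Q _ (reflEquiv_mem Q x hx0)
  have heq : T₁ * T₂ = (T₁ * reflEquiv Q x hx0) * (reflEquiv Q x hx0 * T₂) := by
    calc T₁ * T₂ = T₁ * 1 * T₂ := by rw [mul_one]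
      _ = T₁ * (reflEquiv Q x hx0 * reflEquiv Q x hx0) * T₂ := by rw [hsq]
      _ = _ := by group
  rw [heq]
  refine Subgroup.mul_mem _ ?_ ?_
  · exact orth_pair_mem Q c hc w x hw hx hwx T₁ _ hT₁ (fun _ => rfl)
  · refine orth_pair_mem Q c hc x w' hx hw' ?_ _ T₂ (fun _ => rfl) hT₂
    rw [QuadraticMap.polar_comm]
    exact hw'x

/-- **Dichotomy**: for a reflection `T'` of norm `-c`, every isometry `g` has `g * T'` or `g` in
the group generated by the reflections of norm `c`. -/
theorem mul_mem_or_mem_reflGroupOf (Q : QuadraticForm (ZMod 3) V)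
    (hQ : (QuadraticMap.polarBilin Q).Nondegenerate) (hdim : 5 ≤ finrank (ZMod 3) V)
    (c : ZMod 3) (hc : c ≠ 0) (T' : V ≃ₗ[ZMod 3] V) (hT' : T' ∈ reflSetOf Q (-c))
    (g : V ≃ₗ[ZMod 3] V) (hg : g ∈ isoGroup Q) :
    g * T' ∈ reflGroupOf Q c ∨ g ∈ reflGroupOf Q c := by
  have hnc : -c ≠ 0 := neg_ne_zero.mpr hc
  have hT'sq : T' * T' = 1 := refl_mul_self Q T' (reflSetOf_subset Q (-c) hnc hT')
  have hgr : g ∈ reflGroup Q := isoGroup_le_reflGroup Q hQ zmod3_hF hg
  have step : ∀ T ∈ reflSet Q, ∀ y : V ≃ₗ[ZMod 3] V,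
      (y * T' ∈ reflGroupOf Q c ∨ y ∈ reflGroupOf Q c) →
      (T * y * T' ∈ reflGroupOf Q c ∨ T * y ∈ reflGroupOf Q c) := by
    intro T hT y hy
    have hTsq : T * T = 1 := refl_mul_self Q T hT
    have hTinv : T⁻¹ = T := inv_eq_of_mul_eq_one_right hTsq
    have hTiso : T ∈ isoGroup Q := reflGroup_le_isoGroup Q (Subgroup.subset_closure hT)
    obtain ⟨v, hv, hTv⟩ := hT
    rcases zmod3_eq_or_eq_neg (Q v) c hv hc with hvc | hvc
    · have hTN : T ∈ reflGroupOf Q c := Subgroup.subset_closure ⟨v, hvc, hTv⟩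
      rcases hy with hy | hy
      · left
        rw [mul_assoc]
        exact Subgroup.mul_mem _ hTN hy
      · right
        exact Subgroup.mul_mem _ hTN hy
    · have hTneg : T ∈ reflSetOf Q (-c) := ⟨v, hvc, hTv⟩
      have hTT' : T * T' ∈ reflGroupOf Q c :=
        mul_mem_reflGroupOf_of_neg Q hQ hdim c hc T T' hTneg hT'
      rcases hy with hy | hy
      · right
        have h1 := conj_mem_reflGroupOf Q c T hTiso _ hy
        have h2 : T * y = (T * (y * T') * T⁻¹) * (T * T') := by
          calc T * y = T * y * 1 := by rw [mul_one]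
            _ = T * y * (T' * T') := by rw [hT'sq]
            _ = T * y * T' * 1 * T' := by group
            _ = T * y * T' * (T⁻¹ * T) * T' := by rw [inv_mul_cancel]
            _ = _ := by group
        rw [h2]
        exact Subgroup.mul_mem _ h1 hTT'
      · left
        have h1 := conj_mem_reflGroupOf Q c T hTiso _ hy
        have h2 : T * y * T' = (T * y * T⁻¹) * (T * T') := by group
        rw [h2]
        exact Subgroup.mul_mem _ h1 hTT'
  clear hg
  unfold reflGroup at hgr
  induction hgr using Subgroup.closure_induction_left with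
  | one =>
    right
    exact Subgroup.one_mem _
  | mul_left T hT y _ ih =>
    have := step T hT y ih
    rw [mul_assoc] at this
    exact this
  | inv_mul_cancel T hT y _ ih =>
    have hTsq : T * T = 1 := refl_mul_self Q T hT
    have hTinv : T⁻¹ = T := inv_eq_of_mul_eq_one_right hTsq
    rw [hTinv]
    have := step T hT y ih
    rw [mul_assoc] at this
    exact this

end Three

end Cfsg.Agent.Lib.Helper36
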