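import Mathlib
import Cfsg.Agent.Lib.Helper36.ReflIndex

set_option autoImplicit false
set_option linter.unusedSectionVars false

/-!
# Linear maps commuting with the products of two orthogonal reflections of equal norm are scalar

Finite field of odd characteristic, non-degenerate quadratic space of dimension at least five.
-/

namespace Cfsg.Agent.Lib.Helper36

open Module Cfsg.Agent.Lib.Helper13

variable {F V : Type*} [Field F] [Fintype F] [DecidableEq F] [AddCommGroup V] [Module F V]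
  [FiniteDimensional F V]

local notation "pol" => QuadraticMap.polar

/-- The commuting hypothesis: `g` commutes with `r_a r_b` for all orthogonal `a, b` of equal
non-zero norm. -/
def CommutesWithPairs (Q : QuadraticForm F V) (g : V →ₗ[F] V) : Prop :=
  ∀ a b : V, Q a ≠ 0 → Q b = Q a → pol (⇑Q) a b = 0 →
    ∀ x, g (reflLin Q a (reflLin Q b x)) = reflLin Q a (reflLin Q b (g x))

omit [Fintype F] [DecidableEq F] [FiniteDimensional F V] in
theorem polar_self_ne_zero' (Q : QuadraticForm F V) (h2 : (2 : F) ≠ 0) {a : V} (ha : Q a ≠ 0) :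
    pol (⇑Q) a a ≠ 0 := by
  rw [QuadraticMap.polar_self, nsmul_eq_mul]
  exact mul_ne_zero (by exact_mod_cast h2) ha

omit [Fintype F] [DecidableEq F] [FiniteDimensional F V] in
/-- `g a` lies in the plane of `a, b`. -/
theorem two_smul_map_eq (Q : QuadraticForm F V) (g : V →ₗ[F] V) (hg : CommutesWithPairs Q g)
    (a b : V) (ha : Q a ≠ 0) (hb : Q b = Q a) (hab : pol (⇑Q) a b = 0) :
    (2 : F) • g a = ((Q a)⁻¹ * pol (⇑Q) a (g a)) • a + ((Q b)⁻¹ * pol (⇑Q) b (g a)) • b := by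
  have h1 := hg a b ha hb hab a
  have hta : reflLin Q a (reflLin Q b a) = -a := by
    rw [reflLin_reflLin_of_orth Q a b hab, QuadraticMap.polar_comm (⇑Q) b a, hab, mul_zero,
      zero_smul, sub_zero, QuadraticMap.polar_self, nsmul_eq_mul, ← mul_assoc]
    have : (Q a)⁻¹ * ((2 : ℕ) : F) * Q a = 2 := by
      rw [mul_comm (Q a)⁻¹, mul_assoc, inv_mul_cancel₀ ha, mul_one]
      norm_num
    rw [this, two_smul]
    abel
  rw [hta, map_neg, reflLin_reflLin_of_orth Q a b hab] at h1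
  -- h1 : -g a = g a - .. • a - .. • b
  have h3 : (2 : F) • g a = g a + g a := two_smul F (g a)
  rw [h3]
  have h4 : g a + g a = g a - (-g a) := by abel
  rw [h4, h1]
  abel

/-- Every non-singular vector is an eigenvector. -/
theorem exists_eigen (Q : QuadraticForm F V) (hQ : (QuadraticMap.polarBilin Q).Nondegenerate)
    (h2 : (2 : F) ≠ 0) (hdim : 5 ≤ finrank F V) (g : V →ₗ[F] V) (hg : CommutesWithPairs Q g)
    (a : V) (ha : Q a ≠ 0) : ∃ c : F, g a = c • a := by
  obtain ⟨b, hb, hab, -⟩ := exists_orth_Q_eq Q hQ h2 hdim a a ha (Q a) ha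
  have hb0 : Q b ≠ 0 := by rw [hb]; exact ha
  obtain ⟨b', hb', hab', hbb'⟩ := exists_orth_Q_eq Q hQ h2 hdim a b ha (Q a) ha
  have e1 := two_smul_map_eq Q g hg a b ha hb hab
  have e2 := two_smul_map_eq Q g hg a b' ha hb' hab'
  -- pair e2 with b
  have h3 : pol (⇑Q) b ((2 : F) • g a) = 0 := by
    rw [e2, QuadraticMap.polar_add_right, QuadraticMap.polar_smul_right,
      QuadraticMap.polar_smul_right, QuadraticMap.polar_comm (⇑Q) b a, hab, hbb']
    simp
  have h4 : pol (⇑Q) b (g a) = 0 := by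
    rw [QuadraticMap.polar_smul_right, smul_eq_mul] at h3
    rcases mul_eq_zero.mp h3 with h | h
    · exact absurd h h2
    · exact h
  rw [h4, mul_zero, zero_smul, add_zero] at e1
  refine ⟨(2 : F)⁻¹ * ((Q a)⁻¹ * pol (⇑Q) a (g a)), ?_⟩
  rw [mul_smul, ← e1, smul_smul, inv_mul_cancel₀ h2, one_smul]

omit [Fintype F] [DecidableEq F] [FiniteDimensional F V] in
/-- Orthogonal non-singular eigenvectors with non-singular sum have equal eigenvalues, provided
the sum is an eigenvector. -/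
theorem eigen_eq_of_orth (Q : QuadraticForm F V) (h2 : (2 : F) ≠ 0) (g : V →ₗ[F] V)
    (a y : V) (ha : Q a ≠ 0) (hy : Q y ≠ 0) (hay : pol (⇑Q) a y = 0) (c c' c'' : F)
    (hc : g a = c • a) (hc' : g y = c' • y) (hc'' : g (a + y) = c'' • (a + y)) : c = c' := by
  rw [map_add, hc, hc', smul_add] at hc''
  have h1 : pol (⇑Q) a (c • a + c' • y) = pol (⇑Q) a (c'' • a + c'' • y) := by rw [hc'']
  have h3 : pol (⇑Q) y (c • a + c' • y) = pol (⇑Q) y (c'' • a + c'' • y) := by rw [hc'']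
  rw [QuadraticMap.polar_add_right, QuadraticMap.polar_add_right, QuadraticMap.polar_smul_right,
    QuadraticMap.polar_smul_right, QuadraticMap.polar_smul_right, QuadraticMap.polar_smul_right,
    hay, smul_zero, smul_zero, add_zero, add_zero, smul_eq_mul, smul_eq_mul] at h1
  rw [QuadraticMap.polar_add_right, QuadraticMap.polar_add_right, QuadraticMap.polar_smul_right,
    QuadraticMap.polar_smul_right, QuadraticMap.polar_smul_right, QuadraticMap.polar_smul_right,
    QuadraticMap.polar_comm (⇑Q) y a, hay, smul_zero, smul_zero, zero_add, zero_add, smul_eq_mul,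
    smul_eq_mul] at h3
  have e1 : c = c'' := mul_right_cancel₀ (polar_self_ne_zero' Q h2 ha) h1
  have e2 : c' = c'' := mul_right_cancel₀ (polar_self_ne_zero' Q h2 hy) h3
  rw [e1, e2]

/-- Orthogonal non-singular vectors with non-singular sum have equal eigenvalues. -/
theorem eigen_eq_of_orth' (Q : QuadraticForm F V) (hQ : (QuadraticMap.polarBilin Q).Nondegenerate)
    (h2 : (2 : F) ≠ 0) (hdim : 5 ≤ finrank F V) (g : V →ₗ[F] V) (hg : CommutesWithPairs Q g)
    (a y : V) (ha : Q a ≠ 0) (hy : Q y ≠ 0) (hay : pol (⇑Q) a y = 0) (hsum : Q a + Q y ≠ 0)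
    (c c' : F) (hc : g a = c • a) (hc' : g y = c' • y) : c = c' := by
  have hs : Q (a + y) ≠ 0 := by
    rw [Q_add', hay, add_zero]
    exact hsum
  obtain ⟨c'', hc''⟩ := exists_eigen Q hQ h2 hdim g hg (a + y) hs
  exact eigen_eq_of_orth Q h2 g a y ha hy hay c c' c'' hc hc' hc''

omit [Fintype F] [DecidableEq F] [FiniteDimensional F V] in
theorem two_mul_ne_zero' (h2 : (2 : F) ≠ 0) {d : F} (hd : d ≠ 0) : d + d ≠ 0 := by
  rw [← two_mul]
  exact mul_ne_zero h2 hd

/-- Non-singular vectors of equal norm have equal eigenvalues. -/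
theorem eigen_eq_of_Q_eq (Q : QuadraticForm F V) (hQ : (QuadraticMap.polarBilin Q).Nondegenerate)
    (h2 : (2 : F) ≠ 0) (hdim : 5 ≤ finrank F V) (g : V →ₗ[F] V) (hg : CommutesWithPairs Q g)
    (a a' : V) (ha : Q a ≠ 0) (haa' : Q a' = Q a) (c c' : F) (hc : g a = c • a)
    (hc' : g a' = c' • a') : c = c' := by
  have ha' : Q a' ≠ 0 := by rw [haa']; exact ha
  obtain ⟨y, hy, hay, ha'y⟩ := exists_orth_Q_eq Q hQ h2 hdim a a' ha (Q a) ha
  have hy0 : Q y ≠ 0 := by rw [hy]; exact ha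
  obtain ⟨cy, hcy⟩ := exists_eigen Q hQ h2 hdim g hg y hy0
  have e1 := eigen_eq_of_orth' Q hQ h2 hdim g hg a y ha hy0 hay
    (by rw [hy]; exact two_mul_ne_zero' h2 ha) c cy hc hcy
  have e2 := eigen_eq_of_orth' Q hQ h2 hdim g hg a' y ha' hy0 ha'y
    (by rw [hy, haa']; exact two_mul_ne_zero' h2 ha) c' cy hc' hcy
  rw [e1, e2]

/-- Transfer of an eigenvalue to a vector of prescribed norm. -/
theorem exists_eigen_of_Q (Q : QuadraticForm F V) (hQ : (QuadraticMap.polarBilin Q).Nondegenerate)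
    (h2 : (2 : F) ≠ 0) (hdim : 5 ≤ finrank F V) (g : V →ₗ[F] V) (hg : CommutesWithPairs Q g)
    (a : V) (ha : Q a ≠ 0) (c : F) (hc : g a = c • a) (d' : F) (hd' : d' ≠ 0) :
    ∃ a'' : V, Q a'' = d' ∧ g a'' = c • a'' := by
  -- the generic case
  have gen : ∀ a₁ : V, Q a₁ ≠ 0 → g a₁ = c • a₁ → Q a₁ + d' ≠ 0 →
      ∃ a'' : V, Q a'' = d' ∧ g a'' = c • a'' := by
    intro a₁ ha₁ hc₁ hne
    obtain ⟨y, hy, hay, -⟩ := exists_orth_Q_eq Q hQ h2 hdim a₁ a₁ ha₁ d' hd'
    have hy0 : Q y ≠ 0 := by rw [hy]; exact hd'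
    obtain ⟨cy, hcy⟩ := exists_eigen Q hQ h2 hdim g hg y hy0
    have e1 := eigen_eq_of_orth' Q hQ h2 hdim g hg a₁ y ha₁ hy0 hay (by rw [hy]; exact hne)
      c cy hc₁ hcy
    exact ⟨y, hy, by rw [hcy, e1]⟩
  by_cases hne : Q a + d' ≠ 0
  · exact gen a ha hc hne
  · push Not at hne
    obtain ⟨x, hx, hax, -⟩ := exists_orth_Q_eq Q hQ h2 hdim a a ha (Q a) ha
    have hx0 : Q x ≠ 0 := by rw [hx]; exact ha
    obtain ⟨cx, hcx⟩ := exists_eigen Q hQ h2 hdim g hg x hx0
    have e1 := eigen_eq_of_orth' Q hQ h2 hdim g hg a x ha hx0 hax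
      (by rw [hx]; exact two_mul_ne_zero' h2 ha) c cx hc hcx
    have hQ₁ : Q (a + x) = Q a + Q a := by rw [Q_add', hax, add_zero, hx]
    have ha₁ : Q (a + x) ≠ 0 := by rw [hQ₁]; exact two_mul_ne_zero' h2 ha
    have hc₁ : g (a + x) = c • (a + x) := by rw [map_add, hc, hcx, ← e1, smul_add]
    apply gen (a + x) ha₁ hc₁
    rw [hQ₁, add_assoc, hne, add_zero]
    exact ha

/-- **A linear map commuting with all `r_a r_b` (`a ⊥ b` of equal non-zero norm) is scalar.** -/
theorem scalar_of_commutesWithPairs (Q : QuadraticForm F V)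
    (hQ : (QuadraticMap.polarBilin Q).Nondegenerate) (h2 : (2 : F) ≠ 0)
    (hdim : 5 ≤ finrank F V) (g : V →ₗ[F] V) (hg : CommutesWithPairs Q g) :
    ∃ c : F, ∀ x, g x = c • x := by
  obtain ⟨a₀, ha₀⟩ := exists_Q_eq Q hQ h2 (by omega) 1 one_ne_zero
  have ha₀' : Q a₀ ≠ 0 := by rw [ha₀]; exact one_ne_zero
  obtain ⟨c₀, hc₀⟩ := exists_eigen Q hQ h2 hdim g hg a₀ ha₀'
  have key : ∀ a : V, Q a ≠ 0 → g a = c₀ • a := by
    intro a ha
    obtain ⟨c, hc⟩ := exists_eigen Q hQ h2 hdim g hg a ha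
    obtain ⟨a'', ha'', hc''⟩ := exists_eigen_of_Q Q hQ h2 hdim g hg a₀ ha₀' c₀ hc₀ (Q a) ha
    have := eigen_eq_of_Q_eq Q hQ h2 hdim g hg a a'' ha ha'' c c₀ hc hc''
    rw [hc, this]
  refine ⟨c₀, fun v => ?_⟩
  by_cases hv : Q v ≠ 0
  · exact key v hv
  · push Not at hv
    obtain ⟨x, hx, -, hvx⟩ := exists_orth_Q_eq Q hQ h2 hdim a₀ v ha₀' 1 one_ne_zero
    have hx0 : Q x ≠ 0 := by rw [hx]; exact one_ne_zero
    have hvx0 : Q (v + x) ≠ 0 := by
      rw [Q_add', hv, hvx, zero_add, add_zero]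
      exact hx0
    have h1 := key (v + x) hvx0
    have h3 := key x hx0
    rw [map_add, h3, smul_add] at h1
    exact add_right_cancel h1

end Cfsg.Agent.Lib.Helper36
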