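import Mathlib
import Cfsg.Agent.Lib.Helper36.ScalarCentral
import Cfsg.Agent.Lib.Helper36.OrthSumOdd

set_option autoImplicit false
set_option linter.unusedSectionVars false

/-!
# Linear maps acting trivially on `Ω / Z(Ω)` by conjugation are scalar

Finite field of odd characteristic, non-degenerate quadratic space of dimension at least five.
-/

namespace Cfsg.Agent.Lib.Helper36

open Module Cfsg.Agent.Lib.Helper13

variable {F V : Type*} [Field F] [Fintype F] [DecidableEq F] [AddCommGroup V] [Module F V]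
  [FiniteDimensional F V]

local notation "pol" => QuadraticMap.polar

/-- The product of the reflections in two vectors of equal norm lies in the commutator subgroup
of the isometry group. -/
theorem pair_mem_commutator (Q : QuadraticForm F V)
    (hQ : (QuadraticMap.polarBilin Q).Nondegenerate) (h2 : (2 : F) ≠ 0)
    (hdim : 2 ≤ finrank F V) (a b : V) (ha : Q a ≠ 0) (hb : Q b = Q a)
    (s : ↥(isoGroup Q)) (hs : ∀ x, (s : V ≃ₗ[F] V) x = reflLin Q a (reflLin Q b x)) :
    s ∈ commutator ↥(isoGroup Q) := by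
  have hb0 : Q b ≠ 0 := by rw [hb]; exact ha
  have heq : (s : V ≃ₗ[F] V) = reflEquiv Q a ha * reflEquiv Q b hb0 := by
    apply LinearEquiv.ext
    intro x
    rw [hs, LinearEquiv.mul_apply, reflEquiv_apply, reflEquiv_apply]
  have hTb : reflEquiv Q b hb0 ∈ isoGroup Q :=
    reflGroup_le_isoGroup Q (Subgroup.subset_closure (reflEquiv_mem Q b hb0))
  have h := (mem_commutator_iff_par_spin Q hQ h2 hdim s).mpr
  apply h
  rw [heq]
  constructor
  · rw [par_refl_mul Q hQ _ hTb _ (reflEquiv_mem Q a ha), par_refl Q hQ _ (reflEquiv_mem Q b hb0)]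
    decide
  · rw [spin_refl_mul Q hQ _ hTb a ha _ (fun _ => rfl), spin_refl Q hQ b hb0 _ (fun _ => rfl), hb]
    have := quadraticChar_sq_one ha
    rw [pow_two] at this
    exact this

/-- The pair element `r_a r_b` as an element of the isometry group. -/
noncomputable def pairElt (Q : QuadraticForm F V) (a b : V) (ha : Q a ≠ 0) (hb : Q b ≠ 0) :
    ↥(isoGroup Q) :=
  ⟨reflEquiv Q a ha * reflEquiv Q b hb, Subgroup.mul_mem _
    (reflGroup_le_isoGroup Q (Subgroup.subset_closure (reflEquiv_mem Q a ha)))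
    (reflGroup_le_isoGroup Q (Subgroup.subset_closure (reflEquiv_mem Q b hb)))⟩

omit [Fintype F] [DecidableEq F] [FiniteDimensional F V] in
theorem pairElt_apply (Q : QuadraticForm F V) (a b : V) (ha : Q a ≠ 0) (hb : Q b ≠ 0) (x : V) :
    ((pairElt Q a b ha hb : ↥(isoGroup Q)) : V ≃ₗ[F] V) x = reflLin Q a (reflLin Q b x) := rfl

/-- An isometry centralising the commutator subgroup is `±1`. -/
theorem eq_one_or_neg_one_of_centralizes (Q : QuadraticForm F V)
    (hQ : (QuadraticMap.polarBilin Q).Nondegenerate) (h2 : (2 : F) ≠ 0)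
    (hdim : 5 ≤ finrank F V) (z : ↥(isoGroup Q))
    (hz : ∀ s' : ↥(isoGroup Q), s' ∈ commutator ↥(isoGroup Q) → z * s' = s' * z) :
    (∀ x, (z : V ≃ₗ[F] V) x = x) ∨ (∀ x, (z : V ≃ₗ[F] V) x = -x) := by
  have hcomm : CommutesWithPairs Q ((z : V ≃ₗ[F] V) : V →ₗ[F] V) := by
    intro a b ha hb hab x
    have hb0 : Q b ≠ 0 := by rw [hb]; exact ha
    have hmem := pair_mem_commutator Q hQ h2 (by omega) a b ha hb (pairElt Q a b ha hb0)
      (pairElt_apply Q a b ha hb0)
    have h1 := hz _ hmem
    have h3 := congrArg (fun w : ↥(isoGroup Q) => (w : V ≃ₗ[F] V) x) h1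
    exact h3
  obtain ⟨c, hc⟩ := scalar_of_commutesWithPairs Q hQ h2 hdim _ hcomm
  obtain ⟨a₀, ha₀⟩ := exists_Q_eq Q hQ h2 (by omega) 1 one_ne_zero
  have h1 : Q ((z : V ≃ₗ[F] V) a₀) = Q a₀ := z.2 a₀
  have h3 : (z : V ≃ₗ[F] V) a₀ = c • a₀ := hc a₀
  rw [h3, QuadraticMap.map_smul, ha₀, smul_eq_mul, mul_one] at h1
  have h4 : (c - 1) * (c + 1) = 0 := by linear_combination h1
  rcases mul_eq_zero.mp h4 with h | h
  · left
    intro x
    have : c = 1 := by linear_combination h
    have hx : (z : V ≃ₗ[F] V) x = c • x := hc x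
    rw [hx, this, one_smul]
  · right
    intro x
    have : c = -1 := by linear_combination h
    have hx : (z : V ≃ₗ[F] V) x = c • x := hc x
    rw [hx, this, neg_smul, one_smul]

omit [Fintype F] [DecidableEq F] in
/-- Vectors negated by `r_a r_b` lie in the plane of `a, b`. -/
theorem mem_span_of_pair_neg (Q : QuadraticForm F V) (h2 : (2 : F) ≠ 0) (a b : V)
    (hab : pol (⇑Q) a b = 0) (y : V) (hy : reflLin Q a (reflLin Q b y) = -y) :
    y ∈ Submodule.span F ({a, b} : Set V) := by
  rw [reflLin_reflLin_of_orth Q a b hab] at hy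
  have h1 : (2 : F) • y = ((Q a)⁻¹ * pol (⇑Q) a y) • a + ((Q b)⁻¹ * pol (⇑Q) b y) • b := by
    rw [two_smul]
    have : y + y = y - (-y) := by abel
    rw [this, ← hy]
    abel
  have h3 : y = (2 : F)⁻¹ • ((2 : F) • y) := by rw [smul_smul, inv_mul_cancel₀ h2, one_smul]
  rw [h3, h1]
  apply Submodule.smul_mem
  apply Submodule.add_mem
  · exact Submodule.smul_mem _ _ (Submodule.subset_span (by simp))
  · exact Submodule.smul_mem _ _ (Submodule.subset_span (by simp))

/-- **A linear automorphism acting trivially on `Ω / Z(Ω)` is scalar.** -/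
theorem scalar_of_central_conj (Q : QuadraticForm F V)
    (hQ : (QuadraticMap.polarBilin Q).Nondegenerate) (h2 : (2 : F) ≠ 0)
    (hdim : 5 ≤ finrank F V) (g : V ≃ₗ[F] V)
    (h : ∀ s : ↥(isoGroup Q), s ∈ commutator ↥(isoGroup Q) →
      ∃ z : ↥(isoGroup Q),
        (∀ s' : ↥(isoGroup Q), s' ∈ commutator ↥(isoGroup Q) → z * s' = s' * z) ∧
        g * (s : V ≃ₗ[F] V) * g⁻¹ = (s : V ≃ₗ[F] V) * (z : V ≃ₗ[F] V)) :
    ∃ c : F, ∀ x, g x = c • x := by
  classical
  apply scalar_of_commutesWithPairs Q hQ h2 hdim (g : V →ₗ[F] V)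
  intro a b ha hb hab x
  have hb0 : Q b ≠ 0 := by rw [hb]; exact ha
  have hmem := pair_mem_commutator Q hQ h2 (by omega) a b ha hb (pairElt Q a b ha hb0)
    (pairElt_apply Q a b ha hb0)
  obtain ⟨z, hz, hconj⟩ := h _ hmem
  -- `g (t y) = t (z (g y))`
  have hgt : ∀ y, g (reflLin Q a (reflLin Q b y)) =
      reflLin Q a (reflLin Q b ((z : V ≃ₗ[F] V) (g y))) := by
    intro y
    have h1 := congrArg (fun w : V ≃ₗ[F] V => w (g y)) hconj
    simp only [LinearEquiv.mul_apply] at h1
    have h3 : g⁻¹ (g y) = y := by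
      rw [← LinearEquiv.mul_apply, inv_mul_cancel]
      rfl
    rw [h3] at h1
    exact h1
  rcases eq_one_or_neg_one_of_centralizes Q hQ h2 hdim z hz with hz1 | hz1
  · change g (reflLin Q a (reflLin Q b x)) = reflLin Q a (reflLin Q b (g x))
    rw [hgt, hz1]
  · exfalso
    set S : Submodule F V := Submodule.span F ({a, b} : Set V) with hS
    have haS : a ∈ S := Submodule.subset_span (by simp)
    have hbS : b ∈ S := Submodule.subset_span (by simp)
    have hfS : finrank F S ≤ 2 := by
      have hco : ({a, b} : Set V) = ((({a, b} : Finset V)) : Set V) := by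
        rw [Finset.coe_insert, Finset.coe_singleton]
      rw [hS, hco]
      exact le_trans (finrank_span_finset_le_card ({a, b} : Finset V)) Finset.card_le_two
    have hfP : finrank F (perp Q S) = finrank F V - finrank F S := finrank_perp hQ S
    have hmap : (perp Q S).map (g : V →ₗ[F] V) ≤ S := by
      rintro _ ⟨y, hy, rfl⟩
      have hya : pol (⇑Q) a y = 0 := mem_perp.mp hy a haS
      have hyb : pol (⇑Q) b y = 0 := mem_perp.mp hy b hbS
      have hty : reflLin Q a (reflLin Q b y) = y := by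
        rw [reflLin_reflLin_of_orth Q a b hab, hya, hyb]
        simp
      have h1 := hgt y
      rw [hty, hz1, map_neg, map_neg] at h1
      apply mem_span_of_pair_neg Q h2 a b hab
      change reflLin Q a (reflLin Q b (g y)) = -(g y)
      exact neg_eq_iff_eq_neg.mp h1.symm
    have h5 := Submodule.finrank_mono hmap
    have h6 : finrank F ((perp Q S).map (g : V →ₗ[F] V)) = finrank F (perp Q S) :=
      LinearEquiv.finrank_map_eq g (perp Q S)
    omega

end Cfsg.Agent.Lib.Helper36
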