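import Mathlib
import Cfsg.Prelude.Def_LieTypeDatum
import Cfsg.Agent.Lib.Helper36.AutImage
import Cfsg.Agent.Lib.Helper36.ScalarCentral2
import Cfsg.Agent.Lib.Helper36.DicksonMatrix

set_option autoImplicit false
set_option linter.unusedSectionVars false

/-!
# The images of the conformal, full and special orthogonal groups in `Aut(PΩ(Q))`

`simAut Q : GO(Q) →* MulAut (PΩ(Q))` is the conjugation action; `pgoAut`, `poAut`, `psoAut` and
`Inn (PΩ(Q))` are the images of `GO`, `O`, `SO` and `Ω`.  Over a finite field of odd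
characteristic in dimension at least five the kernel consists of scalar matrices.
-/

namespace Cfsg.Agent.Lib.Helper36

open Module Matrix

variable {ι : Type} [Fintype ι] [DecidableEq ι] {F : Type*} [Field F]

theorem mem_isometryGroup_iff' (Q : (ι → F) → F) (g : GL ι F) :
    g ∈ Cfsg.isometryGroup F Q ↔ ∀ v, Q ((g : Matrix ι ι F) *ᵥ v) = Q v := by
  unfold Cfsg.isometryGroup Cfsg.preserving
  constructor
  · intro h v
    exact h v v
  · intro h u _
    exact h u

/-- The similarity group normalises the isometry group. -/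
theorem similarity_le_normalizer (Q : (ι → F) → F) :
    Cfsg.Geo.quadSimilarityGroup Q ≤
      Subgroup.normalizer ((Cfsg.isometryGroup F Q : Subgroup (GL ι F)) : Set (GL ι F)) := by
  have key : ∀ g : GL ι F, g ∈ Cfsg.Geo.quadSimilarityGroup Q → ∀ x : GL ι F,
      x ∈ Cfsg.isometryGroup F Q → g * x * g⁻¹ ∈ Cfsg.isometryGroup F Q := by
    intro g hg x hx
    obtain ⟨c, hc⟩ := hg
    rw [mem_isometryGroup_iff'] at hx ⊢
    intro v
    have h1 : Q v = (c : F) * Q (((g⁻¹ : GL ι F) : Matrix ι ι F) *ᵥ v) := by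
      rw [← hc, Matrix.mulVec_mulVec, ← Units.val_mul, mul_inv_cancel, Units.val_one,
        Matrix.one_mulVec]
    rw [Units.val_mul, Units.val_mul, ← Matrix.mulVec_mulVec, ← Matrix.mulVec_mulVec, hc, hx, ← h1]
  intro g hg
  rw [Subgroup.mem_normalizer_iff]
  intro x
  constructor
  · exact key g hg x
  · intro hx
    have := key g⁻¹ ((Cfsg.Geo.quadSimilarityGroup Q).inv_mem hg) _ hx
    have e : g⁻¹ * (g * x * g⁻¹) * g⁻¹⁻¹ = x := by group
    rw [e] at this
    exact this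

/-- The conjugation action of the similarity group on `PΩ(Q)`. -/
noncomputable def simAut (Q : (ι → F) → F) :
    ↥(Cfsg.Geo.quadSimilarityGroup Q) →* MulAut (Cfsg.POmega F Q) :=
  (normAut (Cfsg.isometryGroup F Q)).comp (Subgroup.inclusion (similarity_le_normalizer Q))

theorem simAut_mk (Q : (ι → F) → F) (g : ↥(Cfsg.Geo.quadSimilarityGroup Q))
    (s s' : ↥(Cfsg.Omega F Q))
    (h : ((s' : ↥(Cfsg.isometryGroup F Q)) : GL ι F) =
      (g : GL ι F) * ((s : ↥(Cfsg.isometryGroup F Q)) : GL ι F) * (g : GL ι F)⁻¹) :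
    simAut Q g (QuotientGroup.mk s) = QuotientGroup.mk s' :=
  normAut_mk (Cfsg.isometryGroup F Q) _ s s' h

theorem exists_conj_Omega (Q : (ι → F) → F) (g : ↥(Cfsg.Geo.quadSimilarityGroup Q))
    (s : ↥(Cfsg.Omega F Q)) :
    ∃ s' : ↥(Cfsg.Omega F Q), ((s' : ↥(Cfsg.isometryGroup F Q)) : GL ι F) =
      (g : GL ι F) * ((s : ↥(Cfsg.isometryGroup F Q)) : GL ι F) * (g : GL ι F)⁻¹ :=
  exists_conj (Cfsg.isometryGroup F Q) (Subgroup.inclusion (similarity_le_normalizer Q) g) s

omit [Fintype ι] [DecidableEq ι] in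
theorem map_refl (M : Matrix ι ι F) : M.map (RingEquiv.refl F) = M := by
  ext i j
  rfl

/-- An automorphism is induced by the similarity `g` iff it is `simAut Q g`. -/
theorem isInduced_iff (Q : (ι → F) → F) (g : ↥(Cfsg.Geo.quadSimilarityGroup Q))
    (β : Cfsg.POmega F Q ≃* Cfsg.POmega F Q) :
    Cfsg.IsInducedBySemilinearPOmega Q (g : GL ι F) (RingEquiv.refl F) β ↔ β = simAut Q g := by
  constructor
  · intro h
    apply MulEquiv.ext
    intro x
    induction x using QuotientGroup.induction_on with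
    | H s =>
      obtain ⟨s', hs'⟩ := exists_conj_Omega Q g s
      rw [simAut_mk Q g s s' hs']
      apply h s s'
      rw [map_refl, hs', Units.val_mul, Units.val_mul]
  · rintro rfl s s' hs'
    apply simAut_mk Q g s s'
    apply Units.ext
    rw [hs', map_refl, Units.val_mul, Units.val_mul]

/-- The set of automorphisms induced by the elements of a subgroup of the similarity group is the
image of that subgroup. -/
theorem autSubgroupOf_eq_map (Q : (ι → F) → F) (R : Subgroup (GL ι F))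
    (hR : R ≤ Cfsg.Geo.quadSimilarityGroup Q) :
    Cfsg.autSubgroupOf (fun β : Cfsg.POmega F Q ≃* Cfsg.POmega F Q =>
      ∃ g : GL ι F, g ∈ R ∧ Cfsg.IsInducedBySemilinearPOmega Q g (RingEquiv.refl F) β) =
    (R.subgroupOf (Cfsg.Geo.quadSimilarityGroup Q)).map (simAut Q) := by
  unfold Cfsg.autSubgroupOf
  have hset : {β : MulAut (Cfsg.POmega F Q) |
      ∃ g : GL ι F, g ∈ R ∧ Cfsg.IsInducedBySemilinearPOmega Q g (RingEquiv.refl F) β} =
      (((R.subgroupOf (Cfsg.Geo.quadSimilarityGroup Q)).map (simAut Q) :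
        Subgroup (MulAut (Cfsg.POmega F Q))) : Set (MulAut (Cfsg.POmega F Q))) := by
    ext β
    constructor
    · rintro ⟨g, hgR, hind⟩
      refine ⟨⟨g, hR hgR⟩, ?_, ?_⟩
      · exact hgR
      · exact ((isInduced_iff Q ⟨g, hR hgR⟩ β).mp hind).symm
    · rintro ⟨g, hgR, rfl⟩
      exact ⟨(g : GL ι F), hgR, (isInduced_iff Q g _).mpr rfl⟩
  rw [hset, Subgroup.closure_eq]

theorem pgoAut_eq (Q : (ι → F) → F) : Cfsg.pgoAut F Q = (simAut Q).range := by
  unfold Cfsg.pgoAut Cfsg.IsSimilarityInducedAutPOmega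
  rw [autSubgroupOf_eq_map Q _ le_rfl, Subgroup.subgroupOf_self, ← MonoidHom.range_eq_map]

theorem isometryGroup_le_similarity (Q : (ι → F) → F) :
    Cfsg.isometryGroup F Q ≤ Cfsg.Geo.quadSimilarityGroup Q := by
  intro g hg
  refine ⟨1, fun v => ?_⟩
  rw [(mem_isometryGroup_iff' Q g).mp hg v, Units.val_one, one_mul]

theorem poAut_eq (Q : (ι → F) → F) : Cfsg.poAut F Q =
    ((Cfsg.isometryGroup F Q).subgroupOf (Cfsg.Geo.quadSimilarityGroup Q)).map (simAut Q) := by
  unfold Cfsg.poAut Cfsg.IsIsometryInducedAutPOmega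
  exact autSubgroupOf_eq_map Q _ (isometryGroup_le_similarity Q)

theorem psoAut_eq (Q : (ι → F) → F) : Cfsg.psoAut F Q =
    ((Cfsg.specialIsometryGL F Q).subgroupOf (Cfsg.Geo.quadSimilarityGroup Q)).map (simAut Q) := by
  unfold Cfsg.psoAut Cfsg.IsSpecialIsometryInducedAutPOmega
  exact autSubgroupOf_eq_map Q _ (le_trans inf_le_left (isometryGroup_le_similarity Q))

/-- `Ω(Q)` as a subgroup of `GL`. -/
def OmegaGL (Q : (ι → F) → F) : Subgroup (GL ι F) :=
  (Cfsg.Omega F Q).map (Cfsg.isometryGroup F Q).subtype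

theorem OmegaGL_le_isometryGroup (Q : (ι → F) → F) : OmegaGL Q ≤ Cfsg.isometryGroup F Q := by
  rintro _ ⟨s, _, rfl⟩
  exact s.2

theorem mem_OmegaGL_iff (Q : (ι → F) → F) (g : GL ι F) :
    g ∈ OmegaGL Q ↔ ∃ h : g ∈ Cfsg.isometryGroup F Q,
      (⟨g, h⟩ : ↥(Cfsg.isometryGroup F Q)) ∈ Cfsg.Omega F Q := by
  constructor
  · rintro ⟨s, hs, rfl⟩
    exact ⟨s.2, hs⟩
  · rintro ⟨h, hs⟩
    exact ⟨⟨g, h⟩, hs, rfl⟩

theorem conj_eq_simAut (Q : (ι → F) → F) (s : ↥(Cfsg.Omega F Q)) :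
    MulAut.conj (QuotientGroup.mk s : Cfsg.POmega F Q) =
      simAut Q ⟨((s : ↥(Cfsg.isometryGroup F Q)) : GL ι F),
        isometryGroup_le_similarity Q (s : ↥(Cfsg.isometryGroup F Q)).2⟩ := by
  apply MulEquiv.ext
  intro x
  induction x using QuotientGroup.induction_on with
  | H s₁ =>
    have h : (((s * s₁ * s⁻¹ : ↥(Cfsg.Omega F Q)) : ↥(Cfsg.isometryGroup F Q)) : GL ι F) =
        ((s : ↥(Cfsg.isometryGroup F Q)) : GL ι F) * ((s₁ : ↥(Cfsg.isometryGroup F Q)) : GL ι F) *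
          ((s : ↥(Cfsg.isometryGroup F Q)) : GL ι F)⁻¹ := by
      simp only [Subgroup.coe_mul, Subgroup.coe_inv]
    have e := simAut_mk Q ⟨((s : ↥(Cfsg.isometryGroup F Q)) : GL ι F),
        isometryGroup_le_similarity Q (s : ↥(Cfsg.isometryGroup F Q)).2⟩ s₁ (s * s₁ * s⁻¹) h
    rw [e, MulAut.conj_apply, ← QuotientGroup.mk_mul, ← QuotientGroup.mk_inv,
      ← QuotientGroup.mk_mul]

/-- The inner automorphisms of `PΩ(Q)` are the image of `Ω(Q)`. -/
theorem Inn_eq (Q : (ι → F) → F) : Cfsg.Inn (Cfsg.POmega F Q) =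
    ((OmegaGL Q).subgroupOf (Cfsg.Geo.quadSimilarityGroup Q)).map (simAut Q) := by
  ext β
  constructor
  · rintro ⟨x, rfl⟩
    induction x using QuotientGroup.induction_on with
    | H s =>
      refine ⟨⟨((s : ↥(Cfsg.isometryGroup F Q)) : GL ι F),
        isometryGroup_le_similarity Q (s : ↥(Cfsg.isometryGroup F Q)).2⟩, ?_, ?_⟩
      · exact ⟨s, s.2, rfl⟩
      · exact (conj_eq_simAut Q s).symm
  · rintro ⟨g, hg, rfl⟩
    obtain ⟨s, hs, hsg⟩ := hg
    refine ⟨QuotientGroup.mk (⟨s, hs⟩ : ↥(Cfsg.Omega F Q)), ?_⟩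
    rw [conj_eq_simAut Q ⟨s, hs⟩]
    congr 1
    apply Subtype.ext
    exact hsg

section Kernel

variable [Fintype F] [DecidableEq F]

/-- **The kernel of the action on `PΩ(Q)` consists of scalar matrices** (finite field of odd
characteristic, dimension at least five). -/
theorem scalar_of_normAut_eq_one (Q : QuadraticForm F (ι → F))
    (hQ : (QuadraticMap.polarBilin Q).Nondegenerate) (h2 : (2 : F) ≠ 0)
    (hdim : 5 ≤ Fintype.card ι)
    (g : ↥(Subgroup.normalizer ((Cfsg.isometryGroup F (⇑Q) : Subgroup (GL ι F)) : Set (GL ι F))))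
    (hg : normAut (Cfsg.isometryGroup F (⇑Q)) g = 1) :
    ∃ c : F, ∀ v : ι → F, ((g : GL ι F) : Matrix ι ι F) *ᵥ v = c • v := by
  have hdim' : 5 ≤ finrank F (ι → F) := by
    rw [Module.finrank_fintype_fun_eq_card]
    exact hdim
  have key := scalar_of_central_conj Q hQ h2 hdim' (glLinEquiv ι F (g : GL ι F)) ?_
  · obtain ⟨c, hc⟩ := key
    exact ⟨c, fun v => hc v⟩
  · intro s hs
    -- pull `s` back to the matrix group
    set s₀ : ↥(Cfsg.isometryGroup F (⇑Q)) := (isometryGroupEquiv Q).symm s with hs₀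
    have hs₀mem : s₀ ∈ commutator ↥(Cfsg.isometryGroup F (⇑Q)) := by
      rw [mem_commutator_iff_equiv (isometryGroupEquiv Q), hs₀, MulEquiv.apply_symm_apply]
      exact hs
    obtain ⟨z₀, hz₀c, hz₀⟩ :=
      exists_center_of_normAut_eq_one (Cfsg.isometryGroup F (⇑Q)) g hg ⟨s₀, hs₀mem⟩
    refine ⟨isometryGroupEquiv Q (z₀ : ↥(Cfsg.isometryGroup F (⇑Q))), ?_, ?_⟩
    · intro s' hs'
      set s₁ : ↥(Cfsg.isometryGroup F (⇑Q)) := (isometryGroupEquiv Q).symm s' with hs₁
      have hs₁mem : s₁ ∈ commutator ↥(Cfsg.isometryGroup F (⇑Q)) := by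
        rw [mem_commutator_iff_equiv (isometryGroupEquiv Q), hs₁, MulEquiv.apply_symm_apply]
        exact hs'
      have h1 := (Subgroup.mem_center_iff.mp hz₀c) ⟨s₁, hs₁mem⟩
      have h3 : s₁ * (z₀ : ↥(Cfsg.isometryGroup F (⇑Q))) =
          (z₀ : ↥(Cfsg.isometryGroup F (⇑Q))) * s₁ := congrArg Subtype.val h1
      have h4 := congrArg (isometryGroupEquiv Q) h3
      rw [map_mul, map_mul, hs₁, MulEquiv.apply_symm_apply] at h4
      exact h4.symm
    · have h1 := congrArg (glLinEquiv ι F) hz₀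
      rw [map_mul, map_mul, map_mul, map_inv] at h1
      have h3 : glLinEquiv ι F ((s₀ : ↥(Cfsg.isometryGroup F (⇑Q))) : GL ι F) =
          (s : (ι → F) ≃ₗ[F] (ι → F)) := by
        have := subgroupEquivOfIff_coe (glLinEquiv ι F) _ _ (mem_isometryGroup_iff_isoGroup Q) s₀
        rw [← this]
        change ((isometryGroupEquiv Q s₀ : ↥(isoGroup Q)) : (ι → F) ≃ₗ[F] (ι → F)) = _
        rw [hs₀, MulEquiv.apply_symm_apply]
      rw [h3] at h1
      exact h1

end Kernel

end Cfsg.Agent.Lib.Helper36
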