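import Mathlib
import Cfsg.Agent.Lib.Helper36.POmegaAut
import Cfsg.Agent.Lib.Helper36.ReflMatrix

set_option autoImplicit false
set_option linter.unusedSectionVars false

/-!
# The multiplier and the determinant character on the similarity group of a quadratic form
-/

namespace Cfsg.Agent.Lib.Helper36

open Module Matrix

variable {ι : Type} [Fintype ι] [DecidableEq ι] {F : Type*} [Field F]

section Mult

variable (Q : QuadraticForm F (ι → F)) (v₀ : ι → F) (hv₀ : Q v₀ ≠ 0)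

include hv₀ in
omit [DecidableEq ι] in
theorem mult_unique {A : Matrix ι ι F} {c c' : Fˣ}
    (hc : ∀ v, Q (A *ᵥ v) = (c : F) * Q v) (hc' : ∀ v, Q (A *ᵥ v) = (c' : F) * Q v) : c = c' := by
  apply Units.ext
  have := (hc v₀).symm.trans (hc' v₀)
  exact mul_right_cancel₀ hv₀ this

/-- The multiplier of a similarity. -/
noncomputable def multFun (g : ↥(Cfsg.Geo.quadSimilarityGroup (⇑Q))) : Fˣ :=
  Classical.choose g.2

theorem multFun_spec (g : ↥(Cfsg.Geo.quadSimilarityGroup (⇑Q))) (v : ι → F) :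
    Q (((g : GL ι F) : Matrix ι ι F) *ᵥ v) = (multFun Q g : F) * Q v :=
  Classical.choose_spec g.2 v

include hv₀ in
theorem multFun_eq (g : ↥(Cfsg.Geo.quadSimilarityGroup (⇑Q))) (c : Fˣ)
    (hc : ∀ v, Q (((g : GL ι F) : Matrix ι ι F) *ᵥ v) = (c : F) * Q v) : multFun Q g = c :=
  mult_unique Q v₀ hv₀ (multFun_spec Q g) hc

/-- The multiplier homomorphism. -/
noncomputable def mult : ↥(Cfsg.Geo.quadSimilarityGroup (⇑Q)) →* Fˣ :=
  MonoidHom.mk' (multFun Q) (by
    intro g h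
    apply multFun_eq Q v₀ hv₀
    intro v
    rw [Subgroup.coe_mul, Units.val_mul, ← Matrix.mulVec_mulVec, multFun_spec, multFun_spec,
      Units.val_mul, mul_assoc])

theorem mult_spec (g : ↥(Cfsg.Geo.quadSimilarityGroup (⇑Q))) (v : ι → F) :
    Q (((g : GL ι F) : Matrix ι ι F) *ᵥ v) = (mult Q v₀ hv₀ g : F) * Q v :=
  multFun_spec Q g v

theorem mult_eq (g : ↥(Cfsg.Geo.quadSimilarityGroup (⇑Q))) (c : Fˣ)
    (hc : ∀ v, Q (((g : GL ι F) : Matrix ι ι F) *ᵥ v) = (c : F) * Q v) : mult Q v₀ hv₀ g = c :=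
  multFun_eq Q v₀ hv₀ g c hc

end Mult

omit [DecidableEq ι] in
theorem polar_mulVec_of_similarity (Q : QuadraticForm F (ι → F)) (A : Matrix ι ι F) (c : F)
    (hA : ∀ u : ι → F, Q (A *ᵥ u) = c * Q u) (x y : ι → F) :
    QuadraticMap.polar (⇑Q) (A *ᵥ x) (A *ᵥ y) = c * QuadraticMap.polar (⇑Q) x y := by
  unfold QuadraticMap.polar
  rw [← Matrix.mulVec_add, hA, hA, hA]
  ring

/-- The determinant of a similarity with multiplier `c` satisfies `det² = c ^ n`. -/
theorem similarity_det_sq (Q : QuadraticForm F (ι → F))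
    (hQ : (QuadraticMap.polarBilin Q).Nondegenerate) (A : Matrix ι ι F) (c : F)
    (hA : ∀ u : ι → F, Q (A *ᵥ u) = c * Q u) :
    A.det * A.det = c ^ Fintype.card ι := by
  set B : LinearMap.BilinForm F (ι → F) := QuadraticMap.polarBilin Q with hB
  have hcomp : B.comp (Matrix.toLin' A) (Matrix.toLin' A) = c • B := by
    refine LinearMap.ext fun x => LinearMap.ext fun y => ?_
    rw [LinearMap.BilinForm.comp_apply, Matrix.toLin'_apply, Matrix.toLin'_apply]
    exact polar_mulVec_of_similarity Q A c hA _ _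
  have hM := congrArg LinearMap.BilinForm.toMatrix' hcomp
  rw [LinearMap.BilinForm.toMatrix'_comp, LinearMap.toMatrix'_toLin', map_smul] at hM
  have hdet := congrArg Matrix.det hM
  rw [Matrix.det_mul, Matrix.det_mul, Matrix.det_transpose, Matrix.det_smul] at hdet
  have hMne : (LinearMap.BilinForm.toMatrix' B).det ≠ 0 := by
    rw [← Matrix.nondegenerate_iff_det_ne_zero]
    exact LinearMap.BilinForm.nondegenerate_toMatrix'_iff.mpr hQ
  have : (A.det * A.det - c ^ Fintype.card ι) * (LinearMap.BilinForm.toMatrix' B).det = 0 := by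
    linear_combination hdet
  rcases mul_eq_zero.mp this with h | h
  · exact sub_eq_zero.mp h
  · exact absurd h hMne

section Char

variable [Fintype F] [DecidableEq F] (Q : QuadraticForm F (ι → F))
  (v₀ : ι → F) (hv₀ : Q v₀ ≠ 0) (m : ℕ)

/-- The square class of the multiplier, as a sign. -/
noncomputable def psi1 : ↥(Cfsg.Geo.quadSimilarityGroup (⇑Q)) →* ℤˣ :=
  (quadraticChar F).toUnitHom.comp (mult Q v₀ hv₀)

/-- `det g / μ(g) ^ m`. -/
noncomputable def deltaHom : ↥(Cfsg.Geo.quadSimilarityGroup (⇑Q)) →* Fˣ :=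
  MonoidHom.mk' (fun g => Matrix.GeneralLinearGroup.det (g : GL ι F) * (mult Q v₀ hv₀ g ^ m)⁻¹) (by
    intro g h
    rw [Subgroup.coe_mul, map_mul, map_mul, mul_pow, mul_inv]
    exact mul_mul_mul_comm _ _ _ _)

theorem deltaHom_apply (g : ↥(Cfsg.Geo.quadSimilarityGroup (⇑Q))) :
    deltaHom Q v₀ hv₀ m g =
      Matrix.GeneralLinearGroup.det (g : GL ι F) * (mult Q v₀ hv₀ g ^ m)⁻¹ := rfl

theorem deltaHom_sq (hQ : (QuadraticMap.polarBilin Q).Nondegenerate)
    (hcard : Fintype.card ι = 2 * m) (g : ↥(Cfsg.Geo.quadSimilarityGroup (⇑Q))) :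
    deltaHom Q v₀ hv₀ m g * deltaHom Q v₀ hv₀ m g = 1 := by
  have h1 : Matrix.GeneralLinearGroup.det (g : GL ι F) * Matrix.GeneralLinearGroup.det (g : GL ι F)
      = mult Q v₀ hv₀ g ^ (2 * m) := by
    apply Units.ext
    rw [Units.val_mul, Units.val_pow_eq_pow_val, Matrix.GeneralLinearGroup.val_det_apply, ← hcard]
    exact similarity_det_sq Q hQ _ _ (mult_spec Q v₀ hv₀ g)
  rw [deltaHom_apply, mul_mul_mul_comm, h1, ← mul_inv, ← pow_add, ← two_mul]
  exact mul_inv_cancel _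

theorem units_eq_one_or_neg_one {u : Fˣ} (h : u * u = 1) : u = 1 ∨ u = -1 := by
  have h1 : ((u : F) - 1) * ((u : F) + 1) = 0 := by
    have := congrArg Units.val h
    rw [Units.val_mul, Units.val_one] at this
    linear_combination this
  rcases mul_eq_zero.mp h1 with h | h
  · left
    apply Units.ext
    rw [Units.val_one]
    linear_combination h
  · right
    apply Units.ext
    rw [Units.val_neg, Units.val_one]
    linear_combination h

theorem neg_one_ne_one_units (h2 : (2 : F) ≠ 0) : (-1 : Fˣ) ≠ 1 := by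
  intro h
  have := congrArg Units.val h
  rw [Units.val_neg, Units.val_one] at this
  apply h2
  linear_combination -this

/-- The sign of `det g / μ(g) ^ m`. -/
noncomputable def psi2 (hQ : (QuadraticMap.polarBilin Q).Nondegenerate) (h2 : (2 : F) ≠ 0)
    (hcard : Fintype.card ι = 2 * m) : ↥(Cfsg.Geo.quadSimilarityGroup (⇑Q)) →* ℤˣ :=
  MonoidHom.mk' (fun g => if deltaHom Q v₀ hv₀ m g = 1 then 1 else -1) (by
    intro g h
    have hne := neg_one_ne_one_units h2
    rw [map_mul]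
    rcases units_eq_one_or_neg_one (deltaHom_sq Q v₀ hv₀ m hQ hcard g) with hg | hg <;>
      rcases units_eq_one_or_neg_one (deltaHom_sq Q v₀ hv₀ m hQ hcard h) with hh | hh <;>
      rw [hg, hh] <;> simp [hne])

theorem psi2_apply (hQ : (QuadraticMap.polarBilin Q).Nondegenerate) (h2 : (2 : F) ≠ 0)
    (hcard : Fintype.card ι = 2 * m) (g : ↥(Cfsg.Geo.quadSimilarityGroup (⇑Q))) :
    psi2 Q v₀ hv₀ m hQ h2 hcard g = if deltaHom Q v₀ hv₀ m g = 1 then 1 else -1 := rfl

/-- The pair of characters. -/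
noncomputable def psi (hQ : (QuadraticMap.polarBilin Q).Nondegenerate) (h2 : (2 : F) ≠ 0)
    (hcard : Fintype.card ι = 2 * m) : ↥(Cfsg.Geo.quadSimilarityGroup (⇑Q)) →* ℤˣ × ℤˣ :=
  (psi1 Q v₀ hv₀).prod (psi2 Q v₀ hv₀ m hQ h2 hcard)

theorem psi1_eq_one_iff (g : ↥(Cfsg.Geo.quadSimilarityGroup (⇑Q))) :
    psi1 Q v₀ hv₀ g = 1 ↔ IsSquare ((mult Q v₀ hv₀ g : Fˣ) : F) := by
  unfold psi1
  rw [MonoidHom.comp_apply, ← Units.val_inj, MulChar.coe_toUnitHom, Units.val_one,
    quadraticChar_one_iff_isSquare (Units.ne_zero _)]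

/-- Scalars lie in the kernel of `psi`. -/
theorem psi_eq_one_of_scalar (hQ : (QuadraticMap.polarBilin Q).Nondegenerate) (h2 : (2 : F) ≠ 0)
    (hcard : Fintype.card ι = 2 * m) (g : ↥(Cfsg.Geo.quadSimilarityGroup (⇑Q))) (c : F)
    (hc : ∀ v : ι → F, ((g : GL ι F) : Matrix ι ι F) *ᵥ v = c • v) :
    psi Q v₀ hv₀ m hQ h2 hcard g = 1 := by
  have hc0 : c ≠ 0 := by
    rintro rfl
    have h1 := mult_spec Q v₀ hv₀ g v₀
    rw [hc, zero_smul, map_zero] at h1
    exact (mul_ne_zero (Units.ne_zero _) hv₀) h1.symm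
  have hmult : mult Q v₀ hv₀ g = Units.mk0 c hc0 * Units.mk0 c hc0 := by
    apply mult_eq
    intro v
    rw [hc, QuadraticMap.map_smul, smul_eq_mul, Units.val_mul, Units.val_mk0]
  have hmat : ((g : GL ι F) : Matrix ι ι F) = c • (1 : Matrix ι ι F) := by
    apply matrix_eq_of_mulVec
    intro v
    rw [hc, Matrix.smul_mulVec, Matrix.one_mulVec]
  have hdet : Matrix.GeneralLinearGroup.det (g : GL ι F) = Units.mk0 c hc0 ^ (2 * m) := by
    apply Units.ext
    rw [Matrix.GeneralLinearGroup.val_det_apply, hmat, Matrix.det_smul, Matrix.det_one, mul_one,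
      hcard, Units.val_pow_eq_pow_val, Units.val_mk0]
  unfold psi
  rw [MonoidHom.prod_apply, Prod.mk_eq_one]
  constructor
  · rw [psi1_eq_one_iff, hmult, Units.val_mul]
    exact ⟨_, rfl⟩
  · rw [psi2_apply, if_pos]
    rw [deltaHom_apply, hdet, hmult, ← pow_two, ← pow_mul]
    exact mul_inv_cancel _

/-- Isometries of determinant one lie in the kernel of `psi`. -/
theorem psi_eq_one_of_special (hQ : (QuadraticMap.polarBilin Q).Nondegenerate) (h2 : (2 : F) ≠ 0)
    (hcard : Fintype.card ι = 2 * m) (g : ↥(Cfsg.Geo.quadSimilarityGroup (⇑Q)))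
    (hg : (g : GL ι F) ∈ Cfsg.specialIsometryGL F (⇑Q)) :
    psi Q v₀ hv₀ m hQ h2 hcard g = 1 := by
  obtain ⟨hgO, hgS⟩ := hg
  have hmult : mult Q v₀ hv₀ g = 1 := by
    apply mult_eq
    intro v
    rw [(mem_isometryGroup_iff' (⇑Q) _).mp hgO v, Units.val_one, one_mul]
  have hdet : Matrix.GeneralLinearGroup.det (g : GL ι F) = 1 := hgS
  unfold psi
  rw [MonoidHom.prod_apply, Prod.mk_eq_one]
  constructor
  · rw [psi1_eq_one_iff, hmult, Units.val_one]
    exact ⟨1, (mul_one 1).symm⟩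
  · rw [psi2_apply, if_pos]
    rw [deltaHom_apply, hdet, hmult, one_pow, inv_one, mul_one]

/-- An element of the kernel of `psi` is a scalar multiple of an isometry of determinant one. -/
theorem exists_special_of_psi_eq_one (hQ : (QuadraticMap.polarBilin Q).Nondegenerate)
    (h2 : (2 : F) ≠ 0) (hcard : Fintype.card ι = 2 * m)
    (g : ↥(Cfsg.Geo.quadSimilarityGroup (⇑Q))) (hg : psi Q v₀ hv₀ m hQ h2 hcard g = 1) :
    ∃ (u : Fˣ) (h : GL ι F), h ∈ Cfsg.specialIsometryGL F (⇑Q) ∧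
      (g : GL ι F) = Matrix.GeneralLinearGroup.scalar ι u * h := by
  unfold psi at hg
  rw [MonoidHom.prod_apply, Prod.mk_eq_one] at hg
  obtain ⟨hg1, hg2⟩ := hg
  rw [psi1_eq_one_iff] at hg1
  obtain ⟨c, hc⟩ := hg1
  have hc0 : c ≠ 0 := by
    rintro rfl
    rw [mul_zero] at hc
    exact Units.ne_zero _ hc
  set u : Fˣ := Units.mk0 c hc0 with hu
  have hmu : mult Q v₀ hv₀ g = u * u := by
    apply Units.ext
    rw [hc, Units.val_mul, hu, Units.val_mk0]
  have hdelta : deltaHom Q v₀ hv₀ m g = 1 := by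
    rw [psi2_apply] at hg2
    by_contra hcon
    rw [if_neg hcon] at hg2
    exact absurd hg2 (by decide)
  refine ⟨u, (Matrix.GeneralLinearGroup.scalar ι u)⁻¹ * (g : GL ι F), ⟨?_, ?_⟩, ?_⟩
  · change (Matrix.GeneralLinearGroup.scalar ι u)⁻¹ * (g : GL ι F) ∈ Cfsg.isometryGroup F (⇑Q)
    rw [mem_isometryGroup_iff']
    intro v
    rw [Units.val_mul, ← Matrix.mulVec_mulVec, ← map_inv, Matrix.GeneralLinearGroup.coe_scalar,
      Matrix.scalar_apply, ← Matrix.smul_one_eq_diagonal, Matrix.smul_mulVec, Matrix.one_mulVec,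
      QuadraticMap.map_smul, mult_spec Q v₀ hv₀ g, hmu, Units.val_mul, Units.val_inv_eq_inv_val,
      smul_eq_mul]
    field_simp
  · change Matrix.GeneralLinearGroup.det ((Matrix.GeneralLinearGroup.scalar ι u)⁻¹ * (g : GL ι F))
      = 1
    rw [map_mul, map_inv, Matrix.GeneralLinearGroup.det_scalar, hcard]
    rw [deltaHom_apply, hmu, ← pow_two, ← pow_mul] at hdelta
    rw [mul_comm]
    exact hdelta
  · rw [mul_inv_cancel_left]

end Char

end Cfsg.Agent.Lib.Helper36
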