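import Mathlib
import Cfsg.Agent.Lib.Helper36.SimilarityChar

set_option autoImplicit false
set_option linter.unusedSectionVars false

/-!
# `PGO / PSO ≅ C₂ × C₂` inside `Aut(PΩ)` (finite field of odd characteristic, even dimension ≥ 6)
-/

namespace Cfsg.Agent.Lib.Helper36

open Module Matrix

/-- `ℤˣ ≃* Multiplicative (ZMod 2)`. -/
def unitsIntEquiv : ℤˣ ≃* Multiplicative (ZMod 2) where
  toFun a := if a = 1 then 1 else Multiplicative.ofAdd 1
  invFun x := if x = 1 then 1 else -1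
  left_inv := by decide
  right_inv := by decide
  map_mul' := by decide

/-- `ℤˣ × ℤˣ ≃* Multiplicative (ZMod 2 × ZMod 2)`. -/
def unitsIntProdEquiv : ℤˣ × ℤˣ ≃* Multiplicative (ZMod 2 × ZMod 2) :=
  (MulEquiv.prodCongr unitsIntEquiv unitsIntEquiv).trans
    (MulEquiv.prodMultiplicative (ZMod 2) (ZMod 2)).symm

/-- Transport of a quotient description along an isomorphism of the target. -/
theorem exists_hom_congr {P B B' : Type*} [Group P] [Group B] [Group B'] (e : B ≃* B')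
    (K : Subgroup P) (h : ∃ φ : P →* B, Function.Surjective φ ∧ φ.ker = K) :
    ∃ φ : P →* B', Function.Surjective φ ∧ φ.ker = K := by
  obtain ⟨φ, hs, hk⟩ := h
  refine ⟨e.toMonoidHom.comp φ, e.surjective.comp hs, ?_⟩
  rw [← hk]
  ext x
  rw [MonoidHom.mem_ker, MonoidHom.mem_ker, MonoidHom.comp_apply]
  exact e.map_eq_one_iff

/-- A homomorphism to `ℤˣ × ℤˣ` hitting `(-1, ?)` and `(1, -1)` is surjective. -/
theorem surjective_of_witnesses {G : Type*} [Group G] (ψ : G →* ℤˣ × ℤˣ) (g₁ g₂ : G)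
    (h1 : (ψ g₁).1 = -1) (h2 : ψ g₂ = (1, -1)) : Function.Surjective ψ := by
  have key : ∀ a b c : ℤˣ, ∃ i j : Fin 2,
      (-1, c) ^ (i : ℕ) * ((1, -1) : ℤˣ × ℤˣ) ^ (j : ℕ) = (a, b) := by decide
  rintro ⟨a, b⟩
  obtain ⟨i, j, hij⟩ := key a b (ψ g₁).2
  refine ⟨g₁ ^ (i : ℕ) * g₂ ^ (j : ℕ), ?_⟩
  rw [map_mul, map_pow, map_pow, h2, ← hij]
  congr 2
  exact Prod.ext h1 rfl

variable {ι : Type} [Fintype ι] [DecidableEq ι] {F : Type*} [Field F]

theorem simAut_eq_of_scalar_mul (Q : (ι → F) → F) (g h : ↥(Cfsg.Geo.quadSimilarityGroup Q)) (u : Fˣ)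
    (hgh : (g : GL ι F) = Matrix.GeneralLinearGroup.scalar ι u * (h : GL ι F)) :
    simAut Q g = simAut Q h := by
  apply MulEquiv.ext
  intro x
  induction x using QuotientGroup.induction_on with
  | H s =>
    obtain ⟨s', hs'⟩ := exists_conj_Omega Q h s
    rw [simAut_mk Q h s s' hs', simAut_mk Q g s s' ?_]
    rw [hs', hgh, _root_.mul_inv_rev]
    have hc := Matrix.GeneralLinearGroup.scalar_commute u
      ((h : GL ι F) * ((s : ↥(Cfsg.isometryGroup F Q)) : GL ι F) * (h : GL ι F)⁻¹)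
    calc (h : GL ι F) * ((s : ↥(Cfsg.isometryGroup F Q)) : GL ι F) * (h : GL ι F)⁻¹
        = ((h : GL ι F) * ((s : ↥(Cfsg.isometryGroup F Q)) : GL ι F) * (h : GL ι F)⁻¹) *
            Matrix.GeneralLinearGroup.scalar ι u * (Matrix.GeneralLinearGroup.scalar ι u)⁻¹ := by
          rw [mul_inv_cancel_right]
      _ = Matrix.GeneralLinearGroup.scalar ι u * ((h : GL ι F) *
            ((s : ↥(Cfsg.isometryGroup F Q)) : GL ι F) * (h : GL ι F)⁻¹) *
            (Matrix.GeneralLinearGroup.scalar ι u)⁻¹ := by rw [hc]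
      _ = _ := by group

section Main

variable [Fintype F] [DecidableEq F]

open Cfsg.Agent.Lib.Helper13 in
/-- A reflection as an element of the similarity group, with determinant `-1`. -/
theorem exists_reflection_similarity (Q : QuadraticForm F (ι → F)) (v : ι → F) (hv : Q v ≠ 0) :
    ∃ g : ↥(Cfsg.Geo.quadSimilarityGroup (⇑Q)), (g : GL ι F) ∈ Cfsg.isometryGroup F (⇑Q) ∧
      ((g : GL ι F) : Matrix ι ι F) = Cfsg.reflectionMatrix (⇑Q) v := by
  have hmem : reflEquiv Q v hv ∈ isoGroup Q :=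
    reflGroup_le_isoGroup Q (Subgroup.subset_closure (reflEquiv_mem Q v hv))
  set g₀ : ↥(Cfsg.isometryGroup F (⇑Q)) := (isometryGroupEquiv Q).symm ⟨reflEquiv Q v hv, hmem⟩
    with hg₀
  refine ⟨⟨(g₀ : GL ι F), isometryGroup_le_similarity (⇑Q) g₀.2⟩, g₀.2, ?_⟩
  apply matrix_eq_of_mulVec
  intro z
  change ((g₀ : GL ι F) : Matrix ι ι F) *ᵥ z = _
  rw [← isometryGroupEquiv_apply, hg₀, MulEquiv.apply_symm_apply,
    reflectionMatrix_mulVec_eq_reflLin]
  rfl

open Cfsg.Agent.Lib.Helper13 in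
/-- **`PGO / PSO` is elementary abelian of order four** inside `Aut(PΩ(Q))`. -/
theorem exists_hom_pgo_pso (Q : QuadraticForm F (ι → F))
    (hQ : (QuadraticMap.polarBilin Q).Nondegenerate) (h2 : (2 : F) ≠ 0)
    (hdim : 5 ≤ Fintype.card ι) (m : ℕ) (hcard : Fintype.card ι = 2 * m)
    (hns : ∃ (g₁ : GL ι F) (c : Fˣ), ¬ IsSquare (c : F) ∧
      ∀ v : ι → F, Q ((g₁ : Matrix ι ι F) *ᵥ v) = (c : F) * Q v) :
    ∃ φ : ↥(Cfsg.pgoAut F (⇑Q)) →* Multiplicative (ZMod 2 × ZMod 2), Function.Surjective φ ∧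
      φ.ker = (Cfsg.psoAut F (⇑Q)).subgroupOf (Cfsg.pgoAut F (⇑Q)) := by
  have hdim' : 2 ≤ finrank F (ι → F) := by
    rw [Module.finrank_fintype_fun_eq_card]
    omega
  obtain ⟨v₀, hv₀'⟩ := exists_Q_eq Q hQ h2 hdim' 1 one_ne_zero
  have hv₀ : Q v₀ ≠ 0 := by rw [hv₀']; exact one_ne_zero
  apply exists_hom_congr unitsIntProdEquiv
  apply exists_hom_of_eq_range (simAut (⇑Q)) (psi Q v₀ hv₀ m hQ h2 hcard) ?_ ?_ _ _
    (pgoAut_eq (⇑Q)) ?_
  · -- kernel
    intro g hg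
    rw [MonoidHom.mem_ker] at hg ⊢
    obtain ⟨c, hc⟩ := scalar_of_normAut_eq_one Q hQ h2 hdim
      (Subgroup.inclusion (similarity_le_normalizer (⇑Q)) g) hg
    exact psi_eq_one_of_scalar Q v₀ hv₀ m hQ h2 hcard g c hc
  · -- surjectivity
    obtain ⟨g₁, c, hc, hg₁⟩ := hns
    obtain ⟨g₂, hg₂O, hg₂⟩ := exists_reflection_similarity Q v₀ hv₀
    apply surjective_of_witnesses _ ⟨g₁, ⟨c, hg₁⟩⟩ g₂
    · change psi1 Q v₀ hv₀ ⟨g₁, ⟨c, hg₁⟩⟩ = -1
      have hm : mult Q v₀ hv₀ ⟨g₁, ⟨c, hg₁⟩⟩ = c := mult_eq Q v₀ hv₀ _ c hg₁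
      unfold psi1
      rw [MonoidHom.comp_apply, hm, ← Units.val_inj, MulChar.coe_toUnitHom, Units.val_neg,
        Units.val_one, quadraticChar_neg_one_iff_not_isSquare]
      exact hc
    · have hm : mult Q v₀ hv₀ g₂ = 1 := by
        apply mult_eq
        intro v
        rw [(mem_isometryGroup_iff' (⇑Q) _).mp hg₂O v, Units.val_one, one_mul]
      have hd : Matrix.GeneralLinearGroup.det (g₂ : GL ι F) = -1 := by
        apply Units.ext
        rw [Matrix.GeneralLinearGroup.val_det_apply, hg₂, reflectionMatrix_det Q v₀ hv₀,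
          Units.val_neg, Units.val_one]
      unfold psi
      rw [MonoidHom.prod_apply]
      apply Prod.ext
      · change psi1 Q v₀ hv₀ g₂ = 1
        rw [psi1_eq_one_iff, hm, Units.val_one]
        exact ⟨1, (mul_one 1).symm⟩
      · change psi2 Q v₀ hv₀ m hQ h2 hcard g₂ = -1
        rw [psi2_apply, if_neg]
        rw [deltaHom_apply, hd, hm, one_pow, inv_one, mul_one]
        exact neg_one_ne_one_units h2
  · -- the image of the kernel of `psi` is the image of `SO`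
    rw [psoAut_eq]
    apply le_antisymm
    · apply Subgroup.map_mono
      intro g hg
      rw [MonoidHom.mem_ker]
      exact psi_eq_one_of_special Q v₀ hv₀ m hQ h2 hcard g hg
    · rintro _ ⟨g, hg, rfl⟩
      obtain ⟨u, h, hh, hgh⟩ := exists_special_of_psi_eq_one Q v₀ hv₀ m hQ h2 hcard g
        ((MonoidHom.mem_ker).mp hg)
      have hhG : h ∈ Cfsg.Geo.quadSimilarityGroup (⇑Q) :=
        isometryGroup_le_similarity (⇑Q) hh.1
      refine ⟨⟨h, hhG⟩, hh, ?_⟩
      exact (simAut_eq_of_scalar_mul (⇑Q) g ⟨h, hhG⟩ u hgh).symm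

end Main

end Cfsg.Agent.Lib.Helper36
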