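import Mathlib
import Cfsg.Agent.Lib.Helper36.PgoPso
import Cfsg.Agent.Lib.Helper13.SOTransfer
import Cfsg.Agent.Lib.Helper13.SOIndexTwo

set_option autoImplicit false
set_option linter.unusedSectionVars false

/-!
# The index of `Inn(PΩ)` in the image of `SO` inside `Aut(PΩ(Q))`
(finite field of odd characteristic, even dimension at least six)
-/

namespace Cfsg.Agent.Lib.Helper36

open Module Matrix Cfsg.Agent.Lib.Helper13

variable {ι : Type} [Fintype ι] [DecidableEq ι] {F : Type*} [Field F] [Fintype F] [DecidableEq F]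

/-- Membership in `Ω(Q)` via parity and spinor norm. -/
theorem mem_Omega_iff_par_spin (Q : QuadraticForm F (ι → F))
    (hQ : (QuadraticMap.polarBilin Q).Nondegenerate) (h2 : (2 : F) ≠ 0)
    (hdim : 2 ≤ Fintype.card ι) (t : ↥(Cfsg.isometryGroup F (⇑Q))) :
    t ∈ Cfsg.Omega F (⇑Q) ↔ par (glLinEquiv ι F (t : GL ι F)) = 0 ∧
      spin Q (glLinEquiv ι F (t : GL ι F)) = 1 := by
  have hdim' : 2 ≤ finrank F (ι → F) := by
    rw [Module.finrank_fintype_fun_eq_card]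
    exact hdim
  change t ∈ commutator ↥(Cfsg.isometryGroup F (⇑Q)) ↔ _
  rw [mem_commutator_iff_equiv (isometryGroupEquiv Q) t]
  exact mem_commutator_iff_par_spin Q hQ h2 hdim' (isometryGroupEquiv Q t)

/-- For an isometry, determinant one means even parity. -/
theorem det_eq_one_iff_par (Q : QuadraticForm F (ι → F))
    (hQ : (QuadraticMap.polarBilin Q).Nondegenerate) (h2 : (2 : F) ≠ 0)
    (t : GL ι F) (ht : t ∈ Cfsg.isometryGroup F (⇑Q)) :
    (t : Matrix ι ι F).det = 1 ↔ par (glLinEquiv ι F t) = 0 := by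
  have hF : (∀ a b : F, ∃ x : F, x ≠ a ∧ x ≠ b) ∨ Module.finrank F (ι → F) ≠ 4 :=
    Or.inl (exists_ne_ne_of_two_ne_zero h2)
  have hiso : glLinEquiv ι F t ∈ Cfsg.Agent.Lib.Helper13.isoGroup Q :=
    (mem_isometryGroup_iff_isoGroup Q t).mp ht
  have hrefl := isoGroup_le_reflGroup Q hQ hF hiso
  have hdet : LinearMap.det ((glLinEquiv ι F t : (ι → F) ≃ₗ[F] (ι → F)) :
      (ι → F) →ₗ[F] (ι → F)) = (t : Matrix ι ι F).det := det_glEquivι t
  have h1m : (1 : F) ≠ -1 := by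
    intro h
    apply h2
    have : (2 : F) = 1 - -1 := by ring
    rw [this, ← h, sub_self]
  rcases det_par_of_mem_reflGroup Q hQ hrefl with ⟨h1, h0⟩ | ⟨h1, h0⟩
  · rw [← hdet, h1, h0]
    simp
  · rw [← hdet, h1, h0]
    constructor
    · intro h
      exact absurd h.symm h1m
    · intro h
      exact absurd h (by decide)

/-- Inside `SO(Q)`, the subgroup `Ω(Q)` is cut out by the spinor norm. -/
theorem mem_OmegaGL_iff_spin (Q : QuadraticForm F (ι → F))
    (hQ : (QuadraticMap.polarBilin Q).Nondegenerate) (h2 : (2 : F) ≠ 0)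
    (hdim : 2 ≤ Fintype.card ι) (g : GL ι F) (hg : g ∈ Cfsg.specialIsometryGL F (⇑Q)) :
    g ∈ OmegaGL (⇑Q) ↔ spin Q (glLinEquiv ι F g) = 1 := by
  obtain ⟨hgO, hgS⟩ := hg
  have hdet : (g : Matrix ι ι F).det = 1 := by
    have h1 : Matrix.GeneralLinearGroup.det g = 1 := hgS
    have h3 := congrArg Units.val h1
    rw [Matrix.GeneralLinearGroup.val_det_apply] at h3
    exact h3
  have hpar := (det_eq_one_iff_par Q hQ h2 g hgO).mp hdet
  rw [mem_OmegaGL_iff]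
  constructor
  · rintro ⟨h, hs⟩
    exact ((mem_Omega_iff_par_spin Q hQ h2 hdim ⟨g, h⟩).mp hs).2
  · intro hs
    exact ⟨hgO, (mem_Omega_iff_par_spin Q hQ h2 hdim ⟨g, hgO⟩).mpr ⟨hpar, hs⟩⟩

theorem spin_mul_matrix (Q : QuadraticForm F (ι → F))
    (hQ : (QuadraticMap.polarBilin Q).Nondegenerate) (h2 : (2 : F) ≠ 0)
    (g h : GL ι F) (hg : g ∈ Cfsg.isometryGroup F (⇑Q)) (hh : h ∈ Cfsg.isometryGroup F (⇑Q)) :
    spin Q (glLinEquiv ι F (g * h)) =
      spin Q (glLinEquiv ι F g) * spin Q (glLinEquiv ι F h) := by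
  have hF : (∀ a b : F, ∃ x : F, x ≠ a ∧ x ≠ b) ∨ Module.finrank F (ι → F) ≠ 4 :=
    Or.inl (exists_ne_ne_of_two_ne_zero h2)
  rw [map_mul]
  exact spin_mul' Q hQ hF ((mem_isometryGroup_iff_isoGroup Q g).mp hg)
    ((mem_isometryGroup_iff_isoGroup Q h).mp hh)

theorem spin_matrix_eq_one_or (Q : QuadraticForm F (ι → F))
    (hQ : (QuadraticMap.polarBilin Q).Nondegenerate) (h2 : (2 : F) ≠ 0)
    (g : GL ι F) (hg : g ∈ Cfsg.isometryGroup F (⇑Q)) :
    spin Q (glLinEquiv ι F g) = 1 ∨ spin Q (glLinEquiv ι F g) = -1 := by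
  have hF : (∀ a b : F, ∃ x : F, x ≠ a ∧ x ≠ b) ∨ Module.finrank F (ι → F) ≠ 4 :=
    Or.inl (exists_ne_ne_of_two_ne_zero h2)
  exact spin_eq_one_or Q hQ hF ((mem_isometryGroup_iff_isoGroup Q g).mp hg)

/-- There is a rotation of spinor norm `-1`. -/
theorem exists_special_spin_neg (Q : QuadraticForm F (ι → F))
    (hQ : (QuadraticMap.polarBilin Q).Nondegenerate) (h2 : (2 : F) ≠ 0)
    (hdim : 2 ≤ Fintype.card ι) :
    ∃ g₀ : GL ι F, g₀ ∈ Cfsg.specialIsometryGL F (⇑Q) ∧ spin Q (glLinEquiv ι F g₀) = -1 := by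
  have hdim' : 2 ≤ finrank F (ι → F) := by
    rw [Module.finrank_fintype_fun_eq_card]
    exact hdim
  have hchar : ringChar F ≠ 2 := by
    intro h
    apply h2
    have : ((2 : ℕ) : F) = 0 := by
      rw [← h]; exact ringChar.Nat.cast_ringChar
    exact_mod_cast this
  obtain ⟨η, hη⟩ := FiniteField.exists_nonsquare hchar
  have hη0 : η ≠ 0 := by
    rintro rfl
    exact hη IsSquare.zero
  obtain ⟨v₁, hv₁⟩ := exists_Q_eq Q hQ h2 hdim' 1 one_ne_zero
  obtain ⟨v₂, hv₂⟩ := exists_Q_eq Q hQ h2 hdim' η hη0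
  have hv₁0 : Q v₁ ≠ 0 := by rw [hv₁]; exact one_ne_zero
  have hv₂0 : Q v₂ ≠ 0 := by rw [hv₂]; exact hη0
  have hT₂ : reflEquiv Q v₂ hv₂0 ∈ Cfsg.Agent.Lib.Helper13.isoGroup Q :=
    reflGroup_le_isoGroup Q (Subgroup.subset_closure (reflEquiv_mem Q v₂ hv₂0))
  have hT₁ : reflEquiv Q v₁ hv₁0 ∈ Cfsg.Agent.Lib.Helper13.isoGroup Q :=
    reflGroup_le_isoGroup Q (Subgroup.subset_closure (reflEquiv_mem Q v₁ hv₁0))
  set T : (ι → F) ≃ₗ[F] (ι → F) := reflEquiv Q v₁ hv₁0 * reflEquiv Q v₂ hv₂0 with hT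
  have hTiso : T ∈ Cfsg.Agent.Lib.Helper13.isoGroup Q := Subgroup.mul_mem _ hT₁ hT₂
  set g₀ : GL ι F := (glLinEquiv ι F).symm T with hg₀
  have hgT : glLinEquiv ι F g₀ = T := by rw [hg₀, MulEquiv.apply_symm_apply]
  have hg₀O : g₀ ∈ Cfsg.isometryGroup F (⇑Q) := by
    rw [mem_isometryGroup_iff_isoGroup, hgT]
    exact hTiso
  have hpar : par (glLinEquiv ι F g₀) = 0 := by
    rw [hgT, hT, par_refl_mul Q hQ _ hT₂ _ (reflEquiv_mem Q v₁ hv₁0),
      par_refl Q hQ _ (reflEquiv_mem Q v₂ hv₂0)]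
    decide
  have hspin : spin Q (glLinEquiv ι F g₀) = -1 := by
    rw [hgT, hT, spin_refl_mul Q hQ _ hT₂ v₁ hv₁0 _ (fun _ => rfl),
      spin_refl Q hQ v₂ hv₂0 _ (fun _ => rfl), hv₁, hv₂, MulChar.map_one, one_mul,
      quadraticChar_neg_one_iff_not_isSquare]
    exact hη
  refine ⟨g₀, ⟨hg₀O, ?_⟩, hspin⟩
  change Matrix.GeneralLinearGroup.det g₀ = 1
  apply Units.ext
  rw [Matrix.GeneralLinearGroup.val_det_apply, Units.val_one]
  exact (det_eq_one_iff_par Q hQ h2 g₀ hg₀O).mpr hpar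

/-- The scalar `-1` in `GL`. -/
noncomputable def negGL (ι : Type) [Fintype ι] [DecidableEq ι] (F : Type*) [Field F] : GL ι F :=
  Matrix.GeneralLinearGroup.scalar ι (-1 : Fˣ)

omit [Fintype F] [DecidableEq F] in
theorem negGL_coe : ((negGL ι F : GL ι F) : Matrix ι ι F) = -1 := by
  unfold negGL
  rw [Matrix.GeneralLinearGroup.coe_scalar, Units.val_neg, Units.val_one, map_neg, map_one]

omit [Fintype F] [DecidableEq F] in
theorem negGL_mulVec (v : ι → F) : ((negGL ι F : GL ι F) : Matrix ι ι F) *ᵥ v = -v := by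
  rw [negGL_coe, Matrix.neg_mulVec, Matrix.one_mulVec]

omit [Fintype F] [DecidableEq F] in
theorem negGL_mul_self : negGL ι F * negGL ι F = 1 := by
  unfold negGL
  rw [← map_mul, neg_mul_neg, one_mul, map_one]

omit [Fintype F] [DecidableEq F] in
theorem negGL_mem_special (Q : QuadraticForm F (ι → F)) (heven : Even (Fintype.card ι)) :
    negGL ι F ∈ Cfsg.specialIsometryGL F (⇑Q) := by
  constructor
  · change negGL ι F ∈ Cfsg.isometryGroup F (⇑Q)
    rw [mem_isometryGroup_iff']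
    intro v
    rw [negGL_mulVec, QuadraticMap.map_neg]
  · change Matrix.GeneralLinearGroup.det (negGL ι F) = 1
    unfold negGL
    rw [Matrix.GeneralLinearGroup.det_scalar]
    exact heven.neg_one_pow

omit [Fintype F] [DecidableEq F] in
theorem neg_one_mem_Omega_iff_negGL (Q : (ι → F) → F) :
    (∃ t : ↥(Cfsg.isometryGroup F Q), t ∈ Cfsg.Omega F Q ∧
      ((t : GL ι F) : Matrix ι ι F) = -1) ↔ negGL ι F ∈ OmegaGL Q := by
  rw [mem_OmegaGL_iff]
  constructor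
  · rintro ⟨t, ht, hneg⟩
    have h1 : (t : GL ι F) = negGL ι F := by
      apply Units.ext
      rw [negGL_coe]
      exact hneg
    have h3 : negGL ι F ∈ Cfsg.isometryGroup F Q := by rw [← h1]; exact t.2
    refine ⟨h3, ?_⟩
    have h4 : (⟨negGL ι F, h3⟩ : ↥(Cfsg.isometryGroup F Q)) = t := Subtype.ext h1.symm
    rw [h4]
    exact ht
  · rintro ⟨h, hs⟩
    exact ⟨⟨negGL ι F, h⟩, hs, negGL_coe⟩

/-- An element of `Ω` induces an inner automorphism. -/
theorem simAut_mem_Inn_of_mem (Q : (ι → F) → F) (g : ↥(Cfsg.Geo.quadSimilarityGroup Q))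
    (hg : (g : GL ι F) ∈ OmegaGL Q) : simAut Q g ∈ Cfsg.Inn (Cfsg.POmega F Q) := by
  rw [Inn_eq]
  exact ⟨g, hg, rfl⟩

/-- If `-g ∈ Ω` then `g` induces an inner automorphism. -/
theorem simAut_mem_Inn_of_neg_mem (Q : (ι → F) → F) (g : ↥(Cfsg.Geo.quadSimilarityGroup Q))
    (hg : negGL ι F * (g : GL ι F) ∈ OmegaGL Q) : simAut Q g ∈ Cfsg.Inn (Cfsg.POmega F Q) := by
  have hmem : negGL ι F * (g : GL ι F) ∈ Cfsg.Geo.quadSimilarityGroup Q :=
    isometryGroup_le_similarity Q (OmegaGL_le_isometryGroup Q hg)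
  have h1 := simAut_mem_Inn_of_mem Q ⟨negGL ι F * (g : GL ι F), hmem⟩ hg
  rw [simAut_eq_of_scalar_mul Q ⟨negGL ι F * (g : GL ι F), hmem⟩ g (-1) rfl] at h1
  exact h1

/-- An isometry inducing an inner automorphism of `PΩ` lies in `±Ω`. -/
theorem mem_or_neg_mem_of_simAut_mem_Inn (Q : QuadraticForm F (ι → F))
    (hQ : (QuadraticMap.polarBilin Q).Nondegenerate) (h2 : (2 : F) ≠ 0)
    (hdim : 5 ≤ Fintype.card ι) (g : ↥(Cfsg.Geo.quadSimilarityGroup (⇑Q)))
    (hgO : (g : GL ι F) ∈ Cfsg.isometryGroup F (⇑Q))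
    (hg : simAut (⇑Q) g ∈ Cfsg.Inn (Cfsg.POmega F (⇑Q))) :
    (g : GL ι F) ∈ OmegaGL (⇑Q) ∨ negGL ι F * (g : GL ι F) ∈ OmegaGL (⇑Q) := by
  have hdim' : 2 ≤ finrank F (ι → F) := by
    rw [Module.finrank_fintype_fun_eq_card]
    omega
  rw [Inn_eq] at hg
  obtain ⟨w, hw, hwg⟩ := hg
  have hw' : (w : GL ι F) ∈ OmegaGL (⇑Q) := hw
  have hwO : (w : GL ι F) ∈ Cfsg.isometryGroup F (⇑Q) := OmegaGL_le_isometryGroup (⇑Q) hw'
  have hone : simAut (⇑Q) (g * w⁻¹) = 1 := by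
    rw [map_mul, map_inv, hwg, mul_inv_cancel]
  obtain ⟨c, hc⟩ := scalar_of_normAut_eq_one Q hQ h2 hdim
    (Subgroup.inclusion (similarity_le_normalizer (⇑Q)) (g * w⁻¹)) hone
  have hc' : ∀ v : ι → F, (((g : GL ι F) * (w : GL ι F)⁻¹ : GL ι F) : Matrix ι ι F) *ᵥ v =
      c • v := hc
  have hzO : (g : GL ι F) * (w : GL ι F)⁻¹ ∈ Cfsg.isometryGroup F (⇑Q) :=
    Subgroup.mul_mem _ hgO (Subgroup.inv_mem _ hwO)
  obtain ⟨v₀, hv₀⟩ := exists_Q_eq Q hQ h2 hdim' 1 one_ne_zero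
  have h1 := (mem_isometryGroup_iff' (⇑Q) _).mp hzO v₀
  rw [hc' v₀, QuadraticMap.map_smul, hv₀, smul_eq_mul, mul_one] at h1
  have h4 : (c - 1) * (c + 1) = 0 := by linear_combination h1
  have hgz : (g : GL ι F) = ((g : GL ι F) * (w : GL ι F)⁻¹) * (w : GL ι F) := by group
  rcases mul_eq_zero.mp h4 with h | h
  · left
    have hc1 : c = 1 := by linear_combination h
    have hz1 : (g : GL ι F) * (w : GL ι F)⁻¹ = 1 := by
      apply Units.ext
      apply matrix_eq_of_mulVec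
      intro v
      rw [hc' v, hc1, one_smul, Units.val_one, Matrix.one_mulVec]
    rw [hgz, hz1, one_mul]
    exact hw'
  · right
    have hc1 : c = -1 := by linear_combination h
    have hz1 : (g : GL ι F) * (w : GL ι F)⁻¹ = negGL ι F := by
      apply Units.ext
      apply matrix_eq_of_mulVec
      intro v
      rw [hc' v, hc1, neg_smul, one_smul, negGL_mulVec]
    rw [hgz, hz1, ← mul_assoc, negGL_mul_self, one_mul]
    exact hw'

/-- **The index of `Inn(PΩ)` in the image of `SO`** is two if `-1 ∈ Ω` and one otherwise. -/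
theorem relIndex_Inn_psoAut (Q : QuadraticForm F (ι → F))
    (hQ : (QuadraticMap.polarBilin Q).Nondegenerate) (h2 : (2 : F) ≠ 0)
    (hdim : 5 ≤ Fintype.card ι) (heven : Even (Fintype.card ι)) :
    ((∃ t : ↥(Cfsg.isometryGroup F (⇑Q)), t ∈ Cfsg.Omega F (⇑Q) ∧
        ((t : GL ι F) : Matrix ι ι F) = -1) →
      (Cfsg.Inn (Cfsg.POmega F (⇑Q))).relIndex (Cfsg.psoAut F (⇑Q)) = 2) ∧
    ((¬ ∃ t : ↥(Cfsg.isometryGroup F (⇑Q)), t ∈ Cfsg.Omega F (⇑Q) ∧
        ((t : GL ι F) : Matrix ι ι F) = -1) →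
      (Cfsg.Inn (Cfsg.POmega F (⇑Q))).relIndex (Cfsg.psoAut F (⇑Q)) = 1) := by
  have hdim2 : 2 ≤ Fintype.card ι := by omega
  have hnegS := negGL_mem_special Q heven
  have hSO_le : Cfsg.specialIsometryGL F (⇑Q) ≤ Cfsg.Geo.quadSimilarityGroup (⇑Q) :=
    le_trans inf_le_left (isometryGroup_le_similarity (⇑Q))
  rw [neg_one_mem_Omega_iff_negGL]
  constructor
  · intro hneg
    -- for `g ∈ SO`: inner iff spinor norm one
    have key : ∀ g : ↥(Cfsg.Geo.quadSimilarityGroup (⇑Q)),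
        (g : GL ι F) ∈ Cfsg.specialIsometryGL F (⇑Q) →
        (simAut (⇑Q) g ∈ Cfsg.Inn (Cfsg.POmega F (⇑Q)) ↔
          spin Q (glLinEquiv ι F (g : GL ι F)) = 1) := by
      intro g hg
      rw [← mem_OmegaGL_iff_spin Q hQ h2 hdim2 _ hg]
      constructor
      · intro h
        rcases mem_or_neg_mem_of_simAut_mem_Inn Q hQ h2 hdim g hg.1 h with h' | h'
        · exact h'
        · have := Subgroup.mul_mem _ hneg h'
          rw [← mul_assoc, negGL_mul_self, one_mul] at this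
          exact this
      · exact simAut_mem_Inn_of_mem (⇑Q) g
    obtain ⟨g₀, hg₀S, hg₀⟩ := exists_special_spin_neg Q hQ h2 hdim2
    rw [Subgroup.relIndex_eq_two_iff]
    refine ⟨simAut (⇑Q) ⟨g₀, hSO_le hg₀S⟩, ?_, ?_⟩
    · rw [psoAut_eq]
      exact ⟨⟨g₀, hSO_le hg₀S⟩, hg₀S, rfl⟩
    · intro b hb
      rw [psoAut_eq] at hb
      obtain ⟨g, hg, rfl⟩ := hb
      have hg' : (g : GL ι F) ∈ Cfsg.specialIsometryGL F (⇑Q) := hg
      rw [← map_mul, key g hg', key (g * ⟨g₀, hSO_le hg₀S⟩) (Subgroup.mul_mem _ hg' hg₀S)]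
      have hmul : spin Q (glLinEquiv ι F ((g * ⟨g₀, hSO_le hg₀S⟩ :
          ↥(Cfsg.Geo.quadSimilarityGroup (⇑Q))) : GL ι F)) =
          spin Q (glLinEquiv ι F (g : GL ι F)) * spin Q (glLinEquiv ι F g₀) :=
        spin_mul_matrix Q hQ h2 _ _ hg'.1 hg₀S.1
      rw [hmul, hg₀]
      rcases spin_matrix_eq_one_or Q hQ h2 _ hg'.1 with h | h
      · rw [h]
        right
        exact ⟨rfl, by decide⟩
      · rw [h]
        left
        exact ⟨by decide, by decide⟩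
  · intro hneg
    have hnegspin : spin Q (glLinEquiv ι F (negGL ι F)) = -1 := by
      rcases spin_matrix_eq_one_or Q hQ h2 _ hnegS.1 with h | h
      · exact absurd ((mem_OmegaGL_iff_spin Q hQ h2 hdim2 _ hnegS).mpr h) hneg
      · exact h
    rw [Subgroup.relIndex_eq_one]
    intro b hb
    rw [psoAut_eq] at hb
    obtain ⟨g, hg, rfl⟩ := hb
    have hg' : (g : GL ι F) ∈ Cfsg.specialIsometryGL F (⇑Q) := hg
    rcases spin_matrix_eq_one_or Q hQ h2 _ hg'.1 with h | h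
    · exact simAut_mem_Inn_of_mem (⇑Q) g ((mem_OmegaGL_iff_spin Q hQ h2 hdim2 _ hg').mpr h)
    · apply simAut_mem_Inn_of_neg_mem (⇑Q) g
      rw [mem_OmegaGL_iff_spin Q hQ h2 hdim2 _ (Subgroup.mul_mem _ hnegS hg'),
        spin_mul_matrix Q hQ h2 _ _ hnegS.1 hg'.1, hnegspin, h]
      decide

/-- Version of `relIndex_Inn_psoAut` for a function propositionally equal to a quadratic form. -/
theorem relIndex_Inn_psoAut_of_eq (Q : QuadraticForm F (ι → F)) (f : (ι → F) → F) (hf : ⇑Q = f)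
    (hQ : (QuadraticMap.polarBilin Q).Nondegenerate) (h2 : (2 : F) ≠ 0)
    (hdim : 5 ≤ Fintype.card ι) (heven : Even (Fintype.card ι)) :
    ((∃ t : ↥(Cfsg.isometryGroup F f), t ∈ Cfsg.Omega F f ∧
        ((t : GL ι F) : Matrix ι ι F) = -1) →
      (Cfsg.Inn (Cfsg.POmega F f)).relIndex (Cfsg.psoAut F f) = 2) ∧
    ((¬ ∃ t : ↥(Cfsg.isometryGroup F f), t ∈ Cfsg.Omega F f ∧
        ((t : GL ι F) : Matrix ι ι F) = -1) →
      (Cfsg.Inn (Cfsg.POmega F f)).relIndex (Cfsg.psoAut F f) = 1) := by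
  subst hf
  exact relIndex_Inn_psoAut Q hQ h2 hdim heven

/-- Powers of an odd number modulo four. -/
theorem pow_mod_four_eq_three_iff (q m : ℕ) (hq : q % 2 = 1) :
    q ^ m % 4 = 3 ↔ (Odd m ∧ q % 4 = 3) := by
  have h9 : ∀ k : ℕ, 9 ^ k % 4 = 1 := by
    intro k
    rw [Nat.pow_mod]
    norm_num
  rw [Nat.pow_mod]
  have hq4 : q % 4 = 1 ∨ q % 4 = 3 := by omega
  rcases hq4 with h | h
  · rw [h, one_pow]
    constructor
    · intro h'
      omega
    · rintro ⟨-, h'⟩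
      omega
  · rw [h]
    rcases Nat.even_or_odd' m with ⟨k, rfl | rfl⟩
    · rw [pow_mul]
      norm_num
      rw [h9]
      constructor
      · intro h'
        omega
      · intro h'
        exact absurd h' (by
          rw [Nat.not_odd_iff_even]
          exact even_two_mul k)
    · have h3 : 3 ^ (2 * k + 1) % 4 = 3 := by
        have h9k := h9 k
        rw [pow_succ, pow_mul]
        norm_num
        omega
      rw [h3]
      constructor
      · intro _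
        exact ⟨odd_two_mul_add_one k, rfl⟩
      · intro _
        rfl

theorem pow_mod_four_eq_one_iff (q m : ℕ) (hq : q % 2 = 1) :
    q ^ m % 4 = 1 ↔ ¬ (Odd m ∧ q % 4 = 3) := by
  rw [← pow_mod_four_eq_three_iff q m hq]
  have hodd : q ^ m % 2 = 1 := by
    rw [Nat.pow_mod, hq, one_pow]
    rfl
  omega

end Cfsg.Agent.Lib.Helper36
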