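import Mathlib
import Cfsg.Agent.Lib.Helper36.PsoInn
import Cfsg.Agent.Lib.Helper36.DihedralEight

set_option autoImplicit false
set_option linter.unusedSectionVars false

/-!
# `PGO / Inn(PΩ)` inside `Aut(PΩ(Q))`: dihedral of order eight when `-1 ∈ Ω`, and equal to
`PGO / PSO` otherwise (finite field of odd characteristic, even dimension at least six)
-/

namespace Cfsg.Agent.Lib.Helper36

open Module Matrix Cfsg.Agent.Lib.Helper13

section Abstract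

variable {F V : Type*} [Field F] [AddCommGroup V] [Module F V]

local notation "pol" => QuadraticMap.polar

/-- Conjugating a reflection by a similarity gives the reflection in the image vector. -/
theorem conj_reflLin_similarity (Q : QuadraticForm F V) (D : V ≃ₗ[F] V) (c : F) (hc : c ≠ 0)
    (hD : ∀ z, Q (D z) = c * Q z) (v : V) (hv : Q v ≠ 0) (z : V) :
    D (reflLin Q v (D⁻¹ z)) = reflLin Q (D v) z := by
  have h1 : D (D⁻¹ z) = z := by
    rw [← LinearEquiv.mul_apply, mul_inv_cancel]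
    rfl
  have h3 : pol (⇑Q) (D v) z = c * pol (⇑Q) v (D⁻¹ z) := by
    have : pol (⇑Q) (D v) (D (D⁻¹ z)) = c * pol (⇑Q) v (D⁻¹ z) := by
      unfold QuadraticMap.polar
      rw [← map_add, hD, hD, hD]
      ring
    rw [h1] at this
    exact this
  rw [reflLin_apply, reflLin_apply, map_sub, map_smul, h1, h3, hD v]
  congr 2
  field_simp

end Abstract

variable {ι : Type} [Fintype ι] [DecidableEq ι] {F : Type*} [Field F]

theorem OmegaGL_le_special (Q : (ι → F) → F) : OmegaGL Q ≤ Cfsg.specialIsometryGL F Q := by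
  rintro _ ⟨s, hs, rfl⟩
  refine ⟨s.2, ?_⟩
  have h1 : commutator ↥(Cfsg.isometryGroup F Q) ≤
      ((Matrix.GeneralLinearGroup.det : GL ι F →* Fˣ).comp (Cfsg.isometryGroup F Q).subtype).ker :=
    Abelianization.commutator_subset_ker _
  have h3 := h1 hs
  rw [MonoidHom.mem_ker, MonoidHom.comp_apply] at h3
  exact h3

theorem Inn_le_psoAut (Q : (ι → F) → F) : Cfsg.Inn (Cfsg.POmega F Q) ≤ Cfsg.psoAut F Q := by
  rw [Inn_eq, psoAut_eq]
  apply Subgroup.map_mono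
  intro g hg
  exact OmegaGL_le_special Q hg

theorem psoAut_le_pgoAut (Q : (ι → F) → F) : Cfsg.psoAut F Q ≤ Cfsg.pgoAut F Q := by
  rw [psoAut_eq, pgoAut_eq]
  rintro _ ⟨g, -, rfl⟩
  exact ⟨g, rfl⟩

/-- If the index is one, the two subgroups coincide. -/
theorem Inn_eq_psoAut_of_relIndex (Q : (ι → F) → F)
    (h : (Cfsg.Inn (Cfsg.POmega F Q)).relIndex (Cfsg.psoAut F Q) = 1) :
    Cfsg.Inn (Cfsg.POmega F Q) = Cfsg.psoAut F Q :=
  le_antisymm (Inn_le_psoAut Q) (Subgroup.relIndex_eq_one.mp h)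

section Main

variable [Fintype F] [DecidableEq F]

/-- When `-1 ∈ Ω`, a rotation induces an inner automorphism of `PΩ` iff its spinor norm is one. -/
theorem simAut_mem_Inn_iff_spin (Q : QuadraticForm F (ι → F))
    (hQ : (QuadraticMap.polarBilin Q).Nondegenerate) (h2 : (2 : F) ≠ 0)
    (hdim : 5 ≤ Fintype.card ι) (hneg : negGL ι F ∈ OmegaGL (⇑Q))
    (g : ↥(Cfsg.Geo.quadSimilarityGroup (⇑Q)))
    (hg : (g : GL ι F) ∈ Cfsg.specialIsometryGL F (⇑Q)) :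
    simAut (⇑Q) g ∈ Cfsg.Inn (Cfsg.POmega F (⇑Q)) ↔
      spin Q (glLinEquiv ι F (g : GL ι F)) = 1 := by
  have hdim2 : 2 ≤ Fintype.card ι := by omega
  rw [← mem_OmegaGL_iff_spin Q hQ h2 hdim2 _ hg]
  constructor
  · intro h
    rcases mem_or_neg_mem_of_simAut_mem_Inn Q hQ h2 hdim g hg.1 h with h' | h'
    · exact h'
    · have := Subgroup.mul_mem _ hneg h'
      rw [← mul_assoc, negGL_mul_self, one_mul] at this
      exact this
  · exact simAut_mem_Inn_of_mem (⇑Q) g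

/-- The commutator of a reflection in a vector of norm one with a similarity of non-square
multiplier is a rotation of spinor norm `-1`. -/
theorem commutator_refl_similarity (Q : QuadraticForm F (ι → F))
    (hQ : (QuadraticMap.polarBilin Q).Nondegenerate) (v₀ : ι → F) (hv₀ : Q v₀ = 1)
    (r₁ g₁ : GL ι F) (hr₁ : (r₁ : Matrix ι ι F) = Cfsg.reflectionMatrix (⇑Q) v₀)
    (c : Fˣ) (hc : ¬ IsSquare (c : F))
    (hg₁ : ∀ v : ι → F, Q ((g₁ : Matrix ι ι F) *ᵥ v) = (c : F) * Q v) :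
    r₁ * g₁ * r₁⁻¹ * g₁⁻¹ ∈ Cfsg.specialIsometryGL F (⇑Q) ∧
      spin Q (glLinEquiv ι F (r₁ * g₁ * r₁⁻¹ * g₁⁻¹)) = -1 := by
  have hv₀0 : Q v₀ ≠ 0 := by rw [hv₀]; exact one_ne_zero
  set R : (ι → F) ≃ₗ[F] (ι → F) := glLinEquiv ι F r₁ with hR
  set D : (ι → F) ≃ₗ[F] (ι → F) := glLinEquiv ι F g₁ with hD
  have hRz : ∀ z, R z = reflLin Q v₀ z := by
    intro z
    rw [hR, glLinEquiv_apply, hr₁]
    exact reflectionMatrix_mulVec_eq_reflLin Q v₀ z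
  have hDz : ∀ z, Q (D z) = (c : F) * Q z := by
    intro z
    rw [hD, glLinEquiv_apply]
    exact hg₁ z
  have hRR : R * R = 1 := by
    apply LinearEquiv.ext
    intro z
    rw [LinearEquiv.mul_apply, hRz, hRz, reflLin_reflLin Q v₀ hv₀0]
    rfl
  have hRinv : R⁻¹ = R := inv_eq_of_mul_eq_one_right hRR
  set T' : (ι → F) ≃ₗ[F] (ι → F) := D * R * D⁻¹ with hT'
  have hDv₀ : Q (D v₀) ≠ 0 := by
    rw [hDz, hv₀, mul_one]
    exact c.ne_zero
  have hT'z : ∀ z, T' z = reflLin Q (D v₀) z := by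
    intro z
    rw [hT', LinearEquiv.mul_apply, LinearEquiv.mul_apply, hRz]
    exact conj_reflLin_similarity Q D (c : F) c.ne_zero hDz v₀ hv₀0 z
  have hT'iso : T' ∈ Cfsg.Agent.Lib.Helper13.isoGroup Q :=
    reflGroup_le_isoGroup Q (Subgroup.subset_closure ⟨D v₀, hDv₀, hT'z⟩)
  have hRiso : R ∈ Cfsg.Agent.Lib.Helper13.isoGroup Q :=
    reflGroup_le_isoGroup Q (Subgroup.subset_closure ⟨v₀, hv₀0, hRz⟩)
  have hprod : glLinEquiv ι F (r₁ * g₁ * r₁⁻¹ * g₁⁻¹) = R * T' := by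
    rw [map_mul, map_mul, map_mul, map_inv, map_inv, ← hR, ← hD, hRinv, hT']
    group
  refine ⟨⟨?_, ?_⟩, ?_⟩
  · change r₁ * g₁ * r₁⁻¹ * g₁⁻¹ ∈ Cfsg.isometryGroup F (⇑Q)
    rw [mem_isometryGroup_iff_isoGroup, hprod]
    exact Subgroup.mul_mem _ hRiso hT'iso
  · change Matrix.GeneralLinearGroup.det (r₁ * g₁ * r₁⁻¹ * g₁⁻¹) = 1
    rw [map_mul, map_mul, map_mul, map_inv, map_inv, mul_inv_cancel_comm, mul_inv_cancel]
  · rw [hprod, spin_refl_mul Q hQ T' hT'iso v₀ hv₀0 R hRz, spin_refl Q hQ (D v₀) hDv₀ T' hT'z,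
      hDz, hv₀, mul_one, MulChar.map_one, one_mul, quadraticChar_neg_one_iff_not_isSquare]
    exact hc

/-- **`PGO / Inn(PΩ)` is dihedral of order eight when `-1 ∈ Ω`.** -/
theorem exists_hom_pgo_inn_dihedral (Q : QuadraticForm F (ι → F))
    (hQ : (QuadraticMap.polarBilin Q).Nondegenerate) (h2 : (2 : F) ≠ 0)
    (hdim : 5 ≤ Fintype.card ι) (m : ℕ) (hcard : Fintype.card ι = 2 * m)
    (hns : ∃ (g₁ : GL ι F) (c : Fˣ), ¬ IsSquare (c : F) ∧
      ∀ v : ι → F, Q ((g₁ : Matrix ι ι F) *ᵥ v) = (c : F) * Q v)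
    (hneg : ∃ t : ↥(Cfsg.isometryGroup F (⇑Q)), t ∈ Cfsg.Omega F (⇑Q) ∧
      ((t : GL ι F) : Matrix ι ι F) = -1) :
    ∃ φ : ↥(Cfsg.pgoAut F (⇑Q)) →* DihedralGroup 4, Function.Surjective φ ∧
      φ.ker = (Cfsg.Inn (Cfsg.POmega F (⇑Q))).subgroupOf (Cfsg.pgoAut F (⇑Q)) := by
  have heven : Even (Fintype.card ι) := by rw [hcard]; exact even_two_mul m
  have hdim2 : 2 ≤ Fintype.card ι := by omega
  have hdim' : 2 ≤ finrank F (ι → F) := by
    rw [Module.finrank_fintype_fun_eq_card]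
    exact hdim2
  have hneg' := (neg_one_mem_Omega_iff_negGL (⇑Q)).mp hneg
  -- the index is eight
  obtain ⟨φ₀, hφ₀s, hφ₀k⟩ := exists_hom_pgo_pso Q hQ h2 hdim m hcard hns
  have h4 : (Cfsg.psoAut F (⇑Q)).relIndex (Cfsg.pgoAut F (⇑Q)) = 4 := by
    change ((Cfsg.psoAut F (⇑Q)).subgroupOf (Cfsg.pgoAut F (⇑Q))).index = 4
    rw [← hφ₀k, Subgroup.index_ker, MonoidHom.range_eq_top.mpr hφ₀s, Subgroup.card_top,
      Nat.card_eq_fintype_card]
    rfl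
  have h2' := (relIndex_Inn_psoAut Q hQ h2 hdim heven).1 hneg
  have h8 : ((Cfsg.Inn (Cfsg.POmega F (⇑Q))).subgroupOf (Cfsg.pgoAut F (⇑Q))).index = 8 := by
    change (Cfsg.Inn (Cfsg.POmega F (⇑Q))).relIndex (Cfsg.pgoAut F (⇑Q)) = 8
    rw [← Subgroup.relIndex_mul_relIndex _ _ _ (Inn_le_psoAut (⇑Q)) (psoAut_le_pgoAut (⇑Q)),
      h2', h4]
  -- the two elements
  obtain ⟨v₀, hv₀'⟩ := exists_Q_eq Q hQ h2 hdim' 1 one_ne_zero
  have hv₀ : Q v₀ ≠ 0 := by rw [hv₀']; exact one_ne_zero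
  obtain ⟨r₁, hr₁O, hr₁⟩ := exists_reflection_similarity Q v₀ hv₀
  obtain ⟨g₁, c, hc, hg₁⟩ := hns
  set δ : ↥(Cfsg.Geo.quadSimilarityGroup (⇑Q)) := ⟨g₁, ⟨c, hg₁⟩⟩ with hδ
  have hmem : ∀ g : ↥(Cfsg.Geo.quadSimilarityGroup (⇑Q)),
      simAut (⇑Q) g ∈ Cfsg.pgoAut F (⇑Q) := by
    intro g
    rw [pgoAut_eq]
    exact ⟨g, rfl⟩
  have : ((Cfsg.Inn (Cfsg.POmega F (⇑Q))).subgroupOf (Cfsg.pgoAut F (⇑Q))).Normal :=
    Subgroup.normal_subgroupOf
  obtain ⟨hcS, hcspin⟩ := commutator_refl_similarity Q hQ v₀ hv₀' (r₁ : GL ι F) g₁ hr₁ c hc hg₁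
  apply exists_hom_dihedral_four _ h8 ⟨simAut (⇑Q) r₁, hmem r₁⟩ ⟨simAut (⇑Q) δ, hmem δ⟩
  · rw [Subgroup.mem_subgroupOf]
    change simAut (⇑Q) r₁ * simAut (⇑Q) r₁ ∈ _
    rw [← map_mul]
    have hrr : r₁ * r₁ = 1 := by
      apply Subtype.ext
      apply Units.ext
      apply matrix_eq_of_mulVec
      intro z
      change (((r₁ : GL ι F) * (r₁ : GL ι F) : GL ι F) : Matrix ι ι F) *ᵥ z =
        ((1 : GL ι F) : Matrix ι ι F) *ᵥ z
      rw [Units.val_mul, ← Matrix.mulVec_mulVec, hr₁, reflectionMatrix_mulVec_eq_reflLin,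
        reflectionMatrix_mulVec_eq_reflLin, reflLin_reflLin Q v₀ hv₀, Units.val_one,
        Matrix.one_mulVec]
    rw [hrr, map_one]
    exact Subgroup.one_mem _
  · rw [Subgroup.mem_subgroupOf]
    change simAut (⇑Q) r₁ * simAut (⇑Q) δ * (simAut (⇑Q) r₁)⁻¹ * (simAut (⇑Q) δ)⁻¹ ∉ _
    rw [← map_inv, ← map_inv, ← map_mul, ← map_mul, ← map_mul,
      simAut_mem_Inn_iff_spin Q hQ h2 hdim hneg' _ hcS]
    change ¬ spin Q (glLinEquiv ι F ((r₁ : GL ι F) * g₁ * (r₁ : GL ι F)⁻¹ * g₁⁻¹)) = 1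
    rw [hcspin]
    decide

/-- Version of `exists_hom_pgo_inn_dihedral` for a function propositionally equal to a quadratic
form. -/
theorem exists_hom_pgo_inn_dihedral_of_eq (Q : QuadraticForm F (ι → F)) (f : (ι → F) → F)
    (hf : ⇑Q = f)
    (hQ : (QuadraticMap.polarBilin Q).Nondegenerate) (h2 : (2 : F) ≠ 0)
    (hdim : 5 ≤ Fintype.card ι) (m : ℕ) (hcard : Fintype.card ι = 2 * m)
    (hns : ∃ (g₁ : GL ι F) (c : Fˣ), ¬ IsSquare (c : F) ∧
      ∀ v : ι → F, f ((g₁ : Matrix ι ι F) *ᵥ v) = (c : F) * f v)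
    (hneg : ∃ t : ↥(Cfsg.isometryGroup F f), t ∈ Cfsg.Omega F f ∧
      ((t : GL ι F) : Matrix ι ι F) = -1) :
    ∃ φ : ↥(Cfsg.pgoAut F f) →* DihedralGroup 4, Function.Surjective φ ∧
      φ.ker = (Cfsg.Inn (Cfsg.POmega F f)).subgroupOf (Cfsg.pgoAut F f) := by
  subst hf
  exact exists_hom_pgo_inn_dihedral Q hQ h2 hdim m hcard hns hneg

end Main

end Cfsg.Agent.Lib.Helper36
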