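import Mathlib

set_option autoImplicit false

/-!
# Dual frames for a sesquilinear form and the transport map between two frames

`IsFrame B e e'` says that `B (e' i) (e j) = δ_ij` and `x = ∑ i, B (e' i) x • e i` for all `x`.
Given two frames with the same Gram matrix, `frameMap B ea' eb` is an isometry carrying `ea` to `eb`.
-/

namespace Cfsg.Agent.Lib.Helper36

universe u v w

variable {F : Type u} [Field F] {V : Type v} [AddCommGroup V] [Module F V] {σ : F →+* F}

/-- `frameMap B e' f x = ∑ i, B (e' i) x • f i`. -/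
def frameMap (B : V →ₛₗ[σ] V →ₗ[F] F) {ι : Type w} [Fintype ι] (e' f : ι → V) : V →ₗ[F] V :=
  ∑ i, (B (e' i)).smulRight (f i)

theorem frameMap_apply (B : V →ₛₗ[σ] V →ₗ[F] F) {ι : Type w} [Fintype ι] (e' f : ι → V) (x : V) :
    frameMap B e' f x = ∑ i, B (e' i) x • f i := by
  simp [frameMap, LinearMap.sum_apply, LinearMap.smulRight_apply]

/-- A dual pair of families for a sesquilinear form. -/
structure IsFrame (B : V →ₛₗ[σ] V →ₗ[F] F) {ι : Type w} [Fintype ι] [DecidableEq ι]
    (e e' : ι → V) : Prop where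
  dual : ∀ i j, B (e' i) (e j) = if i = j then 1 else 0
  expand : ∀ x, ∑ i, B (e' i) x • e i = x

variable {B : V →ₛₗ[σ] V →ₗ[F] F} {ι : Type w} [Fintype ι] [DecidableEq ι]

theorem frameMap_apply_self {e e' : ι → V} (h : IsFrame B e e') (f : ι → V) (j : ι) :
    frameMap B e' f (e j) = f j := by
  rw [frameMap_apply]
  simp [h.dual]

theorem frameMap_frameMap {ea ea' eb eb' : ι → V} (ha : IsFrame B ea ea') (hb : IsFrame B eb eb')
    (x : V) : frameMap B eb' ea (frameMap B ea' eb x) = x := by
  rw [frameMap_apply B ea' eb, map_sum]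
  simp_rw [map_smul, frameMap_apply_self hb]
  exact ha.expand x

theorem frameMap_isometry {ea ea' eb : ι → V} (ha : IsFrame B ea ea')
    (hgram : ∀ i j, B (ea i) (ea j) = B (eb i) (eb j)) (x y : V) :
    B (frameMap B ea' eb x) (frameMap B ea' eb y) = B x y := by
  conv_rhs => rw [← ha.expand x, ← ha.expand y]
  simp only [frameMap_apply, map_sum, LinearMap.sum_apply, LinearMap.map_smulₛₗ,
    LinearMap.smul_apply, map_smul, hgram]

theorem frameMap_comm {ea ea' eb : ι → V} (ha : IsFrame B ea ea') (Na Nb : V →ₗ[F] V)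
    (h : ∀ j, frameMap B ea' eb (Na (ea j)) = Nb (eb j)) (x : V) :
    frameMap B ea' eb (Na x) = Nb (frameMap B ea' eb x) := by
  conv_lhs => rw [← ha.expand x]
  rw [map_sum, map_sum, frameMap_apply B ea' eb x, map_sum]
  simp only [map_smul, h]

theorem IsFrame.linearIndependent {e e' : ι → V} (h : IsFrame B e e') : LinearIndependent F e := by
  rw [Fintype.linearIndependent_iff]
  intro g hg j
  have h1 := congrArg (B (e' j)) hg
  simp only [map_sum, map_smul, h.dual, smul_eq_mul, mul_ite, mul_one, mul_zero, Finset.sum_ite_eq,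
    Finset.mem_univ, if_true, map_zero] at h1
  exact h1

theorem IsFrame.span_eq_top {e e' : ι → V} (h : IsFrame B e e') :
    ⊤ ≤ Submodule.span F (Set.range e) := by
  intro x _
  rw [← h.expand x]
  exact Submodule.sum_mem _ (fun i _ => Submodule.smul_mem _ _ (Submodule.subset_span ⟨i, rfl⟩))

theorem IsFrame.card_eq {e e' : ι → V} (h : IsFrame B e e') :
    Fintype.card ι = Module.finrank F V :=
  (Module.finrank_eq_card_basis (Module.Basis.mk h.linearIndependent h.span_eq_top)).symm

end Cfsg.Agent.Lib.Helper36
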