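import Mathlib
import Cfsg.Agent.Lib.Helper36.Frame

set_option autoImplicit false

/-!
# Symplectic families and adapted frames for square-zero self-adjoint operators on
symplectic spaces in characteristic two
-/

namespace Cfsg.Agent.Lib.Helper36

open Module

universe u v

variable {F : Type u} [Field F]

/-- Symplectic (hyperbolic) family with expansion, for a non-degenerate alternating form. -/
theorem exists_symplectic_family_aux :
    ∀ (n : ℕ) (V : Type v) [AddCommGroup V] [Module F V] [FiniteDimensional F V]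
      (B : LinearMap.BilinForm F V), B.IsAlt → B.Nondegenerate → finrank F V ≤ n →
      ∃ (l : ℕ) (u v : Fin l → V), (∀ i j, B (u i) (v j) = if i = j then 1 else 0) ∧
        (∀ i j, B (u i) (u j) = 0) ∧ (∀ i j, B (v i) (v j) = 0) ∧
        ∀ z, ∑ i, B z (v i) • u i + ∑ i, B (u i) z • v i = z := by
  intro n
  induction n with
  | zero =>
    intro V _ _ _ B _ _ hn
    have h0 : finrank F V = 0 := by omega
    have hsub : Subsingleton V := Module.finrank_zero_iff.mp h0
    refine ⟨0, Fin.elim0, Fin.elim0, fun i => i.elim0, fun i => i.elim0, fun i => i.elim0, ?_⟩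
    intro z
    simp only [Finset.univ_eq_empty, Finset.sum_empty, add_zero]
    exact Subsingleton.elim _ _
  | succ n ih =>
    intro V _ _ _ B hA hN hn
    have hswap : ∀ x y, B x y = - B y x := fun x y => by
      rw [LinearMap.BilinForm.IsAlt.neg_eq hA y x]
    by_cases hex : ∃ x : V, x ≠ 0
    · obtain ⟨x, hx⟩ := hex
      have hex2 : ∃ y', B x y' ≠ 0 := by
        by_contra hcon
        push Not at hcon
        exact hx (hN.1 x hcon)
      obtain ⟨y', hy'⟩ := hex2
      obtain ⟨y, hxy⟩ : ∃ y, B x y = 1 := by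
        refine ⟨(B x y')⁻¹ • y', ?_⟩
        rw [map_smul, smul_eq_mul, inv_mul_cancel₀ hy']
      have hyx : B y x = -1 := by rw [hswap, hxy]
      have hxx : B x x = 0 := hA x
      have hyy : B y y = 0 := hA y
      obtain ⟨W, hW⟩ : ∃ W : Submodule F V, W = LinearMap.ker (B x) ⊓ LinearMap.ker (B y) :=
        ⟨_, rfl⟩
      have hWmem : ∀ w, w ∈ W ↔ B x w = 0 ∧ B y w = 0 := by
        intro w
        rw [hW]
        simp [Submodule.mem_inf]
      have hWmem' : ∀ w, w ∈ W → B w x = 0 ∧ B w y = 0 := by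
        intro w hw
        obtain ⟨h1, h2⟩ := (hWmem w).mp hw
        constructor
        · rw [hswap, h1, neg_zero]
        · rw [hswap, h2, neg_zero]
      obtain ⟨p, hpdef⟩ : ∃ p : V → V, ∀ z, p z = z - B z y • x - B x z • y := ⟨_, fun _ => rfl⟩
      have hp : ∀ z, p z ∈ W := by
        intro z
        rw [hWmem, hpdef]
        constructor
        · simp only [map_sub, map_smul, hxx, hxy, smul_eq_mul, mul_zero, mul_one, sub_zero,
            sub_self]
        · simp only [map_sub, map_smul, hyx, hyy, smul_eq_mul, mul_zero, sub_zero]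
          rw [hswap y z]
          ring
      have hlt : finrank F W < finrank F V := by
        apply Submodule.finrank_lt
        intro htop
        have : y ∈ W := by rw [htop]; exact Submodule.mem_top
        have h1 := ((hWmem y).mp this).1
        rw [hxy] at h1
        exact one_ne_zero h1
      set BW : LinearMap.BilinForm F W := B.domRestrict₁₂ W W with hBW
      have hBWapp : ∀ a b : W, BW a b = B (a : V) (b : V) := fun a b => rfl
      have hAW : BW.IsAlt := fun a => hA (a : V)
      have hBp : ∀ a ∈ W, ∀ z, B a (p z) = B a z := by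
        intro a ha z
        rw [hpdef]
        simp only [map_sub, map_smul, (hWmem' a ha).1, (hWmem' a ha).2, smul_zero, sub_zero]
      have hBp' : ∀ b ∈ W, ∀ z, B (p z) b = B z b := by
        intro b hb z
        rw [hpdef]
        simp only [map_sub, map_smul, LinearMap.sub_apply, LinearMap.smul_apply,
          ((hWmem b).mp hb).1, ((hWmem b).mp hb).2, smul_zero, sub_zero]
      have hNW : BW.Nondegenerate := by
        constructor
        · intro a ha
          apply Subtype.ext
          apply hN.1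
          intro z
          rw [← hBp a a.2 z]
          exact ha ⟨p z, hp z⟩
        · intro b hb
          apply Subtype.ext
          apply hN.2
          intro z
          rw [← hBp' b b.2 z]
          exact hb ⟨p z, hp z⟩
      obtain ⟨l, u, v, huv, huu, hvv, hexp⟩ := ih W BW hAW hNW (by omega)
      refine ⟨l + 1, Fin.cons x (fun i => (u i : V)), Fin.cons y (fun i => (v i : V)), ?_, ?_, ?_,
        ?_⟩
      · intro i j
        refine Fin.cases ?_ (fun i' => ?_) i <;> refine Fin.cases ?_ (fun j' => ?_) j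
        · simp [hxy]
        · simp only [Fin.cons_zero, Fin.cons_succ]
          rw [((hWmem _).mp (v j').2).1]
          simp [Fin.succ_ne_zero, eq_comm]
        · simp only [Fin.cons_zero, Fin.cons_succ]
          rw [(hWmem' _ (u i').2).2]
          simp [Fin.succ_ne_zero]
        · simp only [Fin.cons_succ, Fin.succ_inj]
          rw [← hBWapp, huv]
      · intro i j
        refine Fin.cases ?_ (fun i' => ?_) i <;> refine Fin.cases ?_ (fun j' => ?_) j
        · simp [hxx]
        · simp only [Fin.cons_zero, Fin.cons_succ]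
          exact ((hWmem _).mp (u j').2).1
        · simp only [Fin.cons_zero, Fin.cons_succ]
          exact (hWmem' _ (u i').2).1
        · simp only [Fin.cons_succ]
          rw [← hBWapp, huu]
      · intro i j
        refine Fin.cases ?_ (fun i' => ?_) i <;> refine Fin.cases ?_ (fun j' => ?_) j
        · simp [hyy]
        · simp only [Fin.cons_zero, Fin.cons_succ]
          exact ((hWmem _).mp (v j').2).2
        · simp only [Fin.cons_zero, Fin.cons_succ]
          exact (hWmem' _ (v i').2).2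
        · simp only [Fin.cons_succ]
          rw [← hBWapp, hvv]
      · intro z
        rw [Fin.sum_univ_succ, Fin.sum_univ_succ]
        simp only [Fin.cons_zero, Fin.cons_succ]
        have h1 := congrArg Subtype.val (hexp ⟨p z, hp z⟩)
        simp only [Submodule.coe_add, Submodule.coe_sum, Submodule.coe_smul, hBWapp] at h1
        have h2 : ∀ i, B (p z) (v i : V) = B z (v i : V) := fun i => hBp' _ (v i).2 z
        have h3 : ∀ i, B (u i : V) (p z) = B (u i : V) z := fun i => hBp _ (u i).2 z
        simp only [h2, h3] at h1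
        have h4 : z = p z + B z y • x + B x z • y := by rw [hpdef]; abel
        conv_rhs => rw [h4, ← h1]
        abel
    · push Not at hex
      refine ⟨0, Fin.elim0, Fin.elim0, fun i => i.elim0, fun i => i.elim0, fun i => i.elim0, ?_⟩
      intro z
      simp only [Finset.univ_eq_empty, Finset.sum_empty, add_zero]
      exact (hex z).symm

/-- Symplectic family with expansion for a non-degenerate alternating form. -/
theorem exists_symplectic_family {V : Type v} [AddCommGroup V] [Module F V] [FiniteDimensional F V]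
    (B : LinearMap.BilinForm F V) (hA : B.IsAlt) (hB : B.Nondegenerate) :
    ∃ (l : ℕ) (u v : Fin l → V), (∀ i j, B (u i) (v j) = if i = j then 1 else 0) ∧
      (∀ i j, B (u i) (u j) = 0) ∧ (∀ i j, B (v i) (v j) = 0) ∧
      ∀ z, ∑ i, B z (v i) • u i + ∑ i, B (u i) z • v i = z :=
  exists_symplectic_family_aux (finrank F V) V B hA hB le_rfl

variable {V : Type v} [AddCommGroup V] [Module F V]

/-- Making a family isotropic without changing its image under `N` (characteristic two,
symmetric alternating form). -/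
theorem exists_isotropic_adjust_symm [CharP F 2] (B : LinearMap.BilinForm F V)
    (hS : ∀ x y, B x y = B y x) (hA : ∀ x, B x x = 0)
    (N : V →ₗ[F] V) (hN2 : ∀ x, N (N x) = 0) (hadj : ∀ x y, B (N x) y = B x (N y))
    {ι : Type*} [Fintype ι] [DecidableEq ι] (τ : ι → ι) (hτ : ∀ i, τ (τ i) = i)
    (w0 : ι → V) (h0 : ∀ i j, B (w0 i) (N (w0 j)) = if i = τ j then 1 else 0) :
    ∃ w : ι → V, (∀ i, N (w i) = N (w0 i)) ∧ ∀ i j, B (w i) (w j) = 0 := by
  classical
  obtain ⟨rk, hrk⟩ : ∃ rk : ι → ℕ, ∀ i j, rk i = rk j → i = j :=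
    ⟨fun i => (Fintype.equivFin ι i).val, fun i j h => (Fintype.equivFin ι).injective (Fin.ext h)⟩
  obtain ⟨d, hd⟩ : ∃ d : ι → ι → F, ∀ i j, d i j = if rk i < rk j then B (w0 i) (w0 j) else 0 :=
    ⟨_, fun _ _ => rfl⟩
  obtain ⟨S, hSdef⟩ : ∃ S : ι → V, ∀ i, S i = ∑ l, d i l • w0 (τ l) := ⟨_, fun _ => rfl⟩
  have hτinj : ∀ i j, τ i = τ j ↔ i = j := by
    intro i j
    constructor
    · intro h
      rw [← hτ i, ← hτ j, h]
    · intro h
      rw [h]
  refine ⟨fun i => w0 i + N (S i), ?_, ?_⟩
  · intro i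
    simp [map_add, hN2]
  · intro i j
    have e1 : B (w0 i) (N (S j)) = d j i := by
      simp only [hSdef, map_sum, map_smul, h0, hτ, smul_eq_mul, mul_ite, mul_one, mul_zero,
        Finset.sum_ite_eq, Finset.mem_univ, if_true]
    have e2 : B (N (S i)) (w0 j) = d i j := by
      rw [hadj]
      simp only [hSdef, map_sum, LinearMap.sum_apply, map_smul, LinearMap.smul_apply, h0, hτinj,
        smul_eq_mul, mul_ite, mul_one, mul_zero, Finset.sum_ite_eq', Finset.mem_univ, if_true]
    have e3 : B (N (S i)) (N (S j)) = 0 := by rw [hadj, hN2, map_zero]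
    simp only [map_add, LinearMap.add_apply, e1, e2, e3, add_zero, hd]
    rcases lt_trichotomy (rk i) (rk j) with h | h | h
    · rw [if_pos h, if_neg (by omega), add_zero]
      exact CharTwo.add_self_eq_zero _
    · have hij := hrk i j h
      subst hij
      simp [hA]
    · rw [if_neg (by omega), if_pos h, hS (w0 j) (w0 i), add_zero]
      exact CharTwo.add_self_eq_zero _

/-- Adapted system for a self-adjoint square-zero operator on a symplectic space in characteristic
two, starting from a family `w0` whose images under `N` span the range of `N` and which has the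
standard Gram matrix `[i = τ j]` for the form `(x, y) ↦ B x (N y)`. -/
theorem exists_adapted_symp [CharP F 2] [FiniteDimensional F V] (B : LinearMap.BilinForm F V)
    (hS : ∀ x y, B x y = B y x) (hA : ∀ x, B x x = 0) (hB : B.Nondegenerate)
    (N : V →ₗ[F] V) (hN2 : ∀ x, N (N x) = 0) (hadj : ∀ x y, B (N x) y = B x (N y))
    {ι : Type*} [Fintype ι] [DecidableEq ι] (τ : ι → ι) (hτ : ∀ i, τ (τ i) = i)
    (w0 : ι → V) (h0 : ∀ i j, B (w0 i) (N (w0 j)) = if i = τ j then 1 else 0)
    (hspan : ∀ y, ∃ a : ι → F, N y = ∑ i, a i • N (w0 i)) :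
    ∃ (s : ℕ) (w : ι → V) (u v : Fin s → V),
      (∀ i j, B (w i) (w j) = 0) ∧ (∀ i j, B (w i) (N (w j)) = if i = τ j then 1 else 0) ∧
      (∀ i j, B (u i) (v j) = if i = j then 1 else 0) ∧ (∀ i j, B (u i) (u j) = 0) ∧
      (∀ i j, B (v i) (v j) = 0) ∧
      (∀ i k, B (w i) (u k) = 0) ∧ (∀ i k, B (w i) (v k) = 0) ∧
      (∀ i k, B (N (w i)) (u k) = 0) ∧ (∀ i k, B (N (w i)) (v k) = 0) ∧
      (∀ k, N (u k) = 0) ∧ (∀ k, N (v k) = 0) ∧
      (∀ x, ∑ i, B (N (w i)) x • w (τ i) + ∑ i, B (w i) x • N (w (τ i)) +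
        (∑ k, B (v k) x • u k + ∑ k, B (u k) x • v k) = x) := by
  classical
  obtain ⟨w, hNw, hww⟩ := exists_isotropic_adjust_symm B hS hA N hN2 hadj τ hτ w0 h0
  have hwN : ∀ i j, B (w i) (N (w j)) = if i = τ j then 1 else 0 := by
    intro i j
    rw [hNw j, ← hadj, hNw i, hadj]
    exact h0 i j
  have hNww : ∀ i j, B (N (w i)) (w j) = if i = τ j then 1 else 0 := by
    intro i j
    rw [hadj]
    exact hwN i j
  have hNN : ∀ i j, B (N (w i)) (N (w j)) = 0 := by
    intro i j
    rw [hadj, hN2, map_zero]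
  obtain ⟨C, hC⟩ : ∃ C : Submodule F V,
      C = ⨅ i, (LinearMap.ker (B (w i)) ⊓ LinearMap.ker (B (N (w i)))) := ⟨_, rfl⟩
  have hCmem : ∀ x, x ∈ C ↔ ∀ i, B (w i) x = 0 ∧ B (N (w i)) x = 0 := by
    intro x
    rw [hC]
    simp [Submodule.mem_iInf]
  obtain ⟨p, hpdef⟩ : ∃ p : V → V,
      ∀ x, p x = x - ∑ i, B (N (w i)) x • w (τ i) - ∑ i, B (w i) x • N (w (τ i)) :=
    ⟨_, fun _ => rfl⟩
  have hp : ∀ x, p x ∈ C := by
    intro x
    rw [hCmem]
    intro j
    constructor
    · rw [hpdef]
      simp only [map_sub, map_sum, map_smul, hww, hwN, hτ, smul_eq_mul, mul_zero,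
        Finset.sum_const_zero, sub_zero, mul_ite, mul_one, Finset.sum_ite_eq, Finset.mem_univ,
        if_true, sub_self]
    · rw [hpdef]
      simp only [map_sub, map_sum, map_smul, hNww, hNN, hτ, smul_eq_mul, mul_zero,
        Finset.sum_const_zero, mul_ite, mul_one, Finset.sum_ite_eq, Finset.mem_univ,
        if_true, sub_self]
  have hCker : ∀ x ∈ C, N x = 0 := by
    intro x hx
    apply hB.2
    intro y
    obtain ⟨a, ha⟩ := hspan y
    rw [← hadj, ha, map_sum, LinearMap.sum_apply]
    apply Finset.sum_eq_zero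
    intro i _
    rw [map_smul, LinearMap.smul_apply, ← hNw i, ((hCmem x).mp hx i).2, smul_zero]
  set BC : LinearMap.BilinForm F C := B.domRestrict₁₂ C C with hBC
  have hBCapp : ∀ x y : C, BC x y = B (x : V) (y : V) := fun x y => rfl
  have hAC : BC.IsAlt := fun x => hA (x : V)
  have hCw : ∀ x ∈ C, ∀ i, B x (w i) = 0 := by
    intro x hx i
    rw [hS, ((hCmem x).mp hx i).1]
  have hCNw : ∀ x ∈ C, ∀ i, B x (N (w i)) = 0 := by
    intro x hx i
    rw [hS, ((hCmem x).mp hx i).2]
  have hBCp : ∀ x ∈ C, ∀ y, B x (p y) = B x y := by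
    intro x hx y
    rw [hpdef]
    simp only [map_sub, map_sum, map_smul, hCw x hx, hCNw x hx, smul_zero, Finset.sum_const_zero,
      sub_zero]
  have hNC : BC.Nondegenerate := by
    constructor
    · intro x hx
      apply Subtype.ext
      apply hB.1
      intro y
      rw [← hBCp x x.2 y]
      exact hx ⟨p y, hp y⟩
    · intro y hy
      apply Subtype.ext
      apply hB.2
      intro x
      rw [hS, ← hBCp y y.2 x, hS]
      exact hy ⟨p x, hp x⟩
  obtain ⟨s, u, v, huv, huu, hvv, hexp⟩ := exists_symplectic_family BC hAC hNC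
  refine ⟨s, w, fun k => (u k : V), fun k => (v k : V), hww, hwN, huv, huu, hvv, ?_, ?_, ?_, ?_, ?_,
    ?_, ?_⟩
  · intro i k
    exact ((hCmem _).mp (u k).2 i).1
  · intro i k
    exact ((hCmem _).mp (v k).2 i).1
  · intro i k
    exact ((hCmem _).mp (u k).2 i).2
  · intro i k
    exact ((hCmem _).mp (v k).2 i).2
  · intro k
    exact hCker _ (u k).2
  · intro k
    exact hCker _ (v k).2
  · intro x
    have h1 := congrArg Subtype.val (hexp ⟨p x, hp x⟩)
    simp only [Submodule.coe_add, Submodule.coe_sum, Submodule.coe_smul, hBCapp] at h1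
    have h2 : ∀ k, B (p x) (v k : V) = B (v k : V) x := fun k => by
      rw [hS, hBCp _ (v k).2 x]
    have h3 : ∀ k, B (u k : V) (p x) = B (u k : V) x := fun k => hBCp _ (u k).2 x
    simp only [h2, h3] at h1
    rw [h1, hpdef]
    abel

/-- The index involution of an adapted symplectic frame. -/
def adaptedSwap {ι : Type*} (τ : ι → ι) (s : ℕ) :
    ι ⊕ ι ⊕ (Fin s ⊕ Fin s) → ι ⊕ ι ⊕ (Fin s ⊕ Fin s)
  | Sum.inl i => Sum.inr (Sum.inl (τ i))
  | Sum.inr (Sum.inl i) => Sum.inl (τ i)
  | Sum.inr (Sum.inr k) => Sum.inr (Sum.inr (Sum.swap k))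

theorem adaptedSwap_invol {ι : Type*} (τ : ι → ι) (hτ : ∀ i, τ (τ i) = i) (s : ℕ)
    (i : ι ⊕ ι ⊕ (Fin s ⊕ Fin s)) : adaptedSwap τ s (adaptedSwap τ s i) = i := by
  rcases i with i | i | k
  · simp [adaptedSwap, hτ]
  · simp [adaptedSwap, hτ]
  · simp [adaptedSwap]

/-- Adapted frame for a self-adjoint square-zero operator on a symplectic space in characteristic
two. -/
theorem exists_adapted_symp_frame [CharP F 2] [FiniteDimensional F V]
    (B : LinearMap.BilinForm F V)
    (hS : ∀ x y, B x y = B y x) (hA : ∀ x, B x x = 0) (hB : B.Nondegenerate)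
    (N : V →ₗ[F] V) (hN2 : ∀ x, N (N x) = 0) (hadj : ∀ x y, B (N x) y = B x (N y))
    {ι : Type*} [Fintype ι] [DecidableEq ι] (τ : ι → ι) (hτ : ∀ i, τ (τ i) = i)
    (w0 : ι → V) (h0 : ∀ i j, B (w0 i) (N (w0 j)) = if i = τ j then 1 else 0)
    (hspan : ∀ y, ∃ a : ι → F, N y = ∑ i, a i • N (w0 i)) :
    ∃ (s : ℕ) (e : ι ⊕ ι ⊕ (Fin s ⊕ Fin s) → V),
      IsFrame B e (e ∘ adaptedSwap τ s) ∧
      (∀ i j, B (e i) (e j) = if i = adaptedSwap τ s j then 1 else 0) ∧
      (∀ i, N (e (Sum.inl i)) = e (Sum.inr (Sum.inl i))) ∧ (∀ i, N (e (Sum.inr i)) = 0) := by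
  classical
  obtain ⟨s, w, u, v, hww, hwN, huv, huu, hvv, hwu, hwv, hNwu, hNwv, hNu, hNv, hexp⟩ :=
    exists_adapted_symp B hS hA hB N hN2 hadj τ hτ w0 h0 hspan
  have hNww : ∀ i j, B (N (w i)) (w j) = if i = τ j then 1 else 0 := by
    intro i j
    rw [hadj]
    exact hwN i j
  have hNN : ∀ i j, B (N (w i)) (N (w j)) = 0 := by
    intro i j
    rw [hadj, hN2, map_zero]
  have huw : ∀ k i, B (u k) (w i) = 0 := fun k i => by rw [hS]; exact hwu i k
  have hvw : ∀ k i, B (v k) (w i) = 0 := fun k i => by rw [hS]; exact hwv i k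
  have huNw : ∀ k i, B (u k) (N (w i)) = 0 := fun k i => by rw [hS]; exact hNwu i k
  have hvNw : ∀ k i, B (v k) (N (w i)) = 0 := fun k i => by rw [hS]; exact hNwv i k
  have hvu : ∀ i j, B (v i) (u j) = if i = j then 1 else 0 := fun i j => by
    rw [hS, huv j i]
    simp [eq_comm]
  obtain ⟨e, he⟩ : ∃ e : ι ⊕ ι ⊕ (Fin s ⊕ Fin s) → V,
      e = Sum.elim w (Sum.elim (fun i => N (w i)) (Sum.elim u v)) := ⟨_, rfl⟩
  have hgram : ∀ i j, B (e i) (e j) = if i = adaptedSwap τ s j then 1 else 0 := by
    intro i j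
    rw [he]
    rcases i with i | i | i | i <;> rcases j with j | j | j | j <;>
      simp [adaptedSwap, hww, hwN, hNww, hNN, hwu, hwv, hNwu, hNwv, huw, hvw, huNw, hvNw, huv, hvu,
        huu, hvv]
  have hinj : ∀ i j, adaptedSwap τ s i = adaptedSwap τ s j ↔ i = j := by
    intro i j
    constructor
    · intro h
      rw [← adaptedSwap_invol τ hτ s i, ← adaptedSwap_invol τ hτ s j, h]
    · intro h
      rw [h]
  refine ⟨s, e, ⟨?_, ?_⟩, hgram, ?_, ?_⟩
  · intro i j
    rw [Function.comp_apply, hgram]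
    simp only [hinj]
  · intro x
    rw [he]
    rw [Fintype.sum_sum_type, Fintype.sum_sum_type, Fintype.sum_sum_type]
    simp only [Function.comp_apply, adaptedSwap, Sum.elim_inl, Sum.elim_inr, Sum.swap_inl,
      Sum.swap_inr]
    have hinv : Function.Involutive τ := hτ
    have r1 : ∑ i, B (N (w (τ i))) x • w i = ∑ i, B (N (w i)) x • w (τ i) :=
      Fintype.sum_equiv (Function.Involutive.toPerm τ hinv) _ _ (fun i => by
        simp only [Function.Involutive.coe_toPerm, hτ])
    have r2 : ∑ i, B (w (τ i)) x • N (w i) = ∑ i, B (w i) x • N (w (τ i)) :=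
      Fintype.sum_equiv (Function.Involutive.toPerm τ hinv) _ _ (fun i => by
        simp only [Function.Involutive.coe_toPerm, hτ])
    rw [r1, r2, ← add_assoc]
    exact hexp x
  · intro i
    rw [he]
    simp
  · intro i
    rw [he]
    rcases i with i | i | i
    · simp [hN2]
    · simp [hNu]
    · simp [hNv]

/-- Two self-adjoint square-zero operators admitting families of the same shape `(ι, τ)` are
conjugate under an isometry. -/
theorem exists_isometry_of_kbasis [CharP F 2] [FiniteDimensional F V]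
    (B : LinearMap.BilinForm F V)
    (hS : ∀ x y, B x y = B y x) (hA : ∀ x, B x x = 0) (hB : B.Nondegenerate)
    (Na Nb : V →ₗ[F] V) (hNa2 : ∀ x, Na (Na x) = 0) (hNb2 : ∀ x, Nb (Nb x) = 0)
    (hadja : ∀ x y, B (Na x) y = B x (Na y)) (hadjb : ∀ x y, B (Nb x) y = B x (Nb y))
    {ι : Type*} [Fintype ι] [DecidableEq ι] (τ : ι → ι) (hτ : ∀ i, τ (τ i) = i)
    (wa wb : ι → V)
    (ha0 : ∀ i j, B (wa i) (Na (wa j)) = if i = τ j then 1 else 0)
    (hb0 : ∀ i j, B (wb i) (Nb (wb j)) = if i = τ j then 1 else 0)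
    (hspana : ∀ y, ∃ a : ι → F, Na y = ∑ i, a i • Na (wa i))
    (hspanb : ∀ y, ∃ a : ι → F, Nb y = ∑ i, a i • Nb (wb i)) :
    ∃ g : V →ₗ[F] V, (∀ x y, B (g x) (g y) = B x y) ∧ ∀ x, g (Na x) = Nb (g x) := by
  classical
  obtain ⟨s, e, hfr, hgram, hNe1, hNe2⟩ :=
    exists_adapted_symp_frame B hS hA hB Na hNa2 hadja τ hτ wa ha0 hspana
  obtain ⟨s', f, hfr', hgram', hNf1, hNf2⟩ :=
    exists_adapted_symp_frame B hS hA hB Nb hNb2 hadjb τ hτ wb hb0 hspanb
  have hss : s = s' := by
    have h1 := hfr.card_eq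
    have h2 := hfr'.card_eq
    simp only [Fintype.card_sum, Fintype.card_fin] at h1 h2
    omega
  subst hss
  refine ⟨frameMap B (e ∘ adaptedSwap τ s) f, ?_, ?_⟩
  · exact frameMap_isometry hfr (fun i j => by rw [hgram, hgram'])
  · refine frameMap_comm hfr _ _ ?_
    intro j
    rcases j with i | j
    · rw [hNe1, frameMap_apply_self hfr, hNf1]
    · rw [hNe2, map_zero, hNf2]

end Cfsg.Agent.Lib.Helper36
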