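import Mathlib
import Cfsg.Agent.S2622
import Cfsg.Agent.Lib.Helper36.SympAdapted

set_option autoImplicit false

/-!
# Conjugacy of self-adjoint square-zero operators on a symplectic space over a finite field of
characteristic two (Aschbacher–Seitz types `a_l`, `b_l`, `c_l`)
-/

namespace Cfsg.Agent.Lib.Helper36

open Module

universe u v

variable {F : Type u} [Field F] {V : Type v} [AddCommGroup V] [Module F V]

/-- A complement of `ker N` on which the form `(x, y) ↦ B x (N y)` is non-degenerate. -/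
theorem exists_compl_kform [FiniteDimensional F V] (B : LinearMap.BilinForm F V)
    (hB : B.Nondegenerate) (N : V →ₗ[F] V) (hadj : ∀ x y, B (N x) y = B x (N y)) :
    ∃ W₀ : Submodule F V, IsCompl (LinearMap.ker N) W₀ ∧
      finrank F W₀ = finrank F (LinearMap.range N) ∧
      ((B.compl₂ N).domRestrict₁₂ W₀ W₀).Nondegenerate := by
  obtain ⟨W₀, hW₀⟩ := Submodule.exists_isCompl (LinearMap.ker N)
  have hdecomp : ∀ y : V, ∃ z ∈ LinearMap.ker N, ∃ y₀ ∈ W₀, z + y₀ = y := by
    intro y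
    have : y ∈ LinearMap.ker N ⊔ W₀ := by rw [hW₀.sup_eq_top]; exact Submodule.mem_top
    exact Submodule.mem_sup.mp this
  refine ⟨W₀, hW₀, ?_, ?_, ?_⟩
  · have h1 := Submodule.finrank_add_eq_of_isCompl hW₀
    have h2 := LinearMap.finrank_range_add_finrank_ker N
    omega
  · intro x hx
    have h1 : N (x : V) = 0 := by
      apply hB.1
      intro y
      obtain ⟨z, hz, y₀, hy₀, rfl⟩ := hdecomp y
      rw [hadj, map_add, map_add, LinearMap.mem_ker.mp hz, map_zero, zero_add]
      exact hx ⟨y₀, hy₀⟩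
    have h2 : (x : V) ∈ LinearMap.ker N ⊓ W₀ := ⟨LinearMap.mem_ker.mpr h1, x.2⟩
    rw [hW₀.inf_eq_bot] at h2
    exact Subtype.ext ((Submodule.mem_bot F).mp h2)
  · intro y hy
    have h1 : N (y : V) = 0 := by
      apply hB.2
      intro x
      obtain ⟨z, hz, x₀, hx₀, rfl⟩ := hdecomp x
      rw [map_add, LinearMap.add_apply, ← hadj, LinearMap.mem_ker.mp hz, map_zero,
        LinearMap.zero_apply, zero_add]
      exact hy ⟨x₀, hx₀⟩
    have h2 : (y : V) ∈ LinearMap.ker N ⊓ W₀ := ⟨LinearMap.mem_ker.mpr h1, y.2⟩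
    rw [hW₀.inf_eq_bot] at h2
    exact Subtype.ext ((Submodule.mem_bot F).mp h2)

/-- Case `a_l`: the form `(x, y) ↦ B x (N y)` is alternating. -/
theorem exists_kbasis_alt [CharP F 2] [FiniteDimensional F V] (B : LinearMap.BilinForm F V)
    (hS : ∀ x y, B x y = B y x) (hB : B.Nondegenerate) (N : V →ₗ[F] V)
    (hadj : ∀ x y, B (N x) y = B x (N y)) (halt : ∀ x, B x (N x) = 0) :
    ∃ (l : ℕ) (w0 : Fin l ⊕ Fin l → V), 2 * l = finrank F (LinearMap.range N) ∧
      (∀ i j, B (w0 i) (N (w0 j)) = if i = Sum.swap j then 1 else 0) ∧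
      ∀ y, ∃ a : Fin l ⊕ Fin l → F, N y = ∑ i, a i • N (w0 i) := by
  classical
  obtain ⟨W₀, hcompl, hdim, hnd⟩ := exists_compl_kform B hB N hadj
  set kW : LinearMap.BilinForm F W₀ := (B.compl₂ N).domRestrict₁₂ W₀ W₀ with hkW
  have hkWapp : ∀ x y : W₀, kW x y = B (x : V) (N (y : V)) := fun x y => rfl
  have hkS : ∀ x y : W₀, kW x y = kW y x := by
    intro x y
    rw [hkWapp, hkWapp, ← hadj, hS]
  have hkA : kW.IsAlt := fun x => halt (x : V)
  obtain ⟨l, u, v, huv, huu, hvv, hexp⟩ := exists_symplectic_family kW hkA hnd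
  have hvu : ∀ i j, kW (v i) (u j) = if i = j then 1 else 0 := by
    intro i j
    rw [hkS, huv]
    simp [eq_comm]
  have hfr : IsFrame kW (Sum.elim u v) (Sum.elim v u) := by
    constructor
    · intro i j
      rcases i with i | i <;> rcases j with j | j <;> simp [huv, hvu, huu, hvv]
    · intro x
      rw [Fintype.sum_sum_type]
      simp only [Sum.elim_inl, Sum.elim_inr]
      have := hexp x
      simp only [hkS x] at this
      exact this
  have hcard := hfr.card_eq
  simp only [Fintype.card_sum, Fintype.card_fin] at hcard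
  refine ⟨l, fun i => ((Sum.elim u v i : W₀) : V), by omega, ?_, ?_⟩
  · intro i j
    rw [← hkWapp]
    rcases i with i | i <;> rcases j with j | j <;> simp [huv, hvu, huu, hvv]
  · intro y
    have hy : y ∈ LinearMap.ker N ⊔ W₀ := by rw [hcompl.sup_eq_top]; exact Submodule.mem_top
    obtain ⟨z, hz, y₀, hy₀, rfl⟩ := Submodule.mem_sup.mp hy
    refine ⟨fun i => kW (Sum.elim v u i) ⟨y₀, hy₀⟩, ?_⟩
    have h1 := congrArg Subtype.val (hfr.expand ⟨y₀, hy₀⟩)
    simp only [Submodule.coe_sum, Submodule.coe_smul] at h1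
    rw [map_add, LinearMap.mem_ker.mp hz, zero_add]
    conv_lhs => rw [← h1]
    rw [map_sum]
    simp only [map_smul]

/-- Cases `b_l`, `c_l`: the form `(x, y) ↦ B x (N y)` is not alternating. -/
theorem exists_kbasis_nonalt [Finite F] [CharP F 2] [FiniteDimensional F V]
    (B : LinearMap.BilinForm F V)
    (hS : ∀ x y, B x y = B y x) (hB : B.Nondegenerate) (N : V →ₗ[F] V)
    (hadj : ∀ x y, B (N x) y = B x (N y)) (hnalt : ∃ x, B x (N x) ≠ 0)
    (r : ℕ) (hr : finrank F (LinearMap.range N) = r) :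
    ∃ w0 : Fin r → V, (∀ i j, B (w0 i) (N (w0 j)) = if i = j then 1 else 0) ∧
      ∀ y, ∃ a : Fin r → F, N y = ∑ i, a i • N (w0 i) := by
  classical
  obtain ⟨W₀, hcompl, hdim, hnd⟩ := exists_compl_kform B hB N hadj
  set kW : LinearMap.BilinForm F W₀ := (B.compl₂ N).domRestrict₁₂ W₀ W₀ with hkW
  have hkWapp : ∀ x y : W₀, kW x y = B (x : V) (N (y : V)) := fun x y => rfl
  have hkS : kW.IsSymm := ⟨fun x y => by
    show kW x y = kW y x
    rw [hkWapp, hkWapp, ← hadj, hS]⟩
  have hna : ∃ x₀ : W₀, kW x₀ x₀ ≠ 0 := by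
    obtain ⟨x, hx⟩ := hnalt
    have hx' : x ∈ LinearMap.ker N ⊔ W₀ := by rw [hcompl.sup_eq_top]; exact Submodule.mem_top
    obtain ⟨z, hz, x₀, hx₀, rfl⟩ := Submodule.mem_sup.mp hx'
    refine ⟨⟨x₀, hx₀⟩, ?_⟩
    rw [hkWapp]
    intro h0
    apply hx
    rw [map_add N, LinearMap.mem_ker.mp hz, zero_add, map_add, LinearMap.add_apply, ← hadj,
      LinearMap.mem_ker.mp hz, map_zero, LinearMap.zero_apply, zero_add]
    exact h0
  obtain ⟨b, hb⟩ := Cfsg.Agent.S2622.result (hdim.trans hr) kW hkS hnd hna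
  refine ⟨fun i => (b i : V), ?_, ?_⟩
  · intro i j
    rw [← hkWapp]
    exact hb i j
  · intro y
    have hy : y ∈ LinearMap.ker N ⊔ W₀ := by rw [hcompl.sup_eq_top]; exact Submodule.mem_top
    obtain ⟨z, hz, y₀, hy₀, rfl⟩ := Submodule.mem_sup.mp hy
    refine ⟨fun i => b.repr ⟨y₀, hy₀⟩ i, ?_⟩
    have h1 := congrArg Subtype.val (b.sum_repr ⟨y₀, hy₀⟩)
    simp only [Submodule.coe_sum, Submodule.coe_smul] at h1
    rw [map_add, LinearMap.mem_ker.mp hz, zero_add]
    conv_lhs => rw [← h1]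
    rw [map_sum]
    simp only [map_smul]

/-- Two self-adjoint square-zero operators on a symplectic space over a finite field of
characteristic two are conjugate under an isometry as soon as they have the same rank and the
forms `(x, y) ↦ B x (N y)` are both alternating or both non-alternating. -/
theorem exists_isometry_conj_symp [Finite F] [CharP F 2] [FiniteDimensional F V]
    (B : LinearMap.BilinForm F V)
    (hS : ∀ x y, B x y = B y x) (hA : ∀ x, B x x = 0) (hB : B.Nondegenerate)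
    (Na Nb : V →ₗ[F] V) (hNa2 : ∀ x, Na (Na x) = 0) (hNb2 : ∀ x, Nb (Nb x) = 0)
    (hadja : ∀ x y, B (Na x) y = B x (Na y)) (hadjb : ∀ x y, B (Nb x) y = B x (Nb y))
    (hrank : finrank F (LinearMap.range Na) = finrank F (LinearMap.range Nb))
    (halt : (∀ x, B x (Na x) = 0) ↔ (∀ x, B x (Nb x) = 0)) :
    ∃ g : V →ₗ[F] V, (∀ x y, B (g x) (g y) = B x y) ∧ ∀ x, g (Na x) = Nb (g x) := by
  classical
  by_cases h : ∀ x, B x (Na x) = 0
  · obtain ⟨la, wa, hla, ha0, hspana⟩ := exists_kbasis_alt B hS hB Na hadja h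
    obtain ⟨lb, wb, hlb, hb0, hspanb⟩ := exists_kbasis_alt B hS hB Nb hadjb (halt.mp h)
    have hll : la = lb := by omega
    subst hll
    exact exists_isometry_of_kbasis B hS hA hB Na Nb hNa2 hNb2 hadja hadjb Sum.swap
      (fun i => Sum.swap_swap i) wa wb ha0 hb0 hspana hspanb
  · have h' : ¬ ∀ x, B x (Nb x) = 0 := fun hb => h (halt.mpr hb)
    push Not at h h'
    obtain ⟨wa, ha0, hspana⟩ := exists_kbasis_nonalt B hS hB Na hadja h _ rfl
    obtain ⟨wb, hb0, hspanb⟩ := exists_kbasis_nonalt B hS hB Nb hadjb h' _ hrank.symm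
    exact exists_isometry_of_kbasis B hS hA hB Na Nb hNa2 hNb2 hadja hadjb id
      (fun i => rfl) wa wb ha0 hb0 hspana hspanb

end Cfsg.Agent.Lib.Helper36
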