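import Mathlib
import Cfsg.Agent.Lib.Helper13.QuadWitt
import Cfsg.Agent.Lib.Helper36.SympInvol

set_option autoImplicit false

/-!
# Conjugacy of involutions of orthogonal groups in characteristic two: `O`-conjugate iff
`Sp`-conjugate (abstract form, via Witt's theorem for quadratic forms)
-/

namespace Cfsg.Agent.Lib.Helper36

open Module

universe u v

variable {F : Type u} [Field F] {V : Type v} [AddCommGroup V] [Module F V]

/-- Reindexing a `k`-basis along an equivalence with `Fin n`. -/
theorem kbasis_reindex {ι : Type*} [Fintype ι] [DecidableEq ι] {n : ℕ} (e : ι ≃ Fin n)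
    (B : LinearMap.BilinForm F V) (N : V →ₗ[F] V) (τ : ι → ι) (w : ι → V)
    (h0 : ∀ i j, B (w i) (N (w j)) = if i = τ j then 1 else 0)
    (hspan : ∀ y, ∃ a : ι → F, N y = ∑ i, a i • N (w i)) :
    (∀ i j : Fin n, B (w (e.symm i)) (N (w (e.symm j))) =
      if i = e (τ (e.symm j)) then 1 else 0) ∧
    ∀ y, ∃ a : Fin n → F, N y = ∑ i, a i • N (w (e.symm i)) := by
  constructor
  · intro i j
    rw [h0]
    have : e.symm i = τ (e.symm j) ↔ i = e (τ (e.symm j)) := e.symm_apply_eq
    simp only [this]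
  · intro y
    obtain ⟨a, ha⟩ := hspan y
    refine ⟨fun i => a (e.symm i), ?_⟩
    rw [ha]
    exact (Equiv.sum_comp e.symm (fun x => a x • N (w x))).symm

/-- `k`-bases of a common shape, indexed by `Fin n`, for two self-adjoint square-zero operators of
the same rank and the same type. -/
theorem exists_common_kbasis [Finite F] [CharP F 2] [FiniteDimensional F V]
    (B : LinearMap.BilinForm F V)
    (hS : ∀ x y, B x y = B y x) (hB : B.Nondegenerate)
    (Na Nb : V →ₗ[F] V)
    (hadja : ∀ x y, B (Na x) y = B x (Na y)) (hadjb : ∀ x y, B (Nb x) y = B x (Nb y))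
    (hrank : finrank F (LinearMap.range Na) = finrank F (LinearMap.range Nb))
    (halt : (∀ x, B x (Na x) = 0) ↔ (∀ x, B x (Nb x) = 0)) :
    ∃ (n : ℕ) (τ : Fin n → Fin n) (wa wb : Fin n → V), (∀ i, τ (τ i) = i) ∧
      (∀ i j, B (wa i) (Na (wa j)) = if i = τ j then 1 else 0) ∧
      (∀ i j, B (wb i) (Nb (wb j)) = if i = τ j then 1 else 0) ∧
      (∀ y, ∃ a : Fin n → F, Na y = ∑ i, a i • Na (wa i)) ∧
      (∀ y, ∃ a : Fin n → F, Nb y = ∑ i, a i • Nb (wb i)) := by
  classical
  by_cases h : ∀ x, B x (Na x) = 0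
  · obtain ⟨la, wa, hla, ha0, hspana⟩ := exists_kbasis_alt B hS hB Na hadja h
    obtain ⟨lb, wb, hlb, hb0, hspanb⟩ := exists_kbasis_alt B hS hB Nb hadjb (halt.mp h)
    have hll : la = lb := by omega
    subst hll
    obtain ⟨ha1, ha2⟩ := kbasis_reindex (finSumFinEquiv : Fin la ⊕ Fin la ≃ Fin (la + la)) B Na
      Sum.swap wa ha0 hspana
    obtain ⟨hb1, hb2⟩ := kbasis_reindex (finSumFinEquiv : Fin la ⊕ Fin la ≃ Fin (la + la)) B Nb
      Sum.swap wb hb0 hspanb
    refine ⟨la + la, fun j => finSumFinEquiv (Sum.swap (finSumFinEquiv.symm j)),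
      fun i => wa (finSumFinEquiv.symm i), fun i => wb (finSumFinEquiv.symm i), ?_, ha1, hb1, ha2,
      hb2⟩
    intro i
    simp
  · have h' : ¬ ∀ x, B x (Nb x) = 0 := fun hb => h (halt.mpr hb)
    push Not at h h'
    obtain ⟨wa, ha0, hspana⟩ := exists_kbasis_nonalt B hS hB Na hadja h _ rfl
    obtain ⟨wb, hb0, hspanb⟩ := exists_kbasis_nonalt B hS hB Nb hadjb h' _ hrank.symm
    exact ⟨_, id, wa, wb, fun i => rfl, ha0, hb0, hspana, hspanb⟩


/-- Two operators `Na`, `Nb` with `N ∘ N = 0` such that `1 + N` is an isometry of the quadratic form `Q`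
(with non-degenerate polar form, over a finite field of characteristic two), of the same rank and the
same type (the form `(x, y) ↦ polar Q x (N y)` alternating for both or for neither), are conjugate
under an isometry of `Q`. -/
theorem exists_isometry_conj_orth [Finite F] [CharP F 2] [FiniteDimensional F V]
    (Q : QuadraticForm F V) (hQ : (QuadraticMap.polarBilin Q).Nondegenerate)
    (Na Nb : V →ₗ[F] V) (hNa2 : ∀ x, Na (Na x) = 0) (hNb2 : ∀ x, Nb (Nb x) = 0)
    (hQa : ∀ v, Q (v + Na v) = Q v) (hQb : ∀ v, Q (v + Nb v) = Q v)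
    (hrank : finrank F (LinearMap.range Na) = finrank F (LinearMap.range Nb))
    (halt : (∀ x, QuadraticMap.polar (⇑Q) x (Na x) = 0) ↔
      (∀ x, QuadraticMap.polar (⇑Q) x (Nb x) = 0)) :
    ∃ T : V ≃ₗ[F] V, (∀ v, Q (T v) = Q v) ∧ ∀ v, T (Na v) = Nb (T v) := by
  classical
  obtain ⟨B, hBdef⟩ : ∃ B : LinearMap.BilinForm F V, B = QuadraticMap.polarBilin Q := ⟨_, rfl⟩
  have hBapp : ∀ x y, B x y = QuadraticMap.polar (⇑Q) x y := fun x y => by rw [hBdef]; rfl
  have hS : ∀ x y, B x y = B y x := fun x y => by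
    rw [hBapp, hBapp, QuadraticMap.polar_comm]
  have hAlt : ∀ x, B x x = 0 := fun x => by
    rw [hBapp, QuadraticMap.polar_self]
    have : (2 : F) = 0 := CharTwo.two_eq_zero
    rw [two_nsmul]
    exact CharTwo.add_self_eq_zero _
  have hnd : B.Nondegenerate := by rw [hBdef]; exact hQ
  -- general facts for an operator N with N² = 0 and Q ∘ (1 + N) = Q
  have key : ∀ N : V →ₗ[F] V, (∀ x, N (N x) = 0) → (∀ v, Q (v + N v) = Q v) →
      (∀ x y, B (N x) y = B x (N y)) ∧ (∀ v, Q (N v) = B v (N v)) := by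
    intro N hN2 hQN
    have hinv : ∀ x y, B (x + N x) (y + N y) = B x y := by
      intro x y
      rw [hBapp, hBapp]
      unfold QuadraticMap.polar
      have : x + N x + (y + N y) = (x + y) + N (x + y) := by rw [map_add]; abel
      rw [this, hQN, hQN, hQN]
    have hsq : ∀ y, (y + N y) + N (y + N y) = y := by
      intro y
      rw [map_add, hN2, add_zero, add_assoc]
      have : N y + N y = 0 := by
        rw [← two_smul F (N y)]
        have : (2 : F) = 0 := CharTwo.two_eq_zero
        rw [this, zero_smul]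
      rw [this, add_zero]
    constructor
    · intro x y
      have h1 := hinv x (y + N y)
      rw [hsq] at h1
      -- h1 : B (x + N x) y = B x (y + N y)
      simp only [map_add, LinearMap.add_apply] at h1
      -- B x y + B (N x) y = B x y + B x (N y)
      exact add_left_cancel h1
    · intro v
      have h1 := hQN v
      have h2 : Q (v + N v) = Q v + Q (N v) + B v (N v) := by
        rw [hBapp]
        unfold QuadraticMap.polar
        ring
      rw [h2] at h1
      have h3 : Q (N v) + B v (N v) = 0 := by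
        have : Q v + Q (N v) + B v (N v) = Q v + (Q (N v) + B v (N v)) := by ring
        rw [this] at h1
        exact add_left_cancel (a := Q v) (by rw [h1, add_zero])
      exact CharTwo.add_eq_zero.mp h3
  obtain ⟨hadja, hQNa⟩ := key Na hNa2 hQa
  obtain ⟨hadjb, hQNb⟩ := key Nb hNb2 hQb
  have halt' : (∀ x, B x (Na x) = 0) ↔ (∀ x, B x (Nb x) = 0) := by
    simp only [hBapp]
    exact halt
  obtain ⟨n, τ, wa, wb, hτ, ha0, hb0, hspana, hspanb⟩ :=
    exists_common_kbasis B hS hnd Na Nb hadja hadjb hrank halt'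
  have hτinj : ∀ i j, τ i = τ j ↔ i = j := by
    intro i j
    constructor
    · intro h
      rw [← hτ i, ← hτ j, h]
    · intro h
      rw [h]
  -- linear independence
  have hli : ∀ (N : V →ₗ[F] V) (w : Fin n → V),
      (∀ i j, B (w i) (N (w j)) = if i = τ j then 1 else 0) →
      LinearIndependent F (fun i => N (w i)) := by
    intro N w h0
    rw [Fintype.linearIndependent_iff]
    intro g hg j
    have h1 := congrArg (B (w (τ j))) hg
    simp only [map_sum, map_smul, h0, hτinj, smul_eq_mul, mul_ite, mul_one, mul_zero,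
      Finset.sum_ite_eq, Finset.mem_univ, if_true, map_zero] at h1
    exact h1
  obtain ⟨T, hT, hTb⟩ := Cfsg.Agent.Lib.Helper13.witt_families_quad Q hQ n
    (fun i => Na (wa i)) (fun i => Nb (wb i)) (hli Na wa ha0) (hli Nb wb hb0)
    (fun i => by rw [hQNa, hQNb, ha0, hb0])
    (fun i j => by
      rw [← hBapp, ← hBapp, hadja, hNa2, hadjb, hNb2, map_zero, map_zero])
  have hTB : ∀ x y, B (T x) (T y) = B x y := by
    intro x y
    rw [hBapp, hBapp]
    unfold QuadraticMap.polar
    rw [← map_add, hT, hT, hT]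
  -- expansion of N y along the N w_i
  have hexp : ∀ (N : V →ₗ[F] V) (w : Fin n → V),
      (∀ i j, B (w i) (N (w j)) = if i = τ j then 1 else 0) →
      (∀ y, ∃ a : Fin n → F, N y = ∑ i, a i • N (w i)) →
      ∀ y, N y = ∑ i, B (w (τ i)) (N y) • N (w i) := by
    intro N w h0 hspan y
    obtain ⟨a, ha⟩ := hspan y
    have h1 : ∀ j, B (w (τ j)) (N y) = a j := by
      intro j
      rw [ha]
      simp only [map_sum, map_smul, h0, hτinj, smul_eq_mul, mul_ite, mul_one, mul_zero,
        Finset.sum_ite_eq, Finset.mem_univ, if_true]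
    simp only [h1]
    exact ha
  refine ⟨T, hT, ?_⟩
  intro v
  rw [hexp Na wa ha0 hspana v, hexp Nb wb hb0 hspanb (T v), map_sum]
  apply Finset.sum_congr rfl
  intro i _
  rw [map_smul, hTb i]
  congr 1
  rw [← hadjb, ← hTb (τ i), hTB, hadja]

end Cfsg.Agent.Lib.Helper36
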