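import Mathlib
import Cfsg.Prelude.Def_Classical
import Cfsg.Agent.Lib.Helper36.OrthInvol

set_option autoImplicit false

/-!
# Involutions of an orthogonal group in characteristic two are conjugate in `O(Q)` iff they are
conjugate under the symplectic group of the polar form (concrete matrix form)
-/

namespace Cfsg.Agent.Lib.Helper36

open Matrix Module

variable {ι : Type} [Fintype ι] [DecidableEq ι] {F : Type*} [Field F]

theorem sub_one_mul_self_gen [CharP F 2] (A : Matrix ι ι F) (hAA : A * A = 1) :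
    (A - 1) * (A - 1) = 0 := by
  rw [Matrix.sub_mul, Matrix.mul_sub, Matrix.mul_sub, hAA, Matrix.one_mul, Matrix.mul_one,
    Matrix.one_mul]
  have : (1 : Matrix ι ι F) - A = A - 1 := by
    ext i j
    simp only [Matrix.sub_apply]
    rw [CharTwo.sub_eq_add, CharTwo.sub_eq_add, add_comm]
  rw [this, sub_self]

/-- Conjugacy of involutions in `O(Q)` versus the symplectic group of the polar form. -/
theorem orth_conj_iff [Fintype F] [CharP F 2] (Q : QuadraticForm F (ι → F))
    (hQ : (QuadraticMap.polarBilin Q).Nondegenerate)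
    (t s : ↥(Cfsg.isometryGroup F (⇑Q))) (ht : orderOf t = 2) (hs : orderOf s = 2) :
    IsConj t s ↔ ∃ g ∈ Cfsg.preserving (Units.coeHom (Matrix ι ι F))
        (fun u v => Q (u + v) - Q u - Q v),
      g * (t : GL ι F) * g⁻¹ = (s : GL ι F) := by
  classical
  have hO : ∀ c : ↥(Cfsg.isometryGroup F (⇑Q)), ∀ u : ι → F,
      Q (((c : GL ι F) : Matrix ι ι F) *ᵥ u) = Q u := fun c u => c.2 u u
  have hAA : ∀ c : ↥(Cfsg.isometryGroup F (⇑Q)), orderOf c = 2 →
      ((c : GL ι F) : Matrix ι ι F) * ((c : GL ι F) : Matrix ι ι F) = 1 := by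
    intro c hc
    have h2 : c ^ 2 = 1 := by rw [← hc]; exact pow_orderOf_eq_one c
    have := congrArg (fun x : ↥(Cfsg.isometryGroup F (⇑Q)) => ((x : GL ι F) : Matrix ι ι F)) h2
    simpa [pow_two] using this
  constructor
  · intro h
    obtain ⟨c, hc⟩ := isConj_iff.mp h
    refine ⟨(c : GL ι F), ?_, ?_⟩
    · intro u v
      show Q (((c : GL ι F) : Matrix ι ι F) *ᵥ u + ((c : GL ι F) : Matrix ι ι F) *ᵥ v)
        - Q (((c : GL ι F) : Matrix ι ι F) *ᵥ u) - Q (((c : GL ι F) : Matrix ι ι F) *ᵥ v) = _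
      rw [← mulVec_add, hO, hO, hO]
    · rw [← hc]
      simp
  · rintro ⟨g, hg, hgconj⟩
    have hgpol : ∀ u v, QuadraticMap.polar (⇑Q) ((g : Matrix ι ι F) *ᵥ u) ((g : Matrix ι ι F) *ᵥ v) =
        QuadraticMap.polar (⇑Q) u v := fun u v => hg u v
    set A : Matrix ι ι F := ((t : GL ι F) : Matrix ι ι F) with hA
    set A' : Matrix ι ι F := ((s : GL ι F) : Matrix ι ι F) with hA'
    set G : Matrix ι ι F := (g : Matrix ι ι F) with hG
    have hGA : G * A = A' * G := by
      have h1 : g * (t : GL ι F) = (s : GL ι F) * g := by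
        rw [← hgconj]
        group
      have := congrArg (fun x : GL ι F => (x : Matrix ι ι F)) h1
      simpa using this
    have hGinv : G * ((g⁻¹ : GL ι F) : Matrix ι ι F) = 1 := by
      rw [hG, ← Units.val_mul, mul_inv_cancel, Units.val_one]
    have hGinv' : ((g⁻¹ : GL ι F) : Matrix ι ι F) * G = 1 := by
      rw [hG, ← Units.val_mul, inv_mul_cancel, Units.val_one]
    have hdetG : IsUnit G.det := by
      have := congrArg det hGinv
      rw [det_mul, det_one] at this
      exact IsUnit.of_mul_eq_one _ this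
    have hN : G * (A - 1) = (A' - 1) * G := by
      rw [Matrix.mul_sub, Matrix.sub_mul, hGA, Matrix.mul_one, Matrix.one_mul]
    have hA2 := hAA t ht
    have hA'2 := hAA s hs
    have hNa2 : ∀ x, (A - 1).mulVecLin ((A - 1).mulVecLin x) = 0 := fun x => by
      simp only [mulVecLin_apply, mulVec_mulVec, sub_one_mul_self_gen A hA2, zero_mulVec]
    have hNb2 : ∀ x, (A' - 1).mulVecLin ((A' - 1).mulVecLin x) = 0 := fun x => by
      simp only [mulVecLin_apply, mulVec_mulVec, sub_one_mul_self_gen A' hA'2, zero_mulVec]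
    have hQa : ∀ v, Q (v + (A - 1).mulVecLin v) = Q v := fun v => by
      rw [mulVecLin_apply, sub_mulVec, one_mulVec, add_sub_cancel]
      exact hO t v
    have hQb : ∀ v, Q (v + (A' - 1).mulVecLin v) = Q v := fun v => by
      rw [mulVecLin_apply, sub_mulVec, one_mulVec, add_sub_cancel]
      exact hO s v
    have hrank : finrank F (LinearMap.range (A - 1).mulVecLin) =
        finrank F (LinearMap.range (A' - 1).mulVecLin) := by
      show (A - 1).rank = (A' - 1).rank
      rw [← rank_mul_eq_right_of_isUnit_det G (A - 1) hdetG, hN,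
        rank_mul_eq_left_of_isUnit_det G (A' - 1) hdetG]
    have hkey : ∀ x, QuadraticMap.polar (⇑Q) (G *ᵥ x) ((A' - 1).mulVecLin (G *ᵥ x)) =
        QuadraticMap.polar (⇑Q) x ((A - 1).mulVecLin x) := by
      intro x
      rw [mulVecLin_apply, mulVecLin_apply, mulVec_mulVec, ← hN, ← mulVec_mulVec, hgpol]
    have halt : (∀ x, QuadraticMap.polar (⇑Q) x ((A - 1).mulVecLin x) = 0) ↔
        (∀ x, QuadraticMap.polar (⇑Q) x ((A' - 1).mulVecLin x) = 0) := by
      constructor
      · intro h y
        have h1 := hkey (((g⁻¹ : GL ι F) : Matrix ι ι F) *ᵥ y)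
        rw [mulVec_mulVec, hGinv, one_mulVec] at h1
        rw [h1]
        exact h _
      · intro h x
        rw [← hkey x]
        exact h _
    obtain ⟨T, hT, hTN⟩ := exists_isometry_conj_orth Q hQ (A - 1).mulVecLin (A' - 1).mulVecLin
      hNa2 hNb2 hQa hQb hrank halt
    have h1 : LinearMap.toMatrix' (T : (ι → F) →ₗ[F] (ι → F)) *
        LinearMap.toMatrix' (T.symm : (ι → F) →ₗ[F] (ι → F)) = 1 := by
      rw [← LinearMap.toMatrix'_comp]
      simp
    have h2 : LinearMap.toMatrix' (T.symm : (ι → F) →ₗ[F] (ι → F)) *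
        LinearMap.toMatrix' (T : (ι → F) →ₗ[F] (ι → F)) = 1 := by
      rw [← LinearMap.toMatrix'_comp]
      simp
    let c0 : GL ι F := ⟨LinearMap.toMatrix' (T : (ι → F) →ₗ[F] (ι → F)),
      LinearMap.toMatrix' (T.symm : (ι → F) →ₗ[F] (ι → F)), h1, h2⟩
    have hc0 : (c0 : Matrix ι ι F) = LinearMap.toMatrix' (T : (ι → F) →ₗ[F] (ι → F)) := rfl
    have hc0mem : c0 ∈ Cfsg.isometryGroup F (⇑Q) := by
      intro u v
      show Q ((c0 : Matrix ι ι F) *ᵥ u) = Q u
      rw [hc0, LinearMap.toMatrix'_mulVec]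
      exact hT u
    have hMA : (c0 : Matrix ι ι F) * A = A' * (c0 : Matrix ι ι F) := by
      have e1 : (c0 : Matrix ι ι F) * (A - 1) = (A' - 1) * (c0 : Matrix ι ι F) := by
        have hcomp : (T : (ι → F) →ₗ[F] (ι → F)) ∘ₗ (A - 1).mulVecLin =
            (A' - 1).mulVecLin ∘ₗ (T : (ι → F) →ₗ[F] (ι → F)) := LinearMap.ext hTN
        have := congrArg LinearMap.toMatrix' hcomp
        rw [LinearMap.toMatrix'_comp, LinearMap.toMatrix'_comp, ← Matrix.toLin'_apply',
          ← Matrix.toLin'_apply', LinearMap.toMatrix'_toLin', LinearMap.toMatrix'_toLin'] at this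
        exact this
      have e4 : A = (A - 1) + 1 := by rw [sub_add_cancel]
      have e5 : A' = (A' - 1) + 1 := by rw [sub_add_cancel]
      rw [e4, e5, Matrix.mul_add, Matrix.add_mul, e1, Matrix.mul_one, Matrix.one_mul]
    rw [isConj_iff]
    refine ⟨⟨c0, hc0mem⟩, ?_⟩
    rw [mul_inv_eq_iff_eq_mul]
    apply Subtype.ext
    apply Units.ext
    simp only [Subgroup.coe_mul, Units.val_mul]
    exact hMA

end Cfsg.Agent.Lib.Helper36
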