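import Mathlib
import Cfsg.Agent.S2168
import Cfsg.Agent.Lib.Helper36.MaxTS

set_option autoImplicit false

/-!
# The standard maximal totally singular subspace of the plus form `Σ xᵢ yᵢ`
-/

namespace Cfsg.Agent.Lib.Helper36

open Module Cfsg.Agent.S2168

variable (m : ℕ) (F : Type*) [Field F]

/-- The embedding `x ↦ (x, 0)`. -/
def plusInl : (Fin m → F) →ₗ[F] (Fin m ⊕ Fin m → F) where
  toFun x := Sum.elim x 0
  map_add' x y := by
    funext j
    rcases j with j | j <;> simp
  map_smul' a x := by
    funext j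
    rcases j with j | j <;> simp

theorem plusInl_injective : Function.Injective (plusInl m F) := by
  intro x y h
  funext i
  exact congrFun h (Sum.inl i)

/-- The standard maximal totally singular subspace `{y = 0}`. -/
def stdPlus : Submodule F (Fin m ⊕ Fin m → F) := LinearMap.range (plusInl m F)

theorem mem_stdPlus_iff (v : Fin m ⊕ Fin m → F) : v ∈ stdPlus m F ↔ ∀ i, v (Sum.inr i) = 0 := by
  constructor
  · rintro ⟨x, rfl⟩ i
    rfl
  · intro h
    refine ⟨fun i => v (Sum.inl i), ?_⟩
    funext j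
    rcases j with j | j
    · rfl
    · exact (h j).symm

theorem stdPlus_ts : IsTS (plusQF m F) (stdPlus m F) := by
  intro v hv
  rw [mem_stdPlus_iff] at hv
  change Cfsg.quadFormPlus m F v = 0
  unfold Cfsg.quadFormPlus
  apply Finset.sum_eq_zero
  intro i _
  rw [hv i, mul_zero]

theorem finrank_stdPlus : finrank F (stdPlus m F) = m := by
  unfold stdPlus
  rw [LinearMap.finrank_range_of_inj (plusInl_injective m F), Module.finrank_fin_fun]

theorem finrank_plus_space : finrank F (Fin m ⊕ Fin m → F) = 2 * m := by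
  rw [Module.finrank_fintype_fun_eq_card, Fintype.card_sum, Fintype.card_fin]
  omega

/-- There are two adjacent maximal totally singular subspaces. -/
theorem exists_adjacent_plus (hm : 1 ≤ m) :
    ∃ U W : Submodule F (Fin m ⊕ Fin m → F), (finrank F U = m ∧ IsTS (plusQF m F) U) ∧
      (finrank F W = m ∧ IsTS (plusQF m F) W) ∧ finrank F ↥(U ⊓ W) + 1 = m := by
  classical
  set x : Fin m ⊕ Fin m → F := Pi.single (Sum.inr ⟨0, hm⟩) 1 with hx
  have hQx : plusQF m F x = 0 := by
    change Cfsg.quadFormPlus m F x = 0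
    unfold Cfsg.quadFormPlus
    apply Finset.sum_eq_zero
    intro i _
    rw [hx, Pi.single_apply, if_neg (by simp), zero_mul]
  have hxU : x ∉ stdPlus m F := by
    rw [mem_stdPlus_iff]
    intro h
    have := h ⟨0, hm⟩
    rw [hx, Pi.single_eq_same] at this
    exact one_ne_zero this
  obtain ⟨W₁, hW₁, hfW₁, hadj, -, -⟩ := exists_adjacent (plusQF m F) (plusQF_nondeg m F)
    (finrank_plus_space m F) (stdPlus_ts m F) (finrank_stdPlus m F) hQx hxU
  exact ⟨stdPlus m F, W₁, ⟨finrank_stdPlus m F, stdPlus_ts m F⟩, ⟨hfW₁, hW₁⟩, hadj⟩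

end Cfsg.Agent.Lib.Helper36
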