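import Mathlib

set_option autoImplicit false

/-!
# Quotients of order two and four

A normal subgroup `I` of index 2 or 4 in `P` is the kernel of a surjection onto `C₂`, `C₄` or
`C₂ × C₂`, according to simple criteria.
-/

namespace Cfsg.Agent.Lib.Helper36

/-- Transport along an isomorphism of the quotient. -/
theorem exists_hom_of_quotient_equiv {P B : Type*} [Group P] [Group B] (I : Subgroup P) [I.Normal]
    (e : P ⧸ I ≃* B) : ∃ φ : P →* B, Function.Surjective φ ∧ φ.ker = I := by
  refine ⟨e.toMonoidHom.comp (QuotientGroup.mk' I),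
    e.surjective.comp (QuotientGroup.mk'_surjective I), ?_⟩
  ext g
  rw [MonoidHom.mem_ker, MonoidHom.comp_apply]
  change e (QuotientGroup.mk' I g) = 1 ↔ _
  rw [e.map_eq_one_iff, QuotientGroup.mk'_apply, QuotientGroup.eq_one_iff]

/-- A subgroup of index two is the kernel of a surjection onto `C₂`. -/
theorem exists_hom_zmod_two {P : Type*} [Group P] (I : Subgroup P) (hidx : I.index = 2) :
    ∃ φ : P →* Multiplicative (ZMod 2), Function.Surjective φ ∧ φ.ker = I := by
  have hn : I.Normal := Subgroup.normal_of_index_eq_two hidx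
  have hcard : Nat.card (P ⧸ I) = 2 := by rw [← Subgroup.index_eq_card, hidx]
  have hcyc : IsCyclic (P ⧸ I) := isCyclic_of_prime_card (p := 2) hcard
  have hcard' : Nat.card (P ⧸ I) = Nat.card (Multiplicative (ZMod 2)) := by
    rw [hcard]; simp
  exact exists_hom_of_quotient_equiv I (mulEquivOfCyclicCardEq hcard')

/-- A normal subgroup of index four with an element whose square is outside is the kernel of a
surjection onto `C₄`. -/
theorem exists_hom_zmod_four {P : Type*} [Group P] (I : Subgroup P) [I.Normal]
    (hidx : I.index = 4) (x : P) (hx : x * x ∉ I) :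
    ∃ φ : P →* Multiplicative (ZMod 4), Function.Surjective φ ∧ φ.ker = I := by
  have hcard : Nat.card (P ⧸ I) = 4 := by rw [← Subgroup.index_eq_card, hidx]
  have hfin : Finite (P ⧸ I) := Nat.finite_of_card_ne_zero (by rw [hcard]; norm_num)
  set y : P ⧸ I := QuotientGroup.mk x with hy
  have hy2 : y ^ 2 ≠ 1 := by
    intro h
    apply hx
    rw [← QuotientGroup.eq_one_iff, QuotientGroup.mk_mul, ← hy, ← pow_two]
    exact h
  have hord : orderOf y = 4 := by
    have hdvd : orderOf y ∣ 4 := by
      rw [← hcard]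
      exact orderOf_dvd_natCard y
    have h4 : (4 : ℕ) = 2 ^ 2 := by norm_num
    rw [h4, Nat.dvd_prime_pow Nat.prime_two] at hdvd
    obtain ⟨k, hk, hk'⟩ := hdvd
    interval_cases k
    · exfalso
      apply hy2
      rw [pow_zero] at hk'
      rw [orderOf_eq_one_iff.mp hk', one_pow]
    · exfalso
      apply hy2
      rw [pow_one] at hk'
      rw [← hk']
      exact pow_orderOf_eq_one y
    · rw [hk']; norm_num
  have hcyc : IsCyclic (P ⧸ I) := isCyclic_of_orderOf_eq_card y (by rw [hord, hcard])
  have hcard' : Nat.card (P ⧸ I) = Nat.card (Multiplicative (ZMod 4)) := by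
    rw [hcard]; simp
  exact exists_hom_of_quotient_equiv I (mulEquivOfCyclicCardEq hcard')

/-- A normal subgroup of index four with two involutions modulo it, distinct and non-trivial
modulo it, is the kernel of a surjection onto `C₂ × C₂`. -/
theorem exists_hom_klein {P : Type*} [Group P] (I : Subgroup P) [I.Normal]
    (hidx : I.index = 4) (a b : P) (ha : a * a ∈ I) (hb : b * b ∈ I) (ha1 : a ∉ I) (hb1 : b ∉ I)
    (hab : a⁻¹ * b ∉ I) :
    ∃ φ : P →* Multiplicative (ZMod 2 × ZMod 2), Function.Surjective φ ∧ φ.ker = I := by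
  classical
  have hcard : Nat.card (P ⧸ I) = 4 := by rw [← Subgroup.index_eq_card, hidx]
  have hfin : Finite (P ⧸ I) := Nat.finite_of_card_ne_zero (by rw [hcard]; norm_num)
  have : Fintype (P ⧸ I) := Fintype.ofFinite _
  set a' : P ⧸ I := QuotientGroup.mk a with ha'
  set b' : P ⧸ I := QuotientGroup.mk b with hb'
  have ha2 : a' ^ 2 = 1 := by
    rw [pow_two, ha', ← QuotientGroup.mk_mul, QuotientGroup.eq_one_iff]
    exact ha
  have hb2 : b' ^ 2 = 1 := by
    rw [pow_two, hb', ← QuotientGroup.mk_mul, QuotientGroup.eq_one_iff]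
    exact hb
  have ha0 : a' ≠ 1 := by
    rw [ha', Ne, QuotientGroup.eq_one_iff]
    exact ha1
  have hb0 : b' ≠ 1 := by
    rw [hb', Ne, QuotientGroup.eq_one_iff]
    exact hb1
  have hne : a' ≠ b' := by
    rw [ha', hb', Ne, QuotientGroup.eq]
    exact hab
  have hncyc : ¬ IsCyclic (P ⧸ I) := by
    intro hcyc
    have hle := IsCyclic.card_pow_eq_one_le (α := P ⧸ I) (n := 2) (by norm_num)
    have hsub : ({1, a', b'} : Finset (P ⧸ I)) ⊆
        Finset.filter (fun x : P ⧸ I => x ^ 2 = 1) Finset.univ := by
      intro x hx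
      rw [Finset.mem_filter]
      refine ⟨Finset.mem_univ _, ?_⟩
      rw [Finset.mem_insert, Finset.mem_insert, Finset.mem_singleton] at hx
      rcases hx with rfl | rfl | rfl
      · exact one_pow 2
      · exact ha2
      · exact hb2
    have h3 : ({1, a', b'} : Finset (P ⧸ I)).card = 3 := by
      rw [Finset.card_insert_of_notMem, Finset.card_insert_of_notMem, Finset.card_singleton]
      · rw [Finset.mem_singleton]
        exact hne
      · rw [Finset.mem_insert, Finset.mem_singleton]
        rintro (h | h)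
        · exact ha0 h.symm
        · exact hb0 h.symm
    have := Finset.card_le_card hsub
    omega
  have hexp : ∀ g : P ⧸ I, g ^ 2 = 1 := by
    intro g
    have hdvd : orderOf g ∣ 4 := by
      rw [← hcard]
      exact orderOf_dvd_natCard g
    have h4 : (4 : ℕ) = 2 ^ 2 := by norm_num
    rw [h4, Nat.dvd_prime_pow Nat.prime_two] at hdvd
    obtain ⟨k, hk, hk'⟩ := hdvd
    interval_cases k
    · rw [pow_zero] at hk'
      rw [orderOf_eq_one_iff.mp hk', one_pow]
    · rw [pow_one] at hk'
      rw [← hk']
      exact pow_orderOf_eq_one g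
    · exfalso
      apply hncyc
      exact isCyclic_of_orderOf_eq_card g (by rw [hk', hcard]; norm_num)
  have hK : IsKleinFour (P ⧸ I) := by
    refine ⟨hcard, ?_⟩
    have hdvd := Monoid.exponent_dvd_of_forall_pow_eq_one hexp
    have hne1 : Monoid.exponent (P ⧸ I) ≠ 1 := by
      intro h
      rw [Monoid.exp_eq_one_iff] at h
      exact ha0 (Subsingleton.elim _ _)
    rcases (Nat.dvd_prime Nat.prime_two).mp hdvd with h | h
    · exact absurd h hne1
    · exact h
  obtain ⟨e⟩ := IsKleinFour.nonempty_mulEquiv (G₁ := P ⧸ I)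
    (G₂ := Multiplicative (ZMod 2 × ZMod 2))
  exact exists_hom_of_quotient_equiv I e

end Cfsg.Agent.Lib.Helper36
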