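import Mathlib
import Cfsg.Agent.Lib.Helper36.PgoInn
import Cfsg.Agent.Lib.Helper36.DeltaPar
import Cfsg.Agent.Lib.Helper36.PlusStd
import Cfsg.Agent.Lib.Helper36.SmallQuot
import Cfsg.Agent.Lib.Helper44.Levi
import Cfsg.Agent.S0790

set_option autoImplicit false
set_option linter.unusedSectionVars false

/-!
# `Inndiag(PΩ⁺_{2m}(q)) / Inn(PΩ⁺_{2m}(q))` for odd `q`

The inner-diagonal group is the image of the similarities `g` with `det g = μ(g) ^ m`; it
contains the image of `SO` with index two, and the quotient by the inner automorphisms is `C₂`,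
`C₄` or `C₂ × C₂`.
-/

namespace Cfsg.Agent.Lib.Helper36

open Module Matrix Cfsg.Agent.Lib.Helper13 Cfsg.Agent.S2168

section DiagSim

variable (m : ℕ) {F : Type*} [Field F]

/-- The diagonal entries `(c, …, c, 1, …, 1)`. -/
def diagSimFun (c : Fˣ) : Fin m ⊕ Fin m → Fˣ := Sum.elim (fun _ => c) (fun _ => 1)

/-- The diagonal similarity `diag(c, …, c, 1, …, 1)` of the hyperbolic form. -/
def diagSim (c : Fˣ) : GL (Fin m ⊕ Fin m) F where
  val := Matrix.diagonal fun j => ((diagSimFun m c j : Fˣ) : F)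
  inv := Matrix.diagonal fun j => (((diagSimFun m c j)⁻¹ : Fˣ) : F)
  val_inv := by
    rw [Matrix.diagonal_mul_diagonal]
    simp only [Units.mul_inv]
    exact Matrix.diagonal_one
  inv_val := by
    rw [Matrix.diagonal_mul_diagonal]
    simp only [Units.inv_mul]
    exact Matrix.diagonal_one

theorem diagSim_mulVec (c : Fˣ) (v : Fin m ⊕ Fin m → F) (j : Fin m ⊕ Fin m) :
    (((diagSim m c : GL (Fin m ⊕ Fin m) F) : Matrix (Fin m ⊕ Fin m) (Fin m ⊕ Fin m) F) *ᵥ v) j =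
      ((diagSimFun m c j : Fˣ) : F) * v j :=
  Matrix.mulVec_diagonal _ _ _

theorem diagSim_similarity (c : Fˣ) (v : Fin m ⊕ Fin m → F) :
    Cfsg.quadFormPlus m F
      (((diagSim m c : GL (Fin m ⊕ Fin m) F) : Matrix (Fin m ⊕ Fin m) (Fin m ⊕ Fin m) F) *ᵥ v) =
      (c : F) * Cfsg.quadFormPlus m F v := by
  unfold Cfsg.quadFormPlus
  rw [Finset.mul_sum]
  apply Finset.sum_congr rfl
  intro i _
  rw [diagSim_mulVec, diagSim_mulVec]
  simp only [diagSimFun, Sum.elim_inl, Sum.elim_inr, Units.val_one]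
  ring

theorem diagSim_mem (c : Fˣ) :
    (diagSim m c : GL (Fin m ⊕ Fin m) F) ∈
      Cfsg.Geo.quadSimilarityGroup (Cfsg.quadFormPlus m F) :=
  ⟨c, diagSim_similarity m c⟩

theorem det_diagSim (c : Fˣ) :
    Matrix.GeneralLinearGroup.det (diagSim m c : GL (Fin m ⊕ Fin m) F) = c ^ m := by
  apply Units.ext
  rw [Matrix.GeneralLinearGroup.val_det_apply]
  change (Matrix.diagonal fun j => ((diagSimFun m c j : Fˣ) : F)).det = _
  rw [Matrix.det_diagonal, Fintype.prod_sum_type]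
  simp [diagSimFun]

theorem map_stdPlus_diagSim (c : Fˣ) :
    (stdPlus m F).map ((glLinEquiv (Fin m ⊕ Fin m) F (diagSim m c) :
      (Fin m ⊕ Fin m → F) ≃ₗ[F] (Fin m ⊕ Fin m → F)) :
      (Fin m ⊕ Fin m → F) →ₗ[F] (Fin m ⊕ Fin m → F)) = stdPlus m F := by
  apply Submodule.eq_of_le_of_finrank_eq
  · rintro _ ⟨v, hv, rfl⟩
    rw [SetLike.mem_coe, mem_stdPlus_iff] at hv
    rw [mem_stdPlus_iff]
    intro i
    change (glLinEquiv (Fin m ⊕ Fin m) F (diagSim m c) v) (Sum.inr i) = 0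
    rw [glLinEquiv_apply, diagSim_mulVec, hv i, mul_zero]
  · exact LinearEquiv.finrank_map_eq _ _

/-- `diag(c,1)² = c · diag(c, c⁻¹)`. -/
theorem diagSim_mul_self (c : Fˣ) :
    (diagSim m c : GL (Fin m ⊕ Fin m) F) * diagSim m c =
      Matrix.GeneralLinearGroup.scalar (Fin m ⊕ Fin m) c *
        Cfsg.Agent.Lib.Helper44.leviGL (Matrix.GeneralLinearGroup.scalar (Fin m) c) := by
  apply Units.ext
  apply matrix_eq_of_mulVec
  intro v
  funext j
  rw [Units.val_mul, Units.val_mul, ← Matrix.mulVec_mulVec, ← Matrix.mulVec_mulVec,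
    diagSim_mulVec, diagSim_mulVec, Matrix.GeneralLinearGroup.coe_scalar, Matrix.scalar_apply,
    Matrix.mulVec_diagonal]
  change _ = (c : F) * ((Cfsg.Agent.Lib.Helper44.leviMat
    (Matrix.GeneralLinearGroup.scalar (Fin m) c)).mulVec v) j
  rw [Cfsg.Agent.Lib.Helper44.leviMat_mulVec, ← map_inv, Matrix.GeneralLinearGroup.coe_scalar,
    Matrix.GeneralLinearGroup.coe_scalar, Matrix.scalar_apply, Matrix.scalar_apply,
    Matrix.diagonal_transpose]
  rcases j with i | i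
  · simp only [diagSimFun, Sum.elim_inl, Matrix.mulVec_diagonal, Function.comp_apply]
  · simp only [diagSimFun, Sum.elim_inr, Matrix.mulVec_diagonal, Function.comp_apply,
      Units.val_one, one_mul, Units.val_inv_eq_inv_val]
    rw [mul_inv_cancel_left₀ c.ne_zero]

theorem leviGL_scalar_mem_OmegaGL_iff [Fintype F] (hm : 1 ≤ m) (hF : Fintype.card F ≠ 2) (c : Fˣ) :
    Cfsg.Agent.Lib.Helper44.leviGL (Matrix.GeneralLinearGroup.scalar (Fin m) c) ∈
      OmegaGL (Cfsg.quadFormPlus m F) ↔ IsSquare ((c : F) ^ m) := by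
  rw [mem_OmegaGL_iff]
  have key := (Cfsg.Agent.Lib.Helper44.levi_mem_Omega_iff (Or.inl hF) (⟨0, hm⟩ : Fin m)
    (Matrix.GeneralLinearGroup.scalar (Fin m) c)).trans
    (Cfsg.Agent.Lib.Helper44.diagHom_mem_Omega_iff hm (⟨0, hm⟩ : Fin m) _)
  rw [Matrix.GeneralLinearGroup.det_scalar, Fintype.card_fin, Units.val_pow_eq_pow_val] at key
  constructor
  · rintro ⟨h, hs⟩
    exact key.mp hs
  · intro h
    exact ⟨Cfsg.Agent.Lib.Helper44.leviGL_mem _, key.mpr h⟩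

end DiagSim

section Preserve

variable {m : ℕ} {F : Type*} [Field F]

theorem isMaxTS_stdPlus : Cfsg.IsMaxTotallySingular (⇑(plusQF m F)) (stdPlus m F) := by
  refine ⟨stdPlus_ts m F, ?_⟩
  intro W hW hle
  have hWts : IsTS (plusQF m F) W := hW
  have h1 := hWts.two_mul_finrank_le (plusQF_nondeg m F)
  rw [finrank_plus_space] at h1
  symm
  apply Submodule.eq_of_le_of_finrank_le hle
  rw [finrank_stdPlus]
  omega

theorem isTS_finrank_of_isMaxTS {U : Submodule F (Fin m ⊕ Fin m → F)}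
    (hU : Cfsg.IsMaxTotallySingular (⇑(plusQF m F)) U) :
    IsTS (plusQF m F) U ∧ finrank F U = m := by
  obtain ⟨hts, hmax⟩ := hU
  have hts' : IsTS (plusQF m F) U := hts
  obtain ⟨W, hW, hfW, hle⟩ := exists_mts_ge (plusQF m F) (plusQF_nondeg m F)
    (finrank_plus_space m F) (stdPlus_ts m F) (finrank_stdPlus m F) hts'
  have h1 := hmax W hW hle
  rw [h1] at hfW
  exact ⟨hts', hfW⟩

variable [Fintype F] [DecidableEq F]

/-- A similarity of the hyperbolic form preserves the two classes of maximal totally singular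
subspaces iff `det g = μ(g) ^ m`. -/
theorem preserves_iff_deltaHom (h2 : (2 : F) ≠ 0) (v₀ : Fin m ⊕ Fin m → F)
    (hv₀ : plusQF m F v₀ ≠ 0) (g : ↥(Cfsg.Geo.quadSimilarityGroup (⇑(plusQF m F)))) :
    Cfsg.PreservesSingularClasses (⇑(plusQF m F))
      ((g : GL (Fin m ⊕ Fin m) F) : Matrix (Fin m ⊕ Fin m) (Fin m ⊕ Fin m) F) ↔
      deltaHom (plusQF m F) v₀ hv₀ m g = 1 := by
  have hQ := plusQF_nondeg m F
  have hdim := finrank_plus_space m F
  set c : Fˣ := mult (plusQF m F) v₀ hv₀ g with hc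
  set D : (Fin m ⊕ Fin m → F) ≃ₗ[F] (Fin m ⊕ Fin m → F) :=
    glLinEquiv (Fin m ⊕ Fin m) F (g : GL (Fin m ⊕ Fin m) F) with hD
  have hDz : ∀ z, plusQF m F (D z) = (c : F) * plusQF m F z :=
    fun z => mult_spec (plusQF m F) v₀ hv₀ g z
  have key : Even (m - finrank F ↥(stdPlus m F ⊓ (stdPlus m F).map
      (D : (Fin m ⊕ Fin m → F) →ₗ[F] (Fin m ⊕ Fin m → F)))) ↔
      deltaHom (plusQF m F) v₀ hv₀ m g = 1 := by
    set dc : GL (Fin m ⊕ Fin m) F := diagSim m c with hdc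
    set h : GL (Fin m ⊕ Fin m) F := dc⁻¹ * (g : GL (Fin m ⊕ Fin m) F) with hh
    have hgh : (g : GL (Fin m ⊕ Fin m) F) = dc * h := by rw [hh, mul_inv_cancel_left]
    have hhO : h ∈ Cfsg.isometryGroup F (⇑(plusQF m F)) := by
      rw [mem_isometryGroup_iff']
      intro v
      have e1 : plusQF m F ((dc : Matrix (Fin m ⊕ Fin m) (Fin m ⊕ Fin m) F) *ᵥ
          ((h : Matrix (Fin m ⊕ Fin m) (Fin m ⊕ Fin m) F) *ᵥ v)) =
          (c : F) * plusQF m F ((h : Matrix (Fin m ⊕ Fin m) (Fin m ⊕ Fin m) F) *ᵥ v) :=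
        diagSim_similarity m c _
      rw [Matrix.mulVec_mulVec, ← Units.val_mul, ← hgh] at e1
      have e2 := mult_spec (plusQF m F) v₀ hv₀ g v
      rw [e2] at e1
      exact (mul_left_cancel₀ c.ne_zero e1).symm
    set H : (Fin m ⊕ Fin m → F) ≃ₗ[F] (Fin m ⊕ Fin m → F) :=
      glLinEquiv (Fin m ⊕ Fin m) F h with hH
    have hDH : D = glLinEquiv (Fin m ⊕ Fin m) F dc * H := by rw [hD, hgh, map_mul]
    have hmap : (stdPlus m F).map (D : (Fin m ⊕ Fin m → F) →ₗ[F] (Fin m ⊕ Fin m → F)) =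
        ((stdPlus m F).map (H : (Fin m ⊕ Fin m → F) →ₗ[F] (Fin m ⊕ Fin m → F))).map
          ((glLinEquiv (Fin m ⊕ Fin m) F dc : (Fin m ⊕ Fin m → F) ≃ₗ[F] (Fin m ⊕ Fin m → F)) :
            (Fin m ⊕ Fin m → F) →ₗ[F] (Fin m ⊕ Fin m → F)) := by
      rw [hDH, ← Submodule.map_comp]
      rfl
    have hinf : stdPlus m F ⊓ (stdPlus m F).map
        (D : (Fin m ⊕ Fin m → F) →ₗ[F] (Fin m ⊕ Fin m → F)) =
        (stdPlus m F ⊓ (stdPlus m F).map
          (H : (Fin m ⊕ Fin m → F) →ₗ[F] (Fin m ⊕ Fin m → F))).map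
          ((glLinEquiv (Fin m ⊕ Fin m) F dc : (Fin m ⊕ Fin m → F) ≃ₗ[F] (Fin m ⊕ Fin m → F)) :
            (Fin m ⊕ Fin m → F) →ₗ[F] (Fin m ⊕ Fin m → F)) := by
      rw [Submodule.map_inf _ (glLinEquiv (Fin m ⊕ Fin m) F dc).injective, map_stdPlus_diagSim,
        hmap]
    rw [hinf, LinearEquiv.finrank_map_eq (glLinEquiv (Fin m ⊕ Fin m) F dc)]
    have hF' : (∀ a b : F, ∃ x : F, x ≠ a ∧ x ≠ b) ∨
        Module.finrank F (Fin m ⊕ Fin m → F) ≠ 4 := Or.inl (exists_ne_ne_of_two_ne_zero h2)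
    have hHrefl : H ∈ reflGroup (plusQF m F) :=
      isoGroup_le_reflGroup (plusQF m F) hQ hF'
        ((mem_isometryGroup_iff_isoGroup (plusQF m F) h).mp hhO)
    have hpar := delta_eq_par (plusQF m F) hQ hdim (stdPlus_ts m F) (finrank_stdPlus m F) H hHrefl
    rw [← ZMod.natCast_eq_zero_iff_even, hpar, ← det_eq_one_iff_par (plusQF m F) hQ h2 h hhO]
    have hdet : Matrix.GeneralLinearGroup.det h = deltaHom (plusQF m F) v₀ hv₀ m g := by
      rw [deltaHom_apply, hh, map_mul, map_inv, det_diagSim, mul_comm]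
    rw [← hdet, ← Matrix.GeneralLinearGroup.val_det_apply, Units.val_eq_one]
  have hlin : Matrix.toLin' ((g : GL (Fin m ⊕ Fin m) F) :
      Matrix (Fin m ⊕ Fin m) (Fin m ⊕ Fin m) F) =
      (D : (Fin m ⊕ Fin m → F) →ₗ[F] (Fin m ⊕ Fin m → F)) := by
    rw [Matrix.toLin'_apply', hD, glLinEquiv_coe]
  constructor
  · intro h
    have h1 := h (stdPlus m F) isMaxTS_stdPlus
    unfold Cfsg.SameParityClass Cfsg.imageSubmodule at h1
    rw [hlin, finrank_stdPlus] at h1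
    exact key.mp h1
  · intro h U hU
    obtain ⟨hts, hfU⟩ := isTS_finrank_of_isMaxTS hU
    unfold Cfsg.SameParityClass Cfsg.imageSubmodule
    rw [hlin, hfU]
    exact (even_delta_similarity (plusQF m F) hQ hdim (stdPlus_ts m F) (finrank_stdPlus m F) D
      (c : F) hDz hts hfU).mpr (key.mpr h)

end Preserve

section General

variable {ι : Type} [Fintype ι] [DecidableEq ι] {F : Type*} [Field F] [Fintype F] [DecidableEq F]
  (Q : QuadraticForm F (ι → F)) (v₀ : ι → F) (hv₀ : Q v₀ ≠ 0) (m : ℕ)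
  (hQ : (QuadraticMap.polarBilin Q).Nondegenerate) (h2 : (2 : F) ≠ 0)
  (hcard : Fintype.card ι = 2 * m)

theorem psi2_eq_one_iff (g : ↥(Cfsg.Geo.quadSimilarityGroup (⇑Q))) :
    psi2 Q v₀ hv₀ m hQ h2 hcard g = 1 ↔ deltaHom Q v₀ hv₀ m g = 1 := by
  rw [psi2_apply]
  constructor
  · intro h
    by_contra hcon
    rw [if_neg hcon] at h
    exact absurd h (by decide)
  · intro h
    rw [if_pos h]

theorem psi_eq_one_iff (g : ↥(Cfsg.Geo.quadSimilarityGroup (⇑Q))) :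
    psi Q v₀ hv₀ m hQ h2 hcard g = 1 ↔
      psi1 Q v₀ hv₀ g = 1 ∧ psi2 Q v₀ hv₀ m hQ h2 hcard g = 1 := by
  unfold psi
  rw [MonoidHom.prod_apply, Prod.mk_eq_one]

/-- The image of `SO` in `Aut(PΩ)` is the image of the kernel of `psi`. -/
theorem psoAut_eq_map_ker_psi :
    Cfsg.psoAut F (⇑Q) = (psi Q v₀ hv₀ m hQ h2 hcard).ker.map (simAut (⇑Q)) := by
  rw [psoAut_eq]
  apply le_antisymm
  · apply Subgroup.map_mono
    intro g hg
    rw [MonoidHom.mem_ker]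
    exact psi_eq_one_of_special Q v₀ hv₀ m hQ h2 hcard g hg
  · rintro _ ⟨g, hg, rfl⟩
    obtain ⟨u, h, hh, hgh⟩ := exists_special_of_psi_eq_one Q v₀ hv₀ m hQ h2 hcard g
      ((MonoidHom.mem_ker).mp hg)
    have hhG : h ∈ Cfsg.Geo.quadSimilarityGroup (⇑Q) :=
      isometryGroup_le_similarity (⇑Q) hh.1
    refine ⟨⟨h, hhG⟩, hh, ?_⟩
    exact (simAut_eq_of_scalar_mul (⇑Q) g ⟨h, hhG⟩ u hgh).symm

/-- The kernel of the action on `PΩ` lies in the kernel of `psi`. -/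
theorem psi_eq_one_of_simAut_eq_one (hdim : 5 ≤ Fintype.card ι)
    (g : ↥(Cfsg.Geo.quadSimilarityGroup (⇑Q))) (hg : simAut (⇑Q) g = 1) :
    psi Q v₀ hv₀ m hQ h2 hcard g = 1 := by
  obtain ⟨c, hc⟩ := scalar_of_normAut_eq_one Q hQ h2 hdim
    (Subgroup.inclusion (similarity_le_normalizer (⇑Q)) g) hg
  exact psi_eq_one_of_scalar Q v₀ hv₀ m hQ h2 hcard g c hc

/-- A similarity inducing an element of the image of `SO` lies in the kernel of `psi`. -/
theorem psi_eq_one_of_simAut_mem_psoAut (hdim : 5 ≤ Fintype.card ι)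
    (g : ↥(Cfsg.Geo.quadSimilarityGroup (⇑Q))) (hg : simAut (⇑Q) g ∈ Cfsg.psoAut F (⇑Q)) :
    psi Q v₀ hv₀ m hQ h2 hcard g = 1 := by
  rw [psoAut_eq_map_ker_psi Q v₀ hv₀ m hQ h2 hcard] at hg
  obtain ⟨g', hg', hgg'⟩ := hg
  have h1 : simAut (⇑Q) (g'⁻¹ * g) = 1 := by
    rw [map_mul, map_inv, hgg', inv_mul_cancel]
  have h3 := psi_eq_one_of_simAut_eq_one Q v₀ hv₀ m hQ h2 hcard hdim _ h1
  rw [map_mul, map_inv, (MonoidHom.mem_ker).mp hg', inv_one, one_mul] at h3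
  exact h3

include hQ h2 in
/-- When `-1 ∈ Ω`, an isometry induces an inner automorphism of `PΩ` iff it lies in `Ω`. -/
theorem simAut_mem_Inn_iff_mem_OmegaGL (hdim : 5 ≤ Fintype.card ι)
    (hneg : negGL ι F ∈ OmegaGL (⇑Q)) (g : ↥(Cfsg.Geo.quadSimilarityGroup (⇑Q)))
    (hgO : (g : GL ι F) ∈ Cfsg.isometryGroup F (⇑Q)) :
    simAut (⇑Q) g ∈ Cfsg.Inn (Cfsg.POmega F (⇑Q)) ↔ (g : GL ι F) ∈ OmegaGL (⇑Q) := by
  constructor
  · intro h
    rcases mem_or_neg_mem_of_simAut_mem_Inn Q hQ h2 hdim g hgO h with h' | h'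
    · exact h'
    · have := Subgroup.mul_mem _ hneg h'
      rw [← mul_assoc, negGL_mul_self, one_mul] at this
      exact this
  · exact simAut_mem_Inn_of_mem (⇑Q) g

end General

end Cfsg.Agent.Lib.Helper36
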