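import Mathlib
import Cfsg.Agent.Lib.Helper36.InndiagPlus

set_option autoImplicit false
set_option linter.unusedSectionVars false

/-!
# `Inndiag(PΩ⁺_{2m}(q)) / Inn(PΩ⁺_{2m}(q))` for odd `q`: the structure of the quotient
-/

namespace Cfsg.Agent.Lib.Helper36

open Module Matrix Cfsg.Agent.Lib.Helper13 Cfsg.Agent.S2168

variable {m : ℕ} {F : Type*} [Field F] [Fintype F] [DecidableEq F]

/-- The inner-diagonal group of `PΩ⁺`, stated for the bundled quadratic form. -/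
def inndiagPlusQ (m : ℕ) (F : Type*) [Field F] :
    Subgroup (MulAut (Cfsg.POmega F (⇑(plusQF m F)))) :=
  Cfsg.autSubgroupOf fun β : Cfsg.POmega F (⇑(plusQF m F)) ≃* Cfsg.POmega F (⇑(plusQF m F)) =>
    ∃ g : GL (Fin m ⊕ Fin m) F, g ∈ Cfsg.Geo.quadSimilarityGroup (⇑(plusQF m F)) ∧
      Cfsg.PreservesSingularClasses (⇑(plusQF m F))
        (g : Matrix (Fin m ⊕ Fin m) (Fin m ⊕ Fin m) F) ∧
      Cfsg.IsInducedBySemilinearPOmega (⇑(plusQF m F)) g (RingEquiv.refl F) β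

theorem inndiagPlusQ_eq (m : ℕ) (F : Type*) [Field F] :
    inndiagPlusQ m F = Cfsg.inndiagPOmegaPlus m F := rfl

theorem card_plus_index : Fintype.card (Fin m ⊕ Fin m) = 2 * m := by
  rw [Fintype.card_sum, Fintype.card_fin]
  ring

/-- The inner-diagonal group is the image of the kernel of `psi2`. -/
theorem inndiag_eq (h2 : (2 : F) ≠ 0) (v₀ : Fin m ⊕ Fin m → F) (hv₀ : plusQF m F v₀ ≠ 0) :
    inndiagPlusQ m F =
      (psi2 (plusQF m F) v₀ hv₀ m (plusQF_nondeg m F) h2 card_plus_index).ker.map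
        (simAut (⇑(plusQF m F))) := by
  unfold inndiagPlusQ Cfsg.autSubgroupOf
  have hset : {β : MulAut (Cfsg.POmega F (⇑(plusQF m F))) |
      ∃ g : GL (Fin m ⊕ Fin m) F, g ∈ Cfsg.Geo.quadSimilarityGroup (⇑(plusQF m F)) ∧
        Cfsg.PreservesSingularClasses (⇑(plusQF m F))
          (g : Matrix (Fin m ⊕ Fin m) (Fin m ⊕ Fin m) F) ∧
        Cfsg.IsInducedBySemilinearPOmega (⇑(plusQF m F)) g (RingEquiv.refl F) β} =
      (((psi2 (plusQF m F) v₀ hv₀ m (plusQF_nondeg m F) h2 card_plus_index).ker.map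
        (simAut (⇑(plusQF m F))) : Subgroup (MulAut (Cfsg.POmega F (⇑(plusQF m F))))) :
        Set (MulAut (Cfsg.POmega F (⇑(plusQF m F))))) := by
    ext β
    constructor
    · rintro ⟨g, hgG, hpres, hind⟩
      refine ⟨⟨g, hgG⟩, ?_, ((isInduced_iff _ ⟨g, hgG⟩ β).mp hind).symm⟩
      rw [SetLike.mem_coe, MonoidHom.mem_ker, psi2_eq_one_iff]
      exact (preserves_iff_deltaHom h2 v₀ hv₀ ⟨g, hgG⟩).mp hpres
    · rintro ⟨g, hg, rfl⟩
      rw [SetLike.mem_coe, MonoidHom.mem_ker, psi2_eq_one_iff] at hg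
      exact ⟨g, g.2, (preserves_iff_deltaHom h2 v₀ hv₀ g).mpr hg, (isInduced_iff _ g _).mpr rfl⟩
  rw [hset, Subgroup.closure_eq]

theorem simAut_mem_inndiag (h2 : (2 : F) ≠ 0) (v₀ : Fin m ⊕ Fin m → F)
    (hv₀ : plusQF m F v₀ ≠ 0) (g : ↥(Cfsg.Geo.quadSimilarityGroup (⇑(plusQF m F))))
    (hg : deltaHom (plusQF m F) v₀ hv₀ m g = 1) :
    simAut (⇑(plusQF m F)) g ∈ inndiagPlusQ m F := by
  rw [inndiag_eq h2 v₀ hv₀]
  refine ⟨g, ?_, rfl⟩
  rw [SetLike.mem_coe, MonoidHom.mem_ker, psi2_eq_one_iff]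
  exact hg

theorem psoAut_le_inndiag (h2 : (2 : F) ≠ 0) (v₀ : Fin m ⊕ Fin m → F)
    (hv₀ : plusQF m F v₀ ≠ 0) :
    Cfsg.psoAut F (⇑(plusQF m F)) ≤ inndiagPlusQ m F := by
  rw [psoAut_eq_map_ker_psi (plusQF m F) v₀ hv₀ m (plusQF_nondeg m F) h2 card_plus_index,
    inndiag_eq h2 v₀ hv₀]
  apply Subgroup.map_mono
  intro g hg
  rw [MonoidHom.mem_ker] at hg ⊢
  exact ((psi_eq_one_iff _ _ _ _ _ _ _ _).mp hg).2

/-- The diagonal similarity as an element of the similarity group. -/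
def diagSimElt (m : ℕ) {F : Type*} [Field F] (c : Fˣ) :
    ↥(Cfsg.Geo.quadSimilarityGroup (⇑(plusQF m F))) :=
  ⟨diagSim m c, diagSim_mem m c⟩

theorem mult_diagSimElt (v₀ : Fin m ⊕ Fin m → F) (hv₀ : plusQF m F v₀ ≠ 0) (c : Fˣ) :
    mult (plusQF m F) v₀ hv₀ (diagSimElt m c) = c :=
  mult_eq (plusQF m F) v₀ hv₀ _ c (diagSim_similarity m c)

theorem deltaHom_diagSimElt (v₀ : Fin m ⊕ Fin m → F) (hv₀ : plusQF m F v₀ ≠ 0) (c : Fˣ) :
    deltaHom (plusQF m F) v₀ hv₀ m (diagSimElt m c) = 1 := by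
  rw [deltaHom_apply, mult_diagSimElt]
  change Matrix.GeneralLinearGroup.det (diagSim m c) * (c ^ m)⁻¹ = 1
  rw [det_diagSim, mul_inv_cancel]

theorem psi1_diagSimElt (v₀ : Fin m ⊕ Fin m → F) (hv₀ : plusQF m F v₀ ≠ 0) (c : Fˣ)
    (hc : ¬ IsSquare (c : F)) :
    psi1 (plusQF m F) v₀ hv₀ (diagSimElt m c) = -1 := by
  unfold psi1
  rw [MonoidHom.comp_apply, mult_diagSimElt, ← Units.val_inj, MulChar.coe_toUnitHom,
    Units.val_neg, Units.val_one, quadraticChar_neg_one_iff_not_isSquare]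
  exact hc

/-- **`Inndiag(PΩ⁺) / PSO` is of order two.** -/
theorem exists_hom_inndiag_pso (h2 : (2 : F) ≠ 0) (hm : 3 ≤ m) (v₀ : Fin m ⊕ Fin m → F)
    (hv₀ : plusQF m F v₀ ≠ 0) :
    ∃ φ : ↥(inndiagPlusQ m F) →* Multiplicative (ZMod 2), Function.Surjective φ ∧
      φ.ker = (Cfsg.psoAut F (⇑(plusQF m F))).subgroupOf (inndiagPlusQ m F) := by
  have hQ := plusQF_nondeg m F
  have hdim : 5 ≤ Fintype.card (Fin m ⊕ Fin m) := by
    rw [card_plus_index]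
    omega
  set R := (psi2 (plusQF m F) v₀ hv₀ m hQ h2 card_plus_index).ker with hR
  apply exists_hom_congr unitsIntEquiv
  apply exists_hom_of_eq_range ((simAut (⇑(plusQF m F))).comp R.subtype)
    ((psi1 (plusQF m F) v₀ hv₀).comp R.subtype) ?_ ?_ _ _ ?_ ?_
  · intro r hr
    rw [MonoidHom.mem_ker, MonoidHom.comp_apply] at hr ⊢
    exact ((psi_eq_one_iff _ _ _ _ _ _ _ _).mp (psi_eq_one_of_simAut_eq_one (plusQF m F) v₀ hv₀ m
      hQ h2 card_plus_index hdim _ hr)).1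
  · have hchar : ringChar F ≠ 2 := by
      intro h
      apply h2
      have : ((2 : ℕ) : F) = 0 := by
        rw [← h]; exact ringChar.Nat.cast_ringChar
      exact_mod_cast this
    obtain ⟨η, hη⟩ := FiniteField.exists_nonsquare hchar
    have hη0 : η ≠ 0 := by
      rintro rfl
      exact hη IsSquare.zero
    have hmemR : diagSimElt m (Units.mk0 η hη0) ∈ R := by
      rw [hR, MonoidHom.mem_ker, psi2_eq_one_iff]
      exact deltaHom_diagSimElt v₀ hv₀ _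
    intro b
    rcases Int.units_eq_one_or b with rfl | rfl
    · exact ⟨1, map_one _⟩
    · refine ⟨⟨diagSimElt m (Units.mk0 η hη0), hmemR⟩, ?_⟩
      rw [MonoidHom.comp_apply]
      exact psi1_diagSimElt v₀ hv₀ _ hη
  · rw [MonoidHom.range_comp, Subgroup.range_subtype]
    exact inndiag_eq h2 v₀ hv₀
  · rw [psoAut_eq_map_ker_psi (plusQF m F) v₀ hv₀ m hQ h2 card_plus_index]
    ext β
    constructor
    · rintro ⟨g, hg, rfl⟩
      rw [SetLike.mem_coe, MonoidHom.mem_ker, psi_eq_one_iff] at hg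
      refine ⟨⟨g, (MonoidHom.mem_ker).mpr hg.2⟩, ?_, rfl⟩
      rw [SetLike.mem_coe, MonoidHom.mem_ker, MonoidHom.comp_apply]
      exact hg.1
    · rintro ⟨r, hr, rfl⟩
      rw [SetLike.mem_coe, MonoidHom.mem_ker, MonoidHom.comp_apply] at hr
      refine ⟨(r : ↥(Cfsg.Geo.quadSimilarityGroup (⇑(plusQF m F)))), ?_, rfl⟩
      rw [SetLike.mem_coe, MonoidHom.mem_ker, psi_eq_one_iff]
      exact ⟨hr, (MonoidHom.mem_ker).mp r.2⟩

end Cfsg.Agent.Lib.Helper36
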