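import Mathlib

set_option autoImplicit false
set_option linter.unusedSectionVars false
set_option linter.unusedVariables false

/-!
# Elements fixed by an involutory automorphism of a finite field of odd characteristic are squares

Also: elements of norm one (`s σ(s) = 1`) are squares.
-/

namespace Cfsg.Agent.Lib.Helper36

variable {F : Type*} [Field F] [Fintype F]

/-- An element of a finite field of odd characteristic fixed by an automorphism of order two is a
square. -/
theorem isSquare_of_fixed (h2 : (2 : F) ≠ 0) (σ : F ≃+* F) (hσ : σ ≠ RingEquiv.refl F)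
    (hσσ : ∀ x, σ (σ x) = x) (x : F) (hx : σ x = x) : IsSquare x := by
  classical
  -- an element moved by `σ`
  have hy : ∃ y : F, σ y ≠ y := by
    by_contra hcon
    push Not at hcon
    exact hσ (RingEquiv.ext hcon)
  obtain ⟨y, hy⟩ := hy
  set w : F := y - σ y with hw
  have hw0 : w ≠ 0 := by
    rw [hw]
    exact sub_ne_zero.mpr (Ne.symm hy)
  have hσw : σ w = -w := by
    rw [hw, map_sub, hσσ]
    ring
  -- the fixed field
  set F₀ : Subfield F := (σ : F →+* F).eqLocusField (RingHom.id F) with hF₀
  have hmem : ∀ t : F, t ∈ F₀ ↔ σ t = t := fun t => Iff.rfl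
  have hD : w * w ∈ F₀ := by
    rw [hmem, map_mul, hσw]
    ring
  have hxm : x ∈ F₀ := (hmem x).mpr hx
  by_cases hx0 : x = 0
  · rw [hx0]
    exact IsSquare.zero
  -- `w * w` is not a square in the fixed field
  have hDns : ¬ IsSquare (⟨w * w, hD⟩ : ↥F₀) := by
    rintro ⟨u, hu⟩
    have hu' : w * w = (u : F) * (u : F) := congrArg Subtype.val hu
    have h1 : ((u : F) - w) * ((u : F) + w) = 0 := by linear_combination -hu'
    have huF : σ (u : F) = (u : F) := (hmem _).mp u.2
    rcases mul_eq_zero.mp h1 with h | h
    · have hwu : w = (u : F) := by linear_combination -h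
      have h3 : σ w = w := by rw [hwu, huF]
      rw [hσw] at h3
      apply hw0
      have h4 : (2 : F) * w = 0 := by linear_combination -h3
      rcases mul_eq_zero.mp h4 with h5 | h5
      · exact absurd h5 h2
      · exact h5
    · have hwu : w = -(u : F) := by linear_combination h
      have h3 : σ w = w := by rw [hwu, map_neg, huF]
      rw [hσw] at h3
      apply hw0
      have h4 : (2 : F) * w = 0 := by linear_combination -h3
      rcases mul_eq_zero.mp h4 with h5 | h5
      · exact absurd h5 h2
      · exact h5
  by_cases hxs : IsSquare (⟨x, hxm⟩ : ↥F₀)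
  · obtain ⟨u, hu⟩ := hxs
    exact ⟨(u : F), congrArg Subtype.val hu⟩
  · -- the product of two non-squares is a square
    have hprod : IsSquare ((⟨x, hxm⟩ : ↥F₀) * ⟨w * w, hD⟩) := by
      have hne : (⟨x, hxm⟩ : ↥F₀) * ⟨w * w, hD⟩ ≠ 0 := by
        intro h
        have h' : x * (w * w) = 0 := congrArg Subtype.val h
        rcases mul_eq_zero.mp h' with h1 | h1
        · exact hx0 h1
        · rcases mul_eq_zero.mp h1 with h3 | h3 <;> exact hw0 h3
      rw [← quadraticChar_one_iff_isSquare hne, map_mul,
        quadraticChar_neg_one_iff_not_isSquare.mpr hxs,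
        quadraticChar_neg_one_iff_not_isSquare.mpr hDns]
      norm_num
    obtain ⟨v, hv⟩ := hprod
    have hv' : x * (w * w) = (v : F) * (v : F) := congrArg Subtype.val hv
    refine ⟨(v : F) / w, ?_⟩
    field_simp
    linear_combination hv'

/-- An element of norm one for an automorphism of order two is a square. -/
theorem isSquare_of_norm_one (h2 : (2 : F) ≠ 0) (σ : F ≃+* F) (hσ : σ ≠ RingEquiv.refl F)
    (hσσ : ∀ x, σ (σ x) = x) (s : F) (hs : s * σ s = 1) : IsSquare s := by
  have hs0 : s ≠ 0 := by
    rintro rfl
    rw [zero_mul] at hs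
    exact zero_ne_one hs
  by_cases h1 : s = -1
  · rw [h1]
    apply isSquare_of_fixed h2 σ hσ hσσ
    rw [map_neg, map_one]
  · set t : F := 1 + s with ht
    have ht0 : t ≠ 0 := by
      intro h
      apply h1
      linear_combination h
    have hσs : σ s = s⁻¹ := by
      field_simp
      linear_combination hs
    have hσt : σ t = t / s := by
      rw [ht, map_add, map_one, hσs]
      field_simp
      ring
    have hN : σ (t * σ t) = t * σ t := by
      rw [map_mul, hσσ]
      ring
    obtain ⟨r, hr⟩ := isSquare_of_fixed h2 σ hσ hσσ _ hN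
    have hr0 : r ≠ 0 := by
      rintro rfl
      rw [mul_zero, hσt] at hr
      have : t * (t / s) ≠ 0 := mul_ne_zero ht0 (div_ne_zero ht0 hs0)
      exact this hr
    refine ⟨t / r, ?_⟩
    rw [hσt] at hr
    field_simp
    field_simp at hr
    linear_combination -hr

end Cfsg.Agent.Lib.Helper36
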