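import Mathlib
import Cfsg.Prelude.Def_LieTypeDatum
import Cfsg.Agent.Lib.Helper36.POmegaAut

set_option autoImplicit false
set_option linter.unusedSectionVars false
set_option linter.unusedVariables false

/-!
# Automorphisms of `PΩ(Q)` induced by semisimilarities

The automorphisms of `PΩ(Q)` induced by semisimilarity pairs `(g, σ)` form a group; hence the
subgroup `gammaPOmega F Q` they generate consists exactly of them (finite field).
-/

namespace Cfsg.Agent.Lib.Helper36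

open Matrix

variable {ι : Type} [Fintype ι] [DecidableEq ι] {F : Type*} [Field F]

/-- A ring automorphism applied to the coordinates of a vector. -/
def vmap (σ : F ≃+* F) (v : ι → F) : ι → F := fun i => σ (v i)

omit [DecidableEq ι] in
theorem map_mulVec_vmap (σ : F ≃+* F) (M : Matrix ι ι F) (v : ι → F) :
    (M.map σ) *ᵥ (vmap σ v) = vmap σ (M *ᵥ v) := by
  funext i
  exact ((σ : F →+* F).map_mulVec M v i).symm

omit [Fintype ι] [DecidableEq ι] in
theorem vmap_symm_vmap (σ : F ≃+* F) (v : ι → F) : vmap σ (vmap σ.symm v) = v := by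
  funext i
  exact σ.apply_symm_apply (v i)

omit [Fintype ι] [DecidableEq ι] in
theorem vmap_vmap_symm (σ : F ≃+* F) (v : ι → F) : vmap σ.symm (vmap σ v) = v := by
  funext i
  exact σ.symm_apply_apply (v i)

/-- The matrix `σ(g)`. -/
noncomputable def glMap (σ : F ≃+* F) : GL ι F →* GL ι F :=
  Matrix.GeneralLinearGroup.map (σ : F →+* F)

theorem glMap_coe (σ : F ≃+* F) (g : GL ι F) :
    ((glMap σ g : GL ι F) : Matrix ι ι F) = (g : Matrix ι ι F).map σ := rfl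

/-- `s ↦ g σ(s) g⁻¹`. -/
noncomputable def semiConjHom (g : GL ι F) (σ : F ≃+* F) : GL ι F →* GL ι F :=
  (MulAut.conj g).toMonoidHom.comp (glMap σ)

theorem semiConjHom_apply (g : GL ι F) (σ : F ≃+* F) (s : GL ι F) :
    semiConjHom g σ s = g * glMap σ s * g⁻¹ := rfl

theorem semiConjHom_coe (g : GL ι F) (σ : F ≃+* F) (s : GL ι F) :
    ((semiConjHom g σ s : GL ι F) : Matrix ι ι F) =
      (g : Matrix ι ι F) * (s : Matrix ι ι F).map σ * ((g⁻¹ : GL ι F) : Matrix ι ι F) := by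
  rw [semiConjHom_apply, Units.val_mul, Units.val_mul, glMap_coe]

theorem gl_inv_mulVec_mulVec (g : GL ι F) (v : ι → F) :
    (g : Matrix ι ι F) *ᵥ (((g⁻¹ : GL ι F) : Matrix ι ι F) *ᵥ v) = v := by
  rw [Matrix.mulVec_mulVec, ← Units.val_mul, mul_inv_cancel, Units.val_one, Matrix.one_mulVec]

theorem semiConj_mem_isometryGroup (Q : (ι → F) → F) (g : GL ι F) (σ : F ≃+* F)
    (hpair : Cfsg.IsSemisimilarityPair Q g σ) (s : GL ι F) (hs : s ∈ Cfsg.isometryGroup F Q) :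
    semiConjHom g σ s ∈ Cfsg.isometryGroup F Q := by
  obtain ⟨c, hc⟩ := hpair
  have hc' : ∀ w : ι → F, Q ((g : Matrix ι ι F) *ᵥ vmap σ w) = (c : F) * σ (Q w) := hc
  rw [mem_isometryGroup_iff'] at hs ⊢
  intro v
  set w : ι → F := vmap σ.symm (((g⁻¹ : GL ι F) : Matrix ι ι F) *ᵥ v) with hw
  have hv : ((g⁻¹ : GL ι F) : Matrix ι ι F) *ᵥ v = vmap σ w := by
    rw [hw, vmap_symm_vmap]
  have hv' : v = (g : Matrix ι ι F) *ᵥ vmap σ w := by
    rw [← hv, gl_inv_mulVec_mulVec]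
  rw [semiConjHom_coe, ← Matrix.mulVec_mulVec, ← Matrix.mulVec_mulVec, hv, map_mulVec_vmap, hc',
    hs, ← hc', ← hv']

/-- `s ↦ g σ(s) g⁻¹` on the isometry group. -/
noncomputable def semiConjIso (Q : (ι → F) → F) (g : GL ι F) (σ : F ≃+* F)
    (hpair : Cfsg.IsSemisimilarityPair Q g σ) :
    ↥(Cfsg.isometryGroup F Q) →* ↥(Cfsg.isometryGroup F Q) :=
  ((semiConjHom g σ).comp (Cfsg.isometryGroup F Q).subtype).codRestrict _
    (fun s => semiConj_mem_isometryGroup Q g σ hpair _ s.2)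

/-- The image of an element of `Ω` under `s ↦ g σ(s) g⁻¹` is in `Ω`. -/
theorem exists_semiconj_Omega (Q : (ι → F) → F) (g : GL ι F) (σ : F ≃+* F)
    (hpair : Cfsg.IsSemisimilarityPair Q g σ) (s : ↥(Cfsg.Omega F Q)) :
    ∃ s' : ↥(Cfsg.Omega F Q),
      (((s' : ↥(Cfsg.isometryGroup F Q)) : GL ι F) : Matrix ι ι F) =
        (g : Matrix ι ι F) * (((s : ↥(Cfsg.isometryGroup F Q)) : GL ι F) : Matrix ι ι F).map σ *
          ((g⁻¹ : GL ι F) : Matrix ι ι F) := by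
  refine ⟨⟨semiConjIso Q g σ hpair (s : ↥(Cfsg.isometryGroup F Q)),
    map_mem_commutator _ s.2⟩, ?_⟩
  exact semiConjHom_coe g σ _

theorem isSemisimilarityPair_one (Q : (ι → F) → F) :
    Cfsg.IsSemisimilarityPair Q (1 : GL ι F) (RingEquiv.refl F) := by
  refine ⟨1, fun v => ?_⟩
  rw [Units.val_one, Matrix.one_mulVec, Units.val_one, one_mul]
  rfl

theorem isInduced_one (Q : (ι → F) → F) :
    Cfsg.IsInducedBySemilinearPOmega Q (1 : GL ι F) (RingEquiv.refl F)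
      (1 : MulAut (Cfsg.POmega F Q)) := by
  intro s s' h
  rw [MulAut.one_apply]
  congr 1
  apply Subtype.ext
  apply Subtype.ext
  apply Units.ext
  rw [h, map_refl, Units.val_one, inv_one, Units.val_one, Matrix.one_mul, Matrix.mul_one]

theorem isSemisimilarityPair_mul (Q : (ι → F) → F) (g₁ g₂ : GL ι F) (σ₁ σ₂ : F ≃+* F)
    (h₁ : Cfsg.IsSemisimilarityPair Q g₁ σ₁) (h₂ : Cfsg.IsSemisimilarityPair Q g₂ σ₂) :
    Cfsg.IsSemisimilarityPair Q (g₁ * glMap σ₁ g₂) (σ₂.trans σ₁) := by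
  obtain ⟨c₁, hc₁⟩ := h₁
  obtain ⟨c₂, hc₂⟩ := h₂
  have hc₁' : ∀ w : ι → F, Q ((g₁ : Matrix ι ι F) *ᵥ vmap σ₁ w) = (c₁ : F) * σ₁ (Q w) := hc₁
  have hc₂' : ∀ w : ι → F, Q ((g₂ : Matrix ι ι F) *ᵥ vmap σ₂ w) = (c₂ : F) * σ₂ (Q w) := hc₂
  refine ⟨c₁ * Units.map (σ₁ : F →* F) c₂, fun v => ?_⟩
  change Q (((g₁ * glMap σ₁ g₂ : GL ι F) : Matrix ι ι F) *ᵥ vmap σ₁ (vmap σ₂ v)) = _
  rw [Units.val_mul, glMap_coe, ← Matrix.mulVec_mulVec, map_mulVec_vmap, hc₁', hc₂', map_mul,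
    Units.val_mul, mul_assoc]
  rfl

theorem isInduced_mul (Q : (ι → F) → F) (g₁ g₂ : GL ι F) (σ₁ σ₂ : F ≃+* F)
    (β₁ β₂ : MulAut (Cfsg.POmega F Q))
    (h₂ : Cfsg.IsSemisimilarityPair Q g₂ σ₂)
    (hi₁ : Cfsg.IsInducedBySemilinearPOmega Q g₁ σ₁ β₁)
    (hi₂ : Cfsg.IsInducedBySemilinearPOmega Q g₂ σ₂ β₂) :
    Cfsg.IsInducedBySemilinearPOmega Q (g₁ * glMap σ₁ g₂) (σ₂.trans σ₁) (β₁ * β₂) := by
  intro s s'' h
  obtain ⟨s', hs'⟩ := exists_semiconj_Omega Q g₂ σ₂ h₂ s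
  rw [MulAut.mul_apply, hi₂ s s' hs']
  apply hi₁ s' s''
  rw [h, hs', _root_.mul_inv_rev, Units.val_mul, Units.val_mul, glMap_coe, ← map_inv, glMap_coe]
  have e1 : ((g₂ : Matrix ι ι F) *
      (((s : ↥(Cfsg.isometryGroup F Q)) : GL ι F) : Matrix ι ι F).map σ₂ *
        ((g₂⁻¹ : GL ι F) : Matrix ι ι F)).map σ₁ =
      (g₂ : Matrix ι ι F).map σ₁ *
        (((s : ↥(Cfsg.isometryGroup F Q)) : GL ι F) : Matrix ι ι F).map (σ₂.trans σ₁) *
          ((g₂⁻¹ : GL ι F) : Matrix ι ι F).map σ₁ := by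
    rw [Matrix.map_mul, Matrix.map_mul, Matrix.map_map]
    rfl
  rw [e1]
  simp only [Matrix.mul_assoc]

section Finite

variable [Fintype F]

/-- **The automorphisms induced by semisimilarities form a group.** -/
theorem mem_gammaPOmega_iff (Q : (ι → F) → F) (β : MulAut (Cfsg.POmega F Q)) :
    β ∈ Cfsg.gammaPOmega F Q ↔
      ∃ (g : GL ι F) (σ : F ≃+* F), Cfsg.IsSemisimilarityPair Q g σ ∧
        Cfsg.IsInducedBySemilinearPOmega Q g σ β := by
  constructor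
  · intro h
    unfold Cfsg.gammaPOmega Cfsg.autSubgroupOf at h
    have hfin : Finite (MulAut (Cfsg.POmega F Q)) :=
      Finite.of_injective (fun e : MulAut (Cfsg.POmega F Q) => (e : Cfsg.POmega F Q → Cfsg.POmega F Q))
        DFunLike.coe_injective
    -- closed under powers
    have hpow : ∀ (β : MulAut (Cfsg.POmega F Q)) (n : ℕ),
        (∃ (g : GL ι F) (σ : F ≃+* F), Cfsg.IsSemisimilarityPair Q g σ ∧
          Cfsg.IsInducedBySemilinearPOmega Q g σ β) →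
        ∃ (g : GL ι F) (σ : F ≃+* F), Cfsg.IsSemisimilarityPair Q g σ ∧
          Cfsg.IsInducedBySemilinearPOmega Q g σ (β ^ n) := by
      intro β n hβ
      induction n with
      | zero =>
        rw [pow_zero]
        exact ⟨1, RingEquiv.refl F, isSemisimilarityPair_one Q, isInduced_one Q⟩
      | succ n ih =>
        obtain ⟨g₁, σ₁, hp₁, hi₁⟩ := ih
        obtain ⟨g₂, σ₂, hp₂, hi₂⟩ := hβ
        rw [pow_succ]
        exact ⟨_, _, isSemisimilarityPair_mul Q g₁ g₂ σ₁ σ₂ hp₁ hp₂,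
          isInduced_mul Q g₁ g₂ σ₁ σ₂ _ _ hp₂ hi₁ hi₂⟩
    induction h using Subgroup.closure_induction with
    | mem x hx => exact hx
    | one => exact ⟨1, RingEquiv.refl F, isSemisimilarityPair_one Q, isInduced_one Q⟩
    | mul x y _ _ hx hy =>
      obtain ⟨g₁, σ₁, hp₁, hi₁⟩ := hx
      obtain ⟨g₂, σ₂, hp₂, hi₂⟩ := hy
      exact ⟨_, _, isSemisimilarityPair_mul Q g₁ g₂ σ₁ σ₂ hp₁ hp₂,
        isInduced_mul Q g₁ g₂ σ₁ σ₂ _ _ hp₂ hi₁ hi₂⟩
    | inv x _ hx =>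
      have hx' := hpow x (orderOf x - 1) hx
      have hpos : 0 < orderOf x := orderOf_pos x
      have e : x⁻¹ = x ^ (orderOf x - 1) := by
        rw [eq_comm, ← mul_eq_one_iff_eq_inv, ← pow_succ, Nat.sub_add_cancel hpos,
          pow_orderOf_eq_one]
      rw [e]
      exact hx'
  · intro h
    exact Subgroup.subset_closure h

end Finite

end Cfsg.Agent.Lib.Helper36
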