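import Mathlib
import Cfsg.Agent.Lib.Helper36.SemiPair
import Cfsg.Agent.Lib.Helper36.FixedSquare
import Cfsg.Agent.Lib.Helper36.ReflMatrix
import Cfsg.Agent.Lib.Helper44.MinusQF

set_option autoImplicit false
set_option linter.unusedSectionVars false
set_option linter.unusedVariables false

/-!
# No semilinear involution on an even-dimensional quadratic space of non-square discriminant

If `(g, σ)` is a semisimilarity pair of `Q` with `σ` of order two and `g σ(g)` scalar, then the
Gram determinant of `Q` is a square (times any factor fixed by `σ`).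
-/

namespace Cfsg.Agent.Lib.Helper36

open Matrix Cfsg.Agent.Lib.Helper44

variable {ι : Type} [Fintype ι] [DecidableEq ι] {F : Type*} [Field F]

local notation "pol" => QuadraticMap.polar

theorem polar_eq_gram (Q : QuadraticForm F (ι → F)) (x y : ι → F) :
    pol (⇑Q) x y = x ⬝ᵥ (gramStd (⇑Q) *ᵥ y) := by
  have h1 : LinearMap.BilinForm.toMatrix' (QuadraticMap.polarBilin Q) = gramStd (⇑Q) := by
    ext i j
    rw [LinearMap.BilinForm.toMatrix'_apply]
    rfl
  have h3 : Matrix.toBilin' (gramStd (⇑Q)) = QuadraticMap.polarBilin Q := by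
    rw [← h1, Matrix.toBilin'_toMatrix']
  have h4 : pol (⇑Q) x y = Matrix.toBilin' (gramStd (⇑Q)) x y := by
    rw [h3]
    rfl
  rw [h4, Matrix.toBilin'_apply']

theorem dot_gram_conj (g M : Matrix ι ι F) (u v : ι → F) :
    (g *ᵥ u) ⬝ᵥ (M *ᵥ (g *ᵥ v)) = u ⬝ᵥ ((gᵀ * M * g) *ᵥ v) := by
  rw [← Matrix.mulVec_mulVec, ← Matrix.mulVec_mulVec, Matrix.dotProduct_mulVec u gᵀ,
    Matrix.vecMul_transpose]

theorem single_dot_mulVec_single (M : Matrix ι ι F) (i j : ι) :
    (Pi.single i (1 : F) : ι → F) ⬝ᵥ (M *ᵥ (Pi.single j (1 : F) : ι → F)) = M i j := by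
  rw [single_one_dotProduct, Matrix.mulVec_single_one]
  rfl

omit [Fintype ι] in
theorem vmap_single (σ : F ≃+* F) (i : ι) :
    vmap σ (Pi.single i (1 : F) : ι → F) = Pi.single i (1 : F) := by
  funext k
  unfold vmap
  by_cases h : k = i
  · subst h
    rw [Pi.single_eq_same, map_one]
  · rw [Pi.single_eq_of_ne h, map_zero]

omit [Fintype ι] [DecidableEq ι] in
theorem vmap_add (σ : F ≃+* F) (x y : ι → F) : vmap σ (x + y) = vmap σ x + vmap σ y := by
  funext k
  exact map_add σ _ _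

/-- The Gram matrix of a semisimilarity pair. -/
theorem gram_semisimilarity (Q : QuadraticForm F (ι → F)) (g : GL ι F) (σ : F ≃+* F) (c : F)
    (hc : ∀ v : ι → F, Q ((g : Matrix ι ι F) *ᵥ vmap σ v) = c * σ (Q v)) :
    (g : Matrix ι ι F)ᵀ * gramStd (⇑Q) * (g : Matrix ι ι F) = c • (gramStd (⇑Q)).map σ := by
  have hpol : ∀ x y : ι → F, pol (⇑Q) ((g : Matrix ι ι F) *ᵥ vmap σ x)
      ((g : Matrix ι ι F) *ᵥ vmap σ y) = c * σ (pol (⇑Q) x y) := by
    intro x y
    unfold QuadraticMap.polar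
    rw [← Matrix.mulVec_add, ← vmap_add, hc, hc, hc, map_sub, map_sub]
    ring
  ext i j
  rw [← single_dot_mulVec_single ((g : Matrix ι ι F)ᵀ * gramStd (⇑Q) * (g : Matrix ι ι F)) i j,
    ← dot_gram_conj, ← polar_eq_gram]
  have h1 := hpol (Pi.single i 1) (Pi.single j 1)
  rw [vmap_single, vmap_single] at h1
  rw [h1]
  rfl

variable [Fintype F]

/-- **No semilinear involution** on a quadratic space whose Gram determinant is a `σ`-fixed
multiple of a non-square. -/
theorem no_semilinear_involution (Q : QuadraticForm F (ι → F)) (h2 : (2 : F) ≠ 0) (n : ℕ)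
    (hcard : Fintype.card ι = 2 * n) (v₀ : ι → F) (hv₀ : Q v₀ ≠ 0)
    (ε δ : F) (hd : (gramStd (⇑Q)).det = ε * δ) (hε0 : ε ≠ 0) (hδ0 : δ ≠ 0)
    (hδ : ¬ IsSquare δ)
    (g : GL ι F) (σ : F ≃+* F) (hε : σ ε = ε)
    (hp : Cfsg.IsSemisimilarityPair (⇑Q) g σ) (hσ : σ ≠ RingEquiv.refl F)
    (hσσ : ∀ x, σ (σ x) = x)
    (hz : ∃ z : F, ∀ v : ι → F, ((g * glMap σ g : GL ι F) : Matrix ι ι F) *ᵥ v = z • v) :
    False := by
  obtain ⟨cu, hcu⟩ := hp
  set c : F := (cu : F) with hc
  have hc0 : c ≠ 0 := cu.ne_zero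
  have hcQ : ∀ v : ι → F, Q ((g : Matrix ι ι F) *ᵥ vmap σ v) = c * σ (Q v) := hcu
  obtain ⟨z, hz⟩ := hz
  set d : F := (gramStd (⇑Q)).det with hdd
  have hd0 : d ≠ 0 := by rw [hd]; exact mul_ne_zero hε0 hδ0
  set D : F := (g : Matrix ι ι F).det with hD
  -- (E1)
  have hE1 : D * D * d = c ^ (2 * n) * σ d := by
    have h1 := congrArg Matrix.det (gram_semisimilarity Q g σ c hcQ)
    rw [Matrix.det_mul, Matrix.det_mul, Matrix.det_transpose, Matrix.det_smul, hcard] at h1
    have h3 : ((gramStd (⇑Q)).map σ).det = σ d :=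
      (RingHom.map_det (σ : F →+* F) _).symm
    rw [h3] at h1
    linear_combination h1
  -- (E2)
  have hmat : ((g * glMap σ g : GL ι F) : Matrix ι ι F) = z • (1 : Matrix ι ι F) := by
    apply matrix_eq_of_mulVec
    intro v
    rw [hz, Matrix.smul_mulVec, Matrix.one_mulVec]
  have hE2 : D * σ D = z ^ (2 * n) := by
    have h1 := congrArg Matrix.det hmat
    rw [Units.val_mul, Matrix.det_mul, glMap_coe, Matrix.det_smul, Matrix.det_one, mul_one,
      hcard] at h1
    have h3 : ((g : Matrix ι ι F).map σ).det = σ D :=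
      (RingHom.map_det (σ : F →+* F) _).symm
    rw [h3] at h1
    exact h1
  -- (E3)
  have hE3 : z * z = c * σ c := by
    have h1 : Q (((g * glMap σ g : GL ι F) : Matrix ι ι F) *ᵥ v₀) = c * σ c * Q v₀ := by
      have hv : v₀ = vmap σ (vmap σ v₀) := by
        funext k
        exact (hσσ (v₀ k)).symm
      conv_lhs => rw [hv]
      rw [Units.val_mul, glMap_coe, ← Matrix.mulVec_mulVec, map_mulVec_vmap, hcQ, hcQ, map_mul,
        hσσ]
      ring
    rw [hz, QuadraticMap.map_smul] at h1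
    exact mul_right_cancel₀ hv₀ h1
  have hz0 : z ≠ 0 := by
    rintro rfl
    rw [mul_zero] at hE3
    have : c * σ c ≠ 0 := mul_ne_zero hc0 ((map_ne_zero σ).mpr hc0)
    exact this hE3.symm
  have hcn0 : c ^ n ≠ 0 := pow_ne_zero n hc0
  set s : F := D / c ^ n with hs
  have hs2 : s * s * d = σ d := by
    rw [hs]
    field_simp
    rw [pow_mul] at hE1
    linear_combination hE1
  have hsn : s * σ s = 1 := by
    rw [hs, map_div₀, map_pow]
    have hσc0 : σ c ≠ 0 := (map_ne_zero σ).mpr hc0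
    field_simp
    rw [← mul_pow, ← hE3, ← pow_two, ← pow_mul]
    exact hE2
  have hs0 : s ≠ 0 := by
    rintro h
    rw [h, zero_mul] at hsn
    exact zero_ne_one hsn
  have he : σ (d * s) = d * s := by
    rw [map_mul, ← hs2]
    linear_combination (s * d) * hsn
  have hsq1 : IsSquare (d * s) := isSquare_of_fixed h2 σ hσ hσσ _ he
  have hsq2 : IsSquare s := isSquare_of_norm_one h2 σ hσ hσσ s hsn
  have hsq3 : IsSquare d := by
    have : d = d * s / s := by field_simp
    rw [this]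
    exact hsq1.div hsq2
  have hsq4 : IsSquare ε := isSquare_of_fixed h2 σ hσ hσσ ε hε
  apply hδ
  have : δ = d / ε := by
    rw [hd]
    field_simp
  rw [this]
  exact hsq3.div hsq4

end Cfsg.Agent.Lib.Helper36
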