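import Cfsg.Agent.S0791
import Cfsg.Agent.Lib.Helper13.SpinNeg
import Cfsg.Agent.Lib.Helper36.PgoPso

set_option autoImplicit false
open Cfsg

namespace Cfsg.Agent.Lib.Helper36

open Cfsg.Agent.Lib.Helper13 Cfsg.Agent.S0791

/-- For an anisotropic binary part (with `2 ≠ 0`), the discriminant `a² - 4b` is a nonsquare. -/
theorem disc_not_isSquare {F : Type*} [Field F] (h2 : (2 : F) ≠ 0) (a b : F)
    (hab : ∀ z₁ z₂ : F, z₁ ^ 2 + a * z₁ * z₂ + b * z₂ ^ 2 = 0 → z₁ = 0 ∧ z₂ = 0) :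
    ¬ IsSquare (a ^ 2 - 4 * b) := by
  rintro ⟨s, hs⟩
  have h4 : (4 : F) ≠ 0 := by
    have : (4 : F) = 2 * 2 := by norm_num
    rw [this]
    exact mul_ne_zero h2 h2
  have := (hab ((s - a) / 2) 1 (by
    field_simp
    linear_combination (-1 : F) * hs)).2
  exact one_ne_zero this

theorem minusForm_gram_det {F : Type*} [Field F] (k : ℕ) (a b : F) :
    Matrix.det (Matrix.of fun i j : (Fin k ⊕ Fin k) ⊕ Fin 2 =>
      QuadraticMap.polar (⇑(minusForm k F a b)) (Pi.single i (1 : F)) (Pi.single j (1 : F)))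
      = (-1) ^ (k + 1) * (a ^ 2 - 4 * b) := by
  classical
  rw [minusForm_gram k F a b, Matrix.det_fromBlocks_zero₂₁, det_fromBlocks_antidiag,
    Fintype.card_fin, Matrix.det_fin_two_of]
  ring

/-- The minus-type form with anisotropic binary part is nondegenerate (`2 ≠ 0`). -/
theorem minusForm_nondeg {F : Type*} [Field F] (h2 : (2 : F) ≠ 0) (k : ℕ) (a b : F)
    (hab : ∀ z₁ z₂ : F, z₁ ^ 2 + a * z₁ * z₂ + b * z₂ ^ 2 = 0 → z₁ = 0 ∧ z₂ = 0) :
    (QuadraticMap.polarBilin (minusForm k F a b)).Nondegenerate := by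
  classical
  have hnsq := disc_not_isSquare h2 a b hab
  have hdisc0 : a ^ 2 - 4 * b ≠ 0 := by
    intro h0
    apply hnsq
    rw [h0]
    exact IsSquare.zero
  apply nondegenerate_of_gram_det_ne_zero
  rw [minusForm_gram_det]
  exact mul_ne_zero (pow_ne_zero _ (neg_ne_zero.mpr one_ne_zero)) hdisc0

theorem card_minus_index (k : ℕ) :
    Fintype.card ((Fin k ⊕ Fin k) ⊕ Fin 2) = 2 * (k + 1) := by
  rw [Fintype.card_sum, Fintype.card_sum, Fintype.card_fin, Fintype.card_fin]; ring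

/-- Version of `exists_hom_pgo_pso` for a function propositionally equal to a quadratic form. -/
theorem exists_hom_pgo_pso_of_eq {F : Type*} [Field F] [Fintype F] [DecidableEq F] {ι : Type} [Fintype ι]
    [DecidableEq ι] (Q : QuadraticForm F (ι → F)) (f : (ι → F) → F) (hf : ⇑Q = f)
    (hQ : (QuadraticMap.polarBilin Q).Nondegenerate) (h2 : (2 : F) ≠ 0)
    (hdim : 5 ≤ Fintype.card ι) (m : ℕ) (hcard : Fintype.card ι = 2 * m)
    (hns : ∃ (g₁ : GL ι F) (c : Fˣ), ¬ IsSquare (c : F) ∧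
      ∀ v : ι → F, f (Matrix.mulVec (g₁ : Matrix ι ι F) v) = (c : F) * f v) :
    ∃ φ : ↥(Cfsg.pgoAut F f) →* Multiplicative (ZMod 2 × ZMod 2), Function.Surjective φ ∧
      φ.ker = (Cfsg.psoAut F f).subgroupOf (Cfsg.pgoAut F f) := by
  subst hf
  exact exists_hom_pgo_pso Q hQ h2 hdim m hcard hns

end Cfsg.Agent.Lib.Helper36
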