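import Mathlib
import Cfsg.Agent.Lib.Helper36.SimilarityChar
import Cfsg.Agent.Lib.Helper36.MinusFormNondeg
import Cfsg.Agent.Lib.Helper36.OmegaConj
import Cfsg.Agent.S0791

set_option autoImplicit false
set_option linter.unusedSectionVars false

/-!
# Base change of the minus-type form to a quadratic extension

Over a quadratic extension `K` of a finite field `F` of odd order every element of `F` becomes a
square; the minus-type form becomes hyperbolic; a similarity over `F` stays a similarity over `K`.
-/

namespace Cfsg.Agent.Lib.Helper36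

open Module Matrix Cfsg.Agent.S0791

section Squares

variable {F K : Type*} [Field F] [Fintype F] [Field K] [Algebra F K]

/-- Every element of a finite field of odd order is a square in a quadratic extension. -/
theorem isSquare_algebraMap_of_finrank_two (hodd : Fintype.card F % 2 = 1)
    (hK : Module.finrank F K = 2) (c : F) : IsSquare (algebraMap F K c) := by
  classical
  by_cases hc : c = 0
  · rw [hc, map_zero]
    exact IsSquare.zero
  have : Module.Finite F K := Module.finite_of_finrank_pos (by omega)
  have : Finite K := Module.finite_of_finite F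
  let _ : Fintype K := Fintype.ofFinite K
  have hcardK : Fintype.card K = Fintype.card F ^ 2 := by
    rw [Module.card_eq_pow_finrank (K := F) (V := K), hK]
  have h2F : (2 : F) ≠ 0 := by
    intro h
    have h3 : ringChar F ∣ 2 := by
      rw [← CharP.cast_eq_zero_iff F (ringChar F)]
      exact_mod_cast h
    have hp : (ringChar F).Prime := CharP.char_is_prime F (ringChar F)
    have h4 : ringChar F = 2 := (Nat.prime_dvd_prime_iff_eq hp Nat.prime_two).mp h3
    obtain ⟨n, hn⟩ := FiniteField.card F (ringChar F)
    rw [h4] at hn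
    obtain ⟨hn1, hn2⟩ := hn
    have : Fintype.card F % 2 = 0 := by
      rw [hn2]
      have hnpos : (n : ℕ) ≠ 0 := n.ne_zero
      obtain ⟨k, hk⟩ := Nat.exists_eq_succ_of_ne_zero hnpos
      rw [hk, pow_succ]
      omega
    omega
  have h2K : (2 : K) ≠ 0 := by
    have : (2 : K) = algebraMap F K 2 := by rw [map_ofNat]
    rw [this]
    exact (map_ne_zero_iff _ (algebraMap F K).injective).mpr h2F
  have hchar : ringChar K ≠ 2 := by
    intro h
    apply h2K
    have : ((2 : ℕ) : K) = 0 := by
      rw [← h]; exact ringChar.Nat.cast_ringChar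
    exact_mod_cast this
  have hcK : algebraMap F K c ≠ 0 := (map_ne_zero_iff _ (algebraMap F K).injective).mpr hc
  rw [FiniteField.isSquare_iff hchar hcK, hcardK]
  obtain ⟨k, hk⟩ : ∃ k, Fintype.card F = 2 * k + 1 := ⟨Fintype.card F / 2, by omega⟩
  have hexp : Fintype.card F ^ 2 / 2 = (Fintype.card F - 1) * (k + 1) := by
    rw [hk]
    have : (2 * k + 1) ^ 2 = 2 * (2 * k * (k + 1)) + 1 := by ring
    rw [this]
    have h3 : (2 * (2 * k * (k + 1)) + 1) / 2 = 2 * k * (k + 1) := by omega
    rw [h3]
    have h4 : 2 * k + 1 - 1 = 2 * k := by omega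
    rw [h4]
  rw [hexp, ← map_pow, pow_mul, FiniteField.pow_card_sub_one_eq_one c hc, one_pow, map_one]

end Squares

section BaseChange

variable {ι : Type} [Fintype ι] [DecidableEq ι] {F K : Type*} [Field F] [Field K] [Algebra F K]

/-- A similarity over `F` of a quadratic form stays a similarity of the base-changed form. -/
theorem similarity_extend (QF : QuadraticForm F (ι → F)) (QK : QuadraticForm K (ι → K))
    (h2 : (2 : K) ≠ 0)
    (hcompat : ∀ v : ι → F, QK (fun j => algebraMap F K (v j)) = algebraMap F K (QF v))
    (A : Matrix ι ι F) (c : F) (hA : ∀ v : ι → F, QF (A *ᵥ v) = c * QF v) (w : ι → K) :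
    QK ((A.map (algebraMap F K)) *ᵥ w) = algebraMap F K c * QK w := by
  set ext : (ι → F) → (ι → K) := fun v j => algebraMap F K (v j) with hext
  have hext_add : ∀ x y : ι → F, ext (x + y) = ext x + ext y := by
    intro x y
    funext j
    simp [hext]
  have hext_mulVec : ∀ v : ι → F, (A.map (algebraMap F K)) *ᵥ ext v = ext (A *ᵥ v) := by
    intro v
    funext i
    exact (RingHom.map_mulVec (algebraMap F K) A v i).symm
  have hext_single : ∀ i : ι, ext (Pi.single i 1) = Pi.single i 1 := by
    intro i
    funext j
    simp only [hext, Pi.single_apply]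
    split_ifs
    · exact map_one _
    · exact map_zero _
  have hpolar : ∀ x y : ι → F, QuadraticMap.polar (⇑QK) (ext x) (ext y) =
      algebraMap F K (QuadraticMap.polar (⇑QF) x y) := by
    intro x y
    unfold QuadraticMap.polar
    rw [← hext_add, hcompat, hcompat, hcompat, map_sub, map_sub]
  set B₁ : LinearMap.BilinForm K (ι → K) :=
    LinearMap.BilinForm.comp (QuadraticMap.polarBilin QK)
      (Matrix.toLin' (A.map (algebraMap F K))) (Matrix.toLin' (A.map (algebraMap F K))) with hB₁
  set B₂ : LinearMap.BilinForm K (ι → K) := algebraMap F K c • QuadraticMap.polarBilin QK with hB₂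
  have hB : B₁ = B₂ := by
    apply LinearMap.BilinForm.ext_basis (Pi.basisFun K ι)
    intro i j
    rw [Pi.basisFun_apply, Pi.basisFun_apply, hB₁, hB₂, LinearMap.BilinForm.comp_apply,
      Matrix.toLin'_apply, Matrix.toLin'_apply, LinearMap.smul_apply, LinearMap.smul_apply,
      QuadraticMap.polarBilin_apply_apply, QuadraticMap.polarBilin_apply_apply, ← hext_single i,
      ← hext_single j, hext_mulVec, hext_mulVec, hpolar, hpolar,
      polar_mulVec_of_similarity QF A c hA, map_mul, smul_eq_mul]
  have h3 := congrArg (fun B : LinearMap.BilinForm K (ι → K) => B w w) hB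
  simp only [hB₁, hB₂, LinearMap.BilinForm.comp_apply, Matrix.toLin'_apply, LinearMap.smul_apply,
    QuadraticMap.polarBilin_apply_apply, QuadraticMap.polar_self, smul_eq_mul, nsmul_eq_mul,
    Nat.cast_ofNat] at h3
  have h4 : (2 : K) * (QK ((A.map (algebraMap F K)) *ᵥ w) - algebraMap F K c * QK w) = 0 := by
    linear_combination h3
  rcases mul_eq_zero.mp h4 with h | h
  · exact absurd h h2
  · exact sub_eq_zero.mp h

end BaseChange

section MinusK

variable {F K : Type*} [Field F] [Field K] [Algebra F K]

theorem quadFormMinus_map (m : ℕ) (a b : F) (v : (Fin m ⊕ Fin m) ⊕ Fin 2 → F) :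
    Cfsg.quadFormMinus m K (algebraMap F K a) (algebraMap F K b)
      (fun j => algebraMap F K (v j)) = algebraMap F K (Cfsg.quadFormMinus m F a b v) := by
  unfold Cfsg.quadFormMinus
  simp only [map_add, map_sum, map_mul, map_pow]

theorem minusForm_nondeg_of_disc (m : ℕ) (a b : K) (hdisc : a ^ 2 - 4 * b ≠ 0) :
    (QuadraticMap.polarBilin (minusForm m K a b)).Nondegenerate := by
  classical
  apply Cfsg.Agent.Lib.Helper13.nondegenerate_of_gram_det_ne_zero
  rw [minusForm_gram_det]
  exact mul_ne_zero (pow_ne_zero _ (neg_ne_zero.mpr one_ne_zero)) hdisc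

/-- The embedding of a maximal totally singular subspace of the split minus-type form. -/
def minusInl (m : ℕ) (r : K) : ((Fin m → K) × K) →ₗ[K] ((Fin m ⊕ Fin m) ⊕ Fin 2 → K) where
  toFun p := Sum.elim (Sum.elim p.1 0) ![r * p.2, p.2]
  map_add' p p' := by
    funext j
    rcases j with (j | j) | j
    · simp
    · simp
    · fin_cases j
      · simp [mul_add]
      · simp
  map_smul' c p := by
    funext j
    rcases j with (j | j) | j
    · simp
    · simp
    · fin_cases j
      · simp [mul_left_comm]
      · simp

theorem minusInl_injective (m : ℕ) (r : K) : Function.Injective (minusInl m r) := by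
  intro p p' h
  apply Prod.ext
  · funext i
    exact congrFun h (Sum.inl (Sum.inl i))
  · exact congrFun h (Sum.inr 1)

theorem finrank_range_minusInl (m : ℕ) (r : K) :
    finrank K (LinearMap.range (minusInl m r)) = m + 1 := by
  rw [LinearMap.finrank_range_of_inj (minusInl_injective m r), Module.finrank_prod,
    Module.finrank_fin_fun, Module.finrank_self]

theorem range_minusInl_ts (m : ℕ) (a b r : K) (hr : r ^ 2 + a * r + b = 0) :
    IsTS (minusForm m K a b) (LinearMap.range (minusInl m r)) := by
  rintro _ ⟨p, rfl⟩
  rw [minusForm_coe]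
  unfold Cfsg.quadFormMinus
  have h1 : ∑ i : Fin m, minusInl m r p (Sum.inl (Sum.inl i)) *
      minusInl m r p (Sum.inl (Sum.inr i)) = 0 := by
    apply Finset.sum_eq_zero
    intro i _
    change p.1 i * 0 = 0
    rw [mul_zero]
  have h3 : minusInl m r p (Sum.inr 0) = r * p.2 := rfl
  have h4 : minusInl m r p (Sum.inr 1) = p.2 := rfl
  rw [h1, h3, h4]
  linear_combination p.2 ^ 2 * hr

end MinusK

end Cfsg.Agent.Lib.Helper36
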