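import Mathlib
import Cfsg.Agent.Lib.Helper36.PsoInn
import Cfsg.Agent.Lib.Helper36.DeltaPar
import Cfsg.Agent.Lib.Helper36.PlusConj

set_option autoImplicit false
set_option linter.unusedSectionVars false

/-!
# Isometries preserving the two classes of maximal totally singular subspaces

For a non-degenerate quadratic form of dimension `2M` and Witt index `M` over a finite field of
odd characteristic, an isometry preserves the two classes iff its determinant is one.
-/

namespace Cfsg.Agent.Lib.Helper36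

open Module Matrix Cfsg.Agent.Lib.Helper13

variable {ι : Type} [Fintype ι] [DecidableEq ι] {K : Type*} [Field K]

theorem preserves_smul (f : (ι → K) → K) (A : Matrix ι ι K) (e : K) (he : e ≠ 0) :
    Cfsg.PreservesSingularClasses f (e • A) ↔ Cfsg.PreservesSingularClasses f A := by
  unfold Cfsg.PreservesSingularClasses Cfsg.imageSubmodule
  have h1 : ∀ U : Submodule K (ι → K), U.map (Matrix.toLin' (e • A)) = U.map (Matrix.toLin' A) := by
    intro U
    rw [map_smul, Submodule.map_smul _ _ _ he]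
  simp only [h1]

section

variable (Q : QuadraticForm K (ι → K)) (hQ : (QuadraticMap.polarBilin Q).Nondegenerate) (M : ℕ)
  (hcard : Fintype.card ι = 2 * M) (U₀ : Submodule K (ι → K)) (hU₀ : IsTS Q U₀)
  (hfU₀ : finrank K U₀ = M)

include hQ hcard hU₀ hfU₀

theorem isMaxTS_of_finrank : Cfsg.IsMaxTotallySingular (⇑Q) U₀ := by
  refine ⟨hU₀, ?_⟩
  intro W hW hle
  have hWts : IsTS Q W := hW
  have h1 := hWts.two_mul_finrank_le hQ
  rw [Module.finrank_fintype_fun_eq_card, hcard] at h1
  symm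
  apply Submodule.eq_of_le_of_finrank_le hle
  rw [hfU₀]
  omega

theorem isTS_finrank_of_isMaxTS_gen {U : Submodule K (ι → K)}
    (hU : Cfsg.IsMaxTotallySingular (⇑Q) U) : IsTS Q U ∧ finrank K U = M := by
  obtain ⟨hts, hmax⟩ := hU
  have hts' : IsTS Q U := hts
  have hdim : finrank K (ι → K) = 2 * M := by
    rw [Module.finrank_fintype_fun_eq_card, hcard]
  obtain ⟨W, hW, hfW, hle⟩ := exists_mts_ge Q hQ hdim hU₀ hfU₀ hts'
  have h1 := hmax W hW hle
  rw [h1] at hfW
  exact ⟨hts', hfW⟩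

variable [Fintype K] [DecidableEq K]

/-- An isometry preserves the two classes of maximal totally singular subspaces iff its
determinant is one. -/
theorem preserves_iff_det_eq_one (h2 : (2 : K) ≠ 0) (h : GL ι K)
    (hh : h ∈ Cfsg.isometryGroup K (⇑Q)) :
    Cfsg.PreservesSingularClasses (⇑Q) (h : Matrix ι ι K) ↔ (h : Matrix ι ι K).det = 1 := by
  have hdim : finrank K (ι → K) = 2 * M := by
    rw [Module.finrank_fintype_fun_eq_card, hcard]
  set H : (ι → K) ≃ₗ[K] (ι → K) := glLinEquiv ι K h with hH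
  have hF' : (∀ a b : K, ∃ x : K, x ≠ a ∧ x ≠ b) ∨ Module.finrank K (ι → K) ≠ 4 :=
    Or.inl (exists_ne_ne_of_two_ne_zero h2)
  have hHiso : H ∈ Cfsg.Agent.Lib.Helper13.isoGroup Q :=
    (mem_isometryGroup_iff_isoGroup Q h).mp hh
  have hHrefl : H ∈ reflGroup Q := isoGroup_le_reflGroup Q hQ hF' hHiso
  have hHz : ∀ z, Q (H z) = (1 : K) * Q z := by
    intro z
    rw [one_mul]
    exact (mem_isometryGroup_iff' (⇑Q) h).mp hh z
  have key : Even (M - finrank K ↥(U₀ ⊓ U₀.map (H : (ι → K) →ₗ[K] (ι → K)))) ↔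
      (h : Matrix ι ι K).det = 1 := by
    have hpar := delta_eq_par Q hQ hdim hU₀ hfU₀ H hHrefl
    rw [← ZMod.natCast_eq_zero_iff_even, hpar, ← det_eq_one_iff_par Q hQ h2 h hh]
  have hlin : Matrix.toLin' (h : Matrix ι ι K) = (H : (ι → K) →ₗ[K] (ι → K)) := by
    rw [Matrix.toLin'_apply', hH, glLinEquiv_coe]
  constructor
  · intro hp
    have h1 := hp U₀ (isMaxTS_of_finrank Q hQ M hcard U₀ hU₀ hfU₀)
    unfold Cfsg.SameParityClass Cfsg.imageSubmodule at h1
    rw [hlin, hfU₀] at h1
    exact key.mp h1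
  · intro hd U hU
    obtain ⟨hts, hfU⟩ := isTS_finrank_of_isMaxTS_gen Q hQ M hcard U₀ hU₀ hfU₀ hU
    unfold Cfsg.SameParityClass Cfsg.imageSubmodule
    rw [hlin, hfU]
    exact (even_delta_similarity Q hQ hdim hU₀ hfU₀ H (1 : K) hHz hts hfU).mpr (key.mpr hd)

end

end Cfsg.Agent.Lib.Helper36
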