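import Mathlib
import Cfsg.Agent.Lib.Helper36.DicksonMatrix
import Cfsg.Agent.Lib.Helper36.OmegaConj

set_option autoImplicit false

/-!
# Matrix form: `O`-conjugate elements of `O(Q)` fixing a non-singular vector are `Ω`-conjugate
(characteristic two).
-/

namespace Cfsg.Agent.Lib.Helper36

open Module Matrix Cfsg.Agent.Lib.Helper13

variable {ι : Type} [Fintype ι] [DecidableEq ι] {F : Type*} [Field F]

theorem exists_Omega_conj_of_not_ts [CharP F 2] (Q : QuadraticForm F (ι → F))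
    (hQ : (QuadraticMap.polarBilin Q).Nondegenerate)
    (hF : (∀ a b : F, ∃ x : F, x ≠ a ∧ x ≠ b) ∨ Fintype.card ι ≠ 4)
    (hsq : ∀ a : F, IsSquare a) (t s : ↥(Cfsg.isometryGroup F (⇑Q))) (hconj : IsConj t s)
    (hnts : ¬ IsTS Q (fixSp ((t : GL ι F) : Matrix ι ι F).mulVecLin)) :
    ∃ g ∈ Cfsg.Omega F (⇑Q), g * t * g⁻¹ = s := by
  have hF' : (∀ a b : F, ∃ x : F, x ≠ a ∧ x ≠ b) ∨ Module.finrank F (ι → F) ≠ 4 := by
    rw [Module.finrank_fintype_fun_eq_card]
    exact hF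
  obtain ⟨g₀, hg₀⟩ := isConj_iff.mp hconj
  set e := isometryGroupEquiv Q with he
  have hnts' : ¬ IsTS Q (fixSp (((e t : ↥(isoGroup Q)) : (ι → F) ≃ₗ[F] (ι → F)) :
      (ι → F) →ₗ[F] (ι → F))) := by
    have : (((e t : ↥(isoGroup Q)) : (ι → F) ≃ₗ[F] (ι → F)) : (ι → F) →ₗ[F] (ι → F)) =
        ((t : GL ι F) : Matrix ι ι F).mulVecLin := glLinEquiv_coe (t : GL ι F)
    rw [this]
    exact hnts
  obtain ⟨g', hg', hconj'⟩ := exists_commutator_conj_of_not_ts Q hQ hF' hsq (e t) (e g₀) hnts'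
  refine ⟨e.symm g', ?_, ?_⟩
  · change _ ∈ commutator ↥(Cfsg.isometryGroup F (⇑Q))
    rw [mem_commutator_iff_equiv e, MulEquiv.apply_symm_apply]
    exact hg'
  · apply e.injective
    rw [map_mul, map_mul, map_inv, MulEquiv.apply_symm_apply, hconj', ← hg₀, map_mul, map_mul,
      map_inv]

/-- The fixed space of an involution in `O(Q)` has dimension at least half the dimension. -/
theorem card_le_two_mul_fixSp [CharP F 2] (Q : (ι → F) → F) (t : ↥(Cfsg.isometryGroup F Q))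
    (ht : t * t = 1) :
    Fintype.card ι ≤ 2 * finrank F (fixSp ((t : GL ι F) : Matrix ι ι F).mulVecLin) := by
  have hinv : ∀ z, ((t : GL ι F) : Matrix ι ι F).mulVecLin
      (((t : GL ι F) : Matrix ι ι F).mulVecLin z) = z := by
    intro z
    rw [Matrix.mulVecLin_apply, Matrix.mulVecLin_apply, Matrix.mulVec_mulVec]
    have h1 : ((t : GL ι F) : Matrix ι ι F) * ((t : GL ι F) : Matrix ι ι F) = 1 := by
      have := congrArg (fun x : ↥(Cfsg.isometryGroup F Q) => ((x : GL ι F) : Matrix ι ι F)) ht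
      simpa using this
    rw [h1, Matrix.one_mulVec]
  have := finrank_le_two_mul_fixSp _ hinv
  rwa [Module.finrank_fintype_fun_eq_card] at this

end Cfsg.Agent.Lib.Helper36
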