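import Mathlib
import Cfsg.Prelude.Def_Classical
import Cfsg.Agent.Lib.Helper36.PsoInn

set_option autoImplicit false
set_option linter.unusedSectionVars false

/-!
# Explicit similarities of the minus-type form
-/

namespace Cfsg.Agent.Lib.Helper36

open Matrix

variable {F : Type*} [Field F]

theorem neg_one_fromBlocks (α β : Type*) [Fintype α] [Fintype β] [DecidableEq α] [DecidableEq β] :
    (-1 : Matrix (α ⊕ β) (α ⊕ β) F) = Matrix.fromBlocks (-1) 0 0 (-1) := by
  rw [← Matrix.fromBlocks_one, Matrix.fromBlocks_neg, neg_zero, neg_zero]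

/-- A similarity of the minus-type form with multiplier `η = s² + a s t + b t²` and determinant
`η ^ (m + 1)`. -/
theorem exists_similarity_minus_det (m : ℕ) (a b s t : F) (η : Fˣ)
    (hη : (η : F) = s ^ 2 + a * s * t + b * t ^ 2) :
    ∃ g₁ : GL ((Fin m ⊕ Fin m) ⊕ Fin 2) F, (∀ v : (Fin m ⊕ Fin m) ⊕ Fin 2 → F,
      Cfsg.quadFormMinus m F a b
        ((g₁ : Matrix ((Fin m ⊕ Fin m) ⊕ Fin 2) ((Fin m ⊕ Fin m) ⊕ Fin 2) F) *ᵥ v) =
        (η : F) * Cfsg.quadFormMinus m F a b v) ∧
      Matrix.GeneralLinearGroup.det g₁ = η ^ (m + 1) := by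
  set d : Fin m ⊕ Fin m → F := Sum.elim (fun _ => (η : F)) (fun _ => 1) with hd
  set N : Matrix (Fin 2) (Fin 2) F := !![s, -(b * t); t, s + a * t] with hN
  set A : Matrix ((Fin m ⊕ Fin m) ⊕ Fin 2) ((Fin m ⊕ Fin m) ⊕ Fin 2) F :=
    Matrix.fromBlocks (Matrix.diagonal d) 0 0 N with hA
  have hdetN : N.det = (η : F) := by
    rw [hN, Matrix.det_fin_two_of, hη]
    ring
  have hprod : ∏ j, d j = (η : F) ^ m := by
    rw [Fintype.prod_sum_type]
    simp [hd]
  have hdetA' : A.det = (η : F) ^ (m + 1) := by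
    rw [hA, Matrix.det_fromBlocks_zero₂₁, Matrix.det_diagonal, hdetN, hprod, pow_succ]
  have hdetA : A.det ≠ 0 := by
    rw [hdetA']
    exact pow_ne_zero _ (Units.ne_zero η)
  refine ⟨Matrix.GeneralLinearGroup.mkOfDetNeZero A hdetA, ?_, ?_⟩
  · intro v
    change Cfsg.quadFormMinus m F a b (A *ᵥ v) = _
    have hv : v = Sum.elim (fun i => v (Sum.inl i)) (fun i => v (Sum.inr i)) := by
      funext j
      rcases j with j | j <;> rfl
    have hAv : A *ᵥ v = Sum.elim (Matrix.diagonal d *ᵥ fun i => v (Sum.inl i))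
        (N *ᵥ fun i => v (Sum.inr i)) := by
      conv_lhs => rw [hv, hA, Matrix.fromBlocks_mulVec]
      simp
    unfold Cfsg.quadFormMinus
    rw [hAv]
    simp only [Sum.elim_inl, Sum.elim_inr, Matrix.mulVec_diagonal]
    have e1 : (N *ᵥ fun i => v (Sum.inr i)) 0 = s * v (Sum.inr 0) - b * t * v (Sum.inr 1) := by
      rw [hN]
      simp [Matrix.mulVec, dotProduct, Fin.sum_univ_two]
      ring
    have e2 : (N *ᵥ fun i => v (Sum.inr i)) 1 =
        t * v (Sum.inr 0) + (s + a * t) * v (Sum.inr 1) := by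
      rw [hN]
      simp [Matrix.mulVec, dotProduct, Fin.sum_univ_two]
    rw [e1, e2]
    have hsum : ∑ x : Fin m, d (Sum.inl x) * v (Sum.inl (Sum.inl x)) *
        (d (Sum.inr x) * v (Sum.inl (Sum.inr x))) =
        (η : F) * ∑ i : Fin m, v (Sum.inl (Sum.inl i)) * v (Sum.inl (Sum.inr i)) := by
      rw [Finset.mul_sum]
      apply Finset.sum_congr rfl
      intro i _
      simp only [hd, Sum.elim_inl, Sum.elim_inr]
      ring
    rw [hsum, hη]
    ring
  · apply Units.ext
    rw [Matrix.GeneralLinearGroup.val_det_apply, Units.val_pow_eq_pow_val]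
    exact hdetA'

/-- A similarity of the minus-type form with multiplier `-1`, square `-1` and determinant one
(when the binary form represents `-1`). -/
theorem exists_similarity_minus_neg (m : ℕ) (a b s t : F)
    (hst : s ^ 2 + a * s * t + b * t ^ 2 = -1) :
    ∃ g₁ : GL ((Fin m ⊕ Fin m) ⊕ Fin 2) F, (∀ v : (Fin m ⊕ Fin m) ⊕ Fin 2 → F,
      Cfsg.quadFormMinus m F a b
        ((g₁ : Matrix ((Fin m ⊕ Fin m) ⊕ Fin 2) ((Fin m ⊕ Fin m) ⊕ Fin 2) F) *ᵥ v) =
        (-1 : F) * Cfsg.quadFormMinus m F a b v) ∧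
      g₁ * g₁ = negGL ((Fin m ⊕ Fin m) ⊕ Fin 2) F ∧
      Matrix.GeneralLinearGroup.det g₁ = 1 := by
  set J : Matrix (Fin m ⊕ Fin m) (Fin m ⊕ Fin m) F := Matrix.fromBlocks 0 1 (-1) 0 with hJ
  set N : Matrix (Fin 2) (Fin 2) F := !![s, a * s + b * t; t, -s] with hN
  set A : Matrix ((Fin m ⊕ Fin m) ⊕ Fin 2) ((Fin m ⊕ Fin m) ⊕ Fin 2) F :=
    Matrix.fromBlocks J 0 0 N with hA
  have hJJ : J * J = -1 := by
    rw [hJ, Matrix.fromBlocks_multiply]
    simp only [Matrix.mul_zero, Matrix.zero_mul, Matrix.one_mul, Matrix.mul_one, zero_add,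
      add_zero]
    rw [neg_one_fromBlocks]
  have hNN : N * N = -1 := by
    rw [hN]
    ext i j
    fin_cases i <;> fin_cases j
    · simp [Matrix.mul_apply, Fin.sum_univ_two]
      linear_combination hst
    · simp [Matrix.mul_apply, Fin.sum_univ_two]
      ring
    · simp [Matrix.mul_apply, Fin.sum_univ_two]
      ring
    · simp [Matrix.mul_apply, Fin.sum_univ_two]
      linear_combination hst
  have hAA : A * A = -1 := by
    rw [hA, Matrix.fromBlocks_multiply]
    simp only [Matrix.mul_zero, Matrix.zero_mul, zero_add, add_zero]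
    rw [hJJ, hNN, neg_one_fromBlocks (Fin m ⊕ Fin m) (Fin 2)]
  have hdetJ : J.det = 1 := by
    have h1 : Matrix.fromBlocks (1 : Matrix (Fin m) (Fin m) F) (-1 : Matrix (Fin m) (Fin m) F)
        (0 : Matrix (Fin m) (Fin m) F) (1 : Matrix (Fin m) (Fin m) F) * J =
        Matrix.fromBlocks (1 : Matrix (Fin m) (Fin m) F) (1 : Matrix (Fin m) (Fin m) F)
          (-1 : Matrix (Fin m) (Fin m) F) (0 : Matrix (Fin m) (Fin m) F) := by
      rw [hJ, Matrix.fromBlocks_multiply]
      simp
    have h3 := congrArg Matrix.det h1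
    rw [Matrix.det_mul, Matrix.det_fromBlocks_zero₂₁, Matrix.det_one, one_mul, one_mul,
      Matrix.det_fromBlocks_one₁₁] at h3
    rw [h3]
    simp
  have hdetN : N.det = 1 := by
    rw [hN, Matrix.det_fin_two_of]
    linear_combination -hst
  have hdetA : A.det = 1 := by
    rw [hA, Matrix.det_fromBlocks_zero₂₁, hdetJ, hdetN, one_mul]
  refine ⟨⟨A, -A, by rw [mul_neg, hAA, neg_neg], by rw [neg_mul, hAA, neg_neg]⟩, ?_, ?_, ?_⟩
  · intro v
    change Cfsg.quadFormMinus m F a b (A *ᵥ v) = _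
    have hv : v = Sum.elim (fun i => v (Sum.inl i)) (fun i => v (Sum.inr i)) := by
      funext j
      rcases j with j | j <;> rfl
    have hAv : A *ᵥ v = Sum.elim (J *ᵥ fun i => v (Sum.inl i))
        (N *ᵥ fun i => v (Sum.inr i)) := by
      conv_lhs => rw [hv, hA, Matrix.fromBlocks_mulVec]
      simp
    have hw : (fun i => v (Sum.inl i)) = Sum.elim (fun i => v (Sum.inl (Sum.inl i)))
        (fun i => v (Sum.inl (Sum.inr i))) := by
      funext j
      rcases j with j | j <;> rfl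
    have hJv : J *ᵥ (fun i => v (Sum.inl i)) = Sum.elim (fun i => v (Sum.inl (Sum.inr i)))
        (fun i => - v (Sum.inl (Sum.inl i))) := by
      conv_lhs => rw [hw, hJ, Matrix.fromBlocks_mulVec]
      simp only [Matrix.zero_mulVec, Matrix.one_mulVec, Matrix.neg_mulVec, zero_add, add_zero]
      rfl
    unfold Cfsg.quadFormMinus
    rw [hAv, hJv]
    simp only [Sum.elim_inl, Sum.elim_inr]
    have e1 : (N *ᵥ fun i => v (Sum.inr i)) 0 =
        s * v (Sum.inr 0) + (a * s + b * t) * v (Sum.inr 1) := by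
      rw [hN]
      simp [Matrix.mulVec, dotProduct, Fin.sum_univ_two]
    have e2 : (N *ᵥ fun i => v (Sum.inr i)) 1 = t * v (Sum.inr 0) - s * v (Sum.inr 1) := by
      rw [hN]
      simp [Matrix.mulVec, dotProduct, Fin.sum_univ_two]
      ring
    rw [e1, e2]
    have hsum : ∑ x : Fin m, v (Sum.inl (Sum.inr x)) * -v (Sum.inl (Sum.inl x)) =
        -∑ i : Fin m, v (Sum.inl (Sum.inl i)) * v (Sum.inl (Sum.inr i)) := by
      rw [← Finset.sum_neg_distrib]
      apply Finset.sum_congr rfl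
      intro i _
      ring
    rw [hsum]
    linear_combination (v (Sum.inr 0) ^ 2 + a * v (Sum.inr 0) * v (Sum.inr 1) +
      b * v (Sum.inr 1) ^ 2) * hst
  · apply Units.ext
    rw [Units.val_mul, negGL_coe]
    exact hAA
  · apply Units.ext
    rw [Matrix.GeneralLinearGroup.val_det_apply, Units.val_one]
    exact hdetA

end Cfsg.Agent.Lib.Helper36
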