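import Mathlib
import Cfsg.Prelude.Def_Classical

set_option autoImplicit false

/-!
# Similarities with prescribed multiplier for the standard plus and minus forms
-/

namespace Cfsg.Agent.Lib.Helper36

open Matrix

variable {F : Type*} [Field F]

/-- A similarity of the hyperbolic form with multiplier `η`. -/
theorem exists_similarity_plus (m : ℕ) (η : Fˣ) :
    ∃ g₁ : GL (Fin m ⊕ Fin m) F, ∀ v : Fin m ⊕ Fin m → F,
      Cfsg.quadFormPlus m F ((g₁ : Matrix (Fin m ⊕ Fin m) (Fin m ⊕ Fin m) F) *ᵥ v) =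
        (η : F) * Cfsg.quadFormPlus m F v := by
  set d : Fin m ⊕ Fin m → F := Sum.elim (fun _ => (η : F)) (fun _ => 1) with hd
  set d' : Fin m ⊕ Fin m → F := Sum.elim (fun _ => ((η⁻¹ : Fˣ) : F)) (fun _ => 1) with hd'
  have h1 : ∀ i, d i * d' i = 1 := by
    rintro (i | i)
    · simp [hd, hd']
    · simp [hd, hd']
  refine ⟨⟨Matrix.diagonal d, Matrix.diagonal d', ?_, ?_⟩, ?_⟩
  · rw [Matrix.diagonal_mul_diagonal]
    simp only [h1]
    exact Matrix.diagonal_one
  · rw [Matrix.diagonal_mul_diagonal]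
    simp only [mul_comm (d' _), h1]
    exact Matrix.diagonal_one
  · intro v
    change Cfsg.quadFormPlus m F (Matrix.diagonal d *ᵥ v) = _
    unfold Cfsg.quadFormPlus
    rw [Finset.mul_sum]
    apply Finset.sum_congr rfl
    intro i _
    rw [Matrix.mulVec_diagonal, Matrix.mulVec_diagonal]
    simp only [hd, Sum.elim_inl, Sum.elim_inr]
    ring

/-- A similarity of the minus-type form with multiplier `s² + a s t + b t²`. -/
theorem exists_similarity_minus (m : ℕ) (a b s t : F) (η : Fˣ)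
    (hη : (η : F) = s ^ 2 + a * s * t + b * t ^ 2) :
    ∃ g₁ : GL ((Fin m ⊕ Fin m) ⊕ Fin 2) F, ∀ v : (Fin m ⊕ Fin m) ⊕ Fin 2 → F,
      Cfsg.quadFormMinus m F a b
        ((g₁ : Matrix ((Fin m ⊕ Fin m) ⊕ Fin 2) ((Fin m ⊕ Fin m) ⊕ Fin 2) F) *ᵥ v) =
        (η : F) * Cfsg.quadFormMinus m F a b v := by
  set d : Fin m ⊕ Fin m → F := Sum.elim (fun _ => (η : F)) (fun _ => 1) with hd
  set N : Matrix (Fin 2) (Fin 2) F := !![s, -(b * t); t, s + a * t] with hN
  set A : Matrix ((Fin m ⊕ Fin m) ⊕ Fin 2) ((Fin m ⊕ Fin m) ⊕ Fin 2) F :=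
    Matrix.fromBlocks (Matrix.diagonal d) 0 0 N with hA
  have hdetN : N.det = (η : F) := by
    rw [hN, Matrix.det_fin_two_of, hη]
    ring
  have hdetA : A.det ≠ 0 := by
    rw [hA, Matrix.det_fromBlocks_zero₂₁, Matrix.det_diagonal, hdetN]
    apply mul_ne_zero _ (Units.ne_zero η)
    rw [Finset.prod_ne_zero_iff]
    rintro (i | i) _
    · simp [hd]
    · simp [hd]
  refine ⟨Matrix.GeneralLinearGroup.mkOfDetNeZero A hdetA, ?_⟩
  intro v
  change Cfsg.quadFormMinus m F a b (A *ᵥ v) = _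
  have hv : v = Sum.elim (fun i => v (Sum.inl i)) (fun i => v (Sum.inr i)) := by
    funext j
    rcases j with j | j <;> rfl
  have hAv : A *ᵥ v = Sum.elim (Matrix.diagonal d *ᵥ fun i => v (Sum.inl i))
      (N *ᵥ fun i => v (Sum.inr i)) := by
    conv_lhs => rw [hv, hA, Matrix.fromBlocks_mulVec]
    simp
  unfold Cfsg.quadFormMinus
  rw [hAv]
  simp only [Sum.elim_inl, Sum.elim_inr, Matrix.mulVec_diagonal]
  have e1 : (N *ᵥ fun i => v (Sum.inr i)) 0 = s * v (Sum.inr 0) - b * t * v (Sum.inr 1) := by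
    rw [hN]
    simp [Matrix.mulVec, dotProduct, Fin.sum_univ_two]
    ring
  have e2 : (N *ᵥ fun i => v (Sum.inr i)) 1 = t * v (Sum.inr 0) + (s + a * t) * v (Sum.inr 1) := by
    rw [hN]
    simp [Matrix.mulVec, dotProduct, Fin.sum_univ_two]
  rw [e1, e2]
  have hsum : ∑ x : Fin m, d (Sum.inl x) * v (Sum.inl (Sum.inl x)) *
      (d (Sum.inr x) * v (Sum.inl (Sum.inr x))) =
      (η : F) * ∑ i : Fin m, v (Sum.inl (Sum.inl i)) * v (Sum.inl (Sum.inr i)) := by
    rw [Finset.mul_sum]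
    apply Finset.sum_congr rfl
    intro i _
    simp only [hd, Sum.elim_inl, Sum.elim_inr]
    ring
  rw [hsum, hη]
  ring

/-- An anisotropic binary form over a finite field of odd order represents every scalar. -/
theorem exists_binary_eq [Fintype F] (hodd : Fintype.card F % 2 = 1) (h2 : (2 : F) ≠ 0) (a b : F)
    (hab : ∀ z₁ z₂ : F, z₁ ^ 2 + a * z₁ * z₂ + b * z₂ ^ 2 = 0 → z₁ = 0 ∧ z₂ = 0) (η : F) :
    ∃ s t : F, s ^ 2 + a * s * t + b * t ^ 2 = η := by
  classical
  have h4 : (4 : F) ≠ 0 := by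
    have : (4 : F) = 2 * 2 := by norm_num
    rw [this]
    exact mul_ne_zero h2 h2
  set D : F := b - a ^ 2 / 4 with hD
  have hD0 : D ≠ 0 := by
    intro h0
    have hid : (-a / 2) ^ 2 + a * (-a / 2) * 1 + b * 1 ^ 2 = D := by
      rw [hD]
      field_simp
      ring
    have := (hab (-a / 2) 1 (by rw [hid, h0])).2
    exact one_ne_zero this
  have hf : (Polynomial.X ^ 2 : Polynomial F).degree = 2 := Polynomial.degree_X_pow 2
  have hg : (Polynomial.C D * Polynomial.X ^ 2 + Polynomial.C 0 * Polynomial.X +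
      Polynomial.C (-η) : Polynomial F).degree = 2 := Polynomial.degree_quadratic hD0
  obtain ⟨x, y, hxy⟩ := FiniteField.exists_root_sum_quadratic hf hg hodd
  refine ⟨x - a / 2 * y, y, ?_⟩
  simp only [Polynomial.eval_add, Polynomial.eval_mul, Polynomial.eval_pow, Polynomial.eval_X,
    Polynomial.eval_C] at hxy
  have hid : (x - a / 2 * y) ^ 2 + a * (x - a / 2 * y) * y + b * y ^ 2 = x ^ 2 + D * y ^ 2 := by
    rw [hD]
    field_simp
    ring
  rw [hid]
  linear_combination hxy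

end Cfsg.Agent.Lib.Helper36
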