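import Mathlib
import Cfsg.Agent.Lib.Helper36.MinusExt
import Cfsg.Agent.Lib.Helper36.PreserveGen

set_option autoImplicit false
set_option linter.unusedSectionVars false

/-!
# Similarities of the minus-type form preserving the singular classes over a quadratic extension
-/

namespace Cfsg.Agent.Lib.Helper36

open Module Matrix Cfsg.Agent.Lib.Helper13 Cfsg.Agent.S0791

variable {F K : Type*} [Field F] [Fintype F] [DecidableEq F] [Field K] [Algebra F K]

set_option maxHeartbeats 800000 in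
/-- Over a quadratic extension `K`, a similarity `g` of the minus-type form over `F` preserves the
two classes of maximal totally singular subspaces iff `det g = μ(g) ^ (m + 1)`. -/
theorem preserves_ext_iff (hodd : Fintype.card F % 2 = 1) (hK : Module.finrank F K = 2) (m : ℕ)
    (a b : F)
    (hab : ∀ z₁ z₂ : F, z₁ ^ 2 + a * z₁ * z₂ + b * z₂ ^ 2 = 0 → z₁ = 0 ∧ z₂ = 0)
    (v₀ : (Fin m ⊕ Fin m) ⊕ Fin 2 → F) (hv₀ : minusForm m F a b v₀ ≠ 0)
    (g : ↥(Cfsg.Geo.quadSimilarityGroup (⇑(minusForm m F a b)))) :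
    Cfsg.PreservesSingularClasses
      (Cfsg.quadFormMinus m K (algebraMap F K a) (algebraMap F K b))
      (((g : GL ((Fin m ⊕ Fin m) ⊕ Fin 2) F) :
        Matrix ((Fin m ⊕ Fin m) ⊕ Fin 2) ((Fin m ⊕ Fin m) ⊕ Fin 2) F).map (algebraMap F K)) ↔
      deltaHom (minusForm m F a b) v₀ hv₀ (m + 1) g = 1 := by
  classical
  have : Module.Finite F K := Module.finite_of_finrank_pos (by omega)
  have : Finite K := Module.finite_of_finite F
  let _ : Fintype K := Fintype.ofFinite K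
  have h2F : (2 : F) ≠ 0 := two_ne_zero_of_odd_card (Nat.odd_iff.mpr hodd)
  have hinj := (algebraMap F K).injective
  have h2K : (2 : K) ≠ 0 := by
    have : (2 : K) = algebraMap F K 2 := by rw [map_ofNat]
    rw [this]
    exact (map_ne_zero_iff _ hinj).mpr h2F
  set a' : K := algebraMap F K a with ha'
  set b' : K := algebraMap F K b with hb'
  have hdiscF : a ^ 2 - 4 * b ≠ 0 := by
    intro h0
    apply disc_not_isSquare h2F a b hab
    rw [h0]
    exact IsSquare.zero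
  have hdiscK : a' ^ 2 - 4 * b' = algebraMap F K (a ^ 2 - 4 * b) := by
    rw [map_sub, map_pow, map_mul, map_ofNat]
  have hdiscK0 : a' ^ 2 - 4 * b' ≠ 0 := by
    rw [hdiscK]
    exact (map_ne_zero_iff _ hinj).mpr hdiscF
  obtain ⟨ε, hε⟩ := isSquare_algebraMap_of_finrank_two hodd hK (a ^ 2 - 4 * b)
  rw [← hdiscK] at hε
  set r : K := (-a' + ε) / 2 with hr
  have hroot : r ^ 2 + a' * r + b' = 0 := by
    rw [hr]
    field_simp
    linear_combination -hε
  set QK := minusForm m K a' b' with hQK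
  have hQKnd := minusForm_nondeg_of_disc m a' b' hdiscK0
  have hcard := card_minus_index m
  set U₀ := LinearMap.range (minusInl m r) with hU₀
  have hU₀ts : IsTS QK U₀ := range_minusInl_ts m a' b' r hroot
  have hfU₀ : finrank K U₀ = m + 1 := finrank_range_minusInl m r
  set c : Fˣ := mult (minusForm m F a b) v₀ hv₀ g with hc
  obtain ⟨e, he⟩ := isSquare_algebraMap_of_finrank_two hodd hK (c : F)
  have he0 : e ≠ 0 := by
    rintro rfl
    rw [mul_zero] at he
    exact (map_ne_zero_iff _ hinj).mpr c.ne_zero he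
  have hcompat : ∀ v : (Fin m ⊕ Fin m) ⊕ Fin 2 → F,
      QK (fun j => algebraMap F K (v j)) = algebraMap F K (minusForm m F a b v) := by
    intro v
    rw [hQK, minusForm_coe, minusForm_coe]
    exact quadFormMinus_map m a b v
  set gM : Matrix ((Fin m ⊕ Fin m) ⊕ Fin 2) ((Fin m ⊕ Fin m) ⊕ Fin 2) K :=
    ((g : GL ((Fin m ⊕ Fin m) ⊕ Fin 2) F) :
      Matrix ((Fin m ⊕ Fin m) ⊕ Fin 2) ((Fin m ⊕ Fin m) ⊕ Fin 2) F).map (algebraMap F K) with hgM
  have hsim : ∀ w, QK (gM *ᵥ w) = algebraMap F K (c : F) * QK w :=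
    similarity_extend (minusForm m F a b) QK h2K hcompat _ (c : F) (mult_spec (minusForm m F a b) v₀ hv₀ g)
  set gK : GL ((Fin m ⊕ Fin m) ⊕ Fin 2) K :=
    Matrix.GeneralLinearGroup.map (algebraMap F K) (g : GL ((Fin m ⊕ Fin m) ⊕ Fin 2) F) with hgK
  have hgKcoe : (gK : Matrix ((Fin m ⊕ Fin m) ⊕ Fin 2) ((Fin m ⊕ Fin m) ⊕ Fin 2) K) = gM := by
    ext i j
    rw [hgK, Matrix.GeneralLinearGroup.map_apply]
    rfl
  set eu : Kˣ := Units.mk0 e he0 with heu
  set h : GL ((Fin m ⊕ Fin m) ⊕ Fin 2) K :=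
    (Matrix.GeneralLinearGroup.scalar ((Fin m ⊕ Fin m) ⊕ Fin 2) eu)⁻¹ * gK with hh
  have hhcoe : (h : Matrix ((Fin m ⊕ Fin m) ⊕ Fin 2) ((Fin m ⊕ Fin m) ⊕ Fin 2) K) = e⁻¹ • gM := by
    rw [hh, Units.val_mul, ← map_inv, Matrix.GeneralLinearGroup.coe_scalar, Matrix.scalar_apply,
      ← Matrix.smul_one_eq_diagonal, Matrix.smul_mul, Matrix.one_mul, hgKcoe, heu,
      Units.val_inv_eq_inv_val, Units.val_mk0]
  have hgMh : gM = e • (h : Matrix ((Fin m ⊕ Fin m) ⊕ Fin 2) ((Fin m ⊕ Fin m) ⊕ Fin 2) K) := by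
    rw [hhcoe, smul_smul, mul_inv_cancel₀ he0, one_smul]
  have hhO : h ∈ Cfsg.isometryGroup K (⇑QK) := by
    rw [mem_isometryGroup_iff']
    intro v
    rw [hhcoe, Matrix.smul_mulVec, QuadraticMap.map_smul, hsim, he, smul_eq_mul]
    field_simp
  rw [← minusForm_coe m K a' b', ← hQK, hgMh, preserves_smul _ _ e he0,
    preserves_iff_det_eq_one QK hQKnd (m + 1) hcard U₀ hU₀ts hfU₀ h2K h hhO, hhcoe, Matrix.det_smul,
    hcard]
  have hdetM : gM.det = algebraMap F K
      ((g : GL ((Fin m ⊕ Fin m) ⊕ Fin 2) F) :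
        Matrix ((Fin m ⊕ Fin m) ⊕ Fin 2) ((Fin m ⊕ Fin m) ⊕ Fin 2) F).det := by
    rw [hgM, RingHom.map_det]
    rfl
  rw [hdetM, deltaHom_apply, mul_inv_eq_one, ← hc]
  have hpow : (e⁻¹) ^ (2 * (m + 1)) = (algebraMap F K ((c : F) ^ (m + 1)))⁻¹ := by
    rw [map_pow, he, ← pow_two, ← pow_mul, inv_pow]
  rw [hpow, inv_mul_eq_one₀ ((map_ne_zero_iff _ hinj).mpr (pow_ne_zero _ c.ne_zero))]
  constructor
  · intro h3
    apply Units.ext
    rw [Matrix.GeneralLinearGroup.val_det_apply, Units.val_pow_eq_pow_val]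
    exact (hinj h3).symm
  · intro h3
    have h4 := congrArg Units.val h3
    rw [Matrix.GeneralLinearGroup.val_det_apply, Units.val_pow_eq_pow_val] at h4
    rw [h4]

end Cfsg.Agent.Lib.Helper36
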