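import Mathlib
import Cfsg.Agent.Lib.Helper36.MinusPreserve
import Cfsg.Agent.Lib.Helper36.MinusElts
import Cfsg.Agent.Lib.Helper36.InndiagPlus
import Cfsg.Agent.Lib.Helper36.PgoPsoForms

set_option autoImplicit false
set_option linter.unusedSectionVars false

/-!
# `Inndiag(PΩ⁻_{2m+2}(q))` as the image of the similarities with `det g = μ(g) ^ (m + 1)`
-/

namespace Cfsg.Agent.Lib.Helper36

open Module Matrix Cfsg.Agent.Lib.Helper13 Cfsg.Agent.S0791

universe u

/-- A finite field of odd order has a quadratic extension (in the same universe). -/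
theorem exists_quadratic_extension (F : Type u) [Field F] [Fintype F]
    (hodd : Fintype.card F % 2 = 1) :
    ∃ (K : Type u) (_ : Field K) (_ : Algebra F K), Module.finrank F K = 2 := by
  classical
  have h2 : (2 : F) ≠ 0 := two_ne_zero_of_odd_card (Nat.odd_iff.mpr hodd)
  have hchar : ringChar F ≠ 2 := by
    intro h
    apply h2
    have : ((2 : ℕ) : F) = 0 := by
      rw [← h]; exact ringChar.Nat.cast_ringChar
    exact_mod_cast this
  obtain ⟨η, hη⟩ := FiniteField.exists_nonsquare hchar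
  set f : Polynomial F := Polynomial.X ^ 2 - Polynomial.C η with hf
  have hmonic : f.Monic := Polynomial.monic_X_pow_sub_C η (by norm_num)
  have hdeg : f.natDegree = 2 := Polynomial.natDegree_X_pow_sub_C
  have hirr : Irreducible f := by
    rw [hmonic.irreducible_iff_roots_eq_zero_of_degree_le_three (by rw [hdeg])
      (by rw [hdeg]; norm_num), Multiset.eq_zero_iff_forall_notMem]
    intro z hz
    rw [Polynomial.mem_roots hmonic.ne_zero, Polynomial.IsRoot.def, hf, Polynomial.eval_sub,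
      Polynomial.eval_pow, Polynomial.eval_X, Polynomial.eval_C] at hz
    apply hη
    exact ⟨z, by linear_combination -hz⟩
  have : Fact (Irreducible f) := ⟨hirr⟩
  refine ⟨AdjoinRoot f, inferInstance, inferInstance, ?_⟩
  rw [(AdjoinRoot.powerBasis hmonic.ne_zero).finrank, AdjoinRoot.powerBasis_dim, hdeg]

variable {F : Type u} [Field F] [Fintype F] [DecidableEq F]

/-- A similarity of the minus-type form is class-preserving (over a quadratic extension) iff
`det g = μ(g) ^ (m + 1)`. -/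
theorem preservesMinus_iff_deltaHom (hodd : Fintype.card F % 2 = 1) (m : ℕ) (a b : F)
    (hab : ∀ z₁ z₂ : F, z₁ ^ 2 + a * z₁ * z₂ + b * z₂ ^ 2 = 0 → z₁ = 0 ∧ z₂ = 0)
    (v₀ : (Fin m ⊕ Fin m) ⊕ Fin 2 → F) (hv₀ : minusForm m F a b v₀ ≠ 0)
    (g : ↥(Cfsg.Geo.quadSimilarityGroup (⇑(minusForm m F a b)))) :
    Cfsg.PreservesSingularClassesMinus m a b
      ((g : GL ((Fin m ⊕ Fin m) ⊕ Fin 2) F) :
        Matrix ((Fin m ⊕ Fin m) ⊕ Fin 2) ((Fin m ⊕ Fin m) ⊕ Fin 2) F) ↔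
      deltaHom (minusForm m F a b) v₀ hv₀ (m + 1) g = 1 := by
  constructor
  · rintro ⟨K, _, _, hfr, hpres⟩
    exact (preserves_ext_iff hodd hfr m a b hab v₀ hv₀ g).mp hpres
  · intro h
    obtain ⟨K, _, _, hfr⟩ := exists_quadratic_extension F hodd
    exact ⟨K, _, _, hfr, (preserves_ext_iff hodd hfr m a b hab v₀ hv₀ g).mpr h⟩

/-- The inner-diagonal group of `PΩ⁻`, stated for a function `f` (to be the minus-type form). -/
def inndiagMinusOf (m : ℕ) (a b : F) (f : ((Fin m ⊕ Fin m) ⊕ Fin 2 → F) → F) :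
    Subgroup (MulAut (Cfsg.POmega F f)) :=
  Cfsg.autSubgroupOf fun β : Cfsg.POmega F f ≃* Cfsg.POmega F f =>
    ∃ g : GL ((Fin m ⊕ Fin m) ⊕ Fin 2) F, g ∈ Cfsg.Geo.quadSimilarityGroup f ∧
      Cfsg.PreservesSingularClassesMinus m a b
        (g : Matrix ((Fin m ⊕ Fin m) ⊕ Fin 2) ((Fin m ⊕ Fin m) ⊕ Fin 2) F) ∧
      Cfsg.IsInducedBySemilinearPOmega f g (RingEquiv.refl F) β

theorem inndiagMinusOf_eq (m : ℕ) (a b : F) :
    inndiagMinusOf m a b (Cfsg.quadFormMinus m F a b) = Cfsg.inndiagPOmegaMinus m F a b := rfl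

/-- The inner-diagonal group is the image of the kernel of `psi2`. -/
theorem inndiag_minus_eq (hodd : Fintype.card F % 2 = 1) (h2 : (2 : F) ≠ 0) (m : ℕ) (a b : F)
    (hab : ∀ z₁ z₂ : F, z₁ ^ 2 + a * z₁ * z₂ + b * z₂ ^ 2 = 0 → z₁ = 0 ∧ z₂ = 0)
    (v₀ : (Fin m ⊕ Fin m) ⊕ Fin 2 → F) (hv₀ : minusForm m F a b v₀ ≠ 0) :
    inndiagMinusOf m a b (⇑(minusForm m F a b)) =
      (psi2 (minusForm m F a b) v₀ hv₀ (m + 1) (minusForm_nondeg h2 m a b hab) h2
        (card_minus_index m)).ker.map (simAut (⇑(minusForm m F a b))) := by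
  unfold inndiagMinusOf Cfsg.autSubgroupOf
  have hset : {β : MulAut (Cfsg.POmega F (⇑(minusForm m F a b))) |
      ∃ g : GL ((Fin m ⊕ Fin m) ⊕ Fin 2) F,
        g ∈ Cfsg.Geo.quadSimilarityGroup (⇑(minusForm m F a b)) ∧
        Cfsg.PreservesSingularClassesMinus m a b
          (g : Matrix ((Fin m ⊕ Fin m) ⊕ Fin 2) ((Fin m ⊕ Fin m) ⊕ Fin 2) F) ∧
        Cfsg.IsInducedBySemilinearPOmega (⇑(minusForm m F a b)) g (RingEquiv.refl F) β} =
      (((psi2 (minusForm m F a b) v₀ hv₀ (m + 1) (minusForm_nondeg h2 m a b hab) h2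
        (card_minus_index m)).ker.map (simAut (⇑(minusForm m F a b))) :
        Subgroup (MulAut (Cfsg.POmega F (⇑(minusForm m F a b))))) :
        Set (MulAut (Cfsg.POmega F (⇑(minusForm m F a b))))) := by
    ext β
    constructor
    · rintro ⟨g, hgG, hpres, hind⟩
      refine ⟨⟨g, hgG⟩, ?_, ((isInduced_iff _ ⟨g, hgG⟩ β).mp hind).symm⟩
      rw [SetLike.mem_coe, MonoidHom.mem_ker, psi2_eq_one_iff]
      exact (preservesMinus_iff_deltaHom hodd m a b hab v₀ hv₀ ⟨g, hgG⟩).mp hpres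
    · rintro ⟨g, hg, rfl⟩
      rw [SetLike.mem_coe, MonoidHom.mem_ker, psi2_eq_one_iff] at hg
      exact ⟨g, g.2, (preservesMinus_iff_deltaHom hodd m a b hab v₀ hv₀ g).mpr hg,
        (isInduced_iff _ g _).mpr rfl⟩
  rw [hset, Subgroup.closure_eq]

section General

variable {ι : Type} [Fintype ι] [DecidableEq ι]
  (Q : QuadraticForm F (ι → F)) (v₀ : ι → F) (hv₀ : Q v₀ ≠ 0) (M : ℕ)
  (hQ : (QuadraticMap.polarBilin Q).Nondegenerate) (h2 : (2 : F) ≠ 0)
  (hcard : Fintype.card ι = 2 * M)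

/-- The image of the kernel of `psi2` modulo the image of `SO` is of order two. -/
theorem exists_hom_ker_psi2_mod_pso (hdim : 5 ≤ Fintype.card ι)
    (D : Subgroup (MulAut (Cfsg.POmega F (⇑Q))))
    (hD : D = (psi2 Q v₀ hv₀ M hQ h2 hcard).ker.map (simAut (⇑Q)))
    (δ : ↥(Cfsg.Geo.quadSimilarityGroup (⇑Q))) (hδ2 : deltaHom Q v₀ hv₀ M δ = 1)
    (hδ1 : psi1 Q v₀ hv₀ δ = -1) :
    ∃ φ : ↥D →* Multiplicative (ZMod 2), Function.Surjective φ ∧
      φ.ker = (Cfsg.psoAut F (⇑Q)).subgroupOf D := by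
  set R := (psi2 Q v₀ hv₀ M hQ h2 hcard).ker with hR
  apply exists_hom_congr unitsIntEquiv
  apply exists_hom_of_eq_range ((simAut (⇑Q)).comp R.subtype)
    ((psi1 Q v₀ hv₀).comp R.subtype) ?_ ?_ _ _ ?_ ?_
  · intro r hr
    rw [MonoidHom.mem_ker, MonoidHom.comp_apply] at hr ⊢
    exact ((psi_eq_one_iff _ _ _ _ _ _ _ _).mp (psi_eq_one_of_simAut_eq_one Q v₀ hv₀ M
      hQ h2 hcard hdim _ hr)).1
  · have hmemR : δ ∈ R := by
      rw [hR, MonoidHom.mem_ker, psi2_eq_one_iff]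
      exact hδ2
    intro b
    rcases Int.units_eq_one_or b with rfl | rfl
    · exact ⟨1, map_one _⟩
    · refine ⟨⟨δ, hmemR⟩, ?_⟩
      rw [MonoidHom.comp_apply]
      exact hδ1
  · rw [MonoidHom.range_comp, Subgroup.range_subtype]
    exact hD
  · rw [psoAut_eq_map_ker_psi Q v₀ hv₀ M hQ h2 hcard]
    ext β
    constructor
    · rintro ⟨g, hg, rfl⟩
      rw [SetLike.mem_coe, MonoidHom.mem_ker, psi_eq_one_iff] at hg
      refine ⟨⟨g, (MonoidHom.mem_ker).mpr hg.2⟩, ?_, rfl⟩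
      rw [SetLike.mem_coe, MonoidHom.mem_ker, MonoidHom.comp_apply]
      exact hg.1
    · rintro ⟨r, hr, rfl⟩
      rw [SetLike.mem_coe, MonoidHom.mem_ker, MonoidHom.comp_apply] at hr
      refine ⟨(r : ↥(Cfsg.Geo.quadSimilarityGroup (⇑Q))), ?_, rfl⟩
      rw [SetLike.mem_coe, MonoidHom.mem_ker, psi_eq_one_iff]
      exact ⟨hr, (MonoidHom.mem_ker).mp r.2⟩

end General

end Cfsg.Agent.Lib.Helper36
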