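import Mathlib
import Cfsg.Agent.Lib.Helper36.InndiagPlus2

set_option autoImplicit false
set_option linter.unusedSectionVars false

/-!
# `Inndiag(PΩ⁺_{2m}(q)) / Inn(PΩ⁺_{2m}(q))` for odd `q`: `C₂`, `C₄` or `C₂ × C₂`
-/

namespace Cfsg.Agent.Lib.Helper36

open Module Matrix Cfsg.Agent.Lib.Helper13 Cfsg.Agent.S2168

variable {m : ℕ} {F : Type*} [Field F] [Fintype F] [DecidableEq F]

theorem not_isSquare_pow_of_odd {η : F} (hη : ¬ IsSquare η) (hη0 : η ≠ 0) (hm : Odd m) :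
    ¬ IsSquare (η ^ m) := by
  obtain ⟨k, rfl⟩ := hm
  rintro ⟨s, hs⟩
  apply hη
  have hk0 : η ^ k ≠ 0 := pow_ne_zero k hη0
  refine ⟨s / η ^ k, ?_⟩
  field_simp
  have h1 : η ^ (2 * k + 1) = η * (η ^ k) ^ 2 := by ring
  rw [← h1, hs]
  ring

theorem isSquare_pow_of_even (η : F) (hm : Even m) : IsSquare (η ^ m) := by
  obtain ⟨k, rfl⟩ := hm
  exact ⟨η ^ k, pow_add η k k⟩

set_option maxHeartbeats 1600000 in
/-- **The structure of `Inndiag(PΩ⁺_{2m}(q)) / Inn(PΩ⁺_{2m}(q))`.** -/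
theorem inndiag_structure (hodd : Odd (Fintype.card F)) (hm : 4 ≤ m) :
    ((Odd m ∧ Fintype.card F % 4 = 3) →
      ∃ φ : ↥(inndiagPlusQ m F) →* Multiplicative (ZMod 2), Function.Surjective φ ∧
        φ.ker = (Cfsg.Inn (Cfsg.POmega F (⇑(plusQF m F)))).subgroupOf (inndiagPlusQ m F)) ∧
    ((Odd m ∧ Fintype.card F % 4 = 1) →
      ∃ φ : ↥(inndiagPlusQ m F) →* Multiplicative (ZMod 4), Function.Surjective φ ∧
        φ.ker = (Cfsg.Inn (Cfsg.POmega F (⇑(plusQF m F)))).subgroupOf (inndiagPlusQ m F)) ∧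
    (Even m →
      ∃ φ : ↥(inndiagPlusQ m F) →* Multiplicative (ZMod 2 × ZMod 2), Function.Surjective φ ∧
        φ.ker = (Cfsg.Inn (Cfsg.POmega F (⇑(plusQF m F)))).subgroupOf (inndiagPlusQ m F)) := by
  have h2 : (2 : F) ≠ 0 := two_ne_zero_of_odd_card hodd
  have hQ := plusQF_nondeg m F
  have hcard : Fintype.card (Fin m ⊕ Fin m) = 2 * m := card_plus_index
  have hdim : 5 ≤ Fintype.card (Fin m ⊕ Fin m) := by rw [hcard]; omega
  have hdim2 : 2 ≤ Fintype.card (Fin m ⊕ Fin m) := by omega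
  have hdim' : 2 ≤ finrank F (Fin m ⊕ Fin m → F) := by
    rw [Module.finrank_fintype_fun_eq_card]
    exact hdim2
  have heven : Even (Fintype.card (Fin m ⊕ Fin m)) := by rw [hcard]; exact even_two_mul m
  have hq : Fintype.card F % 2 = 1 := Nat.odd_iff.mp hodd
  have hF2 : Fintype.card F ≠ 2 := by omega
  obtain ⟨v₀, hv₀'⟩ := exists_Q_eq (plusQF m F) hQ h2 hdim' 1 one_ne_zero
  have hv₀ : plusQF m F v₀ ≠ 0 := by rw [hv₀']; exact one_ne_zero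
  have hchar : ringChar F ≠ 2 := by
    intro h
    apply h2
    have : ((2 : ℕ) : F) = 0 := by
      rw [← h]; exact ringChar.Nat.cast_ringChar
    exact_mod_cast this
  obtain ⟨η, hη⟩ := FiniteField.exists_nonsquare hchar
  have hη0 : η ≠ 0 := by
    rintro rfl
    exact hη IsSquare.zero
  set ηu : Fˣ := Units.mk0 η hη0 with hηu
  set δ : ↥(Cfsg.Geo.quadSimilarityGroup (⇑(plusQF m F))) := diagSimElt m ηu with hδ
  have hδdelta := deltaHom_diagSimElt v₀ hv₀ ηu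
  have hδpsi1 := psi1_diagSimElt v₀ hv₀ ηu hη
  obtain ⟨φ₀, hφ₀s, hφ₀k⟩ := exists_hom_inndiag_pso h2 (by omega) v₀ hv₀
  have hIP := Inn_le_psoAut (⇑(plusQF m F))
  have hPD := psoAut_le_inndiag h2 v₀ hv₀
  have hPD2 : (Cfsg.psoAut F (⇑(plusQF m F))).relIndex (inndiagPlusQ m F) = 2 := by
    change ((Cfsg.psoAut F (⇑(plusQF m F))).subgroupOf (inndiagPlusQ m F)).index = 2
    rw [← hφ₀k, Subgroup.index_ker, MonoidHom.range_eq_top.mpr hφ₀s, Subgroup.card_top,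
      Nat.card_eq_fintype_card]
    rfl
  obtain ⟨hI2, hI1⟩ := relIndex_Inn_psoAut (plusQF m F) hQ h2 hdim heven
  have hiff := Cfsg.Agent.S0790.result (F := F) rfl hodd m (by omega)
  have hδD : simAut (⇑(plusQF m F)) δ ∈ inndiagPlusQ m F :=
    simAut_mem_inndiag h2 v₀ hv₀ δ hδdelta
  have hδP : simAut (⇑(plusQF m F)) δ ∉ Cfsg.psoAut F (⇑(plusQF m F)) := by
    intro h
    have h3 := psi_eq_one_of_simAut_mem_psoAut (plusQF m F) v₀ hv₀ m hQ h2 hcard hdim δ h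
    rw [psi_eq_one_iff, hδpsi1] at h3
    exact absurd h3.1 (by decide)
  set L : GL (Fin m ⊕ Fin m) F :=
    Cfsg.Agent.Lib.Helper44.leviGL (Matrix.GeneralLinearGroup.scalar (Fin m) ηu) with hL
  have hLO : L ∈ Cfsg.isometryGroup F (⇑(plusQF m F)) := Cfsg.Agent.Lib.Helper44.leviGL_mem _
  have hLG : L ∈ Cfsg.Geo.quadSimilarityGroup (⇑(plusQF m F)) :=
    isometryGroup_le_similarity _ hLO
  have hLΩ : L ∈ OmegaGL (⇑(plusQF m F)) ↔ IsSquare (η ^ m) :=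
    leviGL_scalar_mem_OmegaGL_iff m (by omega) hF2 ηu
  have hδsq : simAut (⇑(plusQF m F)) δ * simAut (⇑(plusQF m F)) δ =
      simAut (⇑(plusQF m F)) ⟨L, hLG⟩ := by
    rw [← map_mul]
    apply simAut_eq_of_scalar_mul _ _ _ ηu
    exact diagSim_mul_self m ηu
  have hnormal : ((Cfsg.Inn (Cfsg.POmega F (⇑(plusQF m F)))).subgroupOf
      (inndiagPlusQ m F)).Normal := Subgroup.normal_subgroupOf
  have hidx4 : (∃ t : ↥(Cfsg.isometryGroup F (⇑(plusQF m F))), t ∈ Cfsg.Omega F (⇑(plusQF m F)) ∧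
      ((t : GL (Fin m ⊕ Fin m) F) : Matrix (Fin m ⊕ Fin m) (Fin m ⊕ Fin m) F) = -1) →
      ((Cfsg.Inn (Cfsg.POmega F (⇑(plusQF m F)))).subgroupOf (inndiagPlusQ m F)).index = 4 := by
    intro hneg
    change (Cfsg.Inn (Cfsg.POmega F (⇑(plusQF m F)))).relIndex (inndiagPlusQ m F) = 4
    rw [← Subgroup.relIndex_mul_relIndex _ _ _ hIP hPD, hI2 hneg, hPD2]
  refine ⟨?_, ?_, ?_⟩
  · intro hc
    have hnneg : ¬ ∃ t : ↥(Cfsg.isometryGroup F (⇑(plusQF m F))),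
        t ∈ Cfsg.Omega F (⇑(plusQF m F)) ∧
        ((t : GL (Fin m ⊕ Fin m) F) : Matrix (Fin m ⊕ Fin m) (Fin m ⊕ Fin m) F) = -1 := by
      intro hneg
      have h3 := hiff.mp hneg
      rw [pow_mod_four_eq_one_iff _ _ hq] at h3
      exact h3 hc
    have hIeq := Inn_eq_psoAut_of_relIndex _ (hI1 hnneg)
    refine ⟨φ₀, hφ₀s, ?_⟩
    rw [hφ₀k, hIeq]
  · rintro ⟨hmodd, hq1⟩
    have hneg : ∃ t : ↥(Cfsg.isometryGroup F (⇑(plusQF m F))),
        t ∈ Cfsg.Omega F (⇑(plusQF m F)) ∧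
        ((t : GL (Fin m ⊕ Fin m) F) : Matrix (Fin m ⊕ Fin m) (Fin m ⊕ Fin m) F) = -1 := by
      apply hiff.mpr
      rw [pow_mod_four_eq_one_iff _ _ hq]
      rintro ⟨-, h3⟩
      omega
    have hneg' := (neg_one_mem_Omega_iff_negGL (⇑(plusQF m F))).mp hneg
    apply exists_hom_zmod_four _ (hidx4 hneg) ⟨simAut (⇑(plusQF m F)) δ, hδD⟩
    rw [Subgroup.mem_subgroupOf]
    change simAut (⇑(plusQF m F)) δ * simAut (⇑(plusQF m F)) δ ∉ _
    rw [hδsq, simAut_mem_Inn_iff_mem_OmegaGL (plusQF m F) hQ h2 hdim hneg' ⟨L, hLG⟩ hLO]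
    change ¬ (L ∈ OmegaGL (⇑(plusQF m F)))
    rw [hLΩ]
    exact not_isSquare_pow_of_odd hη hη0 hmodd
  · intro hmeven
    have hneg : ∃ t : ↥(Cfsg.isometryGroup F (⇑(plusQF m F))),
        t ∈ Cfsg.Omega F (⇑(plusQF m F)) ∧
        ((t : GL (Fin m ⊕ Fin m) F) : Matrix (Fin m ⊕ Fin m) (Fin m ⊕ Fin m) F) = -1 := by
      apply hiff.mpr
      rw [pow_mod_four_eq_one_iff _ _ hq]
      rintro ⟨h3, -⟩
      exact (Nat.not_even_iff_odd.mpr h3) hmeven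
    have hneg' := (neg_one_mem_Omega_iff_negGL (⇑(plusQF m F))).mp hneg
    obtain ⟨g₀, hg₀S, hg₀⟩ := exists_special_spin_neg (plusQF m F) hQ h2 hdim2
    have hSO_le : Cfsg.specialIsometryGL F (⇑(plusQF m F)) ≤
        Cfsg.Geo.quadSimilarityGroup (⇑(plusQF m F)) :=
      le_trans inf_le_left (isometryGroup_le_similarity (⇑(plusQF m F)))
    set a₀ : ↥(Cfsg.Geo.quadSimilarityGroup (⇑(plusQF m F))) := ⟨g₀, hSO_le hg₀S⟩ with ha₀
    have haP : simAut (⇑(plusQF m F)) a₀ ∈ Cfsg.psoAut F (⇑(plusQF m F)) := by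
      rw [psoAut_eq]
      exact ⟨a₀, hg₀S, rfl⟩
    have hbI : simAut (⇑(plusQF m F)) δ ∉ Cfsg.Inn (Cfsg.POmega F (⇑(plusQF m F))) :=
      fun h => hδP (hIP h)
    apply exists_hom_klein _ (hidx4 hneg) ⟨simAut (⇑(plusQF m F)) a₀, hPD haP⟩
      ⟨simAut (⇑(plusQF m F)) δ, hδD⟩
    · rw [Subgroup.mem_subgroupOf]
      change simAut (⇑(plusQF m F)) a₀ * simAut (⇑(plusQF m F)) a₀ ∈ _
      rw [← map_mul]
      apply simAut_mem_Inn_of_mem
      change g₀ * g₀ ∈ OmegaGL (⇑(plusQF m F))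
      rw [mem_OmegaGL_iff_spin (plusQF m F) hQ h2 hdim2 _ (Subgroup.mul_mem _ hg₀S hg₀S),
        spin_mul_matrix (plusQF m F) hQ h2 _ _ hg₀S.1 hg₀S.1, hg₀]
      decide
    · rw [Subgroup.mem_subgroupOf]
      change simAut (⇑(plusQF m F)) δ * simAut (⇑(plusQF m F)) δ ∈ _
      rw [hδsq]
      apply simAut_mem_Inn_of_mem
      change L ∈ OmegaGL (⇑(plusQF m F))
      rw [hLΩ]
      exact isSquare_pow_of_even η hmeven
    · rw [Subgroup.mem_subgroupOf]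
      change simAut (⇑(plusQF m F)) a₀ ∉ _
      rw [simAut_mem_Inn_iff_mem_OmegaGL (plusQF m F) hQ h2 hdim hneg' a₀ hg₀S.1]
      change ¬ (g₀ ∈ OmegaGL (⇑(plusQF m F)))
      rw [mem_OmegaGL_iff_spin (plusQF m F) hQ h2 hdim2 _ hg₀S, hg₀]
      decide
    · rw [Subgroup.mem_subgroupOf]
      exact hbI
    · rw [Subgroup.mem_subgroupOf]
      change (simAut (⇑(plusQF m F)) a₀)⁻¹ * simAut (⇑(plusQF m F)) δ ∉ _
      intro h
      apply hδP
      have h3 := Subgroup.mul_mem _ haP (hIP h)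
      rw [mul_inv_cancel_left] at h3
      exact h3

end Cfsg.Agent.Lib.Helper36
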