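import Mathlib
import Cfsg.Agent.Lib.Helper36.InndiagMinus
import Cfsg.Agent.Lib.Helper36.InndiagPlus3

set_option autoImplicit false
set_option linter.unusedSectionVars false

/-!
# `Inndiag(PΩ⁻_{2m+2}(q)) / Inn(PΩ⁻_{2m+2}(q))` for odd `q`: `C₄` or `C₂`
-/

namespace Cfsg.Agent.Lib.Helper36

open Module Matrix Cfsg.Agent.Lib.Helper13 Cfsg.Agent.S0791

universe u

variable {F : Type u} [Field F] [Fintype F] [DecidableEq F]

set_option maxHeartbeats 1600000 in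
/-- **The structure of `Inndiag(PΩ⁻_{2m+2}(q)) / Inn(PΩ⁻_{2m+2}(q))`** for the bundled form. -/
theorem inndiag_minus_structure (hodd : Odd (Fintype.card F)) {m : ℕ} (hm : 3 ≤ m) (a b : F)
    (hab : ∀ z₁ z₂ : F, z₁ ^ 2 + a * z₁ * z₂ + b * z₂ ^ 2 = 0 → z₁ = 0 ∧ z₂ = 0) :
    ((Even m ∧ Fintype.card F % 4 = 3) →
      ∃ φ : ↥(inndiagMinusOf m a b (⇑(minusForm m F a b))) →* Multiplicative (ZMod 4),
        Function.Surjective φ ∧
        φ.ker = (Cfsg.Inn (Cfsg.POmega F (⇑(minusForm m F a b)))).subgroupOf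
          (inndiagMinusOf m a b (⇑(minusForm m F a b)))) ∧
    (¬ (Even m ∧ Fintype.card F % 4 = 3) →
      ∃ φ : ↥(inndiagMinusOf m a b (⇑(minusForm m F a b))) →* Multiplicative (ZMod 2),
        Function.Surjective φ ∧
        φ.ker = (Cfsg.Inn (Cfsg.POmega F (⇑(minusForm m F a b)))).subgroupOf
          (inndiagMinusOf m a b (⇑(minusForm m F a b)))) := by
  have h2 : (2 : F) ≠ 0 := two_ne_zero_of_odd_card hodd
  have hq : Fintype.card F % 2 = 1 := Nat.odd_iff.mp hodd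
  have hQ := minusForm_nondeg h2 m a b hab
  have hcard := card_minus_index m
  have hdim : 5 ≤ Fintype.card ((Fin m ⊕ Fin m) ⊕ Fin 2) := by rw [hcard]; omega
  have hdim2 : 2 ≤ Fintype.card ((Fin m ⊕ Fin m) ⊕ Fin 2) := by omega
  have hdim' : 2 ≤ finrank F ((Fin m ⊕ Fin m) ⊕ Fin 2 → F) := by
    rw [Module.finrank_fintype_fun_eq_card]
    exact hdim2
  have heven : Even (Fintype.card ((Fin m ⊕ Fin m) ⊕ Fin 2)) := by
    rw [hcard]; exact even_two_mul (m + 1)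
  obtain ⟨v₀, hv₀'⟩ := exists_Q_eq (minusForm m F a b) hQ h2 hdim' 1 one_ne_zero
  have hv₀ : minusForm m F a b v₀ ≠ 0 := by rw [hv₀']; exact one_ne_zero
  have hchar : ringChar F ≠ 2 := by
    intro h
    apply h2
    have : ((2 : ℕ) : F) = 0 := by
      rw [← h]; exact ringChar.Nat.cast_ringChar
    exact_mod_cast this
  -- a similarity with non-square multiplier in the kernel of `psi2`
  obtain ⟨η, hη⟩ := FiniteField.exists_nonsquare hchar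
  have hη0 : η ≠ 0 := by
    rintro rfl
    exact hη IsSquare.zero
  obtain ⟨s₀, t₀, hst₀⟩ := exists_binary_eq hq h2 a b hab η
  obtain ⟨d₀, hd₀sim, hd₀det⟩ := exists_similarity_minus_det m a b s₀ t₀ (Units.mk0 η hη0)
    (by rw [Units.val_mk0]; exact hst₀.symm)
  have hd₀sim' : ∀ v, minusForm m F a b
      ((d₀ : Matrix ((Fin m ⊕ Fin m) ⊕ Fin 2) ((Fin m ⊕ Fin m) ⊕ Fin 2) F) *ᵥ v) =
      ((Units.mk0 η hη0 : Fˣ) : F) * minusForm m F a b v := by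
    intro v
    rw [minusForm_coe]
    exact hd₀sim v
  obtain ⟨δ₀, hδ₀⟩ : ∃ δ : ↥(Cfsg.Geo.quadSimilarityGroup (⇑(minusForm m F a b))),
      (δ : GL ((Fin m ⊕ Fin m) ⊕ Fin 2) F) = d₀ := ⟨⟨d₀, ⟨Units.mk0 η hη0, hd₀sim'⟩⟩, rfl⟩
  have hδ₀mult : mult (minusForm m F a b) v₀ hv₀ δ₀ = Units.mk0 η hη0 := by
    apply mult_eq
    rw [hδ₀]
    exact hd₀sim'
  have hδ₀delta : deltaHom (minusForm m F a b) v₀ hv₀ (m + 1) δ₀ = 1 := by
    rw [deltaHom_apply, hδ₀mult, hδ₀, hd₀det, mul_inv_cancel]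
  have hδ₀psi1 : psi1 (minusForm m F a b) v₀ hv₀ δ₀ = -1 := by
    unfold psi1
    rw [MonoidHom.comp_apply, hδ₀mult, ← Units.val_inj, MulChar.coe_toUnitHom,
      Units.val_neg, Units.val_one, quadraticChar_neg_one_iff_not_isSquare, Units.val_mk0]
    exact hη
  have hDeq := inndiag_minus_eq hq h2 m a b hab v₀ hv₀
  obtain ⟨φ₀, hφ₀s, hφ₀k⟩ := exists_hom_ker_psi2_mod_pso (minusForm m F a b) v₀ hv₀ (m + 1) hQ h2
    hcard hdim _ hDeq δ₀ hδ₀delta hδ₀psi1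
  have hIP := Inn_le_psoAut (⇑(minusForm m F a b))
  have hPD : Cfsg.psoAut F (⇑(minusForm m F a b)) ≤ inndiagMinusOf m a b (⇑(minusForm m F a b)) := by
    rw [psoAut_eq_map_ker_psi (minusForm m F a b) v₀ hv₀ (m + 1) hQ h2 hcard, hDeq]
    apply Subgroup.map_mono
    intro g hg
    rw [MonoidHom.mem_ker] at hg ⊢
    exact ((psi_eq_one_iff _ _ _ _ _ _ _ _).mp hg).2
  have hPD2 : (Cfsg.psoAut F (⇑(minusForm m F a b))).relIndex
      (inndiagMinusOf m a b (⇑(minusForm m F a b))) = 2 := by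
    change ((Cfsg.psoAut F (⇑(minusForm m F a b))).subgroupOf
      (inndiagMinusOf m a b (⇑(minusForm m F a b)))).index = 2
    rw [← hφ₀k, Subgroup.index_ker, MonoidHom.range_eq_top.mpr hφ₀s, Subgroup.card_top,
      Nat.card_eq_fintype_card]
    rfl
  obtain ⟨hI2, hI1⟩ := relIndex_Inn_psoAut (minusForm m F a b) hQ h2 hdim heven
  have hiff : (∃ t : ↥(Cfsg.isometryGroup F (Cfsg.quadFormMinus m F a b)),
      t ∈ Cfsg.Omega F (Cfsg.quadFormMinus m F a b) ∧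
      ((t : GL ((Fin m ⊕ Fin m) ⊕ Fin 2) F) :
        Matrix ((Fin m ⊕ Fin m) ⊕ Fin 2) ((Fin m ⊕ Fin m) ⊕ Fin 2) F) = -1) ↔
      Fintype.card F ^ (m + 1) % 4 = 3 :=
    Cfsg.Agent.S0791.result (F := F) rfl hodd (m + 1) (by omega) a b hab
  rw [← minusForm_coe m F a b] at hiff
  have hpar : (Even m ∧ Fintype.card F % 4 = 3) ↔ Fintype.card F ^ (m + 1) % 4 = 3 := by
    rw [pow_mod_four_eq_three_iff _ _ hq, Nat.odd_add_one, Nat.not_odd_iff_even]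
  constructor
  · rintro ⟨hmeven, hq3⟩
    have hneg := hiff.mpr (hpar.mp ⟨hmeven, hq3⟩)
    have hneg' := (neg_one_mem_Omega_iff_negGL (⇑(minusForm m F a b))).mp hneg
    have hnormal : ((Cfsg.Inn (Cfsg.POmega F (⇑(minusForm m F a b)))).subgroupOf
        (inndiagMinusOf m a b (⇑(minusForm m F a b)))).Normal := Subgroup.normal_subgroupOf
    have hidx4 : ((Cfsg.Inn (Cfsg.POmega F (⇑(minusForm m F a b)))).subgroupOf
        (inndiagMinusOf m a b (⇑(minusForm m F a b)))).index = 4 := by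
      change (Cfsg.Inn (Cfsg.POmega F (⇑(minusForm m F a b)))).relIndex
        (inndiagMinusOf m a b (⇑(minusForm m F a b))) = 4
      rw [← Subgroup.relIndex_mul_relIndex _ _ _ hIP hPD, hI2 hneg, hPD2]
    -- `-1` is a non-square
    have hnsq : ¬ IsSquare (((-1 : Fˣ) : Fˣ) : F) := by
      rw [Units.val_neg, Units.val_one, FiniteField.isSquare_neg_one_iff]
      omega
    obtain ⟨s, t, hst⟩ := exists_binary_eq hq h2 a b hab (-1)
    obtain ⟨g₁, hg₁sim, hg₁sq, hg₁det⟩ := exists_similarity_minus_neg m a b s t hst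
    have hg₁sim' : ∀ v, minusForm m F a b
        ((g₁ : Matrix ((Fin m ⊕ Fin m) ⊕ Fin 2) ((Fin m ⊕ Fin m) ⊕ Fin 2) F) *ᵥ v) =
        (((-1 : Fˣ) : Fˣ) : F) * minusForm m F a b v := by
      intro v
      rw [minusForm_coe, Units.val_neg, Units.val_one]
      exact hg₁sim v
    obtain ⟨r₁, hr₁O, hr₁⟩ := exists_reflection_similarity (minusForm m F a b) v₀ hv₀
    obtain ⟨hcS, hcspin⟩ := commutator_refl_similarity (minusForm m F a b) hQ v₀ hv₀'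
      (r₁ : GL ((Fin m ⊕ Fin m) ⊕ Fin 2) F) g₁ hr₁ (-1) hnsq hg₁sim'
    obtain ⟨δ₁, hδ₁⟩ : ∃ δ : ↥(Cfsg.Geo.quadSimilarityGroup (⇑(minusForm m F a b))),
        (δ : GL ((Fin m ⊕ Fin m) ⊕ Fin 2) F) = g₁ := ⟨⟨g₁, ⟨-1, hg₁sim'⟩⟩, rfl⟩
    have hδ₁mult : mult (minusForm m F a b) v₀ hv₀ δ₁ = -1 := by
      apply mult_eq
      rw [hδ₁]
      exact hg₁sim'
    have hr₁mult : mult (minusForm m F a b) v₀ hv₀ r₁ = 1 := by
      apply mult_eq
      intro v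
      rw [(mem_isometryGroup_iff' (⇑(minusForm m F a b)) _).mp hr₁O v, Units.val_one, one_mul]
    have hr₁det : Matrix.GeneralLinearGroup.det (r₁ : GL ((Fin m ⊕ Fin m) ⊕ Fin 2) F) = -1 := by
      apply Units.ext
      rw [Matrix.GeneralLinearGroup.val_det_apply, hr₁,
        reflectionMatrix_det (minusForm m F a b) v₀ hv₀, Units.val_neg, Units.val_one]
    have hxdelta : deltaHom (minusForm m F a b) v₀ hv₀ (m + 1) (r₁ * δ₁) = 1 := by
      rw [map_mul, deltaHom_apply, deltaHom_apply, hr₁mult, hδ₁mult, hr₁det, hδ₁, hg₁det, one_pow,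
        inv_one, mul_one, one_mul, Odd.neg_one_pow (Even.add_one hmeven)]
      simp
    have hxD : simAut (⇑(minusForm m F a b)) (r₁ * δ₁) ∈
        inndiagMinusOf m a b (⇑(minusForm m F a b)) := by
      rw [hDeq]
      refine ⟨r₁ * δ₁, ?_, rfl⟩
      rw [SetLike.mem_coe, MonoidHom.mem_ker, psi2_eq_one_iff]
      exact hxdelta
    have hrr : (r₁ : GL ((Fin m ⊕ Fin m) ⊕ Fin 2) F) * (r₁ : GL ((Fin m ⊕ Fin m) ⊕ Fin 2) F) = 1 := by
      apply Units.ext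
      apply matrix_eq_of_mulVec
      intro z
      rw [Units.val_mul, ← Matrix.mulVec_mulVec, hr₁, reflectionMatrix_mulVec_eq_reflLin,
        reflectionMatrix_mulVec_eq_reflLin, reflLin_reflLin (minusForm m F a b) v₀ hv₀,
        Units.val_one, Matrix.one_mulVec]
    have hrinv : (r₁ : GL ((Fin m ⊕ Fin m) ⊕ Fin 2) F)⁻¹ = (r₁ : GL ((Fin m ⊕ Fin m) ⊕ Fin 2) F) :=
      inv_eq_of_mul_eq_one_right hrr
    have hnegc : ∀ A : GL ((Fin m ⊕ Fin m) ⊕ Fin 2) F,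
        negGL ((Fin m ⊕ Fin m) ⊕ Fin 2) F * A = A * negGL ((Fin m ⊕ Fin m) ⊕ Fin 2) F :=
      fun A => Matrix.GeneralLinearGroup.scalar_commute (-1) A
    have hginv : g₁⁻¹ = negGL ((Fin m ⊕ Fin m) ⊕ Fin 2) F * g₁ := by
      apply inv_eq_of_mul_eq_one_right
      rw [← mul_assoc, ← hnegc, mul_assoc, hg₁sq, negGL_mul_self]
    have hsq : ((r₁ : GL ((Fin m ⊕ Fin m) ⊕ Fin 2) F) * g₁) *
        ((r₁ : GL ((Fin m ⊕ Fin m) ⊕ Fin 2) F) * g₁) =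
        Matrix.GeneralLinearGroup.scalar ((Fin m ⊕ Fin m) ⊕ Fin 2) (-1 : Fˣ) *
          ((r₁ : GL ((Fin m ⊕ Fin m) ⊕ Fin 2) F) * g₁ *
            (r₁ : GL ((Fin m ⊕ Fin m) ⊕ Fin 2) F)⁻¹ * g₁⁻¹) := by
      change _ = negGL ((Fin m ⊕ Fin m) ⊕ Fin 2) F * _
      rw [hrinv, hginv]
      have e1 : (r₁ : GL ((Fin m ⊕ Fin m) ⊕ Fin 2) F) * g₁ *
          (r₁ : GL ((Fin m ⊕ Fin m) ⊕ Fin 2) F) * (negGL ((Fin m ⊕ Fin m) ⊕ Fin 2) F * g₁) =
          negGL ((Fin m ⊕ Fin m) ⊕ Fin 2) F *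
            ((r₁ : GL ((Fin m ⊕ Fin m) ⊕ Fin 2) F) * g₁ *
              ((r₁ : GL ((Fin m ⊕ Fin m) ⊕ Fin 2) F) * g₁)) := by
        rw [← mul_assoc, mul_assoc _ _ (negGL ((Fin m ⊕ Fin m) ⊕ Fin 2) F), ← hnegc,
          ← mul_assoc, ← hnegc]
        simp only [mul_assoc]
      rw [e1, ← mul_assoc (negGL ((Fin m ⊕ Fin m) ⊕ Fin 2) F) (negGL ((Fin m ⊕ Fin m) ⊕ Fin 2) F),
        negGL_mul_self, one_mul]
    have hcG : (r₁ : GL ((Fin m ⊕ Fin m) ⊕ Fin 2) F) * g₁ *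
        (r₁ : GL ((Fin m ⊕ Fin m) ⊕ Fin 2) F)⁻¹ * g₁⁻¹ ∈
        Cfsg.Geo.quadSimilarityGroup (⇑(minusForm m F a b)) :=
      isometryGroup_le_similarity _ hcS.1
    apply exists_hom_zmod_four _ hidx4 ⟨simAut (⇑(minusForm m F a b)) (r₁ * δ₁), hxD⟩
    rw [Subgroup.mem_subgroupOf]
    change simAut (⇑(minusForm m F a b)) (r₁ * δ₁) * simAut (⇑(minusForm m F a b)) (r₁ * δ₁) ∉ _
    have hsq' : (((r₁ * δ₁) * (r₁ * δ₁) : ↥(Cfsg.Geo.quadSimilarityGroup (⇑(minusForm m F a b)))) :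
        GL ((Fin m ⊕ Fin m) ⊕ Fin 2) F) =
        Matrix.GeneralLinearGroup.scalar ((Fin m ⊕ Fin m) ⊕ Fin 2) (-1 : Fˣ) *
          ((r₁ : GL ((Fin m ⊕ Fin m) ⊕ Fin 2) F) * g₁ *
            (r₁ : GL ((Fin m ⊕ Fin m) ⊕ Fin 2) F)⁻¹ * g₁⁻¹) := by
      rw [Subgroup.coe_mul, Subgroup.coe_mul, hδ₁]
      exact hsq
    rw [← map_mul, simAut_eq_of_scalar_mul (⇑(minusForm m F a b)) ((r₁ * δ₁) * (r₁ * δ₁))
      ⟨_, hcG⟩ (-1) hsq', simAut_mem_Inn_iff_spin (minusForm m F a b) hQ h2 hdim hneg' ⟨_, hcG⟩ hcS]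
    change ¬ spin (minusForm m F a b) (glLinEquiv ((Fin m ⊕ Fin m) ⊕ Fin 2) F
      ((r₁ : GL ((Fin m ⊕ Fin m) ⊕ Fin 2) F) * g₁ *
        (r₁ : GL ((Fin m ⊕ Fin m) ⊕ Fin 2) F)⁻¹ * g₁⁻¹)) = 1
    rw [hcspin]
    decide
  · intro hc
    have hnneg : ¬ ∃ t : ↥(Cfsg.isometryGroup F (⇑(minusForm m F a b))),
        t ∈ Cfsg.Omega F (⇑(minusForm m F a b)) ∧
        ((t : GL ((Fin m ⊕ Fin m) ⊕ Fin 2) F) :
          Matrix ((Fin m ⊕ Fin m) ⊕ Fin 2) ((Fin m ⊕ Fin m) ⊕ Fin 2) F) = -1 := by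
      intro hneg
      exact hc (hpar.mpr (hiff.mp hneg))
    have hIeq := Inn_eq_psoAut_of_relIndex _ (hI1 hnneg)
    refine ⟨φ₀, hφ₀s, ?_⟩
    rw [hφ₀k, hIeq]

/-- Version of `inndiag_minus_structure` for a function propositionally equal to the form. -/
theorem inndiag_minus_structure_of_eq {m : ℕ} (a b : F)
    (f : ((Fin m ⊕ Fin m) ⊕ Fin 2 → F) → F) (hf : ⇑(minusForm m F a b) = f)
    (hodd : Odd (Fintype.card F)) (hm : 3 ≤ m)
    (hab : ∀ z₁ z₂ : F, z₁ ^ 2 + a * z₁ * z₂ + b * z₂ ^ 2 = 0 → z₁ = 0 ∧ z₂ = 0) :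
    ((Even m ∧ Fintype.card F % 4 = 3) →
      ∃ φ : ↥(inndiagMinusOf m a b f) →* Multiplicative (ZMod 4), Function.Surjective φ ∧
        φ.ker = (Cfsg.Inn (Cfsg.POmega F f)).subgroupOf (inndiagMinusOf m a b f)) ∧
    (¬ (Even m ∧ Fintype.card F % 4 = 3) →
      ∃ φ : ↥(inndiagMinusOf m a b f) →* Multiplicative (ZMod 2), Function.Surjective φ ∧
        φ.ker = (Cfsg.Inn (Cfsg.POmega F f)).subgroupOf (inndiagMinusOf m a b f)) := by
  subst hf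
  exact inndiag_minus_structure hodd hm a b hab

end Cfsg.Agent.Lib.Helper36
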