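import Mathlib
import Cfsg.Agent.Lib.Helper44.EichlerPerfect
import Cfsg.Agent.Lib.Helper36.SemiInv
import Cfsg.Agent.Lib.Helper36.ReflMatrix

set_option autoImplicit false
set_option linter.unusedSectionVars false
set_option linter.unusedVariables false

/-!
# Unipotent one-parameter families in `Ω(Q)` from Eichler transformations

For singular orthogonal vectors `p, w` the matrices `1 + t N` (`N z = f(w,z) p - f(p,z) w`)
all lie in `Ω(Q)` (dimension at least `7`).
-/

namespace Cfsg.Agent.Lib.Helper36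

open Matrix Cfsg.Agent.Lib.Helper44 Cfsg.Agent.Lib.Helper13

variable {ι : Type} [Fintype ι] [DecidableEq ι] {F : Type*} [Field F]

local notation "pol" => QuadraticMap.polar

/-- The nilpotent matrix of the Eichler family. -/
def eichN (Q : (ι → F) → F) (p w : ι → F) : Matrix ι ι F :=
  vecMulVec p (gramStd Q *ᵥ w) - vecMulVec w (gramStd Q *ᵥ p)

theorem gram_mulVec_dot (Q : QuadraticForm F (ι → F)) (w z : ι → F) :
    (gramStd (⇑Q) *ᵥ w) ⬝ᵥ z = pol (⇑Q) w z := by
  rw [dotProduct_comm, ← polar_eq_gram, QuadraticMap.polar_comm]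

theorem eichN_mulVec (Q : QuadraticForm F (ι → F)) (p w z : ι → F) :
    eichN (⇑Q) p w *ᵥ z = pol (⇑Q) w z • p - pol (⇑Q) p z • w := by
  unfold eichN
  rw [Matrix.sub_mulVec, vecMulVec_mulVec, vecMulVec_mulVec, gram_mulVec_dot, gram_mulVec_dot,
    op_smul_eq_smul, op_smul_eq_smul]

theorem eichN_mul_self (Q : QuadraticForm F (ι → F)) (p w : ι → F) (hp : Q p = 0) (hw : Q w = 0)
    (hpw : pol (⇑Q) p w = 0) : eichN (⇑Q) p w * eichN (⇑Q) p w = 0 := by
  apply matrix_eq_of_mulVec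
  intro z
  have hpp : pol (⇑Q) p p = 0 := by
    rw [QuadraticMap.polar_self, hp, smul_zero]
  have hww : pol (⇑Q) w w = 0 := by
    rw [QuadraticMap.polar_self, hw, smul_zero]
  have hwp : pol (⇑Q) w p = 0 := by rw [QuadraticMap.polar_comm]; exact hpw
  rw [← Matrix.mulVec_mulVec, eichN_mulVec Q p w z, eichN_mulVec, Matrix.zero_mulVec,
    QuadraticMap.polar_sub_right, QuadraticMap.polar_sub_right,
    QuadraticMap.polar_smul_right, QuadraticMap.polar_smul_right,
    QuadraticMap.polar_smul_right, QuadraticMap.polar_smul_right, hpp, hww, hpw, hwp]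
  simp

theorem one_add_smul_eichN_mulVec (Q : QuadraticForm F (ι → F)) (p w : ι → F) (hw : Q w = 0)
    (t : F) (z : ι → F) :
    (1 + t • eichN (⇑Q) p w) *ᵥ z = siegelLin Q p (t • w) z := by
  rw [siegelLin_apply, Matrix.add_mulVec, Matrix.one_mulVec, Matrix.smul_mulVec, eichN_mulVec,
    QuadraticMap.polar_smul_left, QuadraticMap.map_smul, hw]
  simp only [smul_eq_mul, mul_zero, zero_mul, sub_zero, smul_sub, smul_smul]
  rw [add_sub_assoc, mul_comm (pol (⇑Q) p z) t]

/-- Eichler transformations lie in `Ω(Q)` (matrix version). -/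
theorem exists_Omega_eich [Fintype F] (Q : QuadraticForm F (ι → F))
    (hQ : (QuadraticMap.polarBilin Q).Nondegenerate) (h7 : 7 ≤ Fintype.card ι)
    (p w : ι → F) (hp : Q p = 0) (hpw : pol (⇑Q) p w = 0) :
    ∃ s : ↥(Cfsg.Omega F (⇑Q)), ∀ z : ι → F,
      (((s : ↥(Cfsg.isometryGroup F (⇑Q))) : GL ι F) : Matrix ι ι F) *ᵥ z = siegelLin Q p w z := by
  have h7' : 7 ≤ Module.finrank F (ι → F) := by
    rw [Module.finrank_fintype_fun_eq_card]
    exact h7
  have hmem : eichG Q p w hp hpw ∈ commutator ↥(isoGroup Q) :=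
    KE_le_commutator Q hQ h7' (eichG_mem_KE Q p w hp hpw)
  set s₁ : ↥(Cfsg.isometryGroup F (⇑Q)) := (isometryGroupEquiv Q).symm (eichG Q p w hp hpw)
    with hs₁
  have hs₁mem : s₁ ∈ commutator ↥(Cfsg.isometryGroup F (⇑Q)) := by
    rw [mem_commutator_iff_equiv (isometryGroupEquiv Q), hs₁, MulEquiv.apply_symm_apply]
    exact hmem
  refine ⟨⟨s₁, hs₁mem⟩, ?_⟩
  intro z
  rw [← isometryGroupEquiv_apply Q s₁ z, hs₁, MulEquiv.apply_symm_apply, eichG_apply]

/-- The unipotent family `1 + t N` lies in `Ω(Q)`. -/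
theorem exists_Omega_unipotent [Fintype F] (Q : QuadraticForm F (ι → F))
    (hQ : (QuadraticMap.polarBilin Q).Nondegenerate) (h7 : 7 ≤ Fintype.card ι)
    (p w : ι → F) (hp : Q p = 0) (hw : Q w = 0) (hpw : pol (⇑Q) p w = 0) (t : F) :
    ∃ s : ↥(Cfsg.Omega F (⇑Q)),
      (((s : ↥(Cfsg.isometryGroup F (⇑Q))) : GL ι F) : Matrix ι ι F) =
        1 + t • eichN (⇑Q) p w := by
  obtain ⟨s, hs⟩ := exists_Omega_eich Q hQ h7 p (t • w) hp
    (by rw [QuadraticMap.polar_smul_right, hpw, smul_zero])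
  refine ⟨s, ?_⟩
  apply matrix_eq_of_mulVec
  intro z
  rw [hs, one_add_smul_eichN_mulVec Q p w hw]

end Cfsg.Agent.Lib.Helper36
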