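/-
helper36: ASCHO-[C7TWO].  `geoO_of_kronecker_eq_of`: the d = e case of the tensor normal form, with the similarity of
the two factor forms ([FORMCLASS]) as a hypothesis; class 7 with t = 2.
-/
import Mathlib
import Cfsg.Prelude.Def_GeometricClasses
import Cfsg.Agent.Lib.Helper99.AschDefs
import Cfsg.Agent.Lib.Helper5.AschODefs
import Cfsg.Agent.Lib.Helper5.AschOBasic
import Cfsg.Agent.Lib.Helper25.AschC4Aux

set_option autoImplicit false
set_option linter.unusedSectionVars false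
set_option linter.unusedVariables false

namespace Cfsg.Agent.Lib.Helper36.AschOC7Two

open Cfsg Cfsg.Geo Cfsg.Agent.Lib.Helper99.Asch Cfsg.Agent.Lib.Helper5.AschO
open Cfsg.Agent.Lib.Helper25.AschC4
open scoped MatrixGroups Matrix Kronecker

variable {n : ℕ} {F : Type*} [Field F]

/-- reindexed matrix acting on a reindexed vector -/
theorem reindex_mulVec_comp {κ : Type} [Fintype κ] [DecidableEq κ] (e : Fin n ≃ κ)
    (M : Matrix κ κ F) (x : κ → F) :
    (Matrix.reindex e.symm e.symm M) *ᵥ (x ∘ e) = (M *ᵥ x) ∘ e := by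
  ext i
  simp only [Matrix.mulVec, dotProduct, Matrix.reindex_apply, Matrix.submatrix_apply,
    Equiv.symm_symm, Function.comp_apply]
  exact Equiv.sum_comp e (fun k => M (e i) k * x k)

theorem dot_transpose {κ : Type} [Fintype κ] (T : Matrix κ κ F) (x w : κ → F) :
    x ⬝ᵥ (Tᵀ *ᵥ w) = (T *ᵥ x) ⬝ᵥ w := by
  rw [Matrix.dotProduct_mulVec, Matrix.vecMul_transpose]

theorem dot_conj {κ : Type} [Fintype κ] (T G : Matrix κ κ F) (x y : κ → F) :
    (T *ᵥ x) ⬝ᵥ (G *ᵥ (T *ᵥ y)) = x ⬝ᵥ ((Tᵀ * G * T) *ᵥ y) := by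
  rw [← Matrix.mulVec_mulVec, ← Matrix.mulVec_mulVec, dot_transpose]

theorem formOfGram_id_eq {κ : Type} [Fintype κ] (G : Matrix κ κ F) (x y : κ → F) :
    formOfGram id G x y = x ⬝ᵥ (G *ᵥ y) := by
  simp only [formOfGram, dotProduct, Matrix.mulVec, id, Finset.mul_sum, mul_assoc]

/-- the Gram matrices of two similar bilinear forms -/
theorem gram_of_similar {d : ℕ} (f₁ f₂ : (Fin d → F) → (Fin d → F) → F) (h₂ : IsBilinearForm f₂)
    (A : Matrix (Fin d) (Fin d) F) (c : F)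
    (hA : ∀ u v, f₂ (A *ᵥ u) (A *ᵥ v) = c * f₁ u v) :
    Aᵀ * gramMatrix f₂ * A = c • gramMatrix f₁ := by
  ext a b
  have e1 : (Aᵀ * gramMatrix f₂ * A) a b =
      Pi.single a 1 ⬝ᵥ ((Aᵀ * gramMatrix f₂ * A) *ᵥ Pi.single b 1) := by
    rw [Matrix.mulVec_single_one, single_one_dotProduct]
    rfl
  rw [e1, ← dot_conj, ← bilin_eq_dotProduct h₂, hA]
  rfl

end Cfsg.Agent.Lib.Helper36.AschOC7Two

namespace Cfsg.Agent.Lib.Helper5.AschO

open Cfsg Cfsg.Geo Cfsg.Agent.Lib.Helper99.Asch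
open Cfsg.Agent.Lib.Helper25.AschC4 Cfsg.Agent.Lib.Helper36.AschOC7Two
open scoped MatrixGroups Matrix Kronecker

variable {n : ℕ} {F : Type*} [Field F] [Fintype F]

/-- ASCHO-[C7TWO], with the conclusion of [FORMCLASS] for the pair `f₁, f₂` as a hypothesis. -/
theorem geoO_of_kronecker_eq_of {Q : (Fin n → F) → F} {H : Subgroup (GL (Fin n) F)} (hS : OSetup Q H)
    (d : ℕ) (hd : 2 ≤ d) (h33 : ¬ (Fintype.card F = 3 ∧ d = 3)) (idx : Fin n ≃ Fin d × Fin d) (B : GL (Fin n) F)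
    (hHk : ∀ h ∈ H, ∃ (a : GL (Fin d) F) (b : GL (Fin d) F),
      ((B * h * B⁻¹ : GL (Fin n) F) : Matrix (Fin n) (Fin n) F) =
      Matrix.reindex idx.symm idx.symm ((a : Matrix (Fin d) (Fin d) F) ⊗ₖ (b : Matrix (Fin d) (Fin d) F)))
    (f₁ : (Fin d → F) → (Fin d → F) → F) (f₂ : (Fin d → F) → (Fin d → F) → F)
    (h₁ : IsSymmetricForm f₁) (h₂ : IsSymmetricForm f₂)
    (hT : IsTensorFormStructure id (QuadraticMap.polar Q) f₁ f₂ idx B⁻¹)
    (hsim : ∃ (A : GL (Fin d) F) (c : F), c ≠ 0 ∧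
      ∀ u v, f₂ ((A : Matrix (Fin d) (Fin d) F) *ᵥ u) ((A : Matrix (Fin d) (Fin d) F) *ᵥ v) = c * f₁ u v) :
    GeoO Q H := by
  classical
  obtain ⟨A, c', hc', hA⟩ := hsim
  obtain ⟨c, hc, hform⟩ := hT
  -- `d` is odd, so `3 ≤ d`
  have hn : n = d * d := by
    have := Fintype.card_congr idx
    simpa using this
  have hdodd : Odd d := by
    have h := hS.odd_dim
    rw [hn] at h
    exact (Nat.odd_mul.1 h).1
  have hd3 : 3 ≤ d := by
    rcases hdodd with ⟨k, hk⟩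
    omega
  have hG : (A : Matrix (Fin d) (Fin d) F)ᵀ * gramMatrix f₂ * (A : Matrix (Fin d) (Fin d) F) =
      c' • gramMatrix f₁ := gram_of_similar f₁ f₂ h₂.bilinear _ c' hA
  -- the base change `1 ⊗ A` in the second factor
  let T : Matrix (Fin d × Fin d) (Fin d × Fin d) F :=
    (1 : Matrix (Fin d) (Fin d) F) ⊗ₖ (A : Matrix (Fin d) (Fin d) F)
  let Ti : Matrix (Fin d × Fin d) (Fin d × Fin d) F :=
    (1 : Matrix (Fin d) (Fin d) F) ⊗ₖ ((A⁻¹ : GL (Fin d) F) : Matrix (Fin d) (Fin d) F)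
  have hTTi : T * Ti = 1 := by
    show (1 : Matrix (Fin d) (Fin d) F) ⊗ₖ (A : Matrix (Fin d) (Fin d) F) *
      (1 : Matrix (Fin d) (Fin d) F) ⊗ₖ ((A⁻¹ : GL (Fin d) F) : Matrix (Fin d) (Fin d) F) = 1
    rw [← Matrix.mul_kronecker_mul, one_mul, ← Units.val_mul, mul_inv_cancel, Units.val_one,
      Matrix.one_kronecker_one]
  have hTiT : Ti * T = 1 := by
    show (1 : Matrix (Fin d) (Fin d) F) ⊗ₖ ((A⁻¹ : GL (Fin d) F) : Matrix (Fin d) (Fin d) F) *
      (1 : Matrix (Fin d) (Fin d) F) ⊗ₖ (A : Matrix (Fin d) (Fin d) F) = 1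
    rw [← Matrix.mul_kronecker_mul, one_mul, ← Units.val_mul, inv_mul_cancel, Units.val_one,
      Matrix.one_kronecker_one]
  let Tg : GL (Fin d × Fin d) F := ⟨T, Ti, hTTi, hTiT⟩
  let T' : GL (Fin n) F := glReindex idx.symm Tg
  let B' : GL (Fin n) F := T'⁻¹ * B
  have hB'inv : B'⁻¹ = B⁻¹ * T' := by
    show (T'⁻¹ * B)⁻¹ = B⁻¹ * T'
    rw [mul_inv_rev, inv_inv]
  have hB'val : ∀ x : Fin d × Fin d → F,
      ((B'⁻¹ : GL (Fin n) F) : Matrix (Fin n) (Fin n) F) *ᵥ (x ∘ idx) =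
        ((B⁻¹ : GL (Fin n) F) : Matrix (Fin n) (Fin n) F) *ᵥ ((T *ᵥ x) ∘ idx) := by
    intro x
    rw [hB'inv, Units.val_mul, ← Matrix.mulVec_mulVec]
    congr 1
    show (Matrix.reindex idx.symm idx.symm T) *ᵥ (x ∘ idx) = _
    exact reindex_mulVec_comp idx T x
  have hTG : Tᵀ * (gramMatrix f₁ ⊗ₖ gramMatrix f₂) * T = c' • (gramMatrix f₁ ⊗ₖ gramMatrix f₁) := by
    show ((1 : Matrix (Fin d) (Fin d) F) ⊗ₖ (A : Matrix (Fin d) (Fin d) F))ᵀ *
      (gramMatrix f₁ ⊗ₖ gramMatrix f₂) *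
      ((1 : Matrix (Fin d) (Fin d) F) ⊗ₖ (A : Matrix (Fin d) (Fin d) F)) = _
    rw [← Matrix.kroneckerMap_transpose, Matrix.transpose_one, ← Matrix.mul_kronecker_mul,
      ← Matrix.mul_kronecker_mul, one_mul, mul_one, hG, Matrix.kronecker_smul]
  have hform' : ∀ x y : Fin d × Fin d → F,
      QuadraticMap.polar Q (((B'⁻¹ : GL (Fin n) F) : Matrix (Fin n) (Fin n) F) *ᵥ (x ∘ idx))
        (((B'⁻¹ : GL (Fin n) F) : Matrix (Fin n) (Fin n) F) *ᵥ (y ∘ idx)) =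
      c * c' * (x ⬝ᵥ ((gramMatrix f₁ ⊗ₖ gramMatrix f₁) *ᵥ y)) := by
    intro x y
    rw [hB'val, hB'val, hform, formOfGram_id_eq, dot_conj, hTG, Matrix.smul_mulVec,
      dotProduct_smul, smul_eq_mul, mul_assoc]
  let π := piFinTwoEquiv (fun _ => Fin d)
  let e' : Fin n ≃ (Fin 2 → Fin d) := idx.trans π.symm
  refine GeoO.of_7 hS.le e' B'⁻¹ f₁ hd3 le_rfl h33 h₁ ⟨c * c', mul_ne_zero hc hc', ?_⟩ ?_
  · intro x y
    have hx : x ∘ e' = (x ∘ π.symm) ∘ idx := rfl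
    have hy : y ∘ e' = (y ∘ π.symm) ∘ idx := rfl
    rw [hx, hy, hform']
    congr 1
    rw [← Equiv.sum_comp π.symm]
    simp only [dotProduct, Matrix.mulVec, Finset.mul_sum]
    refine Finset.sum_congr rfl fun p _ => ?_
    rw [← Equiv.sum_comp π.symm]
    refine Finset.sum_congr rfl fun q _ => ?_
    simp only [Function.comp_apply, Fin.prod_univ_two, Matrix.kroneckerMap_apply, id, π,
      piFinTwoEquiv_symm_apply, Fin.cons_zero, Fin.cons_one]
    ring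
  · intro h hh
    obtain ⟨a, b, hab⟩ := hHk h hh
    apply mem_conj_reindex e' B' h
    apply Subgroup.subset_closure
    left
    refine ⟨![a, A⁻¹ * b * A], ?_⟩
    intro x y
    have hconj : B' * h * B'⁻¹ = T'⁻¹ * (B * h * B⁻¹) * T' := by
      rw [hB'inv]
      show T'⁻¹ * B * h * (B⁻¹ * T') = _
      group
    have hval : ((B' * h * B'⁻¹ : GL (Fin n) F) : Matrix (Fin n) (Fin n) F) =
        Matrix.reindex idx.symm idx.symm ((a : Matrix (Fin d) (Fin d) F) ⊗ₖ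
          (((A⁻¹ * b * A : GL (Fin d) F)) : Matrix (Fin d) (Fin d) F)) := by
      rw [hconj, Units.val_mul, Units.val_mul, hab]
      have h1 : ((T'⁻¹ : GL (Fin n) F) : Matrix (Fin n) (Fin n) F) =
          Matrix.reindex idx.symm idx.symm Ti := rfl
      have h2 : ((T' : GL (Fin n) F) : Matrix (Fin n) (Fin n) F) =
          Matrix.reindex idx.symm idx.symm T := rfl
      rw [h1, h2]
      simp only [Matrix.reindex_apply, Matrix.submatrix_mul_equiv]
      congr 1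
      show (1 : Matrix (Fin d) (Fin d) F) ⊗ₖ ((A⁻¹ : GL (Fin d) F) : Matrix (Fin d) (Fin d) F) *
        ((a : Matrix (Fin d) (Fin d) F) ⊗ₖ (b : Matrix (Fin d) (Fin d) F)) *
        ((1 : Matrix (Fin d) (Fin d) F) ⊗ₖ (A : Matrix (Fin d) (Fin d) F)) = _
      rw [← Matrix.mul_kronecker_mul, ← Matrix.mul_kronecker_mul, one_mul, mul_one,
        Units.val_mul, Units.val_mul]
    rw [glReindex_val, hval, Fin.prod_univ_two]
    simp [Matrix.kroneckerMap_apply, e', π]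

end Cfsg.Agent.Lib.Helper5.AschO
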