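/-
helper36: ASCHO-[C7TWO], sheet statement `geoO_of_kronecker_eq` (wrapper of `geoO_of_kronecker_eq_of` with helper19's
[FORMCLASS]).
-/
import Mathlib
import Cfsg.Prelude.Def_GeometricClasses
import Cfsg.Agent.Lib.Helper99.AschDefs
import Cfsg.Agent.Lib.Helper5.AschODefs
import Cfsg.Agent.Lib.Helper36.AschOC7Two
import Cfsg.Agent.Lib.Helper19.AschOFormClass

set_option autoImplicit false

namespace Cfsg.Agent.Lib.Helper5.AschO

open Cfsg Cfsg.Geo Cfsg.Agent.Lib.Helper99.Asch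
open scoped MatrixGroups Matrix Kronecker

variable {n : ℕ} {F : Type*} [Field F] [Fintype F]

/-- ASCHO-[C7TWO] -/
theorem geoO_of_kronecker_eq {Q : (Fin n → F) → F} {H : Subgroup (GL (Fin n) F)} (hS : OSetup Q H)
    (d : ℕ) (hd : 2 ≤ d) (h33 : ¬ (Fintype.card F = 3 ∧ d = 3)) (idx : Fin n ≃ Fin d × Fin d) (B : GL (Fin n) F)
    (hHk : ∀ h ∈ H, ∃ (a : GL (Fin d) F) (b : GL (Fin d) F),
      ((B * h * B⁻¹ : GL (Fin n) F) : Matrix (Fin n) (Fin n) F) =
      Matrix.reindex idx.symm idx.symm ((a : Matrix (Fin d) (Fin d) F) ⊗ₖ (b : Matrix (Fin d) (Fin d) F)))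
    (f₁ : (Fin d → F) → (Fin d → F) → F) (f₂ : (Fin d → F) → (Fin d → F) → F)
    (h₁ : IsSymmetricForm f₁) (h₂ : IsSymmetricForm f₂)
    (hT : IsTensorFormStructure id (QuadraticMap.polar Q) f₁ f₂ idx B⁻¹) : GeoO Q H := by
  have hn : n = d * d := by
    have := Fintype.card_congr idx
    simpa using this
  have hdodd : Odd d := by
    have h := hS.odd_dim
    rw [hn] at h
    exact (Nat.odd_mul.1 h).1
  exact geoO_of_kronecker_eq_of hS d hd h33 idx B hHk f₁ f₂ h₁ h₂ hT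
    (symmetric_forms_similar_of_odd hdodd hS.odd_card f₁ f₂ h₁ h₂)

end Cfsg.Agent.Lib.Helper5.AschO
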