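/-
helper36: S2282-[ALG2] (sheet of helper53): pure field algebra for the case m = 2.
-/
import Mathlib

set_option autoImplicit false

namespace Cfsg.Agent.Lib.Helper36.SUReg

variable {F : Type*} [Field F] {σ : F →+* F}

/-- `{1, η}` is a basis of `F` over the fixed field of the involution `σ` when `σ η ≠ η`. -/
theorem exists_fix_decomp (hσ2 : ∀ x, σ (σ x) = x) (η : F) (hη : σ η ≠ η) (x : F) :
    ∃ a b : F, σ a = a ∧ σ b = b ∧ x = a + b * η := by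
  have hne : η - σ η ≠ 0 := fun h => hη (sub_eq_zero.1 h).symm
  have hne' : σ η - η ≠ 0 := fun h => hη (sub_eq_zero.1 h)
  set b := (x - σ x) / (η - σ η) with hb
  have hσb : σ b = b := by
    rw [hb, map_div₀, map_sub, map_sub, hσ2, hσ2]
    rw [div_eq_div_iff hne' hne]
    ring
  have hbm : b * (η - σ η) = x - σ x := by
    rw [hb]; field_simp
  refine ⟨x - b * η, b, ?_, hσb, by ring⟩
  rw [map_sub, map_mul, hσb]
  linear_combination hbm

theorem mem_of_eq3 {M : AddSubgroup (F × F × F)} {a b c a' b' c' : F} (h : (a, b, c) ∈ M)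
    (ha : a = a') (hb : b = b') (hc : c = c') : (a', b', c') ∈ M := by
  subst ha hb hc
  exact h

theorem sub_mem3 {M : AddSubgroup (F × F × F)} {a b c a' b' c' : F} (h : (a, b, c) ∈ M)
    (h' : (a', b', c') ∈ M) : (a - a', b - b', c - c') ∈ M := by
  have := M.sub_mem h h'
  rwa [Prod.mk_sub_mk, Prod.mk_sub_mk] at this

theorem add_mem3 {M : AddSubgroup (F × F × F)} {a b c a' b' c' : F} (h : (a, b, c) ∈ M)
    (h' : (a', b', c') ∈ M) : (a + a', b + b', c + c') ∈ M := by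
  have := M.add_mem h h'
  rwa [Prod.mk_add_mk, Prod.mk_add_mk] at this

/-- the middle coordinate axis of `M` -/
def midAx (M : AddSubgroup (F × F × F)) : AddSubgroup F where
  carrier := {x | ((0 : F), x, (0 : F)) ∈ M}
  zero_mem' := M.zero_mem
  add_mem' := by
    intro a b ha hb
    exact mem_of_eq3 (add_mem3 ha hb) (by ring) rfl (by ring)
  neg_mem' := by
    intro a ha
    exact mem_of_eq3 (sub_mem3 M.zero_mem ha) (by simp) (by simp) (by simp)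

/-- the last coordinate axis of `M` -/
def lastAx (M : AddSubgroup (F × F × F)) : AddSubgroup F where
  carrier := {x | ((0 : F), (0 : F), x) ∈ M}
  zero_mem' := M.zero_mem
  add_mem' := by
    intro a b ha hb
    exact mem_of_eq3 (add_mem3 ha hb) (by ring) (by ring) rfl
  neg_mem' := by
    intro a ha
    exact mem_of_eq3 (sub_mem3 M.zero_mem ha) (by simp) (by simp) (by simp)

theorem alg2 (hσ2 : ∀ x, σ (σ x) = x) (ζ : F) (hζ : σ ζ ≠ ζ)
    (hθ : ∀ y : F, σ y = y → y ≠ 0 → ∃ j : ℕ, y = (ζ + σ ζ) ^ j)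
    (M : AddSubgroup (F × F × F))
    (hfix : ∀ ρ ρ' : F, σ ρ = ρ → σ ρ' = ρ' → (ρ, ρ', (0 : F)) ∈ M)
    (hXi : ∀ x₁ x₂ p : F, (x₁, x₂, p) ∈ M → (x₁ + x₂ + p, x₂, p + (x₂ - σ x₂)) ∈ M)
    (hU0 : ∀ x₁ x₂ p : F, (x₁, x₂, p) ∈ M → (x₁, x₂ + x₁ + p, p + (x₁ - σ x₁)) ∈ M)
    (hU1 : ∀ x₁ x₂ p : F, (x₁, x₂, p) ∈ M →
      (x₁, x₂ + ζ * σ ζ * x₁ + p * ζ, p + (x₁ - σ x₁) * σ ζ) ∈ M)
    (y p₀ : F) (hp₀ : p₀ ≠ 0) (hz : ((0 : F), y, p₀) ∈ M) : M = ⊤ := by
  -- the three difference maps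
  have ha : ∀ x₁ x₂ p : F, (x₁, x₂, p) ∈ M → (x₂ + p, (0 : F), x₂ - σ x₂) ∈ M := by
    intro x₁ x₂ p hm
    exact mem_of_eq3 (sub_mem3 (hXi _ _ _ hm) hm) (by ring) (by ring) (by ring)
  have hd0 : ∀ x₁ x₂ p : F, (x₁, x₂, p) ∈ M → ((0 : F), x₁ + p, x₁ - σ x₁) ∈ M := by
    intro x₁ x₂ p hm
    exact mem_of_eq3 (sub_mem3 (hU0 _ _ _ hm) hm) (by ring) (by ring) (by ring)
  have hd1 : ∀ x₁ x₂ p : F, (x₁, x₂, p) ∈ M →
      ((0 : F), ζ * σ ζ * x₁ + p * ζ, (x₁ - σ x₁) * σ ζ) ∈ M := by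
    intro x₁ x₂ p hm
    exact mem_of_eq3 (sub_mem3 (hU1 _ _ _ hm) hm) (by ring) (by ring) (by ring)
  -- (i)
  have hi : ∀ x₁ x₂ p : F, (x₁, x₂, p) ∈ M → (ζ + σ ζ) * x₁ ∈ midAx M := by
    intro x₁ x₂ p hm
    have h1 := hd0 _ _ _ (hd1 _ _ _ hm)
    have h2 : ((0 : F), (x₁ - σ x₁) * σ ζ, (0 : F)) ∈ M :=
      mem_of_eq3 h1 rfl (by ring) (by rw [map_zero]; ring)
    have h3 : ((0 : F), x₁ * ζ + σ (x₁ * ζ), (0 : F)) ∈ M :=
      hfix 0 _ (map_zero σ) (by rw [map_add, hσ2, add_comm])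
    show ((0 : F), (ζ + σ ζ) * x₁, (0 : F)) ∈ M
    exact mem_of_eq3 (add_mem3 h2 h3) (by ring) (by rw [map_mul]; ring) (by ring)
  -- (ii) closure of the middle axis under θ, hence under the fixed field
  have hii : ∀ t ∈ midAx M, (ζ + σ ζ) * t ∈ midAx M := by
    intro t ht
    have h1 := ha _ _ _ ht
    have h2 : (t, (0 : F), t - σ t) ∈ M := mem_of_eq3 h1 (by ring) rfl rfl
    exact hi _ _ _ h2
  have hpow : ∀ (j : ℕ), ∀ t ∈ midAx M, (ζ + σ ζ) ^ j * t ∈ midAx M := by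
    intro j
    induction j with
    | zero => intro t ht; simpa using ht
    | succ j ih =>
      intro t ht
      rw [pow_succ, mul_assoc]
      exact ih _ (hii t ht)
  have hfixmul : ∀ c : F, σ c = c → ∀ t ∈ midAx M, c * t ∈ midAx M := by
    intro c hc t ht
    by_cases hc0 : c = 0
    · rw [hc0, zero_mul]; exact (midAx M).zero_mem
    · obtain ⟨j, hj⟩ := hθ c hc hc0
      rw [hj]
      exact hpow j t ht
  -- (iii) the middle axis is everything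
  have hp0 : p₀ ∈ midAx M := by
    have h1 := hd0 _ _ _ hz
    exact mem_of_eq3 h1 rfl (by ring) (by rw [map_zero]; ring)
  have hp0z : p₀ * ζ ∈ midAx M := by
    have h1 := hd1 _ _ _ hz
    exact mem_of_eq3 h1 rfl (by ring) (by rw [map_zero]; ring)
  have hmid : ∀ w : F, ((0 : F), w, (0 : F)) ∈ M := by
    intro w
    obtain ⟨a, b, hσa, hσb, hab⟩ := exists_fix_decomp hσ2 ζ hζ (w / p₀)
    have hw : w = a * p₀ + b * (p₀ * ζ) := by
      have : w = (w / p₀) * p₀ := by field_simp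
      rw [this, hab]; ring
    show w ∈ midAx M
    rw [hw]
    exact (midAx M).add_mem (hfixmul a hσa _ hp0) (hfixmul b hσb _ hp0z)
  -- (iv)
  have hlast1 : ∀ x : F, ((0 : F), (0 : F), x - σ x) ∈ M := by
    intro x
    have h1 : (x, (0 : F), x - σ x) ∈ M := mem_of_eq3 (ha _ _ _ (hmid x)) (by ring) rfl rfl
    have h2 := hd0 _ _ _ h1
    exact mem_of_eq3 (sub_mem3 h2 (hmid (x + (x - σ x)))) (by ring) (by ring) (by ring)
  have hfirst : ∀ x : F, (x, (0 : F), (0 : F)) ∈ M := by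
    intro x
    have h1 : (x, (0 : F), x - σ x) ∈ M := mem_of_eq3 (ha _ _ _ (hmid x)) (by ring) rfl rfl
    exact mem_of_eq3 (sub_mem3 h1 (hlast1 x)) (by ring) (by ring) (by ring)
  -- (v)
  have hlast2 : ∀ x : F, ((0 : F), (0 : F), (x - σ x) * σ ζ) ∈ M := by
    intro x
    have h2 := hd1 _ _ _ (hfirst x)
    exact mem_of_eq3 (sub_mem3 h2 (hmid (ζ * σ ζ * x + 0 * ζ))) (by ring) (by ring) (by ring)
  -- (vi)
  have hlast : ∀ w : F, ((0 : F), (0 : F), w) ∈ M := by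
    intro w
    have hζ' : σ (σ ζ) ≠ σ ζ := by rw [hσ2]; exact fun h => hζ h.symm
    have hc0 : ζ - σ ζ ≠ 0 := fun h => hζ (sub_eq_zero.1 h).symm
    obtain ⟨α, β, hσα, hσβ, hαβ⟩ := exists_fix_decomp hσ2 (σ ζ) hζ' (w / (ζ - σ ζ))
    have hw : w = (α * ζ - σ (α * ζ)) + (β * ζ - σ (β * ζ)) * σ ζ := by
      have : w = (w / (ζ - σ ζ)) * (ζ - σ ζ) := by field_simp
      rw [this, hαβ, map_mul, map_mul, hσα, hσβ]; ring
    show w ∈ lastAx M
    rw [hw]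
    exact (lastAx M).add_mem (hlast1 _) (hlast2 _)
  rw [eq_top_iff]
  rintro ⟨a, b, c⟩ _
  exact mem_of_eq3 (add_mem3 (add_mem3 (hfirst a) (hmid b)) (hlast c)) (by ring) (by ring) (by ring)

end Cfsg.Agent.Lib.Helper36.SUReg
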