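import Mathlib
import Cfsg.Agent.Lib.Helper58.IP26.Defs
import Cfsg.Agent.Lib.Helper80.ItoMichler
import Cfsg.Agent.Lib.Helper80.TwoDeg
import Cfsg.Agent.Lib.Helper80.Gallagher
import Cfsg.Agent.Lib.Helper81.TISylowChar

/-!
# Project IP26 (helper58): modules [MONO], [EXT], [T2]  (helper36)
-/

set_option autoImplicit false
set_option linter.style.haveILetI false

namespace Cfsg.Agent.Lib.Helper58.IP26

open Cfsg Cfsg.Agent.Lib
open scoped commutatorElement

universe u

variable {G : Type u} [Group G] [Finite G] {b : ℕ}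

/-- an irreducible character of a subgroup lies under an irreducible character of `G` of at least its
degree, and is its restriction when the degrees agree -/
theorem exists_over (H : Subgroup G) (ψ : IrrCharacter H) :
    ∃ χ : IrrCharacter G, charDegree (ψ : H → ℂ) ≤ charDegree (χ : G → ℂ) ∧
      (charDegree (ψ : H → ℂ) = charDegree (χ : G → ℂ) →
        ∀ h : H, (χ : G → ℂ) (h : G) = (ψ : H → ℂ) h) := by
  classical
  letI : Fintype G := Fintype.ofFinite G
  letI : Fintype H := Fintype.ofFinite H
  obtain ⟨χ, hχ, hne⟩ := Helper80.exists_irr_over' H ψ.2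
  have hres : IsCharacter H (fun n : H => χ n) :=
    Helper80.isCharacter_restrict H (Helper78.IsIrrCharacter.isCharacter hχ)
  refine ⟨⟨χ, hχ⟩, ?_, ?_⟩
  · exact Helper81.charDegree_le_of_classInner_ne_zero (fun n : H => χ n) hres ψ hne
  · intro heq h
    have hdeg : (fun n : H => χ n) 1 = (ψ : H → ℂ) 1 := by
      show χ ((1 : H) : G) = _
      rw [Subgroup.coe_one, Helper80.char_one_eq_charDegree (Helper78.IsIrrCharacter.isCharacter hχ),
        Helper80.char_one_eq_charDegree (Helper78.IsIrrCharacter.isCharacter ψ.2), heq]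
    have := Helper80.eq_of_constituent_of_degree_eq hres ψ.2 hne hdeg
    exact congrFun this h

/-- IP26-[MONO]: degrees of a subgroup are bounded by `b(G)`. -/
theorem degree_le_of_subgroup (hb : IsMaxDeg G b) (H : Subgroup G) (ψ : IrrCharacter H) :
    charDegree (ψ : H → ℂ) ≤ b := by
  obtain ⟨χ, h1, -⟩ := exists_over H ψ
  exact h1.trans (hb.le χ)

/-- IP26-[EXT] (T1a): a character of degree `b(G)` of a subgroup extends to `G`. -/
theorem exists_extension (hb : IsMaxDeg G b) (H : Subgroup G) (ψ : IrrCharacter H)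
    (hψ : charDegree (ψ : H → ℂ) = b) :
    ∃ χ : IrrCharacter G, charDegree (χ : G → ℂ) = b ∧
      ∀ h : H, (χ : G → ℂ) (h : G) = (ψ : H → ℂ) h := by
  obtain ⟨χ, h1, h2⟩ := exists_over H ψ
  have hχ : charDegree (χ : G → ℂ) = b := le_antisymm (hb.le χ) (hψ ▸ h1)
  exact ⟨χ, hχ, h2 (by rw [hψ, hχ])⟩

/-- IP26-[T2]: a normal subgroup with a character of degree `b(G)` has abelian quotient. -/
theorem commutator_le_of_maxDeg (hb : IsMaxDeg G b) (N : Subgroup G) [N.Normal]
    (ψ : IrrCharacter N) (hψ : charDegree (ψ : N → ℂ) = b) : commutator G ≤ N := by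
  classical
  letI : Fintype G := Fintype.ofFinite G
  letI : Fintype N := Fintype.ofFinite N
  letI : Fintype (G ⧸ N) := Fintype.ofFinite (G ⧸ N)
  obtain ⟨χ, hχb, hext⟩ := exists_extension hb N ψ hψ
  have hχN : IsIrrCharacter N (fun n : N => (χ : G → ℂ) n) := by
    have : (fun n : N => (χ : G → ℂ) n) = (ψ : N → ℂ) := funext hext
    rw [this]
    exact ψ.2
  have hbpos : 0 < b := by
    rw [← hψ]
    exact Helper80.charDegree_pos_of_isIrr ψ.2
  have hlin : ∀ β : IrrCharacter (G ⧸ N), charDegree (β : G ⧸ N → ℂ) = 1 := by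
    intro β
    have hirr := Helper80.gallagher_irr N χ.2 hχN β
    have hdeg : charDegree (Helper80.infl N β * (χ : G → ℂ)) = charDegree (β : G ⧸ N → ℂ) * b := by
      apply Helper80.charDegree_natCast
      rw [Pi.mul_apply]
      show ((Helper77.inflate N β : IrrCharacter G) : G → ℂ) 1 * _ = _
      rw [Helper77.inflate_apply, QuotientGroup.mk_one,
        Helper80.char_one_eq_charDegree (Helper78.IsIrrCharacter.isCharacter β.2),
        Helper80.char_one_eq_charDegree (Helper78.IsIrrCharacter.isCharacter χ.2), hχb]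
      push_cast
      ring
    have hle := hb.le ⟨_, hirr⟩
    rw [hdeg] at hle
    have hpos : 0 < charDegree (β : G ⧸ N → ℂ) := Helper80.charDegree_pos_of_isIrr β.2
    have : charDegree (β : G ⧸ N → ℂ) ≤ 1 := by
      by_contra hcon
      push Not at hcon
      have : 2 * b ≤ charDegree (β : G ⧸ N → ℂ) * b := Nat.mul_le_mul_right b hcon
      omega
    omega
  have hcomm := Helper80.commutative_of_forall_charDegree_eq_one hlin
  rw [commutator_def, Subgroup.commutator_le]
  intro g₁ _ g₂ _
  rw [← QuotientGroup.eq_one_iff]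
  show (QuotientGroup.mk' N) ⁅g₁, g₂⁆ = 1
  rw [map_commutatorElement, commutatorElement_eq_one_iff_commute]
  exact hcomm _ _

end Cfsg.Agent.Lib.Helper58.IP26
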