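/-
helper36: REEW-[W-PSL2] (helper61's REEW project, S2359 + S2358):
in `PSL₂(q)`, `q ≡ 3 (mod 8)`, the centraliser of an element of odd prime order `s ∣ q + 1` is commutative of
order `(q + 1) / 2`.
-/
import Mathlib
import Cfsg.Agent.Lib.Helper41.SL2NsTorusMain
import Cfsg.Agent.Lib.Helper14.PSL2Dihedral

set_option autoImplicit false

namespace Cfsg.Agent.Lib.Helper36.ReeW

open Cfsg.Agent.Lib.Helper41 Cfsg.Agent.Lib.Helper14

section general

variable {G : Type*} [Group G]

/-- conjugation transports the centraliser of an element -/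
theorem conj_mem_centralizer_iff (c a x : G) :
    c * x * c⁻¹ ∈ Subgroup.centralizer ({c * a * c⁻¹} : Set G) ↔
      x ∈ Subgroup.centralizer ({a} : Set G) := by
  rw [Subgroup.mem_centralizer_singleton_iff, Subgroup.mem_centralizer_singleton_iff]
  constructor
  · intro h
    have h1 : c * (x * a) * c⁻¹ = c * (a * x) * c⁻¹ := by
      calc c * (x * a) * c⁻¹ = (c * x * c⁻¹) * (c * a * c⁻¹) := by group
        _ = (c * a * c⁻¹) * (c * x * c⁻¹) := h
        _ = c * (a * x) * c⁻¹ := by group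
    exact mul_left_cancel (mul_right_cancel h1)
  · intro h
    calc (c * x * c⁻¹) * (c * a * c⁻¹) = c * (x * a) * c⁻¹ := by group
      _ = c * (a * x) * c⁻¹ := by rw [h]
      _ = (c * a * c⁻¹) * (c * x * c⁻¹) := by group

/-- the centralisers of conjugate elements are in bijection -/
def centralizerConjEquiv (c a : G) :
    Subgroup.centralizer ({a} : Set G) ≃ Subgroup.centralizer ({c * a * c⁻¹} : Set G) where
  toFun x := ⟨c * x.1 * c⁻¹, (conj_mem_centralizer_iff c a x.1).mpr x.2⟩
  invFun y := ⟨c⁻¹ * y.1 * c, by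
    rw [← conj_mem_centralizer_iff c a]
    have h1 : c * (c⁻¹ * y.1 * c) * c⁻¹ = y.1 := by group
    rw [h1]
    exact y.2⟩
  left_inv x := by
    apply Subtype.ext
    show c⁻¹ * (c * x.1 * c⁻¹) * c = x.1
    group
  right_inv y := by
    apply Subtype.ext
    show c * (c⁻¹ * y.1 * c) * c⁻¹ = y.1
    group

end general

variable {K : Type*} [Field K]

theorem center_sq (z : Matrix.SpecialLinearGroup (Fin 2) K)
    (hz : z ∈ Subgroup.center (Matrix.SpecialLinearGroup (Fin 2) K)) : z ^ 2 = 1 := by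
  rw [mem_center_iff_pm] at hz
  apply Subtype.ext
  rw [Matrix.SpecialLinearGroup.coe_pow, Matrix.SpecialLinearGroup.coe_one]
  rcases hz with h | h <;> rw [h] <;> simp

/-- an element of odd prime order of `PSL₂` lifts to an element of the same order of `SL₂` -/
theorem exists_lift_orderOf {s : ℕ} (hs : s.Prime) (hs2 : s ≠ 2)
    (a : Matrix.ProjectiveSpecialLinearGroup (Fin 2) K) (ha : orderOf a = s) :
    ∃ A : Matrix.SpecialLinearGroup (Fin 2) K,
      (QuotientGroup.mk A : Matrix.ProjectiveSpecialLinearGroup (Fin 2) K) = a ∧ orderOf A = s := by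
  obtain ⟨b, rfl⟩ := QuotientGroup.mk_surjective a
  obtain ⟨k, hk⟩ := hs.odd_of_ne_two hs2
  have hbs : (QuotientGroup.mk b : Matrix.ProjectiveSpecialLinearGroup (Fin 2) K) ^ s = 1 := by
    rw [← ha]
    exact pow_orderOf_eq_one _
  have hz : b ^ s ∈ Subgroup.center (Matrix.SpecialLinearGroup (Fin 2) K) := by
    rw [← QuotientGroup.eq_one_iff, QuotientGroup.mk_pow]
    exact hbs
  have hz2 := center_sq _ hz
  have hmk : (QuotientGroup.mk (b ^ (s + 1)) : Matrix.ProjectiveSpecialLinearGroup (Fin 2) K)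
      = QuotientGroup.mk b := by
    rw [QuotientGroup.mk_pow, pow_succ, hbs, one_mul]
  refine ⟨b ^ (s + 1), hmk, ?_⟩
  have hpow : (b ^ (s + 1)) ^ s = 1 := by
    have h1 : (b ^ (s + 1)) ^ s = ((b ^ s) ^ 2) ^ (k + 1) := by
      rw [← pow_mul, ← pow_mul, ← pow_mul]
      congr 1
      rw [hk]
      ring
    rw [h1, hz2, one_pow]
  rcases (Nat.dvd_prime hs).mp (orderOf_dvd_of_pow_eq_one hpow) with h1 | h1
  · exfalso
    rw [orderOf_eq_one_iff] at h1
    have h2 : (QuotientGroup.mk b : Matrix.ProjectiveSpecialLinearGroup (Fin 2) K) = 1 := by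
      rw [← hmk, h1]
      rfl
    rw [h2, orderOf_one] at ha
    exact hs.one_lt.ne' ha.symm
  · exact h1

theorem mulVec_pow_of_eigen (A : Matrix.SpecialLinearGroup (Fin 2) K) (c : K) (v : Fin 2 → K)
    (h : (A : Matrix (Fin 2) (Fin 2) K).mulVec v = c • v) (n : ℕ) :
    ((A ^ n : Matrix.SpecialLinearGroup (Fin 2) K) : Matrix (Fin 2) (Fin 2) K).mulVec v = c ^ n • v := by
  induction n with
  | zero => simp
  | succ n ih =>
    rw [pow_succ, Matrix.SpecialLinearGroup.coe_mul, ← Matrix.mulVec_mulVec, h, Matrix.mulVec_smul, ih,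
      smul_smul, ← pow_succ']

theorem coe_pow_of_tr2_eq_two (A : Matrix.SpecialLinearGroup (Fin 2) K) (htr : tr2 A = 2) (n : ℕ) :
    ((A ^ n : Matrix.SpecialLinearGroup (Fin 2) K) : Matrix (Fin 2) (Fin 2) K)
      = (n : K) • (A : Matrix (Fin 2) (Fin 2) K) - ((n : K) - 1) • (1 : Matrix (Fin 2) (Fin 2) K) := by
  induction n with
  | zero => simp
  | succ n ih =>
    rw [pow_succ, Matrix.SpecialLinearGroup.coe_mul, ih, sub_mul, Matrix.smul_mul, Matrix.smul_mul,
      cayley_hamilton, htr, Matrix.one_mul]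
    push_cast
    ext i j
    simp only [Matrix.sub_apply, Matrix.smul_apply, smul_eq_mul, Matrix.one_apply]
    split_ifs <;> ring

/-- an element of odd prime order `s ∣ q + 1` of `SL₂(q)` has no eigenvector -/
theorem no_eigenvector [Fintype K] {s : ℕ} (hs : s.Prime) (hs2 : s ≠ 2)
    (hsq : s ∣ Fintype.card K + 1) (A : Matrix.SpecialLinearGroup (Fin 2) K) (hA : orderOf A = s) :
    ∀ (c : K) (v : Fin 2 → K), v ≠ 0 → (A : Matrix (Fin 2) (Fin 2) K).mulVec v ≠ c • v := by
  intro c v hv h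
  have hAs : A ^ s = 1 := by
    rw [← hA]
    exact pow_orderOf_eq_one A
  have hsK : (s : K) ≠ 0 := by
    intro h0
    obtain ⟨m, hm⟩ := hsq
    have h1 := congrArg (Nat.cast : ℕ → K) hm
    push_cast at h1
    rw [Nat.cast_card_eq_zero, h0, zero_mul, zero_add] at h1
    exact one_ne_zero h1
  have hcs : c ^ s = 1 := by
    have h1 := mulVec_pow_of_eigen A c v h s
    rw [hAs, Matrix.SpecialLinearGroup.coe_one, Matrix.one_mulVec] at h1
    by_contra hne
    apply hv
    have h3 : (c ^ s - 1) • v = 0 := by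
      rw [sub_smul, one_smul, ← h1, sub_self]
    rcases smul_eq_zero.mp h3 with h2 | h2
    · exact absurd (sub_eq_zero.mp h2) hne
    · exact h2
  have hc0 : c ≠ 0 := by
    rintro rfl
    rw [zero_pow hs.ne_zero] at hcs
    exact zero_ne_one hcs
  have hcq : c ^ (Fintype.card K - 1) = 1 := FiniteField.pow_card_sub_one_eq_one c hc0
  have hcop : Nat.Coprime s (Fintype.card K - 1) := by
    rw [Nat.Prime.coprime_iff_not_dvd hs]
    intro hd
    have hq1 : 1 ≤ Fintype.card K := Fintype.card_pos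
    have h3 : s ∣ 2 := by
      have h4 : Fintype.card K + 1 = (Fintype.card K - 1) + 2 := by omega
      rw [h4] at hsq
      exact (Nat.dvd_add_right hd).mp hsq
    exact hs2 ((Nat.prime_dvd_prime_iff_eq hs Nat.prime_two).mp h3)
  have hc1 : c = 1 := by
    have h1 : orderOf c ∣ s := orderOf_dvd_of_pow_eq_one hcs
    have h2 : orderOf c ∣ Fintype.card K - 1 := orderOf_dvd_of_pow_eq_one hcq
    have h3 : orderOf c ∣ 1 := by
      have h4 := Nat.dvd_gcd h1 h2
      rwa [hcop.gcd_eq_one] at h4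
    exact orderOf_eq_one_iff.mp (Nat.dvd_one.mp h3)
  subst hc1
  rw [one_smul] at h
  have htr : tr2 A = 2 := by
    have hdet : ((A : Matrix (Fin 2) (Fin 2) K) - 1).det = 0 := by
      apply Matrix.exists_mulVec_eq_zero_iff.mp
      exact ⟨v, hv, by rw [Matrix.sub_mulVec, Matrix.one_mulVec, h, sub_self]⟩
    rw [Matrix.det_fin_two] at hdet
    have hd := sl2_det A
    simp only [Matrix.sub_apply, Matrix.one_apply_eq,
      Matrix.one_apply_ne (show (0 : Fin 2) ≠ 1 by decide),
      Matrix.one_apply_ne (show (1 : Fin 2) ≠ 0 by decide), sub_zero] at hdet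
    unfold tr2
    linear_combination hd - hdet
  have hp := coe_pow_of_tr2_eq_two A htr s
  rw [hAs, Matrix.SpecialLinearGroup.coe_one] at hp
  have hA1 : (A : Matrix (Fin 2) (Fin 2) K) = 1 := by
    have h3 : (s : K) • ((A : Matrix (Fin 2) (Fin 2) K) - 1) = 0 := by
      rw [smul_sub]
      have h4 : (s : K) • (A : Matrix (Fin 2) (Fin 2) K)
          = 1 + ((s : K) - 1) • (1 : Matrix (Fin 2) (Fin 2) K) := eq_add_of_sub_eq hp.symm
      rw [h4, sub_smul, one_smul]
      abel
    rcases smul_eq_zero.mp h3 with h2 | h2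
    · exact absurd h2 hsK
    · exact sub_eq_zero.mp h2
  have hA1' : A = 1 := Subtype.ext (by rw [hA1, Matrix.SpecialLinearGroup.coe_one])
  rw [hA1', orderOf_one] at hA
  exact hs.one_lt.ne' hA.symm

-- [W-PSL2]
theorem psl2_centralizer {K : Type*} [Field K] [Fintype K] (hq : Fintype.card K % 8 = 3) (s : ℕ) (hs : s.Prime)
    (hs2 : s ≠ 2) (hsq : s ∣ Fintype.card K + 1) (a : Matrix.ProjectiveSpecialLinearGroup (Fin 2) K)
    (ha : orderOf a = s) :
    (∀ x ∈ Subgroup.centralizer ({a} : Set (Matrix.ProjectiveSpecialLinearGroup (Fin 2) K)),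
      ∀ y ∈ Subgroup.centralizer ({a} : Set (Matrix.ProjectiveSpecialLinearGroup (Fin 2) K)), x * y = y * x) ∧
    Nat.card ↥(Subgroup.centralizer ({a} : Set (Matrix.ProjectiveSpecialLinearGroup (Fin 2) K)))
      = (Fintype.card K + 1) / 2 := by
  have h2 : (2 : K) ≠ 0 := by
    intro h
    have hch : CharP K 2 := CharTwo.of_one_ne_zero_of_two_eq_zero one_ne_zero h
    have h3 := (CharP.cast_eq_zero_iff K 2 (Fintype.card K)).mp (Nat.cast_card_eq_zero K)
    omega
  obtain ⟨A, rfl, hA⟩ := exists_lift_orderOf hs hs2 a ha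
  have hne := no_eigenvector hs hs2 hsq A hA
  have ht := nonsplit_of_no_eigenvector A hne
  obtain ⟨h, hh⟩ := exists_conj_mem_nsTorus h2 ht A hne
  have hgq : IsQuad (tr2 A) (h * A * h⁻¹) := (mem_nsTorus_iff (tr2 A) (h * A * h⁻¹)).mp hh
  have hgo : orderOf (h * A * h⁻¹) = s := by
    rw [← hA, ← MulAut.conj_apply]
    exact MulEquiv.orderOf_eq _ _
  have hgs : (h * A * h⁻¹) ^ s = 1 := by
    rw [← hgo]
    exact pow_orderOf_eq_one _
  have hg10 : ((h * A * h⁻¹ : Matrix.SpecialLinearGroup (Fin 2) K) : Matrix (Fin 2) (Fin 2) K) 1 0 ≠ 0 := by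
    intro h0
    have hsq1 : (h * A * h⁻¹) ^ 2 = 1 := by
      apply Subtype.ext
      rw [Matrix.SpecialLinearGroup.coe_pow, Matrix.SpecialLinearGroup.coe_one]
      rcases hgq.eq_one_or_neg_one h0 with h1 | h1 <;> rw [h1] <;> simp
    have h3 : s ∣ 2 := by
      rw [← hgo]
      exact orderOf_dvd_of_pow_eq_one hsq1
    exact hs2 ((Nat.prime_dvd_prime_iff_eq hs Nat.prime_two).mp h3)
  have hcent := centralizer_eq_nsTorus hgq hg10
  -- the centraliser in `PSL₂` of the image of `g = h A h⁻¹`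
  have hbar : Subgroup.centralizer
      ({(QuotientGroup.mk (h * A * h⁻¹) : Matrix.ProjectiveSpecialLinearGroup (Fin 2) K)} :
        Set (Matrix.ProjectiveSpecialLinearGroup (Fin 2) K)) = nsTorusBar (tr2 A) := by
    ext x
    rw [Subgroup.mem_centralizer_singleton_iff]
    constructor
    · obtain ⟨y, rfl⟩ := QuotientGroup.mk_surjective x
      intro hxy
      rw [← QuotientGroup.mk_mul, ← QuotientGroup.mk_mul, mk_eq_mk_iff] at hxy
      rcases hxy with h1 | h1
      · have hy : y ∈ nsTorus (tr2 A) := by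
          rw [← hcent, Subgroup.mem_centralizer_singleton_iff]
          exact Subtype.ext h1
        exact ⟨y, hy, rfl⟩
      · exfalso
        have hw : ((y * (h * A * h⁻¹) * y⁻¹ : Matrix.SpecialLinearGroup (Fin 2) K) :
            Matrix (Fin 2) (Fin 2) K)
            = -((h * A * h⁻¹ : Matrix.SpecialLinearGroup (Fin 2) K) : Matrix (Fin 2) (Fin 2) K) := by
          rw [Matrix.SpecialLinearGroup.coe_mul, h1, Matrix.neg_mul, ← Matrix.SpecialLinearGroup.coe_mul,
            mul_assoc, mul_inv_cancel, mul_one]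
        have hws : (y * (h * A * h⁻¹) * y⁻¹) ^ s = 1 := by
          rw [conj_pow, hgs, mul_one, mul_inv_cancel]
        have h3 := congrArg (fun M : Matrix.SpecialLinearGroup (Fin 2) K =>
          (M : Matrix (Fin 2) (Fin 2) K)) hws
        simp only [Matrix.SpecialLinearGroup.coe_pow, hw, Matrix.SpecialLinearGroup.coe_one] at h3
        rw [Odd.neg_pow (hs.odd_of_ne_two hs2), ← Matrix.SpecialLinearGroup.coe_pow, hgs,
          Matrix.SpecialLinearGroup.coe_one] at h3
        have h00 := congrFun (congrFun h3 0) 0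
        simp only [Matrix.neg_apply, Matrix.one_apply_eq] at h00
        apply h2
        linear_combination -h00
    · rintro ⟨y, hy, rfl⟩
      have hc : y * (h * A * h⁻¹) = (h * A * h⁻¹) * y :=
        ((mem_nsTorus_iff (tr2 A) y).mp hy).commute hgq
      show (QuotientGroup.mk y : Matrix.ProjectiveSpecialLinearGroup (Fin 2) K)
        * QuotientGroup.mk (h * A * h⁻¹) = QuotientGroup.mk (h * A * h⁻¹) * QuotientGroup.mk y
      rw [← QuotientGroup.mk_mul, ← QuotientGroup.mk_mul, hc]
  have hconj : (QuotientGroup.mk (h * A * h⁻¹) : Matrix.ProjectiveSpecialLinearGroup (Fin 2) K)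
      = (QuotientGroup.mk h : Matrix.ProjectiveSpecialLinearGroup (Fin 2) K) * QuotientGroup.mk A
        * (QuotientGroup.mk h : Matrix.ProjectiveSpecialLinearGroup (Fin 2) K)⁻¹ := rfl
  constructor
  · intro x hx y hy
    have hx' := (conj_mem_centralizer_iff
      (QuotientGroup.mk h : Matrix.ProjectiveSpecialLinearGroup (Fin 2) K) _ x).mpr hx
    have hy' := (conj_mem_centralizer_iff
      (QuotientGroup.mk h : Matrix.ProjectiveSpecialLinearGroup (Fin 2) K) _ y).mpr hy
    rw [← hconj, hbar] at hx' hy'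
    obtain ⟨x1, hx1, hx1e⟩ := hx'
    obtain ⟨y1, hy1, hy1e⟩ := hy'
    have hc : x1 * y1 = y1 * x1 :=
      ((mem_nsTorus_iff (tr2 A) x1).mp hx1).commute ((mem_nsTorus_iff (tr2 A) y1).mp hy1)
    set c := (QuotientGroup.mk h : Matrix.ProjectiveSpecialLinearGroup (Fin 2) K) with hcdef
    have h3 : (c * x * c⁻¹) * (c * y * c⁻¹) = (c * y * c⁻¹) * (c * x * c⁻¹) := by
      rw [← hx1e, ← hy1e, ← map_mul, ← map_mul, hc]
    have h4 : c * (x * y) * c⁻¹ = c * (y * x) * c⁻¹ := by
      calc c * (x * y) * c⁻¹ = (c * x * c⁻¹) * (c * y * c⁻¹) := by group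
        _ = (c * y * c⁻¹) * (c * x * c⁻¹) := h3
        _ = c * (y * x) * c⁻¹ := by group
    exact mul_left_cancel (mul_right_cancel h4)
  · rw [Nat.card_congr (centralizerConjEquiv
      (QuotientGroup.mk h : Matrix.ProjectiveSpecialLinearGroup (Fin 2) K) (QuotientGroup.mk A)),
      ← hconj, hbar]
    have h1 := card_nsTorusBar_mul ht
    rw [Cfsg.Agent.Lib.Helper5.card_center_SL2_of_two_ne_zero h2] at h1
    rw [← h1, Nat.mul_div_cancel _ (by norm_num : 0 < 2)]

end Cfsg.Agent.Lib.Helper36.ReeW
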