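/-
helper36: REEW2-[W2-PSL2INV] (helper61's REEW2 project, S1158 + S1159 + S2357):
in `PSL₂(q)`, `q ≡ 3 (mod 4)`, the centraliser of an involution has order `q + 1`.
-/
import Mathlib
import Cfsg.Agent.Lib.Helper36.ReeWPsl2

set_option autoImplicit false

namespace Cfsg.Agent.Lib.Helper36.ReeW2

open Cfsg.Agent.Lib.Helper41 Cfsg.Agent.Lib.Helper14 Cfsg.Agent.Lib.Helper36.ReeW

variable {K : Type*} [Field K]

/-- the companion matrix of `X² + 1` squares to `-1` -/
theorem companion_zero_inv :
    (((companion (0 : K))⁻¹ : Matrix.SpecialLinearGroup (Fin 2) K) : Matrix (Fin 2) (Fin 2) K)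
      = -((companion (0 : K) : Matrix.SpecialLinearGroup (Fin 2) K) : Matrix (Fin 2) (Fin 2) K) := by
  rw [coe_inv_eq, coe_companion]
  ext i j
  fin_cases i <;> fin_cases j <;> simp

/-- the centraliser in `PSL₂` of the image of the companion matrix of `X² + 1` is the image of the
normaliser of the non-split torus -/
theorem centralizer_mk_companion_zero :
    Subgroup.centralizer
      ({(QuotientGroup.mk (companion (0 : K)) : Matrix.ProjectiveSpecialLinearGroup (Fin 2) K)} :
        Set (Matrix.ProjectiveSpecialLinearGroup (Fin 2) K)) = nsDih (0 : K) := by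
  ext x
  rw [Subgroup.mem_centralizer_singleton_iff]
  constructor
  · obtain ⟨y, rfl⟩ := QuotientGroup.mk_surjective x
    intro hxy
    rw [← QuotientGroup.mk_mul, ← QuotientGroup.mk_mul, mk_eq_mk_iff] at hxy
    rcases hxy with h1 | h1
    · have hy : y ∈ nsTorus (0 : K) := by
        rw [mem_nsTorus_iff_commute]
        exact (Subtype.ext h1).symm
      exact ⟨y, Or.inl ((mem_nsTorus_iff 0 y).mp hy), rfl⟩
    · have hy : IsQuadInv (0 : K) y := by
        rw [isQuadInv_iff]
        apply Subtype.ext
        rw [h1, Matrix.SpecialLinearGroup.coe_mul, Matrix.SpecialLinearGroup.coe_mul,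
          companion_zero_inv, Matrix.neg_mul]
      exact ⟨y, Or.inr hy, rfl⟩
  · rintro ⟨y, hy, rfl⟩
    show (QuotientGroup.mk y : Matrix.ProjectiveSpecialLinearGroup (Fin 2) K)
      * QuotientGroup.mk (companion (0 : K)) = QuotientGroup.mk (companion (0 : K)) * QuotientGroup.mk y
    rw [← QuotientGroup.mk_mul, ← QuotientGroup.mk_mul]
    rcases hy with hy | hy
    · have hc : companion (0 : K) * y = y * companion (0 : K) :=
        (mem_nsTorus_iff_commute 0 y).mp ((mem_nsTorus_iff 0 y).mpr hy)
      rw [hc]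
    · rw [mk_eq_mk_iff]
      right
      rw [(isQuadInv_iff 0 y).mp hy, Matrix.SpecialLinearGroup.coe_mul,
        Matrix.SpecialLinearGroup.coe_mul, companion_zero_inv, Matrix.neg_mul]

-- [W2-PSL2INV]
theorem psl2_centralizer_involution {K : Type*} [Field K] [Fintype K] (hq : Fintype.card K % 4 = 3)
    (v : Matrix.ProjectiveSpecialLinearGroup (Fin 2) K) (hv : orderOf v = 2) :
    Nat.card ↥(Subgroup.centralizer ({v} : Set (Matrix.ProjectiveSpecialLinearGroup (Fin 2) K)))
      = Fintype.card K + 1 := by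
  have h2 : (2 : K) ≠ 0 := by
    intro h
    have hch : CharP K 2 := CharTwo.of_one_ne_zero_of_two_eq_zero one_ne_zero h
    have h3 := (CharP.cast_eq_zero_iff K 2 (Fintype.card K)).mp (Nat.cast_card_eq_zero K)
    omega
  have ht : ∀ r : K, r ^ 2 ≠ -1 + 0 * r := by
    intro r hr
    have hsq : IsSquare (-1 : K) := ⟨r, by rw [← sq, hr]; ring⟩
    rw [FiniteField.isSquare_neg_one_iff] at hsq
    exact hsq hq
  obtain ⟨V, rfl⟩ := QuotientGroup.mk_surjective v
  have hV1 : (QuotientGroup.mk V : Matrix.ProjectiveSpecialLinearGroup (Fin 2) K) ≠ 1 := by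
    intro h
    rw [h, orderOf_one] at hv
    omega
  have hV2 : (QuotientGroup.mk V : Matrix.ProjectiveSpecialLinearGroup (Fin 2) K) ^ 2 = 1 := by
    have h := pow_orderOf_eq_one (QuotientGroup.mk V : Matrix.ProjectiveSpecialLinearGroup (Fin 2) K)
    rwa [hv] at h
  rw [mk_pow_eq_one_iff, sq, cayley_hamilton] at hV2
  rw [Ne, mk_eq_one_iff] at hV1
  -- the trace of `V` is zero
  have htr : tr2 V = 0 := by
    rcases hV2 with h | h
    · exfalso
      have h3 : tr2 V • (V : Matrix (Fin 2) (Fin 2) K) = (2 : K) • (1 : Matrix (Fin 2) (Fin 2) K) := by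
        rw [two_smul]
        exact (sub_eq_iff_eq_add.mp h)
      have htr0 : tr2 V ≠ 0 := by
        intro h0
        rw [h0, zero_smul] at h3
        have h00 := congrFun (congrFun h3 0) 0
        simp only [Matrix.zero_apply, Matrix.smul_apply, Matrix.one_apply_eq, smul_eq_mul, mul_one] at h00
        exact h2 h00.symm
      have hVs : (V : Matrix (Fin 2) (Fin 2) K) = ((tr2 V)⁻¹ * 2) • (1 : Matrix (Fin 2) (Fin 2) K) := by
        rw [mul_smul, ← h3, smul_smul, inv_mul_cancel₀ htr0, one_smul]
      exact hV1 ((mem_center_iff_pm V).mp (mem_center_of_scalar V _ hVs))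
    · have h3 : tr2 V • (V : Matrix (Fin 2) (Fin 2) K) = 0 := by
        have := sub_eq_iff_eq_add.mp h
        rw [this]
        abel
      rcases smul_eq_zero.mp h3 with h4 | h4
      · exact h4
      · exfalso
        have hd := sl2_det V
        rw [h4] at hd
        simp at hd
  have ht4 : (tr2 V) ^ 2 ≠ 4 := by
    rw [htr]
    intro h
    apply h2
    have h4 : (2 : K) * 2 = 0 := by
      have : (2 : K) * 2 = 4 := by norm_num
      rw [this, ← h]
      ring
    rcases mul_eq_zero.mp h4 with h5 | h5 <;> exact h5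
  obtain ⟨P, hP⟩ := exists_conj_companion V ht4
  rw [htr] at hP
  have hVP : V = P * companion (0 : K) * P⁻¹ := by
    rw [← hP]
    group
  have hconj : (QuotientGroup.mk V : Matrix.ProjectiveSpecialLinearGroup (Fin 2) K)
      = (QuotientGroup.mk P : Matrix.ProjectiveSpecialLinearGroup (Fin 2) K)
        * QuotientGroup.mk (companion (0 : K))
        * (QuotientGroup.mk P : Matrix.ProjectiveSpecialLinearGroup (Fin 2) K)⁻¹ := by
    rw [hVP]
    rfl
  rw [hconj, ← Nat.card_congr (centralizerConjEquiv
      (QuotientGroup.mk P : Matrix.ProjectiveSpecialLinearGroup (Fin 2) K)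
      (QuotientGroup.mk (companion (0 : K)))), centralizer_mk_companion_zero]
  obtain ⟨e⟩ := nsDih_dihedral ht
  rw [Nat.card_congr e.toEquiv, DihedralGroup.nat_card]
  have h1 := card_nsTorusBar_mul ht
  rw [Cfsg.Agent.Lib.Helper5.card_center_SL2_of_two_ne_zero h2] at h1
  rw [← h1, mul_comm]

end Cfsg.Agent.Lib.Helper36.ReeW2
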