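/-
helper36: project REEW (helper61), module REEW-[W-NORM]: in the abstract twisted rank-one machine
`TwData`, an element of `H¹` acting without fixed points on `U¹` is conjugated into `H` only by `N`,
and centralised only by `H` (if it is not an involution).
-/
import Mathlib
import Cfsg.Agent.Lib.Helper19.ReeAbsB

set_option autoImplicit false

namespace Cfsg.Agent.Lib.Helper36.ReeW

open Cfsg.Agent.Lib.Helper19.ReeAbs

section norm
variable {G : Type*} [Group G] (T : TwData G)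

theorem mem_N_of_conj_mem_H (x : G) (hxH : x ∈ T.H) (hx1 : x ∈ T.G1)
    (hfpf : ∀ u ∈ T.U, u ∈ T.G1 → x * u = u * x → u = 1)
    (g : G) (hg : g ∈ T.G1) (h : g * x * g⁻¹ ∈ T.H) : g ∈ T.N := by
  obtain ⟨u₀, hu₀, n, hn, u, hu, e, g1, g2, g3⟩ := T.G1_form g hg
  set h' := g * x * g⁻¹ with hh'
  rcases T.N1_cases n hn g2 with hH | hl
  · -- `n ∈ H`
    have hu1 : u = 1 := by
      have := hu
      rw [T.Um_H n hH, Subgroup.mem_bot] at this
      exact this
    have hnx : n * x * n⁻¹ = x := by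
      rw [T.H_comm n hH x hxH]; group
    have e1 : h' = u₀ * x * u₀⁻¹ := by
      rw [hh', e, hu1]
      calc u₀ * n * 1 * x * (u₀ * n * 1)⁻¹ = u₀ * (n * x * n⁻¹) * u₀⁻¹ := by group
        _ = u₀ * x * u₀⁻¹ := by rw [hnx]
    have e2 : u₀ * x * 1 = (h' * u₀ * h'⁻¹) * h' * 1 := by
      rw [e1]; group
    have := T.uniq u₀ (h' * u₀ * h'⁻¹) x h' 1 1 hu₀ (T.H_norm_U h' h u₀ hu₀) (T.H_le_N hxH)
      (T.H_le_N h) (one_mem _) (one_mem _) e2
    obtain ⟨k1, k2, -⟩ := this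
    have hcomm : x * u₀ = u₀ * x := by
      rw [← k2] at k1
      calc x * u₀ = (x * u₀ * x⁻¹) * x := by group
        _ = u₀ * x := by rw [← k1]
    have hu₀1 : u₀ = 1 := hfpf u₀ hu₀ g1 hcomm
    rw [e, hu₀1, hu1, one_mul, mul_one]
    exact hn
  · -- `n` long
    have huU : u ∈ T.U := T.Um_le n hu
    set u₁ := u * (x * u⁻¹ * x⁻¹) with hu₁
    have hu₁U : u₁ ∈ T.U := T.U.mul_mem huU (T.H_norm_U x hxH u⁻¹ (T.U.inv_mem huU))
    set v := n * u₁ * n⁻¹ with hv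
    have hvV : v ∈ T.V := T.long_conj n hn hl u₁ hu₁U
    have hinv : n * x * n⁻¹ = x⁻¹ := T.long_inverts n hn hl x hxH
    set u₂ := u₀⁻¹ * (h' * u₀ * h'⁻¹) with hu₂
    have hu₂U : u₂ ∈ T.U := T.U.mul_mem (T.U.inv_mem hu₀) (T.H_norm_U h' h u₀ hu₀)
    have e1 : v = u₂ * (h' * x) := by
      have key : n⁻¹ * x⁻¹ = x * n⁻¹ := by rw [← hinv]; group
      have e0 : h' = u₀ * (v * x⁻¹) * u₀⁻¹ := by
        symm
        calc u₀ * (v * x⁻¹) * u₀⁻¹
            = u₀ * (n * (u * (x * u⁻¹ * x⁻¹)) * (n⁻¹ * x⁻¹)) * u₀⁻¹ := by rw [hv, hu₁]; group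
          _ = u₀ * (n * (u * (x * u⁻¹ * x⁻¹)) * (x * n⁻¹)) * u₀⁻¹ := by rw [key]
          _ = (u₀ * n * u) * x * (u₀ * n * u)⁻¹ := by group
          _ = h' := by rw [hh', e]
      have e0' : v = u₀⁻¹ * h' * u₀ * x := by rw [e0]; group
      rw [e0', hu₂]
      group
    have hv1 : v = 1 := T.V_inf_B v hvV u₂ hu₂U (h' * x) (T.H.mul_mem h hxH) e1
    have hu₁1 : u₁ = 1 := by
      have : u₁ = n⁻¹ * v * n := by rw [hv]; group
      rw [this, hv1]; group
    have hcomm : x * u = u * x := by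
      have : u * x * u⁻¹ * x⁻¹ = 1 := by
        rw [← hu₁1, hu₁]; group
      calc x * u = (u * x * u⁻¹ * x⁻¹)⁻¹ * (u * x) := by group
        _ = u * x := by rw [this, inv_one, one_mul]
    have hu1 : u = 1 := hfpf u huU g3 hcomm
    -- now `u₂ (h' x) = 1`
    have e3 : u₂ = (h' * x)⁻¹ := by
      rw [hv1] at e1
      exact eq_inv_of_mul_eq_one_left e1.symm
    have hu₂1 : u₂ = 1 := T.U_inf_H u₂ hu₂U (by rw [e3]; exact T.H.inv_mem (T.H.mul_mem h hxH))
    have hh'x : h' = x⁻¹ := by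
      rw [hu₂1] at e3
      have : h' * x = 1 := by
        rw [← inv_inv (h' * x), ← e3, inv_one]
      exact eq_inv_of_mul_eq_one_left this
    have hcomm₀ : x * u₀ = u₀ * x := by
      have : u₀ = h' * u₀ * h'⁻¹ := by
        have h0 : u₀⁻¹ * (h' * u₀ * h'⁻¹) = 1 := by rw [← hu₂, hu₂1]
        calc u₀ = u₀ * (u₀⁻¹ * (h' * u₀ * h'⁻¹)) := by rw [h0, mul_one]
          _ = h' * u₀ * h'⁻¹ := by group
      rw [hh'x, inv_inv] at this
      calc x * u₀ = x * (x⁻¹ * u₀ * x) := by rw [← this]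
        _ = u₀ * x := by group
    have hu₀1 : u₀ = 1 := hfpf u₀ hu₀ g1 hcomm₀
    rw [e, hu₀1, hu1, one_mul, mul_one]
    exact hn

theorem mem_H_of_commute (x : G) (hxH : x ∈ T.H) (hx1 : x ∈ T.G1)
    (hfpf : ∀ u ∈ T.U, u ∈ T.G1 → x * u = u * x → u = 1) (hx2 : x * x ≠ 1)
    (g : G) (hg : g ∈ T.G1) (hc : g * x = x * g) : g ∈ T.H := by
  have hconj : g * x * g⁻¹ = x := by rw [hc]; group
  have hgN : g ∈ T.N := mem_N_of_conj_mem_H T x hxH hx1 hfpf g hg (by rw [hconj]; exact hxH)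
  rcases T.N1_cases g hgN hg with hH | hl
  · exact hH
  · exfalso
    have := T.long_inverts g hgN hl x hxH
    rw [hconj] at this
    apply hx2
    calc x * x = x * x⁻¹ := by rw [← this]
      _ = 1 := mul_inv_cancel x

end norm

end Cfsg.Agent.Lib.Helper36.ReeW
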