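/-
helper36: S2282-[REL2] and S2282-[REL3] (sheet of helper53): commutator relations between Siegel elements of SU_n(q).
-/
import Cfsg.Agent.Lib.Helper53.SUReg.Act

set_option autoImplicit false

namespace Cfsg.Agent.Lib.Helper36.SUReg

open Matrix Cfsg.Agent.S0837 Cfsg.Agent.S0781 Cfsg.Agent.S2644
open Cfsg.Agent.Lib.Helper53.SUReg

variable {n : ℕ} {F : Type*} [Field F] {σ : F →+* F} {q : ℕ}

local notation "SLn" => Matrix.SpecialLinearGroup (Fin n) F
local notation "Mn" => Matrix (Fin n) (Fin n) F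

/-- orthogonality is symmetric -/
theorem hf_eq_zero_symm (hσ2 : ∀ x, σ (σ x) = x) {x y : Fin n → F} (h : hf σ x y = 0) :
    hf σ y x = 0 := by
  rw [hf_symm σ hσ2, h, map_zero]

theorem sig_sig_rel (hσq : ∀ x, σ x = x ^ q) (hσ2 : ∀ x, σ (σ x) = x) {x y z w : Fin n → F}
    (hx : hf σ x x = 0) (hy : hf σ y y = 0) (hz : hf σ z z = 0) (hw : hf σ w w = 0)
    (hxy : hf σ x y = 0) (hzw : hf σ z w = 0) (hxz : hf σ x z = 0) (hxw : hf σ x w = 0)
    (hyw : hf σ y w = 0) (s t : F) :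
    (sigU σ q x y s : ↥(Cfsg.SU n F q)) * sigU σ q z w t =
      sigU σ q x w (s * t * hf σ z y) * sigU σ q z w t * sigU σ q x y s := by
  have hyx := hf_eq_zero_symm hσ2 hxy
  have hwz := hf_eq_zero_symm hσ2 hzw
  have hzx := hf_eq_zero_symm hσ2 hxz
  have hwx := hf_eq_zero_symm hσ2 hxw
  have hwy := hf_eq_zero_symm hσ2 hyw
  have hyz : σ (hf σ z y) = hf σ y z := (hf_symm σ hσ2 y z).symm
  apply su_ext
  intro v
  simp only [mul_mulVec, sigU_mulVec hσq hσ2 hx hy hxy, sigU_mulVec hσq hσ2 hz hw hzw,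
    sigU_mulVec hσq hσ2 hx hw hxw, hf_add_left, hf_sub_left, hf_smul_left,
    hx, hy, hz, hw, hxy, hzw, hxz, hxw, hyw, hyx, hwz, hzx, hwx, hwy, map_mul, hyz,
    mul_zero, add_zero, sub_zero]
  module

theorem sig_sig_rel3 (hσq : ∀ x, σ x = x ^ q) (hσ2 : ∀ x, σ (σ x) = x) {x y z : Fin n → F}
    (hx : hf σ x x = 0) (hy : hf σ y y = 0) (hz : hf σ z z = 0)
    (hxy : hf σ x y = 0) (hzy : hf σ z y = 0) (s t : F) :
    (sigU σ q x y s : ↥(Cfsg.SU n F q)) * sigU σ q z y t =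
      tauU σ q y (s * σ t * hf σ x z) * sigU σ q z y t * sigU σ q x y s := by
  have hyx := hf_eq_zero_symm hσ2 hxy
  have hyz := hf_eq_zero_symm hσ2 hzy
  have hzx : σ (hf σ x z) = hf σ z x := (hf_symm σ hσ2 z x).symm
  apply su_ext
  intro v
  simp only [mul_mulVec, sigU_mulVec hσq hσ2 hx hy hxy, sigU_mulVec hσq hσ2 hz hy hzy,
    tauU_mulVec hσq hσ2 hy, hf_add_left, hf_sub_left, hf_smul_left,
    hx, hy, hz, hxy, hzy, hyx, hyz, map_mul, hσ2, hzx,
    mul_zero, add_zero, sub_zero]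
  module

end Cfsg.Agent.Lib.Helper36.SUReg
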