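/-
helper36: S2282-[QXA] and S2282-[QXB] (sheet of helper53): closure properties of `InQ`.
-/
import Cfsg.Agent.Lib.Helper53.SUReg.Act
import Cfsg.Agent.Lib.Helper53.SUReg.Defs2
import Cfsg.Agent.Lib.Helper23.SU3GHilb
import Cfsg.Agent.Lib.Helper36.SURegRel23

set_option autoImplicit false
set_option linter.unusedSimpArgs false
set_option linter.unusedVariables false

namespace Cfsg.Agent.Lib.Helper36.SUReg

open Matrix Cfsg.Agent.S0837 Cfsg.Agent.S0781 Cfsg.Agent.S2644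
open Cfsg.Agent.Lib.Helper53.SUReg

variable {n : ℕ} {F : Type*} [Field F] {σ : F →+* F} {q : ℕ}

local notation "SLn" => Matrix.SpecialLinearGroup (Fin n) F
local notation "Mn" => Matrix (Fin n) (Fin n) F

/-- the norm `hf w w` is fixed by `σ` -/
theorem hf_self_fixed (hσ2 : ∀ x, σ (σ x) = x) (w : Fin n → F) : σ (hf σ w w) = hf σ w w :=
  (hf_symm σ hσ2 w w).symm

theorem inQ_add (hσq : ∀ x, σ x = x ^ q) (hσ : σ ≠ RingHom.id F) (hσ2 : ∀ x, σ (σ x) = x)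
    (H : Subgroup ↥(Cfsg.SU n F q)) (a : Fin n → F) (ha : hf σ a a = 0)
    (hT : ∀ x : F, tauU σ q a x ∈ H) {w₁ w₂ : Fin n → F}
    (h₁ : InQ σ q H a w₁) (h₂ : InQ σ q H a w₂) : InQ σ q H a (w₁ + w₂) := by
  obtain ⟨h1a, h1⟩ := h₁
  obtain ⟨h2a, h2⟩ := h₂
  have ha1 := hf_eq_zero_symm hσ2 h1a
  have ha2 := hf_eq_zero_symm hσ2 h2a
  have hwa : hf σ (w₁ + w₂) a = 0 := by rw [hf_add_left, h1a, h2a, add_zero]
  refine ⟨hwa, fun β hβ => ?_⟩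
  obtain ⟨β₁, hβ₁⟩ := Cfsg.Agent.Lib.Helper23.SU3G.exists_trace_eq σ hσ hσ2 (-hf σ w₁ w₁)
    (by rw [map_neg, hf_self_fixed hσ2])
  obtain ⟨β₂, hβ₂⟩ := Cfsg.Agent.Lib.Helper23.SU3G.exists_trace_eq σ hσ hσ2 (-hf σ w₂ w₂)
    (by rw [map_neg, hf_self_fixed hσ2])
  have hβ₁' : β₁ + σ β₁ + hf σ w₁ w₁ = 0 := by rw [hβ₁]; ring
  have hβ₂' : β₂ + σ β₂ + hf σ w₂ w₂ = 0 := by rw [hβ₂]; ring
  have h21 : σ (hf σ w₂ w₁) = hf σ w₁ w₂ := (hf_symm σ hσ2 w₁ w₂).symm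
  have hexp : hf σ (w₁ + w₂) (w₁ + w₂) =
      hf σ w₁ w₁ + hf σ w₁ w₂ + hf σ w₂ w₁ + hf σ w₂ w₂ := by
    rw [hf_add_left, hf_add_right, hf_add_right]; ring
  obtain ⟨x, hx⟩ := Cfsg.Agent.Lib.Helper23.SU3G.exists_sub_eq σ hσ hσ2
    (β - (β₁ + β₂ - hf σ w₂ w₁)) (by
      rw [map_sub, map_sub, map_add, h21]
      rw [hexp] at hβ
      linear_combination hβ - hβ₁' - hβ₂')
  have key : siegU σ q a (w₁ + w₂) β = siegU σ q a w₁ β₁ * siegU σ q a w₂ β₂ * tauU σ q a x := by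
    apply su_ext
    intro v
    simp only [mul_mulVec, siegU_mulVec hσq hσ2 ha h1a hβ₁', siegU_mulVec hσq hσ2 ha h2a hβ₂',
      siegU_mulVec hσq hσ2 ha hwa hβ, tauU_mulVec hσq hσ2 ha, hf_add_left, hf_sub_left,
      hf_smul_left, hf_add_right, ha, h1a, h2a, ha1, ha2, hx, mul_zero, add_zero, sub_zero,
      zero_mul]
    have hβeq : β = (β - (β₁ + β₂ - hf σ w₂ w₁)) + (β₁ + β₂ - hf σ w₂ w₁) := by ring
    rw [hβeq]
    module
  rw [key]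
  exact H.mul_mem (H.mul_mem (h1 β₁ hβ₁') (h2 β₂ hβ₂')) (hT x)

theorem inQ_smul_self (hσq : ∀ x, σ x = x ^ q) (hσ : σ ≠ RingHom.id F) (hσ2 : ∀ x, σ (σ x) = x)
    (H : Subgroup ↥(Cfsg.SU n F q)) (a : Fin n → F) (ha : hf σ a a = 0)
    (hT : ∀ x : F, tauU σ q a x ∈ H) (s : F) : InQ σ q H a (s • a) := by
  have hwa : hf σ (s • a) a = 0 := by rw [hf_smul_left, ha, mul_zero]
  refine ⟨hwa, fun β hβ => ?_⟩
  have hww : hf σ (s • a) (s • a) = 0 := by rw [hf_smul_left, hf_smul_right, ha, mul_zero, mul_zero]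
  have hβ0 : β + σ β = 0 := by rw [hww, add_zero] at hβ; exact hβ
  obtain ⟨x, hx⟩ := Cfsg.Agent.Lib.Helper23.SU3G.exists_sub_eq σ hσ hσ2 (s - σ s + β) (by
    rw [map_add, map_sub, hσ2]
    linear_combination hβ0)
  have key : siegU σ q a (s • a) β = tauU σ q a x := by
    apply su_ext
    intro v
    simp only [siegU_mulVec hσq hσ2 ha hwa hβ, tauU_mulVec hσq hσ2 ha, hf_smul_right, hx]
    module
  rw [key]
  exact hT x

theorem inQ_of_sig (hσq : ∀ x, σ x = x ^ q) (hσ : σ ≠ RingHom.id F) (hσ2 : ∀ x, σ (σ x) = x)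
    (H : Subgroup ↥(Cfsg.SU n F q)) (a : Fin n → F) (ha : hf σ a a = 0)
    (hT : ∀ x : F, tauU σ q a x ∈ H) (x : Fin n → F) (hx : hf σ x x = 0) (hxa : hf σ x a = 0)
    (hS : ∀ s : F, sigU σ q x a s ∈ H) (s : F) : InQ σ q H a (s • x) := by
  have hax := hf_eq_zero_symm hσ2 hxa
  have hwa : hf σ (s • x) a = 0 := by rw [hf_smul_left, hxa, mul_zero]
  refine ⟨hwa, fun β hβ => ?_⟩
  have hww : hf σ (s • x) (s • x) = 0 := by rw [hf_smul_left, hf_smul_right, hx, mul_zero, mul_zero]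
  have hβ0 : β + σ β = 0 := by rw [hww, add_zero] at hβ; exact hβ
  obtain ⟨x', hx'⟩ := Cfsg.Agent.Lib.Helper23.SU3G.exists_sub_eq σ hσ hσ2 β hβ0
  have key : siegU σ q a (s • x) β = sigU σ q x a s * tauU σ q a x' := by
    apply su_ext
    intro v
    simp only [mul_mulVec, siegU_mulVec hσq hσ2 ha hwa hβ, tauU_mulVec hσq hσ2 ha,
      sigU_mulVec hσq hσ2 hx ha hxa, hf_smul_right, hf_add_left, hf_smul_left, ha, hax, hx',
      mul_zero, add_zero]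
    module
  rw [key]
  exact H.mul_mem (hS s) (hT x')

theorem inQ_conj (hσq : ∀ x, σ x = x ^ q) (hσ2 : ∀ x, σ (σ x) = x)
    (H : Subgroup ↥(Cfsg.SU n F q)) (a : Fin n → F) (ha : hf σ a a = 0)
    (g : ↥(Cfsg.SU n F q)) (hg : g ∈ H) (μ : F) (hμ : μ ≠ 0)
    (hga : ((g : SLn) : Mn) *ᵥ a = μ • a) {w : Fin n → F} (hw : InQ σ q H a w) :
    InQ σ q H a (σ μ • (((g : SLn) : Mn) *ᵥ w)) := by
  obtain ⟨hwa, hwH⟩ := hw
  have hσμ : σ μ ≠ 0 := fun h => hμ (by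
    have := congrArg σ h
    rwa [hσ2, map_zero] at this)
  -- `hf (g v) a = hf v a / σ μ`
  have hga' : ∀ v : Fin n → F, σ μ * hf σ (((g : SLn) : Mn) *ᵥ v) a = hf σ v a := by
    intro v
    rw [← su_hf hσq g v a, hga, hf_smul_right]
  have hgwa : hf σ (((g : SLn) : Mn) *ᵥ w) a = 0 := by
    have := hga' w
    rw [hwa] at this
    exact (mul_eq_zero.1 this).resolve_left hσμ
  have hwa' : hf σ (σ μ • (((g : SLn) : Mn) *ᵥ w)) a = 0 := by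
    rw [hf_smul_left, hgwa, mul_zero]
  refine ⟨hwa', fun β' hβ' => ?_⟩
  have hnorm : hf σ (σ μ • (((g : SLn) : Mn) *ᵥ w)) (σ μ • (((g : SLn) : Mn) *ᵥ w)) =
      μ * σ μ * hf σ w w := by
    rw [hf_smul_left, hf_smul_right, hσ2, su_hf hσq]; ring
  have hfixN : σ (μ * σ μ) = μ * σ μ := by rw [map_mul, hσ2, mul_comm]
  have hN0 : μ * σ μ ≠ 0 := mul_ne_zero hμ hσμ
  set β := β' / (μ * σ μ) with hβdef
  have hββ' : β' = β * (μ * σ μ) := by rw [hβdef]; field_simp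
  have hβ : β + σ β + hf σ w w = 0 := by
    have h1 : σ β = σ β' / (μ * σ μ) := by rw [hβdef, map_div₀, hfixN]
    rw [h1, hβdef]
    rw [hnorm] at hβ'
    field_simp
    linear_combination hβ'
  have key : siegU σ q a (σ μ • (((g : SLn) : Mn) *ᵥ w)) β' = g * siegU σ q a w β * g⁻¹ := by
    apply su_ext
    intro v
    obtain ⟨v₀, rfl⟩ : ∃ v₀, v = ((g : SLn) : Mn) *ᵥ v₀ :=
      ⟨_, (mulVec_inv_mulVec g v).symm⟩
    rw [mul_mulVec, mul_mulVec, inv_mulVec_mulVec, siegU_mulVec hσq hσ2 ha hwa hβ,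
      siegU_mulVec hσq hσ2 ha hwa' hβ', Matrix.mulVec_sub, Matrix.mulVec_add, Matrix.mulVec_smul,
      Matrix.mulVec_smul, Matrix.mulVec_add, Matrix.mulVec_smul, hga, hf_smul_right, hσ2,
      su_hf hσq, ← hga' v₀, hββ']
    module
  rw [key]
  exact H.mul_mem (H.mul_mem hg (hwH β hβ)) (H.inv_mem hg)

end Cfsg.Agent.Lib.Helper36.SUReg
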