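/-
helper36: hedge of module SLMD-[N-TAU] of helper32's PROJECT SLMD (S2332): every non-trivial element `qEl s a` of `Q`
(transvections with centre `e₀`) is conjugate to `x12 1` in `GG F k = SL_{k+2}(F)`.
-/
import Mathlib
import Cfsg.Agent.Lib.Helper32.SLMD.Defs2

set_option autoImplicit false
set_option linter.unusedSectionVars false
set_option linter.unusedVariables false

namespace Cfsg.Agent.Lib.Helper32.SLMD.NTau

open Matrix Cfsg.Agent.Lib.Helper41 Cfsg.Agent.Lib.Helper39 Module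

variable {F : Type*} [Field F] {k : ℕ}

/-- lower unipotent element `[[1, 0], [N, 1]]` -/
def lowL (N : Matrix (Fin k) (Fin 2) F) : GG F k :=
  ⟨fromBlocks 1 0 N 1, by rw [det_fromBlocks_zero₁₂]; simp⟩

@[simp] theorem coe_lowL (N : Matrix (Fin k) (Fin 2) F) :
    ((lowL N : GG F k) : Matrix (Fin 2 ⊕ Fin k) (Fin 2 ⊕ Fin k) F) = fromBlocks 1 0 N 1 := rfl

theorem a1El_zero : (a1El (0 : Fin k → F) : GG F k) = 1 := a1Hom.map_one

theorem qEl_zero_right (s : F) : (qEl s (0 : Fin k → F) : GG F k) = x12 s := by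
  unfold qEl
  rw [a1El_zero, mul_one]

theorem qEl_zero_left (a : Fin k → F) : (qEl (0 : F) a : GG F k) = a1El a := by
  unfold qEl
  rw [x12_zero, one_mul]

/-- `x12 1` is conjugate to `x12 s`, `s ≠ 0` -/
theorem exists_conj_x12 [NeZero k] (s : F) (hs : s ≠ 0) :
    ∃ g : GG F k, g * x12 1 * g⁻¹ = x12 s := by
  classical
  have hdet : s * 1 * (diagonal (fun i : Fin k => if i = 0 then s⁻¹ else 1)).det = 1 := by
    rw [det_diagonal, Finset.prod_ite_eq' Finset.univ (0 : Fin k) (fun _ => s⁻¹)]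
    simp [hs]
  refine ⟨levi s 1 (diagonal (fun i : Fin k => if i = 0 then s⁻¹ else 1)) hdet, ?_⟩
  rw [mul_inv_eq_iff_eq_mul]
  apply Subtype.ext
  have e1 : diagonal ![s, 1] * !![(1 : F), 1; 0, 1] = !![s, s; 0, 1] := by
    ext i j
    fin_cases i <;> fin_cases j <;> simp [Matrix.mul_apply, Fin.sum_univ_two, Matrix.diagonal_apply]
  have e2 : !![(1 : F), s; 0, 1] * diagonal ![s, 1] = !![s, s; 0, 1] := by
    ext i j
    fin_cases i <;> fin_cases j <;> simp [Matrix.mul_apply, Fin.sum_univ_two, Matrix.diagonal_apply]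
  rw [Matrix.SpecialLinearGroup.coe_mul, Matrix.SpecialLinearGroup.coe_mul, coe_levi, x12, x12,
    coe_iota, coe_iota, coe_upperU, coe_upperU]
  simp only [fromBlocks_multiply, Matrix.one_mul, Matrix.mul_one, Matrix.zero_mul, Matrix.mul_zero,
    add_zero, zero_add, e1, e2]

/-- `x12 s` is conjugate to `qEl s a`, `s ≠ 0` -/
theorem exists_conj_of_ne (s : F) (hs : s ≠ 0) (a : Fin k → F) :
    ∃ g : GG F k, g * x12 s * g⁻¹ = qEl s a := by
  refine ⟨a2El (-(s⁻¹ • a)), ?_⟩
  rw [← qEl_zero_right, a2El_conj_qEl]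
  congr 1
  rw [zero_sub, smul_neg, neg_neg, smul_smul, mul_inv_cancel₀ hs, one_smul]

/-- `x12 1` is conjugate to `a1El a`, `a ≠ 0` -/
theorem exists_conj_a1El (a : Fin k → F) (j : Fin k) (hj : a j ≠ 0) :
    ∃ g : GG F k, g * x12 1 * g⁻¹ = a1El a := by
  classical
  let N : Matrix (Fin k) (Fin 2) F := Matrix.of fun i c => if i = j ∧ c = 1 then (a j)⁻¹ else 0
  refine ⟨lowL N * a2El (-a), ?_⟩
  rw [mul_inv_eq_iff_eq_mul]
  apply Subtype.ext
  rw [Matrix.SpecialLinearGroup.coe_mul, Matrix.SpecialLinearGroup.coe_mul,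
    Matrix.SpecialLinearGroup.coe_mul, Matrix.SpecialLinearGroup.coe_mul, coe_lowL, a2El, a1El,
    coe_uQ2, coe_uQ2, x12, coe_iota, coe_upperU]
  have h1 : rowM a 0 * N = !![0, 1; 0, 0] := by
    ext r c
    fin_cases r <;> fin_cases c <;>
      simp [Matrix.mul_apply, N, rowM, Finset.sum_ite_eq', hj]
  have h2 : N * !![(1 : F), 1; 0, 1] = N := by
    ext i c
    fin_cases c <;> simp [Matrix.mul_apply, N, Fin.sum_univ_two]
  have h3 : N * rowM (0 : Fin k → F) (-a) =
      Matrix.of fun i i' => if i = j then -((a j)⁻¹ * a i') else 0 := by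
    ext i i'
    simp only [Matrix.mul_apply, Fin.sum_univ_two, N, Matrix.of_apply, rowM]
    by_cases hij : i = j <;> simp [hij]
  have h4 : rowM a (0 : Fin k → F) * (Matrix.of fun i i' => if i = j then -((a j)⁻¹ * a i') else 0) =
      rowM (-a) (0 : Fin k → F) := by
    ext r i'
    fin_cases r <;> simp [Matrix.mul_apply, rowM, Finset.sum_ite_eq', hj]
  have hA : (1 : Matrix (Fin 2) (Fin 2) F) + rowM a 0 * N = !![(1 : F), 1; 0, 1] := by
    rw [h1]
    ext r c
    fin_cases r <;> fin_cases c <;> simp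
  have hB : rowM (0 : Fin k → F) (-a) + rowM a 0 * (N * rowM (0 : Fin k → F) (-a) + 1) =
      rowM (0 : Fin k → F) (-a) := by
    rw [Matrix.mul_add, Matrix.mul_one, h3, h4]
    ext r i'
    fin_cases r <;> simp [rowM]
  simp only [fromBlocks_multiply, Matrix.one_mul, Matrix.mul_one, Matrix.zero_mul, Matrix.mul_zero,
    add_zero, zero_add, h2, hA, hB]

end Cfsg.Agent.Lib.Helper32.SLMD.NTau

namespace Cfsg.Agent.Lib.Helper32.SLMD

open Matrix Cfsg.Agent.Lib.Helper41 Cfsg.Agent.Lib.Helper39 Module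
open scoped LinearAlgebra.Projectivization

variable {F : Type*} [Field F] [Fintype F] [DecidableEq F] {k : ℕ}

/-- [N-TAU] -/
theorem exists_conj_qEl [NeZero k] (s : F) (a : Fin k → F) (h : s ≠ 0 ∨ a ≠ 0) :
    ∃ g : GG F k, g * x12 1 * g⁻¹ = qEl s a := by
  by_cases hs : s = 0
  · subst hs
    have ha : a ≠ 0 := by
      rcases h with h | h
      · exact absurd rfl h
      · exact h
    obtain ⟨j, hj⟩ : ∃ j, a j ≠ 0 := by
      by_contra hall
      push Not at hall
      exact ha (funext hall)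
    rw [NTau.qEl_zero_left]
    exact NTau.exists_conj_a1El a j hj
  · obtain ⟨g₁, hg₁⟩ := NTau.exists_conj_x12 (k := k) s hs
    obtain ⟨g₂, hg₂⟩ := NTau.exists_conj_of_ne s hs a
    refine ⟨g₂ * g₁, ?_⟩
    rw [← hg₂, ← hg₁]
    group

end Cfsg.Agent.Lib.Helper32.SLMD
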