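/-
helper36: ASCHO-[FRAME5].  `geoO_of_frame`: an orthogonal decomposition into isometric lines permuted by `H`, over a
non-prime field, puts `H` into a subfield group (class 5 up to a scalar).
-/
import Mathlib
import Cfsg.Prelude.Def_GeometricClasses
import Cfsg.Agent.Lib.Helper99.AschDefs
import Cfsg.Agent.Lib.Helper5.AschODefs
import Cfsg.Agent.Lib.Helper5.AschOBasic
import Cfsg.Agent.Lib.Helper84.AschC5
import Cfsg.Agent.Lib.Helper44.SubF1

set_option autoImplicit false
set_option linter.unusedSectionVars false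
set_option linter.unusedVariables false

namespace Cfsg.Agent.Lib.Helper36.AschOFrame5

open Cfsg Cfsg.Geo Cfsg.Agent.Lib.Helper99.Asch Cfsg.Agent.Lib.Helper5.AschO
open scoped MatrixGroups Matrix Kronecker

variable {n : ℕ} {F : Type*} [Field F] [Fintype F]

/-- the prime subfield is proper when `|F|` is not prime -/
theorem bot_ne_top_of_not_prime (hnp : ¬ (Fintype.card F).Prime) : (⊥ : Subfield F) ≠ ⊤ := by
  intro h
  obtain ⟨p, hp⟩ := CharP.exists F
  have : Fact p.Prime := ⟨CharP.char_is_prime F p⟩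
  have h1 := Subfield.card_bot F p
  rw [h] at h1
  have h2 : Nat.card (⊤ : Subfield F) = Nat.card F :=
    Nat.card_congr (Subfield.topEquiv (K := F)).toEquiv
  rw [h2, Nat.card_eq_fintype_card] at h1
  exact hnp (h1 ▸ (Fact.out : p.Prime))

/-- bilinear expansion of the polar form on two linear combinations of the same family -/
theorem polar_sum_sum {Q : (Fin n → F) → F} (hQ : IsNondegenerateQuadraticForm Q) {m : ℕ}
    (v : Fin m → (Fin n → F)) (x y : Fin m → F) :
    QuadraticMap.polar Q (∑ i, x i • v i) (∑ j, y j • v j) =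
      ∑ i, ∑ j, x i * y j * QuadraticMap.polar Q (v i) (v j) := by
  let B : (Fin n → F) →ₗ[F] (Fin n → F) →ₗ[F] F :=
    LinearMap.mk₂ F (QuadraticMap.polar Q) hQ.polar_bilinear.add_left hQ.polar_bilinear.smul_left
      hQ.polar_bilinear.add_right hQ.polar_bilinear.smul_right
  show B _ _ = ∑ i, ∑ j, x i * y j * B (v i) (v j)
  have e1 : ∀ w, B (∑ i, x i • v i) w = ∑ i, x i * B (v i) w := by
    intro w
    simp only [map_sum, map_smul, LinearMap.sum_apply, LinearMap.smul_apply, smul_eq_mul]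
  have e2 : ∀ u, B u (∑ j, y j • v j) = ∑ j, y j * B u (v j) := by
    intro u
    simp only [map_sum, map_smul, smul_eq_mul]
  rw [e1]
  refine Finset.sum_congr rfl fun i _ => ?_
  rw [e2, Finset.mul_sum]
  refine Finset.sum_congr rfl fun j _ => ?_
  ring

/-- `Q` on a linear combination of an orthogonal family of vectors of the same `Q`-value `c`. -/
theorem Q_sum_of_frame {Q : (Fin n → F) → F} (hQ : IsNondegenerateQuadraticForm Q) (h2 : (2 : F) ≠ 0)
    {m : ℕ} (v : Fin m → (Fin n → F)) (c : F) (hQv : ∀ i, Q (v i) = c)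
    (horth : ∀ i j, i ≠ j → QuadraticMap.polar Q (v i) (v j) = 0) (x : Fin m → F) :
    Q (∑ i, x i • v i) = c * ∑ i, x i ^ 2 := by
  rw [Q_eq_half_polar hQ h2, polar_sum_sum hQ]
  have h1 : ∀ i, ∑ j, x i * x j * QuadraticMap.polar Q (v i) (v j) = x i ^ 2 * (2 * c) := by
    intro i
    rw [Finset.sum_eq_single i]
    · rw [polar_self hQ, hQv]; ring
    · intro j _ hj
      rw [horth i j (Ne.symm hj), mul_zero]
    · intro hi; exact absurd (Finset.mem_univ i) hi
  rw [Finset.sum_congr rfl fun i _ => h1 i, ← Finset.sum_mul, mul_comm c]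
  field_simp

/-- A frame of `n` linearly independent, pairwise orthogonal vectors with the same non-zero `Q`-value, permuted up to
sign by `H`, over a non-prime field: `H` lies in a subfield group compatible with `Q` up to a scalar. -/
theorem geoO_of_signed_frame {Q : (Fin n → F) → F} {H : Subgroup (GL (Fin n) F)} (hS : OSetup Q H)
    (hnp : ¬ (Fintype.card F).Prime) (v : Fin n → (Fin n → F)) (c : F) (hc : c ≠ 0)
    (hli : LinearIndependent F v) (hQv : ∀ i, Q (v i) = c)
    (horth : ∀ i j, i ≠ j → QuadraticMap.polar Q (v i) (v j) = 0)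
    (hperm : ∀ h ∈ H, ∃ (σ : Equiv.Perm (Fin n)) (a : Fin n → F), (∀ i, a i = 1 ∨ a i = -1) ∧
      ∀ i, (h : Matrix (Fin n) (Fin n) F) *ᵥ v i = a i • v (σ i)) : GeoO Q H := by
  classical
  have h2 : (2 : F) ≠ 0 := two_ne_zero_of_odd_card hS.odd_card
  let P : Matrix (Fin n) (Fin n) F := Matrix.of fun k i => v i k
  have hPcol : P.col = v := rfl
  have hPu : IsUnit P := Matrix.linearIndependent_cols_iff_isUnit.1 (by rw [hPcol]; exact hli)
  have hPmul : ∀ u : Fin n → F, P *ᵥ u = ∑ i, u i • v i := by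
    intro u
    ext k
    simp only [Matrix.mulVec, dotProduct, P, Matrix.of_apply, Finset.sum_apply, Pi.smul_apply,
      smul_eq_mul]
    exact Finset.sum_congr rfl fun i _ => mul_comm _ _
  obtain ⟨F₁, r, hr, -, hcard⟩ :=
    Cfsg.Agent.Lib.Helper84.AschC5.exists_prime_degree_subfield (⊥ : Subfield F)
      (bot_ne_top_of_not_prime hnp)
  obtain ⟨Pg, hPg⟩ := hPu
  refine GeoO.of_5 hS.le F₁ r Pg c⁻¹ hr hcard (inv_ne_zero hc) ?_ ?_
  · intro u hu
    show c⁻¹ * Q ((Pg : Matrix (Fin n) (Fin n) F) *ᵥ u) ∈ F₁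
    rw [hPg, hPmul, Q_sum_of_frame hS.nondeg h2 v c hQv horth, ← mul_assoc,
      inv_mul_cancel₀ hc, one_mul]
    exact Subfield.sum_mem _ fun i _ => pow_mem (hu i) 2
  · intro h hh
    obtain ⟨σ, a, ha, hσ⟩ := hperm h hh
    let S : Matrix (Fin n) (Fin n) F := Matrix.of fun k i => if k = σ i then a i else 0
    have hmat : (h : Matrix (Fin n) (Fin n) F) * P = P * S := by
      ext r i
      have h1 : ((h : Matrix (Fin n) (Fin n) F) * P) r i =
          ((h : Matrix (Fin n) (Fin n) F) *ᵥ v i) r := rfl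
      rw [h1, hσ i]
      simp only [Matrix.mul_apply, P, S, Matrix.of_apply, Pi.smul_apply, smul_eq_mul, mul_ite,
        mul_zero, Finset.sum_ite_eq', Finset.mem_univ, if_true]
      exact mul_comm _ _
    have hval : ((Pg⁻¹ * h * Pg : GL (Fin n) F) : Matrix (Fin n) (Fin n) F) = S := by
      rw [Units.val_mul, Units.val_mul, mul_assoc, hPg, hmat, ← hPg, Units.inv_mul_cancel_left]
    have hmem : Pg⁻¹ * h * Pg ∈ Cfsg.Agent.Lib.Helper44.SubF.NGrp F₁ := by
      apply Cfsg.Agent.Lib.Helper44.SubF.mem_NGrp_of_ratMat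
      rw [hval]
      intro k i
      show (if k = σ i then a i else 0) ∈ F₁
      split_ifs
      · rcases ha i with h1 | h1 <;> rw [h1]
        · exact one_mem _
        · exact neg_mem (one_mem _)
      · exact zero_mem _
    refine ⟨Pg⁻¹ * h * Pg, hmem, ?_⟩
    show Pg * (Pg⁻¹ * h * Pg) * Pg⁻¹ = h
    group

end Cfsg.Agent.Lib.Helper36.AschOFrame5

namespace Cfsg.Agent.Lib.Helper5.AschO

open Cfsg Cfsg.Geo Cfsg.Agent.Lib.Helper99.Asch
open scoped MatrixGroups Matrix Kronecker

variable {n : ℕ} {F : Type*} [Field F] [Fintype F]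

/-- ASCHO-[FRAME5] -/
theorem geoO_of_frame {Q : (Fin n → F) → F} {H : Subgroup (GL (Fin n) F)} (hS : OSetup Q H)
    (hnp : ¬ (Fintype.card F).Prime) (t : ℕ) (D : Fin t → Submodule F (Fin n → F))
    (hD : IsOrthogonalMDecomposition Q 1 D)
    (hperm : ∀ h ∈ H, ∃ σ : Equiv.Perm (Fin t), ∀ i,
        (D i).map (Matrix.toLin' (h : Matrix (Fin n) (Fin n) F)) = D (σ i)) : GeoO Q H := by
  classical
  have h2 : (2 : F) ≠ 0 := two_ne_zero_of_odd_card hS.odd_card
  have hQ := hS.nondeg
  have hbil := hQ.polar_bilinear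
  have ht : 2 ≤ t := hD.decomp.decomp.two_le
  have hfr : ∀ i, Module.finrank F (D i) = 1 := hD.decomp.decomp.finrank_eq
  let i0 : Fin t := ⟨0, by omega⟩
  -- a non-zero vector of `D i0`
  obtain ⟨v0, hv0⟩ : ∃ x : D i0, x ≠ 0 :=
    Module.finrank_pos_iff_exists_ne_zero.1 (by rw [hfr]; exact Nat.one_pos)
  choose e he using fun i => hD.isometric i0 i
  let v : Fin t → (Fin n → F) := fun i => ((e i v0 : D i) : Fin n → F)
  have hvmem : ∀ i, v i ∈ D i := fun i => (e i v0).2
  have hvne' : ∀ i, e i v0 ≠ 0 := fun i => (LinearEquiv.map_ne_zero_iff (e i)).2 hv0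
  have hvne : ∀ i, v i ≠ 0 := fun i hi => hvne' i (Subtype.ext hi)
  have hQv : ∀ i, Q (v i) = Q (v0 : Fin n → F) := fun i => he i v0
  have hline : ∀ i, ∀ w ∈ D i, ∃ a : F, w = a • v i := by
    intro i w hw
    obtain ⟨a, ha⟩ := (finrank_eq_one_iff_of_nonzero' (e i v0) (hvne' i)).1 (hfr i) ⟨w, hw⟩
    refine ⟨a, ?_⟩
    have := congrArg (fun z : D i => (z : Fin n → F)) ha
    exact this.symm
  -- the common value is non-zero
  have hc : Q (v0 : Fin n → F) ≠ 0 := by
    intro h0
    have hv0' : (v0 : Fin n → F) ≠ 0 := fun hi => hv0 (Subtype.ext hi)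
    obtain ⟨⟨x, hx, hxv⟩, -⟩ := hD.decomp.nondegenerate i0 v0 v0.2 hv0'
    apply hxv
    obtain ⟨a, ha⟩ : ∃ a : F, x = a • (v0 : Fin n → F) := by
      obtain ⟨a, ha⟩ := (finrank_eq_one_iff_of_nonzero' v0 hv0).1 (hfr i0) ⟨x, hx⟩
      refine ⟨a, ?_⟩
      have := congrArg (fun z : D i0 => (z : Fin n → F)) ha
      exact this.symm
    rw [ha, hbil.smul_left, polar_self hQ, h0, mul_zero, mul_zero]
  -- independence and spanning
  have hli : LinearIndependent F v := hD.decomp.decomp.indep.linearIndependent D hvmem hvne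
  have hDspan : ∀ i, D i = Submodule.span F {v i} := by
    intro i
    apply le_antisymm
    · intro w hw
      obtain ⟨a, rfl⟩ := hline i w hw
      exact Submodule.smul_mem _ _ (Submodule.mem_span_singleton_self _)
    · rw [Submodule.span_singleton_le_iff_mem]; exact hvmem i
  have hspan : Submodule.span F (Set.range v) = ⊤ := by
    rw [Submodule.span_range_eq_iSup, ← hD.decomp.decomp.iSup_eq_top]
    exact iSup_congr fun i => (hDspan i).symm
  have htn : t = n := by
    let b : Module.Basis (Fin t) F (Fin n → F) := Module.Basis.mk hli (by rw [hspan])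
    have h1 := Module.finrank_eq_card_basis b
    rw [Module.finrank_fin_fun, Fintype.card_fin] at h1
    exact h1.symm
  subst htn
  refine Cfsg.Agent.Lib.Helper36.AschOFrame5.geoO_of_signed_frame hS hnp v (Q (v0 : Fin t → F)) hc hli hQv
    (fun i j hij => hD.decomp.orthogonal i j hij (v i) (hvmem i) (v j) (hvmem j)) ?_
  intro h hh
  obtain ⟨σ, hσ⟩ := hperm h hh
  have hmem : ∀ i, (h : Matrix (Fin t) (Fin t) F) *ᵥ v i ∈ D (σ i) := by
    intro i
    rw [← hσ i]
    exact ⟨v i, hvmem i, Matrix.toLin'_apply _ _⟩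
  choose a ha using fun i => hline (σ i) _ (hmem i)
  refine ⟨σ, a, fun i => ?_, ha⟩
  have hiso : Q ((h : Matrix (Fin t) (Fin t) F) *ᵥ v i) = Q (v i) :=
    (mem_isometryGroup_iff h).1 (hS.le hh) (v i)
  rw [ha i, hQ.smul, hQv, hQv] at hiso
  have h1 : a i * a i = 1 := by
    have : (a i ^ 2 - 1) * Q (v0 : Fin t → F) = 0 := by rw [sub_mul, hiso, one_mul, sub_self]
    rcases mul_eq_zero.1 this with h3 | h3
    · rw [← sq]; exact sub_eq_zero.1 h3
    · exact absurd h3 hc
  exact mul_self_eq_one_iff.1 h1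

end Cfsg.Agent.Lib.Helper5.AschO
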