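/-
helper36: project B2ISO (helper37, S1083): basics for the modules [G-ES] [G-RED] [G-O3] [G-ASM]
and the bundle `Deps` of the statements of [G-SIEGEL-MEM], [G-MOVE], [G-TRANS] they depend on.
-/
import Mathlib
import Cfsg.Agent.Lib.Helper37.B2Iso.Defs
import Cfsg.Agent.Lib.Helper66.B2IsoGSiegel
import Cfsg.Agent.Lib.Helper66.B2IsoGNormal

set_option autoImplicit false

namespace Cfsg.Agent.Lib.Helper36.B2Iso

open Matrix Cfsg.Lie Cfsg.Agent.Lib.Helper37.B2Iso Cfsg.Agent.Lib.Helper66.B2Iso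

variable {F : Type*} [Field F]

/-- the statements of [G-SIEGEL-MEM], [G-MOVE], [G-TRANS]. -/
structure Deps (F : Type*) [Field F] : Prop where
  TM_eV_mem : ∀ (a : I5), IsHyp a → ∀ (w : I5 → F), Bf (eV a) w = 0 → ∀ (g : ↥(OG F)),
    ((g : GL I5 F) : Matrix I5 I5 F) = TM (eV a) w → g ∈ E0 F
  exists_move : ∀ (a : I5), IsHyp a → ∀ (u u' : I5 → F), Qr u = 0 → Qr u' = 0 →
    Bf u (eV a) = Bf u' (eV a) → Bf u (eV a) ≠ 0 →
    ∃ g : ↥(OG F), g ∈ E0 F ∧ ((g : GL I5 F) : Matrix I5 I5 F) *ᵥ u = u' ∧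
      ((g : GL I5 F) : Matrix I5 I5 F) *ᵥ eV a = eV a ∧
      ∀ x : I5 → F, Bf x (eV a) = 0 → Bf x u = Bf x u' →
        ((g : GL I5 F) : Matrix I5 I5 F) *ᵥ x = x
  exists_trans : ∀ (u : I5 → F), u ≠ 0 → Qr u = 0 →
    ∃ g : ↥(OG F), g ∈ E0 F ∧ ((g : GL I5 F) : Matrix I5 I5 F) *ᵥ u = eV (eI 0)

theorem h36_coe_mul (g h : ↥(OG F)) :
    (((g * h : ↥(OG F)) : GL I5 F) : Matrix I5 I5 F) =
      ((g : GL I5 F) : Matrix I5 I5 F) * ((h : GL I5 F) : Matrix I5 I5 F) := rfl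

theorem h36_coe_mul_inv (g : ↥(OG F)) :
    ((g : GL I5 F) : Matrix I5 I5 F) * (((g⁻¹ : ↥(OG F)) : GL I5 F) : Matrix I5 I5 F) = 1 := by
  rw [← h36_coe_mul, mul_inv_cancel]
  rfl

theorem h36_coe_inv_mul (g : ↥(OG F)) :
    (((g⁻¹ : ↥(OG F)) : GL I5 F) : Matrix I5 I5 F) * ((g : GL I5 F) : Matrix I5 I5 F) = 1 := by
  rw [← h36_coe_mul, inv_mul_cancel]
  rfl

theorem h36_OG_ext (g h : ↥(OG F))
    (e : ((g : GL I5 F) : Matrix I5 I5 F) = ((h : GL I5 F) : Matrix I5 I5 F)) : g = h :=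
  Subtype.ext (Units.ext e)

theorem h36_OG_inv_mulVec (g : ↥(OG F)) (x y : I5 → F)
    (h : ((g : GL I5 F) : Matrix I5 I5 F) *ᵥ x = y) :
    (((g⁻¹ : ↥(OG F)) : GL I5 F) : Matrix I5 I5 F) *ᵥ y = x := by
  rw [← h, Matrix.mulVec_mulVec, h36_coe_inv_mul, Matrix.one_mulVec]

theorem h36_Qr_OG (g : ↥(OG F)) (x : I5 → F) :
    Qr (((g : GL I5 F) : Matrix I5 I5 F) *ᵥ x) = Qr x := (h66_mem_OG_iff (g : GL I5 F)).1 g.2 x

theorem h36_coe_mul_mulVec (g h : ↥(OG F)) (x : I5 → F) :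
    (((g * h : ↥(OG F)) : GL I5 F) : Matrix I5 I5 F) *ᵥ x =
      ((g : GL I5 F) : Matrix I5 I5 F) *ᵥ (((h : GL I5 F) : Matrix I5 I5 F) *ᵥ x) := by
  rw [h36_coe_mul, Matrix.mulVec_mulVec]

theorem h36_eV_ne_zero (a : I5) : (eV a : I5 → F) ≠ 0 := by
  intro h
  have := congrFun h a
  simp [eV] at this

theorem h36_mulVec_ne_zero (g : ↥(OG F)) (x : I5 → F) (hx : x ≠ 0) :
    ((g : GL I5 F) : Matrix I5 I5 F) *ᵥ x ≠ 0 := by
  intro h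
  apply hx
  have := h36_OG_inv_mulVec g x 0 h
  rw [← this, Matrix.mulVec_zero]

end Cfsg.Agent.Lib.Helper36.B2Iso
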