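/-
helper36: project B2ISO (helper37, S1083), module B2ISO-[G-ES]: all Siegel elements lie in `E0`,
and `E0` is normal in `O₅(F)`.
-/
import Mathlib
import Cfsg.Agent.Lib.Helper37.B2Iso.Defs
import Cfsg.Agent.Lib.Helper66.B2IsoGSiegel
import Cfsg.Agent.Lib.Helper66.B2IsoGNormal
import Cfsg.Agent.Lib.Helper36.B2IsoGBase

set_option autoImplicit false

namespace Cfsg.Agent.Lib.Helper36.B2Iso

open Matrix Cfsg.Lie Cfsg.Agent.Lib.Helper37.B2Iso
open Cfsg.Agent.Lib.Helper66.B2Iso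

variable {F : Type*} [Field F]

theorem h36_bv_zero : bv (0 : I5 → F) = 0 := by
  funext a
  simp [bv]

theorem h36_TM_zero_left (w : I5 → F) : TM (0 : I5 → F) w = 1 := by
  unfold TM
  rw [h36_bv_zero]
  ext i j
  simp [vecMulVec]

/-- [G-ES] relative to `Deps` ([G-TRANS] and [G-SIEGEL-MEM]). -/
theorem ES_le_E0_of (D : Deps F) : ES F ≤ E0 F := by
  unfold ES
  rw [Subgroup.closure_le]
  rintro g ⟨u, w, hu, huw, hg⟩
  rw [SetLike.mem_coe]
  by_cases hu0 : u = 0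
  · have : g = 1 := by
      apply h36_OG_ext
      rw [hg, hu0, h36_TM_zero_left]
      rfl
    rw [this]
    exact Subgroup.one_mem _
  obtain ⟨h, hhE, hhu⟩ := D.exists_trans u hu0 hu
  have hconj : (((h * g * h⁻¹ : ↥(OG F)) : GL I5 F) : Matrix I5 I5 F) =
      TM (eV (eI 0)) (((h : GL I5 F) : Matrix I5 I5 F) *ᵥ w) := by
    rw [h36_coe_mul, h36_coe_mul, hg,
      TM_conj ((h : GL I5 F) : Matrix I5 I5 F) (((h⁻¹ : ↥(OG F)) : GL I5 F) : Matrix I5 I5 F)
        (h36_Qr_OG h) (h36_coe_mul_inv h) u w, hhu]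
  have hB : Bf (eV (eI 0) : I5 → F) (((h : GL I5 F) : Matrix I5 I5 F) *ᵥ w) = 0 := by
    rw [← hhu, h66_Bf_OG, huw]
  have hmemE : h * g * h⁻¹ ∈ E0 F :=
    D.TM_eV_mem (eI 0) (by unfold IsHyp; decide) _ hB _ hconj
  have : g = h⁻¹ * (h * g * h⁻¹) * h := by group
  rw [this]
  exact Subgroup.mul_mem _ (Subgroup.mul_mem _ (Subgroup.inv_mem _ hhE) hmemE) hhE

theorem E0_normal_of (D : Deps F) : (E0 F).Normal := by
  have h : E0 F = ES F := le_antisymm E0_le_ES (ES_le_E0_of D)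
  rw [h]
  exact ES_normal

end Cfsg.Agent.Lib.Helper36.B2Iso
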