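/-
helper36: project B2ISO (helper37, S1083), module B2ISO-[G-RED]: every isometry can be moved by
`E0` to one fixing `e_1` and `f_1`.
-/
import Mathlib
import Cfsg.Agent.Lib.Helper37.B2Iso.Defs
import Cfsg.Agent.Lib.Helper66.B2IsoGSiegel
import Cfsg.Agent.Lib.Helper66.B2IsoGNormal
import Cfsg.Agent.Lib.Helper36.B2IsoGBase
import Cfsg.Agent.Lib.Helper36.B2IsoGES

set_option autoImplicit false

namespace Cfsg.Agent.Lib.Helper36.B2Iso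

open Matrix Cfsg.Lie Cfsg.Agent.Lib.Helper37.B2Iso
open Cfsg.Agent.Lib.Helper66.B2Iso

variable {F : Type*} [Field F]

/-- [G-RED] relative to `Deps`. -/
theorem exists_reduce_of (D : Deps F) (g : ↥(OG F)) :
    ∃ h : ↥(OG F), h ∈ E0 F ∧
      (((h * g : ↥(OG F)) : GL I5 F) : Matrix I5 I5 F) *ᵥ eV (eI 0) = eV (eI 0) ∧
      (((h * g : ↥(OG F)) : GL I5 F) : Matrix I5 I5 F) *ᵥ eV (fI 0) = eV (fI 0) := by
  have hypE : IsHyp (eI 0) := by unfold IsHyp; decide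
  have hypF : IsHyp (fI 0) := by unfold IsHyp; decide
  set u : I5 → F := ((g : GL I5 F) : Matrix I5 I5 F) *ᵥ eV (eI 0) with hu
  have hu0 : u ≠ 0 := h36_mulVec_ne_zero g _ (h36_eV_ne_zero _)
  have huQ : Qr u = 0 := by rw [hu, h36_Qr_OG, Qr_eV _ hypE]
  obtain ⟨h₁, h₁E, h₁u⟩ := D.exists_trans u hu0 huQ
  set f' : I5 → F := ((h₁ : GL I5 F) : Matrix I5 I5 F) *ᵥ
    (((g : GL I5 F) : Matrix I5 I5 F) *ᵥ eV (fI 0)) with hf'
  have hf'Q : Qr f' = 0 := by rw [hf', h36_Qr_OG, h36_Qr_OG, Qr_eV _ hypF]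
  have hB1 : Bf (eV (fI 0) : I5 → F) (eV (eI 0)) = 1 := by
    rw [Bf_eV_right _ _ hypE]
    simp [eV, opp]
  have hB : Bf f' (eV (eI 0)) = 1 := by
    rw [← h₁u, hf', hu, h66_Bf_OG, h66_Bf_OG, hB1]
  obtain ⟨h₂, h₂E, h₂f, h₂e, -⟩ := D.exists_move (eI 0) hypE f' (eV (fI 0)) hf'Q (Qr_eV _ hypF)
    (by rw [hB, hB1]) (by rw [hB]; exact one_ne_zero)
  refine ⟨h₂ * h₁, Subgroup.mul_mem _ h₂E h₁E, ?_, ?_⟩
  · rw [mul_assoc, h36_coe_mul_mulVec, h36_coe_mul_mulVec, ← hu, h₁u, h₂e]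
  · rw [mul_assoc, h36_coe_mul_mulVec, h36_coe_mul_mulVec, ← hf', h₂f]

end Cfsg.Agent.Lib.Helper36.B2Iso
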