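/-
helper36: project B2ISO (helper37, S1083), module B2ISO-[G-O3]: an isometry fixing `e_1, f_1` can be
moved by `E0` to `dM μ` or `dM μ * rM`.
-/
import Mathlib
import Cfsg.Agent.Lib.Helper37.B2Iso.Defs
import Cfsg.Agent.Lib.Helper66.B2IsoGSiegel
import Cfsg.Agent.Lib.Helper66.B2IsoGNormal
import Cfsg.Agent.Lib.Helper36.B2IsoGBase
import Cfsg.Agent.Lib.Helper36.B2IsoGES
import Cfsg.Agent.Lib.Helper36.B2IsoGRed

set_option autoImplicit false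

namespace Cfsg.Agent.Lib.Helper36.B2Iso

open Matrix Cfsg.Lie Cfsg.Agent.Lib.Helper37.B2Iso
open Cfsg.Agent.Lib.Helper66.B2Iso

variable {F : Type*} [Field F]

/-- `Q` in coordinates. -/
theorem h36_Qr_coord (v : I5 → F) :
    Qr v = v zI ^ 2 + v (eI 0) * v (fI 0) + v (eI 1) * v (fI 1) := by
  unfold Qr
  rw [Fin.sum_univ_two, add_assoc]

theorem h36_hyp (a : I5) (h : a ≠ zI) : IsHyp a := h

/-- a move at `a ∈ {e_2, f_2}` between vectors orthogonal to `e_1, f_1` fixes `e_1` and `f_1`. -/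
theorem h36_move_fix (D : Deps F) (a : I5) (ha : a = eI 1 ∨ a = fI 1) (u u' : I5 → F)
    (hu : Qr u = 0) (hu' : Qr u' = 0)
    (hβ : Bf u (eV a) = Bf u' (eV a)) (hβ0 : Bf u (eV a) ≠ 0)
    (hue : u (eI 0) = 0) (huf : u (fI 0) = 0) (hu'e : u' (eI 0) = 0) (hu'f : u' (fI 0) = 0) :
    ∃ g : ↥(OG F), g ∈ E0 F ∧ ((g : GL I5 F) : Matrix I5 I5 F) *ᵥ u = u' ∧
      ((g : GL I5 F) : Matrix I5 I5 F) *ᵥ eV a = eV a ∧
      ((g : GL I5 F) : Matrix I5 I5 F) *ᵥ eV (eI 0) = eV (eI 0) ∧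
      ((g : GL I5 F) : Matrix I5 I5 F) *ᵥ eV (fI 0) = eV (fI 0) := by
  have hypE : IsHyp (eI 0) := by unfold IsHyp; decide
  have hypF : IsHyp (fI 0) := by unfold IsHyp; decide
  have hypa : IsHyp a := by
    rcases ha with rfl | rfl <;> (unfold IsHyp; decide)
  obtain ⟨g, gE, gu, ga, gfix⟩ := D.exists_move a hypa u u' hu hu' hβ hβ0
  refine ⟨g, gE, gu, ga, ?_, ?_⟩
  · apply gfix
    · rw [Bf_eV_right _ _ hypa]
      rcases ha with rfl | rfl <;> simp [eV, opp]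
    · rw [Bf_comm, Bf_eV_right _ _ hypE, Bf_comm (eV (eI 0)) u', Bf_eV_right _ _ hypE]
      simp only [opp, Sum.swap_inl]
      rw [huf, hu'f]
  · apply gfix
    · rw [Bf_eV_right _ _ hypa]
      rcases ha with rfl | rfl <;> simp [eV, opp]
    · rw [Bf_comm, Bf_eV_right _ _ hypF, Bf_comm (eV (fI 0)) u', Bf_eV_right _ _ hypF]
      simp only [opp, Sum.swap_inr]
      rw [hue, hu'e]

/-- images under an isometry fixing `e_1, f_1` of vectors orthogonal to them are orthogonal to them. -/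
theorem h36_perp (g : ↥(OG F))
    (h1 : ((g : GL I5 F) : Matrix I5 I5 F) *ᵥ eV (eI 0) = eV (eI 0))
    (h2 : ((g : GL I5 F) : Matrix I5 I5 F) *ᵥ eV (fI 0) = eV (fI 0))
    (y : I5 → F) (hye : y (eI 0) = 0) (hyf : y (fI 0) = 0) :
    (((g : GL I5 F) : Matrix I5 I5 F) *ᵥ y) (eI 0) = 0 ∧
      (((g : GL I5 F) : Matrix I5 I5 F) *ᵥ y) (fI 0) = 0 := by
  have hypE : IsHyp (eI 0) := by unfold IsHyp; decide
  have hypF : IsHyp (fI 0) := by unfold IsHyp; decide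
  constructor
  · have := h66_Bf_OG g y (eV (fI 0))
    rw [h2, Bf_eV_right _ _ hypF, Bf_eV_right _ _ hypF] at this
    simpa [opp] using this.trans hye
  · have := h66_Bf_OG g y (eV (eI 0))
    rw [h1, Bf_eV_right _ _ hypE, Bf_eV_right _ _ hypE] at this
    simpa [opp] using this.trans hyf

/-- Step 1, main case. -/
theorem h36_step1a (D : Deps F) (g : ↥(OG F))
    (h1 : ((g : GL I5 F) : Matrix I5 I5 F) *ᵥ eV (eI 0) = eV (eI 0))
    (h2 : ((g : GL I5 F) : Matrix I5 I5 F) *ᵥ eV (fI 0) = eV (fI 0))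
    (ha1 : (((g : GL I5 F) : Matrix I5 I5 F) *ᵥ eV (eI 1)) (eI 1) ≠ 0) :
    ∃ h : ↥(OG F), h ∈ E0 F ∧ ∃ μ : F, μ ≠ 0 ∧
      (((h * g : ↥(OG F)) : GL I5 F) : Matrix I5 I5 F) *ᵥ eV (eI 0) = eV (eI 0) ∧
      (((h * g : ↥(OG F)) : GL I5 F) : Matrix I5 I5 F) *ᵥ eV (fI 0) = eV (fI 0) ∧
      (((h * g : ↥(OG F)) : GL I5 F) : Matrix I5 I5 F) *ᵥ eV (eI 1) = μ • eV (eI 1) := by
  have hypE1 : IsHyp (eI 1) := by unfold IsHyp; decide
  have hypF1 : IsHyp (fI 1) := by unfold IsHyp; decide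
  set u : I5 → F := ((g : GL I5 F) : Matrix I5 I5 F) *ᵥ eV (eI 1) with hu
  obtain ⟨hue, huf⟩ : u (eI 0) = 0 ∧ u (fI 0) = 0 :=
    h36_perp g h1 h2 (eV (eI 1)) (by simp [eV]) (by simp [eV])
  have huQ : Qr u = 0 := by rw [hu, h36_Qr_OG, Qr_eV _ hypE1]
  set μ : F := u (eI 1) with hμ
  have hu'Q : Qr (μ • (eV (eI 1) : I5 → F)) = 0 := by rw [Qr_smul, Qr_eV _ hypE1, mul_zero]
  have hβ : Bf u (eV (fI 1)) = Bf (μ • (eV (eI 1) : I5 → F)) (eV (fI 1)) := by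
    rw [Bf_eV_right _ _ hypF1, Bf_eV_right _ _ hypF1]
    simp [opp, eV, hμ]
  have hβ0 : Bf u (eV (fI 1)) ≠ 0 := by
    rw [Bf_eV_right _ _ hypF1]
    simpa [opp] using ha1
  obtain ⟨h, hE, hu', -, he, hf⟩ := h36_move_fix D (fI 1) (Or.inr rfl) u (μ • eV (eI 1)) huQ hu'Q hβ
    hβ0 hue huf (by simp [eV]) (by simp [eV])
  refine ⟨h, hE, μ, ha1, ?_, ?_, ?_⟩
  · rw [h36_coe_mul_mulVec, h1, he]
  · rw [h36_coe_mul_mulVec, h2, hf]
  · rw [h36_coe_mul_mulVec, ← hu, hu']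

/-- Step 1. -/
theorem h36_step1 (D : Deps F) (g : ↥(OG F))
    (h1 : ((g : GL I5 F) : Matrix I5 I5 F) *ᵥ eV (eI 0) = eV (eI 0))
    (h2 : ((g : GL I5 F) : Matrix I5 I5 F) *ᵥ eV (fI 0) = eV (fI 0)) :
    ∃ h : ↥(OG F), h ∈ E0 F ∧ ∃ μ : F, μ ≠ 0 ∧
      (((h * g : ↥(OG F)) : GL I5 F) : Matrix I5 I5 F) *ᵥ eV (eI 0) = eV (eI 0) ∧
      (((h * g : ↥(OG F)) : GL I5 F) : Matrix I5 I5 F) *ᵥ eV (fI 0) = eV (fI 0) ∧
      (((h * g : ↥(OG F)) : GL I5 F) : Matrix I5 I5 F) *ᵥ eV (eI 1) = μ • eV (eI 1) := by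
  have hypE1 : IsHyp (eI 1) := by unfold IsHyp; decide
  have hypF1 : IsHyp (fI 1) := by unfold IsHyp; decide
  by_cases ha1 : (((g : GL I5 F) : Matrix I5 I5 F) *ᵥ eV (eI 1)) (eI 1) ≠ 0
  · exact h36_step1a D g h1 h2 ha1
  · rw [not_not] at ha1
    set u : I5 → F := ((g : GL I5 F) : Matrix I5 I5 F) *ᵥ eV (eI 1) with hu
    obtain ⟨hue, huf⟩ : u (eI 0) = 0 ∧ u (fI 0) = 0 :=
      h36_perp g h1 h2 (eV (eI 1)) (by simp [eV]) (by simp [eV])
    have huQ : Qr u = 0 := by rw [hu, h36_Qr_OG, Qr_eV _ hypE1]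
    have hu0 : u ≠ 0 := h36_mulVec_ne_zero g _ (h36_eV_ne_zero _)
    have hz : u zI = 0 := by
      have := huQ
      rw [h36_Qr_coord, hue, ha1, zero_mul, zero_mul, add_zero, add_zero] at this
      exact pow_eq_zero_iff (two_ne_zero) |>.1 this
    have ha2 : u (fI 1) ≠ 0 := by
      intro h0
      apply hu0
      funext c
      rcases c with c | c | c
      · cases c; exact hz
      · fin_cases c
        · exact hue
        · exact ha1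
      · fin_cases c
        · exact huf
        · exact h0
    set a₂ : F := u (fI 1) with ha₂
    set u' : I5 → F := a₂ • (eV (fI 1) + eV zI - eV (eI 1)) with hu'
    have hu'Q : Qr u' = 0 := by
      rw [hu', Qr_smul, h36_Qr_coord]
      simp [eV]
    have hβ : Bf u (eV (eI 1)) = Bf u' (eV (eI 1)) := by
      rw [Bf_eV_right _ _ hypE1, Bf_eV_right _ _ hypE1]
      simp [opp, eV, hu', ha₂]
    have hβ0 : Bf u (eV (eI 1)) ≠ 0 := by
      rw [Bf_eV_right _ _ hypE1]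
      simpa [opp] using ha2
    obtain ⟨g₀, g₀E, g₀u, -, g₀e, g₀f⟩ := h36_move_fix D (eI 1) (Or.inl rfl) u u' huQ hu'Q hβ hβ0
      hue huf (by simp [hu', eV]) (by simp [hu', eV])
    have k1 : (((g₀ * g : ↥(OG F)) : GL I5 F) : Matrix I5 I5 F) *ᵥ eV (eI 0) = eV (eI 0) := by
      rw [h36_coe_mul_mulVec, h1, g₀e]
    have k2 : (((g₀ * g : ↥(OG F)) : GL I5 F) : Matrix I5 I5 F) *ᵥ eV (fI 0) = eV (fI 0) := by
      rw [h36_coe_mul_mulVec, h2, g₀f]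
    have k3 : ((((g₀ * g : ↥(OG F)) : GL I5 F) : Matrix I5 I5 F) *ᵥ eV (eI 1)) (eI 1) ≠ 0 := by
      rw [h36_coe_mul_mulVec, ← hu, g₀u, hu']
      simpa [eV] using ha2
    obtain ⟨h, hE, μ, hμ, e1, e2, e3⟩ := h36_step1a D (g₀ * g) k1 k2 k3
    refine ⟨h * g₀, Subgroup.mul_mem _ hE g₀E, μ, hμ, ?_, ?_, ?_⟩
    · rw [mul_assoc]; exact e1
    · rw [mul_assoc]; exact e2
    · rw [mul_assoc]; exact e3


/-- a matrix with `M e_j = d_j e_j` for all `j` is diagonal. -/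
theorem h36_eq_diagonal (M : Matrix I5 I5 F) (d : I5 → F)
    (h : ∀ j, M *ᵥ (eV j : I5 → F) = d j • eV j) : M = Matrix.diagonal d := by
  ext i j
  have := congrFun (h j) i
  unfold eV at this
  rw [Matrix.mulVec_single_one] at this
  rw [Matrix.diagonal_apply]
  by_cases hij : i = j
  · subst hij
    simpa using this
  · rw [if_neg hij]
    simpa [Pi.single_apply, hij] using this

/-- Step 2. -/
theorem h36_step2 (D : Deps F) (g : ↥(OG F)) (μ : F) (hμ : μ ≠ 0)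
    (h1 : ((g : GL I5 F) : Matrix I5 I5 F) *ᵥ eV (eI 0) = eV (eI 0))
    (h2 : ((g : GL I5 F) : Matrix I5 I5 F) *ᵥ eV (fI 0) = eV (fI 0))
    (h3 : ((g : GL I5 F) : Matrix I5 I5 F) *ᵥ eV (eI 1) = μ • eV (eI 1)) :
    ∃ h : ↥(OG F), h ∈ E0 F ∧
      (((h * g : ↥(OG F)) : GL I5 F) : Matrix I5 I5 F) *ᵥ eV (eI 0) = eV (eI 0) ∧
      (((h * g : ↥(OG F)) : GL I5 F) : Matrix I5 I5 F) *ᵥ eV (fI 0) = eV (fI 0) ∧
      (((h * g : ↥(OG F)) : GL I5 F) : Matrix I5 I5 F) *ᵥ eV (eI 1) = μ • eV (eI 1) ∧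
      (((h * g : ↥(OG F)) : GL I5 F) : Matrix I5 I5 F) *ᵥ eV (fI 1) = μ⁻¹ • eV (fI 1) := by
  have hypE1 : IsHyp (eI 1) := by unfold IsHyp; decide
  have hypF1 : IsHyp (fI 1) := by unfold IsHyp; decide
  set v : I5 → F := ((g : GL I5 F) : Matrix I5 I5 F) *ᵥ eV (fI 1) with hv
  obtain ⟨hve, hvf⟩ : v (eI 0) = 0 ∧ v (fI 0) = 0 :=
    h36_perp g h1 h2 (eV (fI 1)) (by simp [eV]) (by simp [eV])
  have hvQ : Qr v = 0 := by rw [hv, h36_Qr_OG, Qr_eV _ hypF1]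
  have hB : Bf v (eV (eI 1)) = μ⁻¹ := by
    have h0 : Bf v (μ • (eV (eI 1) : I5 → F)) = 1 := by
      rw [← h3, hv, h66_Bf_OG, Bf_eV_right _ _ hypE1]
      simp [eV, opp]
    rw [Bf_smul_right] at h0
    exact eq_inv_of_mul_eq_one_right h0
  have hu'Q : Qr (μ⁻¹ • (eV (fI 1) : I5 → F)) = 0 := by rw [Qr_smul, Qr_eV _ hypF1, mul_zero]
  have hβ : Bf v (eV (eI 1)) = Bf (μ⁻¹ • (eV (fI 1) : I5 → F)) (eV (eI 1)) := by
    rw [hB, Bf_eV_right _ _ hypE1]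
    simp [opp, eV]
  have hβ0 : Bf v (eV (eI 1)) ≠ 0 := by rw [hB]; exact inv_ne_zero hμ
  obtain ⟨h, hE, hv', he2, he, hf⟩ := h36_move_fix D (eI 1) (Or.inl rfl) v (μ⁻¹ • eV (fI 1)) hvQ
    hu'Q hβ hβ0 hve hvf (by simp [eV]) (by simp [eV])
  refine ⟨h, hE, ?_, ?_, ?_, ?_⟩
  · rw [h36_coe_mul_mulVec, h1, he]
  · rw [h36_coe_mul_mulVec, h2, hf]
  · rw [h36_coe_mul_mulVec, h3, Matrix.mulVec_smul, he2]
  · rw [h36_coe_mul_mulVec, ← hv, hv']

/-- Step 3. -/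
theorem h36_step3 (g : ↥(OG F)) (μ : F) (hμ : μ ≠ 0)
    (h1 : ((g : GL I5 F) : Matrix I5 I5 F) *ᵥ eV (eI 0) = eV (eI 0))
    (h2 : ((g : GL I5 F) : Matrix I5 I5 F) *ᵥ eV (fI 0) = eV (fI 0))
    (h3 : ((g : GL I5 F) : Matrix I5 I5 F) *ᵥ eV (eI 1) = μ • eV (eI 1))
    (h4 : ((g : GL I5 F) : Matrix I5 I5 F) *ᵥ eV (fI 1) = μ⁻¹ • eV (fI 1)) :
    ((g : GL I5 F) : Matrix I5 I5 F) = dM μ ∨ ((g : GL I5 F) : Matrix I5 I5 F) = dM μ * rM := by
  have hypE : IsHyp (eI 0) := by unfold IsHyp; decide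
  have hypF : IsHyp (fI 0) := by unfold IsHyp; decide
  have hypE1 : IsHyp (eI 1) := by unfold IsHyp; decide
  have hypF1 : IsHyp (fI 1) := by unfold IsHyp; decide
  set z : I5 → F := ((g : GL I5 F) : Matrix I5 I5 F) *ᵥ eV zI with hz
  have hzQ : z zI ^ 2 + z (eI 0) * z (fI 0) + z (eI 1) * z (fI 1) = 1 := by
    rw [← h36_Qr_coord, hz, h36_Qr_OG, Qr_eV_zI]
  have z1 : z (fI 0) = 0 := by
    have := h66_Bf_OG g (eV zI) (eV (eI 0))
    rw [h1, ← hz, Bf_eV_right _ _ hypE, Bf_eV_right _ _ hypE] at this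
    simpa [opp, eV] using this
  have z2 : z (eI 0) = 0 := by
    have := h66_Bf_OG g (eV zI) (eV (fI 0))
    rw [h2, ← hz, Bf_eV_right _ _ hypF, Bf_eV_right _ _ hypF] at this
    simpa [opp, eV] using this
  have z3 : z (fI 1) = 0 := by
    have := h66_Bf_OG g (eV zI) (eV (eI 1))
    rw [h3, ← hz, Bf_smul_right, Bf_eV_right _ _ hypE1, Bf_eV_right _ _ hypE1] at this
    have h0 : μ * z (fI 1) = 0 := by simpa [opp, eV] using this
    exact (mul_eq_zero.1 h0).resolve_left hμ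
  have z4 : z (eI 1) = 0 := by
    have := h66_Bf_OG g (eV zI) (eV (fI 1))
    rw [h4, ← hz, Bf_smul_right, Bf_eV_right _ _ hypF1, Bf_eV_right _ _ hypF1] at this
    have h0 : μ⁻¹ * z (eI 1) = 0 := by simpa [opp, eV] using this
    exact (mul_eq_zero.1 h0).resolve_left (inv_ne_zero hμ)
  rw [z1, z3, mul_zero, mul_zero, add_zero, add_zero, pow_two] at hzQ
  have hzeq : z = z zI • eV zI := by
    funext c
    rcases c with c | c | c
    · cases c; simp [eV]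
    · fin_cases c
      · simpa [eV] using z2
      · simpa [eV] using z4
    · fin_cases c
      · simpa [eV] using z1
      · simpa [eV] using z3
  rcases mul_self_eq_one_iff.1 hzQ with hc | hc
  · left
    unfold dM
    apply h36_eq_diagonal
    intro j
    rcases j with j | j | j
    · cases j
      show ((g : GL I5 F) : Matrix I5 I5 F) *ᵥ eV zI = _
      rw [← hz, hzeq, hc]
      simp
    · fin_cases j
      · show ((g : GL I5 F) : Matrix I5 I5 F) *ᵥ eV (eI 0) = _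
        rw [h1]; simp
      · show ((g : GL I5 F) : Matrix I5 I5 F) *ᵥ eV (eI 1) = _
        rw [h3]; simp
    · fin_cases j
      · show ((g : GL I5 F) : Matrix I5 I5 F) *ᵥ eV (fI 0) = _
        rw [h2]; simp
      · show ((g : GL I5 F) : Matrix I5 I5 F) *ᵥ eV (fI 1) = _
        rw [h4]; simp
  · right
    unfold dM rM
    rw [Matrix.diagonal_mul_diagonal]
    apply h36_eq_diagonal
    intro j
    rcases j with j | j | j
    · cases j
      show ((g : GL I5 F) : Matrix I5 I5 F) *ᵥ eV zI = _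
      rw [← hz, hzeq, hc]
      simp
    · fin_cases j
      · show ((g : GL I5 F) : Matrix I5 I5 F) *ᵥ eV (eI 0) = _
        rw [h1]; simp
      · show ((g : GL I5 F) : Matrix I5 I5 F) *ᵥ eV (eI 1) = _
        rw [h3]; simp
    · fin_cases j
      · show ((g : GL I5 F) : Matrix I5 I5 F) *ᵥ eV (fI 0) = _
        rw [h2]; simp
      · show ((g : GL I5 F) : Matrix I5 I5 F) *ᵥ eV (fI 1) = _
        rw [h4]; simp

/-- [G-O3] relative to `Deps`. -/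
theorem exists_diag_of (D : Deps F) (g : ↥(OG F))
    (h1 : ((g : GL I5 F) : Matrix I5 I5 F) *ᵥ eV (eI 0) = eV (eI 0))
    (h2 : ((g : GL I5 F) : Matrix I5 I5 F) *ᵥ eV (fI 0) = eV (fI 0)) :
    ∃ h : ↥(OG F), h ∈ E0 F ∧ ∃ μ : F, μ ≠ 0 ∧
      ((((h * g : ↥(OG F)) : GL I5 F) : Matrix I5 I5 F) = dM μ ∨
       (((h * g : ↥(OG F)) : GL I5 F) : Matrix I5 I5 F) = dM μ * rM) := by
  obtain ⟨k₁, k₁E, μ, hμ, a1, a2, a3⟩ := h36_step1 D g h1 h2
  obtain ⟨k₂, k₂E, b1, b2, b3, b4⟩ := h36_step2 D (k₁ * g) μ hμ a1 a2 a3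
  refine ⟨k₂ * k₁, Subgroup.mul_mem _ k₂E k₁E, μ, hμ, ?_⟩
  rw [mul_assoc]
  exact h36_step3 (k₂ * (k₁ * g)) μ hμ b1 b2 b3 b4

end Cfsg.Agent.Lib.Helper36.B2Iso
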