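/-
helper36: project B2ISO (helper37, S1083), module B2ISO-[G-ASM]: `[O₅(F), O₅(F)] = E0`.
-/
import Mathlib
import Cfsg.Agent.Lib.Helper37.B2Iso.Defs
import Cfsg.Agent.Lib.Helper66.B2IsoGSiegel
import Cfsg.Agent.Lib.Helper66.B2IsoGNormal
import Cfsg.Agent.Lib.Helper36.B2IsoGBase
import Cfsg.Agent.Lib.Helper36.B2IsoGES
import Cfsg.Agent.Lib.Helper36.B2IsoGRed
import Cfsg.Agent.Lib.Helper36.B2IsoGO3

set_option autoImplicit false

namespace Cfsg.Agent.Lib.Helper36.B2Iso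

open Matrix Cfsg.Lie Cfsg.Agent.Lib.Helper37.B2Iso
open Cfsg.Agent.Lib.Helper66.B2Iso

variable {F : Type*} [Field F]

/-- every isometry is congruent modulo `E0` to a diagonal one. -/
theorem h36_exists_diagonal (D : Deps F) (g : ↥(OG F)) :
    ∃ h : ↥(OG F), h ∈ E0 F ∧ ∃ d : I5 → F,
      (((h * g : ↥(OG F)) : GL I5 F) : Matrix I5 I5 F) = Matrix.diagonal d := by
  obtain ⟨h₁, h₁E, a1, a2⟩ := exists_reduce_of D g
  obtain ⟨h₂, h₂E, μ, -, hd⟩ := exists_diag_of D (h₁ * g) a1 a2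
  refine ⟨h₂ * h₁, Subgroup.mul_mem _ h₂E h₁E, ?_⟩
  rw [mul_assoc]
  rcases hd with hd | hd
  · exact ⟨_, by rw [hd]; rfl⟩
  · rw [hd]
    unfold dM rM
    rw [Matrix.diagonal_mul_diagonal]
    exact ⟨_, rfl⟩

/-- [G-ASM] relative to `Deps`. -/
theorem commutator_le_E0_of (D : Deps F) : commutator ↥(OG F) ≤ E0 F := by
  have : (E0 F).Normal := E0_normal_of D
  rw [commutator_def, Subgroup.commutator_le]
  intro g₁ _ g₂ _
  obtain ⟨h₁, h₁E, d₁, e₁⟩ := h36_exists_diagonal D g₁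
  obtain ⟨h₂, h₂E, d₂, e₂⟩ := h36_exists_diagonal D g₂
  have hcomm : (h₁ * g₁) * (h₂ * g₂) = (h₂ * g₂) * (h₁ * g₁) := by
    apply h36_OG_ext
    rw [h36_coe_mul (h₁ * g₁) (h₂ * g₂), h36_coe_mul (h₂ * g₂) (h₁ * g₁), e₁, e₂,
      Matrix.diagonal_mul_diagonal, Matrix.diagonal_mul_diagonal]
    congr 1
    funext i
    exact mul_comm _ _
  have hφ : ∀ (h g : ↥(OG F)), h ∈ E0 F →
      QuotientGroup.mk' (E0 F) (h * g) = QuotientGroup.mk' (E0 F) g := by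
    intro h g hh
    have h1 : QuotientGroup.mk' (E0 F) h = 1 := (QuotientGroup.eq_one_iff h).2 hh
    rw [map_mul, h1, one_mul]
  have key : QuotientGroup.mk' (E0 F) (g₁ * g₂ * g₁⁻¹ * g₂⁻¹) = 1 := by
    have e1 := hφ h₁ g₁ h₁E
    have e2 := hφ h₂ g₂ h₂E
    have e3 : QuotientGroup.mk' (E0 F) ((h₁ * g₁) * (h₂ * g₂) * (h₁ * g₁)⁻¹ * (h₂ * g₂)⁻¹) = 1 := by
      rw [hcomm]
      have : h₂ * g₂ * (h₁ * g₁) * (h₁ * g₁)⁻¹ * (h₂ * g₂)⁻¹ = 1 := by group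
      rw [this, map_one]
    rw [map_mul, map_mul, map_mul, map_inv, map_inv, e1, e2] at e3
    rw [map_mul, map_mul, map_mul, map_inv, map_inv]
    exact e3
  exact (QuotientGroup.eq_one_iff _).1 key

theorem commutator_eq_E0_of (D : Deps F) (hc : E0 F ≤ commutator ↥(OG F)) :
    commutator ↥(OG F) = E0 F :=
  le_antisymm (commutator_le_E0_of D) hc

end Cfsg.Agent.Lib.Helper36.B2Iso
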