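/-
helper36: project B2ISO (helper37, S1083), module B2ISO-[G-COMM] (hedge): root elements are
commutators, `E0 ≤ [O₅(F), O₅(F)]` when `|F| > 2`.  On top of helper66's [G-SIEGEL] and helper13's
[G-ROOT], [G-MEM].
-/
import Mathlib
import Cfsg.Agent.Lib.Helper37.B2Iso.Defs
import Cfsg.Agent.Lib.Helper66.B2IsoGSiegel
import Cfsg.Agent.Lib.Helper13.B2IsoGRoot
import Cfsg.Agent.Lib.Helper13.B2IsoGMem

set_option autoImplicit false

namespace Cfsg.Agent.Lib.Helper36.B2Iso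

open Matrix Cfsg.Lie Cfsg.Agent.Lib.Helper37.B2Iso
open Cfsg.Agent.Lib.Helper66.B2Iso Cfsg.Agent.Lib.Helper13.B2Iso

variable {F : Type*} [Field F]

theorem h36_hM_mulVec_eV (a : I5) (μ : F) : hM a μ *ᵥ (eV a : I5 → F) = μ • eV a := by
  rw [hM_mulVec]
  funext c
  by_cases hc : c = a
  · subst hc; simp [eV]
  · simp [eV, hc]

theorem h36_hM_mulVec_smul_eV (a b : I5) (hba : b ≠ a) (hbo : b ≠ opp a) (μ t : F) :
    hM a μ *ᵥ (t • (eV b : I5 → F)) = t • eV b := by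
  rw [hM_mulVec]
  funext c
  by_cases hc : c = b
  · subst hc; simp [eV, hba, hbo]
  · simp [eV, hc]

/-- [G-COMM] -/
theorem hM_conj (a b : I5) (h : Valid a b) (μ : F) (hμ : μ ≠ 0) (t : F) :
    hM a μ * TM (eV a) (t • eV b) * hM a μ⁻¹ = TM (eV a) ((μ * t) • eV b) := by
  rw [TM_conj (hM a μ) (hM a μ⁻¹) (Qr_hM a h.1 μ hμ) (hM_mul_hM a μ hμ) (eV a) (t • eV b),
    h36_hM_mulVec_eV, h36_hM_mulVec_smul_eV a b h.2.1 h.2.2, TM_scale, smul_smul]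

theorem h36_coe_mul' (g h : ↥(OG F)) :
    (((g * h : ↥(OG F)) : GL I5 F) : Matrix I5 I5 F) =
      ((g : GL I5 F) : Matrix I5 I5 F) * ((h : GL I5 F) : Matrix I5 I5 F) := rfl

/-- [G-COMM] -/
theorem E0_le_commutator (hF : ∃ a : F, a ≠ 0 ∧ a ≠ 1) : E0 F ≤ commutator ↥(OG F) := by
  obtain ⟨l, hl0, hl1⟩ := hF
  have hl1' : l - 1 ≠ 0 := sub_ne_zero.2 hl1
  unfold E0
  rw [Subgroup.closure_le]
  rintro g ⟨a, b, hab, t, hg⟩
  rw [SetLike.mem_coe]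
  set s : F := t / (l - 1) with hs
  have hQa : Qr (eV a : I5 → F) = 0 := Qr_eV a hab.1
  have hB : ∀ c : F, Bf (eV a : I5 → F) (c • eV b) = 0 := by
    intro c
    rw [Bf_smul_right, Bf_eV_eV a b hab, mul_zero]
  obtain ⟨g₁, hg₁⟩ := exists_hO a hab.1 l hl0
  obtain ⟨g₁', hg₁'⟩ := exists_hO a hab.1 l⁻¹ (inv_ne_zero hl0)
  obtain ⟨g₂, hg₂⟩ := exists_rootO a b hab s
  obtain ⟨g₂', hg₂'⟩ := exists_rootO a b hab (-s)
  have e1 : g₁' = g₁⁻¹ := by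
    apply eq_inv_of_mul_eq_one_right
    apply OG_ext
    rw [h36_coe_mul', hg₁, hg₁', hM_mul_hM a l hl0]
    rfl
  have e2 : g₂' = g₂⁻¹ := by
    apply eq_inv_of_mul_eq_one_right
    apply OG_ext
    rw [h36_coe_mul', hg₂, hg₂', TM_mul _ _ _ hQa (hB _) (hB _), ← add_smul, add_neg_cancel,
      zero_smul, TM_zero]
    rfl
  have key : g = g₁ * g₂ * g₁⁻¹ * g₂⁻¹ := by
    rw [← e1, ← e2]
    apply OG_ext
    rw [h36_coe_mul', h36_coe_mul', h36_coe_mul', hg, hg₁, hg₂, hg₁', hg₂',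
      hM_conj a b hab l hl0 s, TM_mul _ _ _ hQa (hB _) (hB _), ← add_smul]
    congr 2
    rw [hs]
    field_simp
    ring
  rw [key, commutator_def]
  exact Subgroup.commutator_mem_commutator (Subgroup.mem_top g₁) (Subgroup.mem_top g₂)

end Cfsg.Agent.Lib.Helper36.B2Iso
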