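/-
helper36: project B2ISO (helper37, S1083), modules B2ISO-[G-ES] [G-RED] [G-O3] [G-ASM], exact sheet
statements (on top of helper66's hypothesis-free [G-MOVE] / [G-TRANS] / local [G-SIEGEL-MEM]).
`commutator_eq_E0` is given relative to the statement of [G-COMM] (`commutator_eq_E0_of'`).
-/
import Mathlib
import Cfsg.Agent.Lib.Helper37.B2Iso.Defs
import Cfsg.Agent.Lib.Helper66.B2IsoGMove
import Cfsg.Agent.Lib.Helper36.B2IsoGBase
import Cfsg.Agent.Lib.Helper36.B2IsoGES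
import Cfsg.Agent.Lib.Helper36.B2IsoGRed
import Cfsg.Agent.Lib.Helper36.B2IsoGO3
import Cfsg.Agent.Lib.Helper36.B2IsoGAsm

set_option autoImplicit false

namespace Cfsg.Agent.Lib.Helper36.B2Iso

open Matrix Cfsg.Lie Cfsg.Agent.Lib.Helper37.B2Iso

variable {F : Type*} [Field F]

/-- the dependencies, from helper66's files. -/
theorem deps : Deps F :=
  ⟨Cfsg.Agent.Lib.Helper66.B2Iso.h66_TM_eV_mem, Cfsg.Agent.Lib.Helper66.B2Iso.exists_move,
    Cfsg.Agent.Lib.Helper66.B2Iso.exists_trans⟩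

/-! ## [G-ES] all Siegel elements lie in `E0` -/
theorem ES_le_E0 : ES F ≤ E0 F := ES_le_E0_of deps
theorem E0_normal : (E0 F).Normal := E0_normal_of deps

/-! ## [G-RED] -/
theorem exists_reduce (g : ↥(OG F)) :
    ∃ h : ↥(OG F), h ∈ E0 F ∧
      (((h * g : ↥(OG F)) : GL I5 F) : Matrix I5 I5 F) *ᵥ eV (eI 0) = eV (eI 0) ∧
      (((h * g : ↥(OG F)) : GL I5 F) : Matrix I5 I5 F) *ᵥ eV (fI 0) = eV (fI 0) :=
  exists_reduce_of deps g

/-! ## [G-O3] -/
theorem exists_diag (g : ↥(OG F))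
    (h1 : ((g : GL I5 F) : Matrix I5 I5 F) *ᵥ eV (eI 0) = eV (eI 0))
    (h2 : ((g : GL I5 F) : Matrix I5 I5 F) *ᵥ eV (fI 0) = eV (fI 0)) :
    ∃ h : ↥(OG F), h ∈ E0 F ∧ ∃ μ : F, μ ≠ 0 ∧
      ((((h * g : ↥(OG F)) : GL I5 F) : Matrix I5 I5 F) = dM μ ∨
       (((h * g : ↥(OG F)) : GL I5 F) : Matrix I5 I5 F) = dM μ * rM) :=
  exists_diag_of deps g h1 h2

/-! ## [G-ASM] -/
theorem commutator_le_E0 : commutator ↥(OG F) ≤ E0 F := commutator_le_E0_of deps

/-- [G-ASM], second statement, relative to the statement of [G-COMM]. -/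
theorem commutator_eq_E0_of' (hc : E0 F ≤ commutator ↥(OG F)) : commutator ↥(OG F) = E0 F :=
  commutator_eq_E0_of deps hc

end Cfsg.Agent.Lib.Helper36.B2Iso
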