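/-
helper36: project B2ISO (helper37, S1083), module B2ISO-[G-ASM], last statement
`commutator_eq_E0` in exact form (on top of `B2IsoGFinal` and the hedge `B2IsoGComm`).
-/
import Mathlib
import Cfsg.Agent.Lib.Helper37.B2Iso.Defs
import Cfsg.Agent.Lib.Helper36.B2IsoGFinal
import Cfsg.Agent.Lib.Helper36.B2IsoGComm

set_option autoImplicit false

namespace Cfsg.Agent.Lib.Helper36.B2Iso

open Matrix Cfsg.Lie Cfsg.Agent.Lib.Helper37.B2Iso

variable {F : Type*} [Field F]

/-- [G-ASM] -/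
theorem commutator_eq_E0 (hF : ∃ a : F, a ≠ 0 ∧ a ≠ 1) : commutator ↥(OG F) = E0 F :=
  commutator_eq_E0_of' (E0_le_commutator hF)

end Cfsg.Agent.Lib.Helper36.B2Iso
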