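import Mathlib
import Cfsg.Agent.Lib.Helper37.BHRSU5.Defs

/-!
helper36: BHRSU5-[C-POLY] (helper37's sheet, S5796): the factorisation of `x¹¹ - 1` over `F_4`.
-/

set_option autoImplicit false

namespace Cfsg.Agent.Lib.Helper37.BHRSU5

open Cfsg Cfsg.Geo Cfsg.Agent.Lib.Helper37.BHRSU
open Cfsg.Agent.Lib.Helper56.F4 (w v)
open scoped MatrixGroups Matrix

/-- `w + v = 1` in an `F4c`-algebra -/
theorem algebraMap_w_add_v {A : Type*} [CommRing A] [Algebra F4c A] :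
    algebraMap F4c A w + algebraMap F4c A v = 1 := by
  rw [← map_add]
  have h : (w + v : F4c) = 1 := by decide
  rw [h, map_one]

/-- `w * v = 1` in an `F4c`-algebra -/
theorem algebraMap_w_mul_v {A : Type*} [CommRing A] [Algebra F4c A] :
    algebraMap F4c A w * algebraMap F4c A v = 1 := by
  rw [← map_mul]
  have h : (w * v : F4c) = 1 := by decide
  rw [h, map_one]

/-- `2 = 0` in an `F4c`-algebra -/
theorem two_eq_zero_of_algebra {A : Type*} [CommRing A] [Algebra F4c A] : (2 : A) = 0 := by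
  have h : (2 : F4c) = 0 := by decide
  have h2 := congrArg (algebraMap F4c A) h
  rwa [map_ofNat, map_zero] at h2

set_option maxHeartbeats 1000000 in
theorem g_identity {A : Type*} [CommRing A] [Algebra F4c A] (x : A) : (x - 1) * g2 x * g1 x = x ^ 11 - 1 := by
  have h1 := algebraMap_w_add_v (A := A)
  have h2 := algebraMap_w_mul_v (A := A)
  have h3 := two_eq_zero_of_algebra (A := A)
  simp only [g1, g2, Algebra.smul_def]
  generalize algebraMap F4c A w = a at *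
  generalize algebraMap F4c A v = b at *
  linear_combination (x^10 + (-1)*x^9 + x^8 + x^7 + x^6*a + x^6*b + (-1)*x^6 + (-1)*x^5*a + (-1)*x^5*b + x^5 + (-1)*x^4 + (-1)*x^3 + x^2 + (-1)*x) * h1 + (x^9 + (-1)*x^8 + (-2)*x^6 + (2)*x^5 + x^3 + (-1)*x^2) * h2 + (x^9 + (-1)*x^2) * h3

/-- `g₂` is the reciprocal of `g₁` -/
theorem g2_inv {A : Type*} [CommRing A] [Algebra F4c A] (x y : A) (hxy : x * y = 1) : x ^ 5 * g2 y = g1 x := by
  simp only [g1, g2, Algebra.smul_def]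
  generalize algebraMap F4c A w = a at *
  generalize algebraMap F4c A v = b at *
  linear_combination ((x^4*y^4 + x^3*y^3 + x^2*y^2 + x*y + 1) + a * x * (x^3*y^3 + x^2*y^2 + x*y + 1)
    + x^2 * (x^2*y^2 + x*y + 1) + x^3 * (x*y + 1) + b * x^4) * hxy

set_option maxHeartbeats 4000000 in
/-- Frobenius: `g₁(x)⁴ = g₁(x⁴)` (the coefficients lie in `F_4`, characteristic 2) -/
theorem g1_pow_four {A : Type*} [CommRing A] [Algebra F4c A] (x : A) : g1 x ^ 4 = g1 (x ^ 4) := by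
  have h1 := algebraMap_w_add_v (A := A)
  have h2 := algebraMap_w_mul_v (A := A)
  have h3 := two_eq_zero_of_algebra (A := A)
  simp only [g1, Algebra.smul_def]
  generalize algebraMap F4c A w = a at *
  generalize algebraMap F4c A v = b at *
  linear_combination ((4)*x^19 + (6)*x^18*b + (6)*x^18 + (-4)*x^17*a*b + (4)*x^17*b^2 + (4)*x^17*b + (16)*x^17 + x^16*a^2*b + (-1)*x^16*a*b^2 + (-2)*x^16*a*b + (-1)*x^16*a + x^16*b^3 + x^16*b^2 + (13)*x^16*b + (24)*x^16 + (-4)*x^15*a*b + (4)*x^15*b^2 + (16)*x^15*b + (28)*x^15 + (8)*x^14*a*b + (4)*x^14*b^2 + (10)*x^14*b + (46)*x^14 + (-4)*x^13*a^2*b + (4)*x^13*a*b^2 + (4)*x^13*a*b + (4)*x^13*a + (24)*x^13*b + (40)*x^13 + (8)*x^12*a*b + (6)*x^12*a + (4)*x^12*b^2 + (10)*x^12*b + (46)*x^12 + (12)*x^11*a*b + (12)*x^11*b + (48)*x^11 + (6)*x^10*a^2*b + (6)*x^10*a + (12)*x^10*b + (28)*x^10 + (12)*x^9*a*b + (12)*x^9*a + (36)*x^9 +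 (4)*x^8*a^2 + (10)*x^8*a + (6)*x^8*b + (18)*x^8 + (28)*x^7*a + (12)*x^7 + (4)*x^6*a^2 + (10)*x^6*a + (12)*x^6 + (4)*x^5*a^2 + (16)*x^5*a + x^4*a^3 + x^4*a^2 + (12)*x^4*a + (4)*x^4 + (4)*x^3*a^2 + (4)*x^3*a + (6)*x^2*a) * h1 + ((-6)*x^18 + (4)*x^17*a + (-8)*x^17 + (-1)*x^16*a^2 + (3)*x^16*a + (-14)*x^16 + (4)*x^15*a + (-8)*x^15 + (-8)*x^14*a + (-2)*x^14 + (4)*x^13*a^2 + (-8)*x^13*a + (-8)*x^12*a + (16)*x^12 + (12)*x^11 + (-6)*x^10*a^2 + (6)*x^10*a + (30)*x^10 + (12)*x^9 + (8)*x^8*a + (8)*x^8 + (4)*x^7*a^2 + (-4)*x^7 + (8)*x^6*a + (-10)*x^6 + (-4)*x^5*a + (-4)*x^5 + (-1)*x^4*a^2 + (-1)*x^4*a + (-12)*x^4 + (-4)*x^3*a + (-4)*x^3 + (-6)*x^2) * h2 + ((-2)*x^19*a + (2)*x^19 + (-3)*x^18*a + (2)*x^18 + (-6)*x^17*a + (6)*x^17 + (-9)*x^16*a + (8)*x^16 + (-12)*x^15*a + (18)*x^15 + (-21)*x^14*a + (27)*x^14 + (-16)*x^13*a + (32)*x^13 + (-18)*x^12*a + (43)*x^12 + (-6)*x^11*a +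 (40)*x^11 + (47)*x^10 + (6)*x^9*a + (34)*x^9 + (18)*x^8*a + (25)*x^8 + (16)*x^7*a + (16)*x^7 + (21)*x^6*a + (6)*x^6 + (12)*x^5*a + (6)*x^5 + (9)*x^4*a + (-1)*x^4 + (6)*x^3*a + (3)*x^2*a + (-1)*x^2 + (2)*x*a) * h3

end Cfsg.Agent.Lib.Helper37.BHRSU5
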