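import Mathlib
import Cfsg.Agent.Lib.Helper37.BHRSU5.Defs
import Cfsg.Agent.Lib.Helper36.Bhrsu5CPoly
import Cfsg.Agent.Lib.Helper99.FrobElt

/-!
helper36: BHRSU5-[A1A] (helper37's sheet, S5796): a degree-5 field in `M_5(F_4)` contains a root of `g₁` of order 11.
-/

set_option autoImplicit false
set_option linter.style.haveILetI false

namespace Cfsg.Agent.Lib.Helper37.BHRSU5

open Cfsg Cfsg.Geo Cfsg.Agent.Lib.Helper37.BHRSU
open Cfsg.Agent.Lib.Helper56.F4 (w v)
open scoped MatrixGroups Matrix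

/-- `g₁` commutes with algebra homomorphisms -/
theorem map_g1 {A B : Type*} [Ring A] [Ring B] [Algebra F4c A] [Algebra F4c B] (f : A →ₐ[F4c] B) (x : A) :
    f (g1 x) = g1 (f x) := by
  simp [g1, map_smul]

/-- `g₂` commutes with algebra homomorphisms -/
theorem map_g2 {A B : Type*} [Ring A] [Ring B] [Algebra F4c A] [Algebra F4c B] (f : A →ₐ[F4c] B) (x : A) :
    f (g2 x) = g2 (f x) := by
  simp [g2, map_smul]

/-- BHRSU5-[A1A]. -/
theorem exists_root_g1 (K : Subalgebra F4c M5) (hK : IsFieldSubalgebra 5 K) :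
    ∃ ζ ∈ K, ζ ^ 11 = 1 ∧ g1 ζ = 0 := by
  classical
  letI : Field ↥K := Cfsg.Agent.Lib.Helper99.FieldNorm.fieldK hK (by norm_num)
  have hcard : Nat.card ↥K = 4 ^ 5 := by
    have h := Module.natCard_eq_pow_finrank (K := F4c) (V := ↥K)
    rw [hK.finrank_eq] at h
    rw [h, Nat.card_eq_fintype_card, Cfsg.Agent.Lib.Helper56.F4.card]
  have hunits : Nat.card (↥K)ˣ = 1023 := by
    rw [Nat.card_units, hcard]
    norm_num
  haveI : Fact (Nat.Prime 11) := ⟨by norm_num⟩
  obtain ⟨u, hu⟩ := exists_prime_orderOf_dvd_card' (G := (↥K)ˣ) 11 (by rw [hunits]; norm_num)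
  have hu11 : u ^ 11 = 1 := by rw [← hu]; exact pow_orderOf_eq_one u
  have hu1 : u ≠ 1 := by
    intro h
    rw [h, orderOf_one] at hu
    omega
  -- the element of `K`
  set x : ↥K := (u : ↥K) with hx
  have hx11 : x ^ 11 = 1 := by
    rw [hx, ← Units.val_pow_eq_pow_val, hu11, Units.val_one]
  have hx1 : x ≠ 1 := by
    intro h
    exact hu1 (Units.ext h)
  have hid := g_identity (A := ↥K) x
  rw [hx11, sub_self, mul_eq_zero, mul_eq_zero, sub_eq_zero] at hid
  rcases hid with (h | h) | h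
  · exact absurd h hx1
  · -- `g₂ x = 0`: pass to the inverse
    refine ⟨((x⁻¹ : ↥K) : M5), (x⁻¹ : ↥K).2, ?_, ?_⟩
    · have h1 : (x⁻¹ : ↥K) ^ 11 = 1 := by rw [inv_pow, hx11, inv_one]
      have h2 := congrArg K.val h1
      rw [map_pow, map_one] at h2
      exact h2
    · have hx0 : x ≠ 0 := Units.ne_zero u
      have h1 : g1 (x⁻¹ : ↥K) = 0 := by
        rw [← g2_inv (x⁻¹) x (inv_mul_cancel₀ hx0), h, mul_zero]
      have h2 := map_g1 K.val (x⁻¹ : ↥K)
      rw [h1, map_zero] at h2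
      exact h2.symm
  · refine ⟨(x : M5), x.2, ?_, ?_⟩
    · have h2 := congrArg K.val hx11
      rw [map_pow, map_one] at h2
      exact h2
    · have h2 := map_g1 K.val x
      rw [h, map_zero] at h2
      exact h2.symm

end Cfsg.Agent.Lib.Helper37.BHRSU5
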