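import Mathlib
import Cfsg.Prelude.Def_GeometricClasses
import Cfsg.Prelude.Def_ClassicalGeometry
import Cfsg.Agent.Lib.Helper56.F4
import Cfsg.Agent.Lib.Helper5.UnitaryGroup
import Cfsg.Agent.Lib.Helper37.BHRSU.Defs
import Cfsg.Agent.Lib.Helper37.BHRSU5.Defs

/-!
helper36: BHRSU5-[U-CRIT] (helper37's sheet, S5796): `GU ↔ IsU`, the calculus of the conjugate transpose `hc`.
-/

set_option autoImplicit false

namespace Cfsg.Agent.Lib.Helper37.BHRSU5

open Cfsg Cfsg.Geo Cfsg.Agent.Lib.Helper37.BHRSU Cfsg.Agent.Lib.Helper70.AschU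
open Cfsg.Agent.Lib.Helper56.F4 (w v)
open scoped MatrixGroups Matrix

/-- squaring on `F4c` as a ring homomorphism -/
def sqHom : F4c →+* F4c where
  toFun := (· ^ 2)
  map_one' := by decide
  map_mul' := by decide
  map_zero' := by decide
  map_add' := by decide

theorem sqHom_apply (x : F4c) : sqHom x = x ^ 2 := rfl

theorem pow_four_F4c : ∀ x : F4c, (x ^ 2) ^ 2 = x := by decide

theorem sq_injective_F4c : ∀ x y : F4c, x ^ 2 = y ^ 2 → x = y := by decide

theorem card_F4c_eq : Fintype.card F4c = 2 ^ 2 := by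
  rw [Cfsg.Agent.Lib.Helper56.F4.card]
  norm_num

theorem hc_eq (M : M5) : hc M = (M.map sqHom)ᵀ := rfl

theorem mem_GU_iff_isU (g : GL (Fin 5) F4c) : g ∈ GU 5 F4c 2 ↔ IsU (g : M5) :=
  (Cfsg.Agent.Lib.Helper5.isUnitaryMat_iff_preserves card_F4c_eq (g : M5)).symm

theorem mem_SUg_iff (g : GL (Fin 5) F4c) : g ∈ SUg 5 F4c 2 ↔ IsU (g : M5) ∧ (g : M5).det = 1 := by
  rw [Subgroup.mem_inf, mem_GU_iff_isU]
  unfold Cfsg.Geo.specialLinear
  rw [MonoidHom.mem_ker, Units.ext_iff, Matrix.GeneralLinearGroup.val_det_apply, Units.val_one]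

theorem isU_iff_hc (M : M5) : IsU M ↔ hc M * M = 1 := by
  unfold IsU hc
  constructor
  · intro h
    have h2 := congrArg Matrix.transpose h
    rwa [Matrix.transpose_mul, Matrix.transpose_transpose, Matrix.transpose_one] at h2
  · intro h
    have h2 := congrArg Matrix.transpose h
    rwa [Matrix.transpose_mul, Matrix.transpose_transpose, Matrix.transpose_one] at h2

theorem hc_mul (M N : M5) : hc (M * N) = hc N * hc M := by
  rw [hc_eq, hc_eq, hc_eq, Matrix.map_mul, Matrix.transpose_mul]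

theorem hc_add (M N : M5) : hc (M + N) = hc M + hc N := by
  rw [hc_eq, hc_eq, hc_eq, Matrix.map_add sqHom (fun a b => map_add sqHom a b), Matrix.transpose_add]

theorem hc_smul (c : F4c) (M : M5) : hc (c • M) = (c ^ 2) • hc M := by
  ext i j
  simp [hc, mul_pow]

theorem hc_hc (M : M5) : hc (hc M) = M := by
  ext i j
  simp [hc, pow_four_F4c]

theorem hc_one : hc (1 : M5) = 1 := by
  rw [hc_eq, Matrix.map_one sqHom (map_zero _) (map_one _), Matrix.transpose_one]

theorem hermForm_mulVec_left (M : M5) (u x : Fin 5 → F4c) :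
    hermForm 5 F4c 2 (M *ᵥ u) x = hermForm 5 F4c 2 u (hc M *ᵥ x) := by
  unfold hermForm
  simp only [Matrix.mulVec, dotProduct, hc, Matrix.transpose_apply, Matrix.map_apply]
  have hsq : ∀ j : Fin 5, (∑ i, M i j ^ 2 * x i) ^ 2 = ∑ i, M i j * x i ^ 2 := by
    intro j
    rw [← sqHom_apply, map_sum]
    apply Finset.sum_congr rfl
    intro i _
    rw [sqHom_apply, mul_pow, pow_four_F4c]
  simp only [hsq, Finset.sum_mul, Finset.mul_sum]
  rw [Finset.sum_comm]
  apply Finset.sum_congr rfl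
  intro j _
  apply Finset.sum_congr rfl
  intro i _
  ring

theorem eq_hc_of_adjoint (M N : M5) (h : ∀ u x : Fin 5 → F4c, hermForm 5 F4c 2 (M *ᵥ u) x = hermForm 5 F4c 2 u (N *ᵥ x)) :
    N = hc M := by
  have h1 : ∀ x : Fin 5 → F4c, N *ᵥ x = hc M *ᵥ x := by
    intro x
    funext j
    have h2 := h (Pi.single j 1) x
    rw [hermForm_mulVec_left, Cfsg.Agent.Lib.Helper5.hermForm_single_left,
      Cfsg.Agent.Lib.Helper5.hermForm_single_left, one_mul, one_mul] at h2
    exact (sq_injective_F4c _ _ h2).symm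
  ext i k
  have h2 := congrFun (h1 (Pi.single k 1)) i
  simpa [Matrix.mulVec_single_one] using h2

end Cfsg.Agent.Lib.Helper37.BHRSU5
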