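import Mathlib
import Cfsg.Agent.Lib.Helper37.BHRSU5.Defs
import Cfsg.Agent.Lib.Helper37.GUConj
import Cfsg.Agent.Lib.Helper36.Bhrsu5UCrit
import Cfsg.Agent.Lib.Helper73.Bhrsu5CFacts
import Cfsg.Agent.Lib.Helper34.Bhrsu5A2Exact

/-!
helper36: BHRSU5-[A2C] (helper37's sheet, S5796) in `_of` form: a unitary root `ζ` of `g₁` in `K` is `GU`-conjugate to `Zc`.
The only missing input is [A1B] (`IsU ζ`), taken as a hypothesis.
-/

set_option autoImplicit false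

namespace Cfsg.Agent.Lib.Helper37.BHRSU5

open Cfsg Cfsg.Geo Cfsg.Agent.Lib.Helper37.BHRSU Cfsg.Agent.Lib.Helper70.AschU
open Cfsg.Agent.Lib.Helper56.F4 (w v)
open scoped MatrixGroups Matrix

/-- a unitary matrix as an element of `GL`, with inverse `hc` -/
theorem exists_gl_of_isU (u : M5) (hu : IsU u) : ∃ g : GL (Fin 5) F4c, (g : M5) = u ∧ g ∈ GU 5 F4c 2 := by
  have h1 : hc u * u = 1 := (isU_iff_hc u).1 hu
  have h2 : u * hc u = 1 := mul_eq_one_comm.1 h1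
  refine ⟨⟨u, hc u, h2, h1⟩, rfl, ?_⟩
  rw [mem_GU_iff_isU]
  exact hu

/-- GL-conjugate unitary matrices are GU-conjugate (helper37's `GUConj.exists_unitary_conj`). -/
theorem exists_gu_conj_of_isU (ζ : M5) (hU : IsU ζ)
    (hP : ∃ P : GL (Fin 5) F4c, (P : M5) * Zc = ζ * (P : M5)) :
    ∃ u : GL (Fin 5) F4c, u ∈ GU 5 F4c 2 ∧ (u : M5) * Zc = ζ * (u : M5) := by
  obtain ⟨P, hP⟩ := hP
  have hdet : IsUnit (P : M5).det := by
    have := (Matrix.isUnit_iff_isUnit_det (P : M5)).1 ⟨P, rfl⟩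
    exact this
  obtain ⟨u, hu, huc⟩ := Cfsg.Agent.Lib.Helper37.GUConj.exists_unitary_conj card_F4c_eq Zc ζ (P : M5)
    isU_Zc hU hdet hP
  obtain ⟨g, hg, hgU⟩ := exists_gl_of_isU u hu
  exact ⟨g, hgU, by rw [hg]; exact huc⟩

/-- BHRSU5-[A2C] with [A1B] as a hypothesis. -/
theorem exists_gu_conj_of (K : Subalgebra F4c M5) (hK : IsFieldSubalgebra 5 K)
    (ζ : M5) (hζ : ζ ∈ K) (h11 : ζ ^ 11 = 1) (h : g1 ζ = 0) (hU : IsU ζ) :
    ∃ u : GL (Fin 5) F4c, u ∈ GU 5 F4c 2 ∧ (u : M5) * Zc = ζ * (u : M5) :=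
  exists_gu_conj_of_isU ζ hU (exists_gl_conj K hK ζ hζ h11 h)

end Cfsg.Agent.Lib.Helper37.BHRSU5
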