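import Mathlib
import Cfsg.Agent.Lib.Helper37.BHRSU5.Defs
import Cfsg.Agent.Lib.Helper36.Bhrsu5A2COf
import Cfsg.Agent.Lib.Helper37.BHRSU5.A1B

/-!
helper36: BHRSU5-[A2C] (helper37's sheet, S5796), exact statement.
-/

set_option autoImplicit false

namespace Cfsg.Agent.Lib.Helper37.BHRSU5

open Cfsg Cfsg.Geo Cfsg.Agent.Lib.Helper37.BHRSU Cfsg.Agent.Lib.Helper70.AschU
open Cfsg.Agent.Lib.Helper56.F4 (w v)
open scoped MatrixGroups Matrix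

/-- BHRSU5-[A2C]. -/
theorem exists_gu_conj (K : Subalgebra F4c M5) (hK : IsFieldSubalgebra 5 K)
    (hac : IsAdjointClosedFor (hermForm 5 F4c 2) K) (ζ : M5) (hζ : ζ ∈ K) (h11 : ζ ^ 11 = 1) (h : g1 ζ = 0) :
    ∃ u : GL (Fin 5) F4c, u ∈ GU 5 F4c 2 ∧ (u : M5) * Zc = ζ * (u : M5) :=
  exists_gu_conj_of K hK ζ hζ h11 h (isU_of_root K hK hac ζ hζ h11 h)

end Cfsg.Agent.Lib.Helper37.BHRSU5
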