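import Mathlib
import Cfsg.Agent.Lib.Helper42.ClBN.Defs

/-!
helper36: CLBN-[SP-MID] (helper42's sheet): the symplectic group — `spGram` is antidiagonal, the middle generator,
the longest element.
-/

set_option autoImplicit false
set_option linter.unusedSimpArgs false

namespace Cfsg.Agent.Lib.Helper42.ClBN

open Matrix Cfsg Cfsg.Agent.Lib.Helper5.GLU Cfsg.Agent.Lib.Helper6
open scoped MatrixGroups

universe u

variable {n : ℕ} {F : Type u} [Field F]

namespace H36

/-- the matrix of a transvection -/
theorem tv_coe {i j : Fin n} (h : i ≠ j) (c : F) :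
    ((tv i j c : GL (Fin n) F) : Matrix (Fin n) (Fin n) F) = 1 + Matrix.single i j c := by
  rw [tv_val h]
  rfl

/-- a matrix unit times an antidiagonal matrix -/
theorem single_mul_anti {A : Matrix (Fin n) (Fin n) F} (hA : IsAnti A) (p q : Fin n) (c : F) :
    Matrix.single p q c * A = Matrix.single p (Fin.rev q) (c * A q (Fin.rev q)) := by
  ext a b
  by_cases ha : a = p
  · subst ha
    rw [Matrix.single_mul_apply_same]
    by_cases hb : b = Fin.rev q
    · subst hb
      simp
    · rw [hA.1 q b hb, mul_zero, Matrix.single_apply_of_col_ne _ _ (Ne.symm hb)]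
  · rw [Matrix.single_mul_apply_of_ne _ _ _ _ _ ha, Matrix.single_apply_of_row_ne (Ne.symm ha)]

/-- an antidiagonal matrix times a matrix unit -/
theorem anti_mul_single {A : Matrix (Fin n) (Fin n) F} (hA : IsAnti A) (p q : Fin n) (c : F) :
    A * Matrix.single p q c = Matrix.single (Fin.rev p) q (A (Fin.rev p) p * c) := by
  ext a b
  by_cases hb : b = q
  · subst hb
    rw [Matrix.mul_single_apply_same]
    by_cases ha : a = Fin.rev p
    · subst ha
      simp
    · have hp : p ≠ Fin.rev a := by
        intro h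
        apply ha
        rw [h, Fin.rev_rev]
      rw [hA.1 a p hp, zero_mul, Matrix.single_apply_of_row_ne (Ne.symm ha)]
  · rw [Matrix.mul_single_apply_of_ne _ _ _ _ _ hb, Matrix.single_apply_of_col_ne _ _ (Ne.symm hb)]

end H36

open H36

theorem spGram_isAnti (m : ℕ) : IsAnti (spGram m F) := by
  constructor
  · intro i j hij
    unfold spGram
    rw [if_neg hij]
  · intro i
    unfold spGram
    rw [if_pos rfl]
    split_ifs
    · exact neg_ne_zero.mpr one_ne_zero
    · exact one_ne_zero

namespace H36

theorem spGram_mul_transpose (m : ℕ) : spGram m F * (spGram m F)ᵀ = 1 := by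
  ext a b
  rw [Matrix.mul_apply, Finset.sum_eq_single (Fin.rev a)]
  · rw [Matrix.transpose_apply, Matrix.one_apply]
    by_cases hab : a = b
    · subst hab
      rw [if_pos rfl]
      unfold spGram
      rw [if_pos rfl]
      split_ifs <;> simp
    · rw [if_neg hab]
      have h0 : spGram m F b (Fin.rev a) = 0 :=
        (spGram_isAnti m).1 b _ (fun h => hab (Fin.rev_injective h))
      rw [h0, mul_zero]
  · intro k _ hk
    rw [(spGram_isAnti m).1 a k hk, zero_mul]
  · simp

theorem map_id_eq (M : Matrix (Fin n) (Fin n) F) : M.map (RingHom.id F) = M := by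
  ext a b
  simp

end H36

namespace H36

theorem single_mul_single_ne {p q r s : Fin n} (h : q ≠ r) (a b : F) :
    (Matrix.single p q a : Matrix (Fin n) (Fin n) F) * Matrix.single r s b = 0 :=
  Matrix.single_mul_single_of_ne a p q r h b

theorem single_neg_one (p q : Fin n) :
    (Matrix.single p q (-1 : F) : Matrix (Fin n) (Fin n) F) = -Matrix.single p q 1 :=
  (Matrix.single_neg p q 1).symm

/-- entries of a matrix unit on or above the diagonal vanish below the diagonal -/
theorem single_upper_apply {p q : Fin n} (hpq : p ≤ q) (c : F) {a b : Fin n} (hab : b < a) :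
    (Matrix.single p q c : Matrix (Fin n) (Fin n) F) a b = 0 := by
  rw [Matrix.single_apply]
  split_ifs with h
  · obtain ⟨rfl, rfl⟩ := h
    exact absurd hab (not_lt.mpr hpq)
  · rfl

/-- entries of a matrix unit on or below the diagonal vanish above the diagonal -/
theorem single_lower_apply {p q : Fin n} (hpq : q ≤ p) (c : F) {a b : Fin n} (hab : a < b) :
    (Matrix.single p q c : Matrix (Fin n) (Fin n) F) a b = 0 := by
  rw [Matrix.single_apply]
  split_ifs with h
  · obtain ⟨rfl, rfl⟩ := h
    exact absurd hab (not_lt.mpr hpq)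
  · rfl

theorem single_offdiag_apply {p q : Fin n} (hpq : p ≠ q) (c : F) (a : Fin n) :
    (Matrix.single p q c : Matrix (Fin n) (Fin n) F) a a = 0 := by
  rw [Matrix.single_apply]
  split_ifs with h
  · obtain ⟨rfl, rfl⟩ := h
    exact absurd rfl hpq
  · rfl

theorem tv_mem_Uni' {i j : Fin n} (h : i < j) (c : F) : tv i j c ∈ Uni n F := by
  rw [mem_Uni, tv_coe (ne_of_lt h)]
  constructor
  · intro a b hab
    rw [Matrix.add_apply, Matrix.one_apply_ne (ne_of_gt hab), single_upper_apply h.le c hab, add_zero]
  · intro a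
    rw [Matrix.add_apply, Matrix.one_apply_eq, single_offdiag_apply (ne_of_lt h), add_zero]

theorem tv_mem_Low' {i j : Fin n} (h : j < i) (c : F) : tv i j c ∈ Low n F := by
  rw [mem_Low, tv_coe (ne_of_gt h)]
  constructor
  · intro a b hab
    rw [Matrix.add_apply, Matrix.one_apply_ne (ne_of_lt hab), single_lower_apply h.le c hab, add_zero]
  · intro a
    rw [Matrix.add_apply, Matrix.one_apply_eq, single_offdiag_apply (ne_of_gt h), add_zero]

/-- `x_{ij}(-c) x_{ij}(c) = 1` -/
theorem tv_neg_mul_tv {i j : Fin n} (h : i ≠ j) (c : F) : tv i j (-c) * tv i j c = 1 := by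
  apply Units.ext
  rw [Units.val_mul, tv_coe h, tv_coe h, Units.val_one]
  simp only [mul_add, add_mul, mul_one, one_mul, single_mul_single_ne h.symm, add_zero]
  rw [add_assoc, ← Matrix.single_add, neg_add_cancel, Matrix.single_zero, add_zero]

/-- the transvection at an antidiagonal position lies in the form group of an alternating antidiagonal matrix -/
theorem tv_rev_mem_formGrp {A : Matrix (Fin n) (Fin n) F} (hA : IsAnti A) (p : Fin n) (hp : p ≠ Fin.rev p)
    (halt : A (Fin.rev p) p + A p (Fin.rev p) = 0) (c : F) :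
    tv p (Fin.rev p) c ∈ formGrp A (RingHom.id F) := by
  rw [mem_formGrp, tv_coe hp, map_id_eq, Matrix.transpose_add, Matrix.transpose_one, Matrix.transpose_single]
  rw [add_mul, one_mul, mul_add, mul_one, single_mul_anti hA, Fin.rev_rev, add_mul, anti_mul_single hA,
    Fin.rev_rev, single_mul_single_ne hp, add_zero, add_assoc, ← Matrix.single_add]
  have h0 : c * A (Fin.rev p) p + A p (Fin.rev p) * c = 0 := by
    rw [mul_comm (A p (Fin.rev p)) c, ← mul_add, halt, mul_zero]
  rw [h0, Matrix.single_zero, add_zero]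

/-- the matrix of `x(1) y(-1) x(1)` -/
theorem coe_wElt {i j : Fin n} (h : i ≠ j) :
    ((tv i j 1 * tv j i (-1) * tv i j 1 : GL (Fin n) F) : Matrix (Fin n) (Fin n) F)
      = 1 + Matrix.single i j 1 + Matrix.single j i (-1) + Matrix.single i i (-1) + Matrix.single j j (-1) := by
  rw [Units.val_mul, Units.val_mul, tv_coe h, tv_coe h.symm]
  have h' := h.symm
  simp only [mul_add, add_mul, mul_one, one_mul, Matrix.single_mul_single_same,
    single_mul_single_ne h, single_mul_single_ne h', mul_neg, neg_mul, mul_zero, add_zero, zero_add, neg_neg,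
    neg_zero]
  simp only [single_neg_one]
  abel

/-- the matrix of `w x(1) w` -/
theorem coe_wElt_mul_tv_mul {i j : Fin n} (h : i ≠ j) :
    ((tv i j 1 * tv j i (-1) * tv i j 1 * tv i j 1 * (tv i j 1 * tv j i (-1) * tv i j 1) : GL (Fin n) F) :
      Matrix (Fin n) (Fin n) F)
      = 1 + Matrix.single j i 1 + Matrix.single i i (-1) + Matrix.single i i (-1) + Matrix.single j j (-1)
          + Matrix.single j j (-1) := by
  rw [Units.val_mul, Units.val_mul, coe_wElt h, tv_coe h]
  have h' := h.symm
  simp only [mul_add, add_mul, mul_one, one_mul, Matrix.single_mul_single_same,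
    single_mul_single_ne h, single_mul_single_ne h', mul_neg, neg_mul, mul_zero, add_zero, zero_add, neg_neg,
    neg_zero]
  simp only [single_neg_one]
  abel

/-- the matrix of `w x(1) y(-1)` -/
theorem coe_wElt_mul_tv_mul_tv {i j : Fin n} (h : i ≠ j) :
    ((tv i j 1 * tv j i (-1) * tv i j 1 * tv i j 1 * tv j i (-1) : GL (Fin n) F) :
      Matrix (Fin n) (Fin n) F)
      = 1 + Matrix.single i j 1 + Matrix.single i i (-1) + Matrix.single i i (-1) + Matrix.single j j (-1)
          + Matrix.single j j (-1) := by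
  rw [Units.val_mul, Units.val_mul, coe_wElt h, tv_coe h, tv_coe h.symm]
  have h' := h.symm
  simp only [mul_add, add_mul, mul_one, one_mul, Matrix.single_mul_single_same,
    single_mul_single_ne h, single_mul_single_ne h', mul_neg, neg_mul, mul_zero, add_zero, zero_add, neg_neg,
    neg_zero]
  simp only [single_neg_one]
  abel

end H36

theorem sp_mid_gen {m : ℕ} {i j : Fin (m + m)} (hij : j.val = i.val + 1) (hi : 2 * i.val + 2 = m + m) :
    ∃ s x : GL (Fin (m + m)) F, s ∈ formGrp (spGram m F) (RingHom.id F) ∧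
      IsMono s (Equiv.swap i j) ∧
      x ∈ Uni (m + m) F ⊓ formGrp (spGram m F) (RingHom.id F) ∧ s * x * s ∉ Bor (m + m) F ∧
      ∃ b ∈ Bor (m + m) F, ∃ v ∈ Low (m + m) F, s * x = b * v := by
  have hlt : i < j := by rw [Fin.lt_def]; omega
  have hne : i ≠ j := ne_of_lt hlt
  have hri : Fin.rev i = j := by
    apply Fin.ext
    rw [Fin.val_rev]
    omega
  have hrj : Fin.rev j = i := by rw [← hri, Fin.rev_rev]
  have hA := spGram_isAnti (F := F) m
  have hAij : spGram m F i j = -1 := by
    unfold spGram
    rw [if_pos hri.symm, if_pos (by omega)]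
  have hAji : spGram m F j i = 1 := by
    unfold spGram
    rw [if_pos hrj.symm, if_neg (by omega)]
  have hX : ∀ c : F, tv i j c ∈ formGrp (spGram m F) (RingHom.id F) := by
    intro c
    have h1 := tv_rev_mem_formGrp hA i (by rw [hri]; exact hne) (by rw [hri, hAji, hAij]; ring) c
    rwa [hri] at h1
  have hY : ∀ c : F, tv j i c ∈ formGrp (spGram m F) (RingHom.id F) := by
    intro c
    have h1 := tv_rev_mem_formGrp hA j (by rw [hrj]; exact hne.symm) (by rw [hrj, hAij, hAji]; ring) c
    rwa [hrj] at h1
  refine ⟨tv i j 1 * tv j i (-1) * tv i j 1, tv i j 1, ?_, ?_, ⟨tv_mem_Uni' hlt 1, hX 1⟩, ?_,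
    tv i j 1 * tv j i (-1) * tv i j 1 * tv i j 1 * tv j i (-1), ?_, tv j i 1, tv_mem_Low' hlt 1, ?_⟩
  · exact mul_mem (mul_mem (hX 1) (hY (-1))) (hX 1)
  · intro a b hab
    rw [coe_wElt hne]
    simp only [Matrix.add_apply]
    by_cases hb1 : b = i
    · rw [hb1, Equiv.swap_apply_left] at hab
      rw [hb1, Matrix.single_apply_of_col_ne _ _ hne.symm, Matrix.single_apply_of_row_ne hab.symm,
        Matrix.single_apply_of_col_ne _ _ hne.symm]
      by_cases ha : a = i
      · rw [ha, Matrix.one_apply_eq, Matrix.single_apply_same]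
        ring
      · rw [Matrix.one_apply_ne ha, Matrix.single_apply_of_row_ne (Ne.symm ha)]
        ring
    · by_cases hb2 : b = j
      · rw [hb2, Equiv.swap_apply_right] at hab
        rw [hb2, Matrix.single_apply_of_row_ne hab.symm, Matrix.single_apply_of_col_ne _ _ hne,
          Matrix.single_apply_of_col_ne _ _ hne]
        by_cases ha : a = j
        · rw [ha, Matrix.one_apply_eq, Matrix.single_apply_same]
          ring
        · rw [Matrix.one_apply_ne ha, Matrix.single_apply_of_row_ne (Ne.symm ha)]
          ring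
      · rw [Equiv.swap_apply_of_ne_of_ne hb1 hb2] at hab
        rw [Matrix.one_apply_ne hab, Matrix.single_apply_of_col_ne _ _ (Ne.symm hb2),
          Matrix.single_apply_of_col_ne _ _ (Ne.symm hb1), Matrix.single_apply_of_col_ne _ _ (Ne.symm hb1),
          Matrix.single_apply_of_col_ne _ _ (Ne.symm hb2)]
        ring
  · intro hmem
    have h0 := (mem_Bor.1 hmem) j i hlt
    rw [coe_wElt_mul_tv_mul hne] at h0
    simp [Matrix.one_apply, Matrix.single_apply, hne, hne.symm] at h0
  · rw [mem_Bor]
    intro a c hac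
    rw [coe_wElt_mul_tv_mul_tv hne]
    simp only [Matrix.add_apply]
    rw [Matrix.one_apply_ne (ne_of_gt hac), single_upper_apply hlt.le _ hac, single_upper_apply le_rfl _ hac,
      single_upper_apply le_rfl _ hac]
    simp
  · rw [mul_assoc _ (tv j i (-1)) (tv j i 1), tv_neg_mul_tv hne.symm, mul_one]

theorem sp_longest (m : ℕ) :
    ∃ n₀ : GL (Fin (m + m)) F, n₀ ∈ formGrp (spGram m F) (RingHom.id F) ∧ IsMono n₀ Fin.revPerm := by
  have h1 := spGram_mul_transpose (F := F) m
  have h2 : (spGram m F)ᵀ * spGram m F = 1 := mul_eq_one_comm.1 h1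
  refine ⟨⟨spGram m F, (spGram m F)ᵀ, h1, h2⟩, ?_, ?_⟩
  · rw [mem_formGrp]
    change spGram m F * spGram m F * ((spGram m F).map (RingHom.id F))ᵀ = spGram m F
    rw [map_id_eq, Matrix.mul_assoc, h1, Matrix.mul_one]
  · intro a b hab
    change spGram m F a b = 0
    apply (spGram_isAnti m).1
    intro h
    apply hab
    rw [Fin.revPerm_apply, h, Fin.rev_rev]

end Cfsg.Agent.Lib.Helper42.ClBN
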