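import Mathlib
import Cfsg.Agent.Lib.Helper36.ReflIndex
import Cfsg.Agent.Lib.Helper13.SymmForm
import Cfsg.Agent.Lib.Helper13.ReflClass

set_option autoImplicit false
set_option linter.unusedSectionVars false
set_option linter.unusedVariables false

/-!
# Rotations of non-trivial spinor norm commuting with a similarity of scalar square

Let `C` be a similarity (multiplier `μ`) of a non-degenerate quadratic space over a finite field of
odd characteristic, of dimension at least five, with `C ∘ C = lam`.  Unless `lam = -μ` with `μ` a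
square, there are non-singular vectors `a`, `b` with `Q a * Q b` a non-square such that the
rotation `r_a r_b` commutes with `C`.
-/

namespace Cfsg.Agent.Lib.Helper36

open Module Cfsg.Agent.Lib.Helper13

variable {F V : Type*} [Field F] [AddCommGroup V] [Module F V]

local notation "pol" => QuadraticMap.polar

/-- A similarity `C` of `Q` with multiplier `μ` whose square is the scalar `lam`. -/
structure SimSq (Q : QuadraticForm F V) (C : V →ₗ[F] V) (μ lam : F) : Prop where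
  mu_ne : μ ≠ 0
  sim : ∀ z, Q (C z) = μ * Q z
  sq : ∀ z, C (C z) = lam • z

namespace SimSq

variable {Q : QuadraticForm F V} {C : V →ₗ[F] V} {μ lam : F}

theorem pol_map (h : SimSq Q C μ lam) (x y : V) : pol (⇑Q) (C x) (C y) = μ * pol (⇑Q) x y := by
  unfold QuadraticMap.polar
  rw [← map_add, h.sim, h.sim, h.sim]
  ring

theorem adj (h : SimSq Q C μ lam) (x y : V) :
    lam * pol (⇑Q) (C x) y = μ * pol (⇑Q) x (C y) := by
  have := h.pol_map x (C y)
  rw [h.sq, QuadraticMap.polar_smul_right, smul_eq_mul] at this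
  exact this

theorem lam_sq (h : SimSq Q C μ lam) (v : V) (hv : Q v ≠ 0) : lam * lam = μ * μ := by
  have h1 : Q (C (C v)) = μ * (μ * Q v) := by rw [h.sim, h.sim]
  rw [h.sq, QuadraticMap.map_smul, smul_eq_mul] at h1
  have h3 : (lam * lam - μ * μ) * Q v = 0 := by linear_combination h1
  rcases mul_eq_zero.mp h3 with h4 | h4
  · linear_combination h4
  · exact absurd h4 hv

theorem lam_ne (h : SimSq Q C μ lam) (v : V) (hv : Q v ≠ 0) : lam ≠ 0 := by
  intro h0
  have := h.lam_sq v hv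
  rw [h0, mul_zero] at this
  exact h.mu_ne (mul_self_eq_zero.mp this.symm)

/-- The skew case: every vector is orthogonal to its image. -/
theorem pol_self_map_of_neg (h : SimSq Q C μ (-μ)) (h2 : (2 : F) ≠ 0) (x : V) :
    pol (⇑Q) x (C x) = 0 := by
  have h1 := h.adj x x
  rw [QuadraticMap.polar_comm (⇑Q) (C x) x] at h1
  have h3 : (2 * μ) * pol (⇑Q) x (C x) = 0 := by linear_combination -h1
  rcases mul_eq_zero.mp h3 with h4 | h4
  · exact absurd h4 (mul_ne_zero h2 h.mu_ne)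
  · exact h4

/-- The self-adjoint case. -/
theorem selfadj (h : SimSq Q C μ μ) (x y : V) : pol (⇑Q) (C x) y = pol (⇑Q) x (C y) :=
  mul_left_cancel₀ h.mu_ne (h.adj x y)

/-- The rotation along `a` and `C a` commutes with `C` when `a ⟂ C a`. -/
theorem pair_of_orth (h : SimSq Q C μ lam) (a : V) (ha : Q a ≠ 0)
    (horth : pol (⇑Q) a (C a) = 0) (z : V) :
    reflLin Q (C a) (reflLin Q (C (C a)) z) = reflLin Q a (reflLin Q (C a) z) := by
  have hlam : lam ≠ 0 := h.lam_ne a ha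
  have h1 : reflLin Q (C (C a)) z = reflLin Q a z := by
    rw [h.sq]
    exact reflLin_smul Q a lam hlam z
  rw [h1, reflLin_reflLin_of_orth Q a (C a) horth,
    reflLin_reflLin_of_orth Q (C a) a (by rw [QuadraticMap.polar_comm]; exact horth)]
  abel

end SimSq

section Etrick

variable (Q : QuadraticForm F V) (C : V →ₗ[F] V) (μ : F)

/-- The action of the quadratic algebra `F[√μ]` on `V` through `C`. -/
def qsmul (ξ : QuadraticAlgebra F μ 0) (v : V) : V := ξ.re • v + ξ.im • C v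

/-- The value of the `F[√μ]`-quadratic form. -/
def zmap (x : V) : QuadraticAlgebra F μ 0 := ⟨pol (⇑Q) x (C x), pol (⇑Q) x x⟩

variable {Q C μ}

theorem C_qsmul (h : SimSq Q C μ μ) (ξ : QuadraticAlgebra F μ 0) (v : V) :
    C (qsmul C μ ξ v) = qsmul C μ ⟨μ * ξ.im, ξ.re⟩ v := by
  unfold qsmul
  rw [map_add, map_smul, map_smul, h.sq]
  simp only [smul_smul]
  rw [add_comm, mul_comm]

theorem pol_qsmul (h : SimSq Q C μ μ) (ξ η : QuadraticAlgebra F μ 0) (x y : V)
    (h1 : pol (⇑Q) x y = 0) (h2 : pol (⇑Q) x (C y) = 0) :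
    pol (⇑Q) (qsmul C μ ξ x) (qsmul C μ η y) = 0 := by
  have h3 : pol (⇑Q) (C x) y = 0 := by rw [h.selfadj, h2]
  have h4 : pol (⇑Q) (C x) (C y) = 0 := by rw [h.pol_map, h1, mul_zero]
  unfold qsmul
  simp only [QuadraticMap.polar_add_left, QuadraticMap.polar_add_right,
    QuadraticMap.polar_smul_left, QuadraticMap.polar_smul_right, h1, h2, h3, h4, smul_zero,
    add_zero]

theorem zmap_qsmul (h : SimSq Q C μ μ) (ξ : QuadraticAlgebra F μ 0) (x : V) :
    zmap Q C μ (qsmul C μ ξ x) = zmap Q C μ x * (ξ * ξ) := by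
  have h3 : pol (⇑Q) (C x) x = pol (⇑Q) x (C x) := QuadraticMap.polar_comm _ _ _
  have h4 : pol (⇑Q) (C x) (C x) = μ * pol (⇑Q) x x := h.pol_map x x
  apply QuadraticAlgebra.ext
  · rw [zmap, C_qsmul h]
    simp only [qsmul, zmap, QuadraticAlgebra.re_mul, QuadraticAlgebra.im_mul,
      QuadraticMap.polar_add_left, QuadraticMap.polar_add_right,
      QuadraticMap.polar_smul_left, QuadraticMap.polar_smul_right, smul_eq_mul, h3, h4]
    ring
  · simp only [qsmul, zmap, QuadraticAlgebra.re_mul, QuadraticAlgebra.im_mul,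
      QuadraticMap.polar_add_left, QuadraticMap.polar_add_right,
      QuadraticMap.polar_smul_left, QuadraticMap.polar_smul_right, smul_eq_mul, h3, h4]
    ring

theorem zmap_add (h : SimSq Q C μ μ) (x y : V)
    (h1 : pol (⇑Q) x y = 0) (h2 : pol (⇑Q) x (C y) = 0) :
    zmap Q C μ (x + y) = zmap Q C μ x + zmap Q C μ y := by
  have h3 : pol (⇑Q) y (C x) = 0 := by
    rw [QuadraticMap.polar_comm, h.selfadj, h2]
  have h5 : pol (⇑Q) y x = 0 := by rw [QuadraticMap.polar_comm, h1]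
  apply QuadraticAlgebra.ext
  · simp only [zmap, map_add, QuadraticAlgebra.re_add, QuadraticMap.polar_add_left,
      QuadraticMap.polar_add_right, h2, h3]
    ring
  · simp only [zmap, QuadraticAlgebra.im_add, QuadraticMap.polar_add_left,
      QuadraticMap.polar_add_right, h1, h5]
    ring

end Etrick

section Finite

variable [Fintype F] [DecidableEq F] [FiniteDimensional F V]

/-- **The self-adjoint case with non-square multiplier**: a non-singular vector orthogonal to its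
image. -/
theorem exists_orth_image {Q : QuadraticForm F V} {C : V →ₗ[F] V} {μ : F}
    (hQ : (QuadraticMap.polarBilin Q).Nondegenerate) (h2 : (2 : F) ≠ 0) (hdim : 5 ≤ finrank F V)
    (h : SimSq Q C μ μ) (hμ : ¬ IsSquare μ) :
    ∃ a : V, Q a ≠ 0 ∧ pol (⇑Q) a (C a) = 0 := by
  have : Fact (∀ r : F, r ^ 2 ≠ μ + 0 * r) := ⟨fun r hr => hμ ⟨r, by rw [← pow_two, hr]; ring⟩⟩
  have : Finite (QuadraticAlgebra F μ 0) :=
    Finite.of_equiv (F × F) (QuadraticAlgebra.equivProd μ 0).symm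
  have hdim2 : 2 ≤ finrank F V := by omega
  obtain ⟨x₁, hx₁⟩ := exists_Q_eq Q hQ h2 hdim2 1 one_ne_zero
  have hx₁0 : Q x₁ ≠ 0 := by rw [hx₁]; exact one_ne_zero
  obtain ⟨x₂, hx₂, h12, h12'⟩ := exists_orth_Q_eq Q hQ h2 hdim x₁ (C x₁) hx₁0 1 one_ne_zero
  have hx₂0 : Q x₂ ≠ 0 := by rw [hx₂]; exact one_ne_zero
  have h12c : pol (⇑Q) x₁ (C x₂) = 0 := by rw [← h.selfadj, h12']
  have hself : ∀ x : V, pol (⇑Q) x x = 2 * Q x := by
    intro x
    rw [QuadraticMap.polar_self]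
    simp
  set z₁ := zmap Q C μ x₁ with hz₁
  set z₂ := zmap Q C μ x₂ with hz₂
  have hz₁0 : z₁ ≠ 0 := by
    intro h0
    have := congrArg QuadraticAlgebra.im h0
    rw [hz₁, zmap, QuadraticAlgebra.im_zero] at this
    change pol (⇑Q) x₁ x₁ = 0 at this
    rw [hself, hx₁, mul_one] at this
    exact h2 this
  have hz₂0 : z₂ ≠ 0 := by
    intro h0
    have := congrArg QuadraticAlgebra.im h0
    rw [hz₂, zmap, QuadraticAlgebra.im_zero] at this
    change pol (⇑Q) x₂ x₂ = 0 at this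
    rw [hself, hx₂, mul_one] at this
    exact h2 this
  set ω : QuadraticAlgebra F μ 0 := ⟨0, 1⟩ with hω
  have hω0 : ω ≠ 0 := by
    intro h0
    have := congrArg QuadraticAlgebra.im h0
    rw [hω, QuadraticAlgebra.im_zero] at this
    exact one_ne_zero this
  have h2E : (2 : QuadraticAlgebra F μ 0) ≠ 0 := by
    intro h0
    have h5 := congrArg QuadraticAlgebra.re h0
    rw [QuadraticAlgebra.re_ofNat, QuadraticAlgebra.re_zero] at h5
    exact h2 h5
  obtain ⟨ξ₁, ξ₂, hξ⟩ := exists_sq_add_sq_eq_one h2E (z₁ / ω) (z₂ / ω)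
    (div_ne_zero hz₁0 hω0) (div_ne_zero hz₂0 hω0)
  have hξ' : z₁ * (ξ₁ * ξ₁) + z₂ * (ξ₂ * ξ₂) = ω := by
    have h7 : (z₁ / ω * ξ₁ ^ 2 + z₂ / ω * ξ₂ ^ 2) * ω = 1 * ω := by rw [hξ]
    rw [one_mul] at h7
    rw [← h7]
    field_simp
  set a := qsmul C μ ξ₁ x₁ + qsmul C μ ξ₂ x₂ with ha
  have hza : zmap Q C μ a = ω := by
    rw [ha, zmap_add h _ _ (pol_qsmul h ξ₁ ξ₂ x₁ x₂ h12 h12c)
      (by rw [C_qsmul h]; exact pol_qsmul h ξ₁ _ x₁ x₂ h12 h12c),
      zmap_qsmul h, zmap_qsmul h, ← hz₁, ← hz₂, hξ']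
  have hre := congrArg QuadraticAlgebra.re hza
  have him := congrArg QuadraticAlgebra.im hza
  change pol (⇑Q) a (C a) = 0 at hre
  change pol (⇑Q) a a = 1 at him
  refine ⟨a, ?_, hre⟩
  intro h0
  rw [hself, h0, mul_zero] at him
  exact zero_ne_one him

/-- Splitting a non-singular vector into eigenvectors of a self-adjoint similarity with square
multiplier. -/
theorem exists_eigen_split {Q : QuadraticForm F V} {C : V →ₗ[F] V} {ν : F}
    (h2 : (2 : F) ≠ 0) (h : SimSq Q C (ν * ν) (ν * ν)) (x : V) (hx : Q x ≠ 0) :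
    ∃ (e : V) (k : F), (k = ν ∨ k = -ν) ∧ Q e ≠ 0 ∧ C e = k • e ∧
      ∀ (w : V) (j : F), C w = j • w → pol (⇑Q) w x = 0 → pol (⇑Q) w e = 0 := by
  have hν : ν ≠ 0 := fun h0 => h.mu_ne (by rw [h0, mul_zero])
  set ep := x + ν⁻¹ • C x with hep
  set em := x - ν⁻¹ • C x with hem
  have hsc : ν⁻¹ * (ν * ν) = ν := by field_simp
  have hsc' : ν * ν⁻¹ = 1 := mul_inv_cancel₀ hν
  have hCp : C ep = ν • ep := by
    rw [hep, map_add, map_smul, h.sq, smul_add, smul_smul, smul_smul, hsc, hsc', one_smul,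
      add_comm]
  have hCm : C em = (-ν) • em := by
    rw [hem, map_sub, map_smul, h.sq, smul_sub, smul_smul, smul_smul, hsc, neg_mul, hsc',
      neg_smul, neg_smul, one_smul]
    abel
  have horth : pol (⇑Q) ep em = 0 := by
    have h1 := h.selfadj ep em
    rw [hCp, hCm, QuadraticMap.polar_smul_left, QuadraticMap.polar_smul_right, smul_eq_mul,
      smul_eq_mul] at h1
    have h3 : (2 * ν) * pol (⇑Q) ep em = 0 := by linear_combination h1
    rcases mul_eq_zero.mp h3 with h4 | h4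
    · exact absurd h4 (mul_ne_zero h2 hν)
    · exact h4
  have hsum : ep + em = (2 : F) • x := by
    rw [hep, hem, two_smul]; abel
  have hQsum : Q ep + Q em = 4 * Q x := by
    have h1 : Q (ep + em) = Q ep + Q em + pol (⇑Q) ep em := by
      unfold QuadraticMap.polar; ring
    rw [hsum, QuadraticMap.map_smul, horth, add_zero, smul_eq_mul] at h1
    rw [← h1]; ring
  have htrans : ∀ (w : V) (j : F), C w = j • w → pol (⇑Q) w x = 0 →
      pol (⇑Q) w ep = 0 ∧ pol (⇑Q) w em = 0 := by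
    intro w j hw hwx
    have h1 : pol (⇑Q) w (C x) = 0 := by
      rw [← h.selfadj, hw, QuadraticMap.polar_smul_left, hwx, smul_zero]
    constructor
    · rw [hep, QuadraticMap.polar_add_right, QuadraticMap.polar_smul_right, hwx, h1, smul_zero,
        add_zero]
    · rw [hem, QuadraticMap.polar_sub_right, QuadraticMap.polar_smul_right, hwx, h1, smul_zero,
        sub_zero]
  by_cases hp : Q ep = 0
  · refine ⟨em, -ν, Or.inr rfl, ?_, hCm, fun w j hw hwx => (htrans w j hw hwx).2⟩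
    intro hm
    rw [hp, hm, add_zero] at hQsum
    have h4 : (4 : F) ≠ 0 := by
      have : (4 : F) = 2 * 2 := by norm_num
      rw [this]; exact mul_ne_zero h2 h2
    exact hx ((mul_eq_zero.mp hQsum.symm).resolve_left h4)
  · exact ⟨ep, ν, Or.inl rfl, hp, hCp, fun w j hw hwx => (htrans w j hw hwx).1⟩

/-- In the plane spanned by two orthogonal non-singular eigenvectors for the same eigenvalue every
non-zero scalar is the norm of an eigenvector. -/
theorem exists_eigen_norm {Q : QuadraticForm F V} {C : V →ₗ[F] V} (h2 : (2 : F) ≠ 0)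
    (e e' : V) (k : F) (he : C e = k • e) (he' : C e' = k • e') (horth : pol (⇑Q) e e' = 0)
    (hQe : Q e ≠ 0) (hQe' : Q e' ≠ 0) (t : F) (ht : t ≠ 0) :
    ∃ b : V, Q b = t ∧ C b = k • b := by
  obtain ⟨x, y, hxy⟩ := exists_sq_add_sq_eq_one h2 (Q e / t) (Q e' / t)
    (div_ne_zero hQe ht) (div_ne_zero hQe' ht)
  refine ⟨x • e + y • e', ?_, ?_⟩
  · have h1 : Q (x • e + y • e') = Q (x • e) + Q (y • e') + pol (⇑Q) (x • e) (y • e') := by
      unfold QuadraticMap.polar; ring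
    rw [h1, QuadraticMap.map_smul, QuadraticMap.map_smul, QuadraticMap.polar_smul_left,
      QuadraticMap.polar_smul_right, horth, smul_zero, smul_zero, add_zero, smul_eq_mul,
      smul_eq_mul]
    field_simp at hxy
    linear_combination hxy
  · rw [map_add, map_smul, map_smul, he, he', smul_add, smul_comm x k e, smul_comm y k e']

/-- **The self-adjoint case with square multiplier.** -/
theorem exists_eigen_pair {Q : QuadraticForm F V} {C : V →ₗ[F] V} {ν : F}
    (hQ : (QuadraticMap.polarBilin Q).Nondegenerate) (h2 : (2 : F) ≠ 0) (hdim : 5 ≤ finrank F V)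
    (h : SimSq Q C (ν * ν) (ν * ν)) :
    ∃ (a b : V) (ka kb : F), ka ≠ 0 ∧ kb ≠ 0 ∧ C a = ka • a ∧ C b = kb • b ∧ Q a ≠ 0 ∧
      Q b ≠ 0 ∧ ¬ IsSquare (Q a * Q b) := by
  have hν : ν ≠ 0 := fun h0 => h.mu_ne (by rw [h0, mul_zero])
  have hnν : -ν ≠ 0 := neg_ne_zero.mpr hν
  have hk0 : ∀ k : F, (k = ν ∨ k = -ν) → k ≠ 0 := by
    rintro k (rfl | rfl)
    · exact hν
    · exact hnν
  have hchar : ringChar F ≠ 2 := by
    intro hc
    apply h2
    have : ((2 : ℕ) : F) = 0 := by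
      rw [← hc]; exact ringChar.Nat.cast_ringChar
    exact_mod_cast this
  obtain ⟨η, hη⟩ := FiniteField.exists_nonsquare hchar
  have hη0 : η ≠ 0 := by
    rintro rfl
    exact hη IsSquare.zero
  have hns : ∀ c : F, c ≠ 0 → ¬ IsSquare (c * (η * c)) := by
    rintro c hc ⟨s, hs⟩
    apply hη
    refine ⟨s / c, ?_⟩
    field_simp
    linear_combination hs
  have hdim2 : 2 ≤ finrank F V := by omega
  obtain ⟨x₁, hx₁⟩ := exists_Q_eq Q hQ h2 hdim2 1 one_ne_zero
  obtain ⟨e₁, k₁, hk₁, hQ₁, hC₁, -⟩ :=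
    exists_eigen_split h2 h x₁ (by rw [hx₁]; exact one_ne_zero)
  obtain ⟨x₂, hx₂, h12, -⟩ := exists_orth_Q_eq Q hQ h2 hdim e₁ e₁ hQ₁ 1 one_ne_zero
  obtain ⟨e₂, k₂, hk₂, hQ₂, hC₂, htr₂⟩ :=
    exists_eigen_split h2 h x₂ (by rw [hx₂]; exact one_ne_zero)
  have horth12 : pol (⇑Q) e₁ e₂ = 0 := htr₂ e₁ k₁ hC₁ h12
  by_cases hk : k₁ = k₂
  · -- same eigenvalue
    obtain ⟨b, hQb, hCb⟩ := exists_eigen_norm h2 e₁ e₂ k₁ hC₁ (hk ▸ hC₂) horth12 hQ₁ hQ₂
      (η * Q e₁) (mul_ne_zero hη0 hQ₁)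
    refine ⟨e₁, b, k₁, k₁, hk0 k₁ hk₁, hk0 k₁ hk₁, hC₁, hCb, hQ₁, ?_, ?_⟩
    · rw [hQb]; exact mul_ne_zero hη0 hQ₁
    · rw [hQb]; exact hns _ hQ₁
  · obtain ⟨x₃, hx₃, h13, h23⟩ := exists_orth_Q_eq Q hQ h2 hdim e₁ e₂ hQ₁ 1 one_ne_zero
    obtain ⟨e₃, k₃, hk₃, hQ₃, hC₃, htr₃⟩ :=
      exists_eigen_split h2 h x₃ (by rw [hx₃]; exact one_ne_zero)
    have horth13 : pol (⇑Q) e₁ e₃ = 0 := htr₃ e₁ k₁ hC₁ h13
    have horth23 : pol (⇑Q) e₂ e₃ = 0 := htr₃ e₂ k₂ hC₂ h23
    have hk31 : k₃ = k₁ ∨ k₃ = k₂ := by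
      rcases hk₁ with rfl | rfl <;> rcases hk₂ with rfl | rfl <;> rcases hk₃ with rfl | rfl
      all_goals first | exact Or.inl rfl | exact Or.inr rfl | exact absurd rfl hk
    rcases hk31 with h31 | h32
    · obtain ⟨b, hQb, hCb⟩ := exists_eigen_norm h2 e₁ e₃ k₁ hC₁ (h31 ▸ hC₃) horth13 hQ₁ hQ₃
        (η * Q e₂) (mul_ne_zero hη0 hQ₂)
      refine ⟨e₂, b, k₂, k₁, hk0 k₂ hk₂, hk0 k₁ hk₁, hC₂, hCb, hQ₂, ?_, ?_⟩
      · rw [hQb]; exact mul_ne_zero hη0 hQ₂
      · rw [hQb]; exact hns _ hQ₂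
    · obtain ⟨b, hQb, hCb⟩ := exists_eigen_norm h2 e₂ e₃ k₂ hC₂ (h32 ▸ hC₃) horth23 hQ₂ hQ₃
        (η * Q e₁) (mul_ne_zero hη0 hQ₁)
      refine ⟨e₁, b, k₁, k₂, hk0 k₁ hk₁, hk0 k₂ hk₂, hC₁, hCb, hQ₁, ?_, ?_⟩
      · rw [hQb]; exact mul_ne_zero hη0 hQ₁
      · rw [hQb]; exact hns _ hQ₁

/-- **Main existence theorem**: a rotation `r_a r_b` of non-trivial spinor norm commuting with the
similarity `C`, except when `C ∘ C = -μ` with `μ` a square. -/
theorem exists_reflection_pair {Q : QuadraticForm F V} {C : V →ₗ[F] V} {μ lam : F}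
    (hQ : (QuadraticMap.polarBilin Q).Nondegenerate) (h2 : (2 : F) ≠ 0) (hdim : 5 ≤ finrank F V)
    (h : SimSq Q C μ lam) (hA2 : ¬ (lam = -μ ∧ IsSquare μ)) :
    ∃ a b : V, Q a ≠ 0 ∧ Q b ≠ 0 ∧ ¬ IsSquare (Q a * Q b) ∧
      ∀ z, reflLin Q (C a) (reflLin Q (C b) z) = reflLin Q a (reflLin Q b z) := by
  have hdim2 : 2 ≤ finrank F V := by omega
  obtain ⟨x₀, hx₀⟩ := exists_Q_eq Q hQ h2 hdim2 1 one_ne_zero
  have hx₀0 : Q x₀ ≠ 0 := by rw [hx₀]; exact one_ne_zero
  have hlam : lam = μ ∨ lam = -μ := by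
    have h1 := h.lam_sq x₀ hx₀0
    have h3 : (lam - μ) * (lam + μ) = 0 := by linear_combination h1
    rcases mul_eq_zero.mp h3 with h4 | h4
    · exact Or.inl (by linear_combination h4)
    · exact Or.inr (by linear_combination h4)
  -- the pair `(a, C a)` when `μ` is not a square
  have hB : ¬ IsSquare μ → (∃ a : V, Q a ≠ 0 ∧ pol (⇑Q) a (C a) = 0) →
      ∃ a b : V, Q a ≠ 0 ∧ Q b ≠ 0 ∧ ¬ IsSquare (Q a * Q b) ∧
        ∀ z, reflLin Q (C a) (reflLin Q (C b) z) = reflLin Q a (reflLin Q b z) := by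
    rintro hμ ⟨a, ha, horth⟩
    refine ⟨a, C a, ha, ?_, ?_, fun z => h.pair_of_orth a ha horth z⟩
    · rw [h.sim]; exact mul_ne_zero h.mu_ne ha
    · rw [h.sim]
      rintro ⟨s, hs⟩
      apply hμ
      refine ⟨s / Q a, ?_⟩
      field_simp
      linear_combination hs
  by_cases hμ : IsSquare μ
  · rcases hlam with rfl | rfl
    · obtain ⟨ν, rfl⟩ := hμ
      obtain ⟨a, b, ka, kb, hka, hkb, hCa, hCb, hQa, hQb, hns⟩ := exists_eigen_pair hQ h2 hdim h
      refine ⟨a, b, hQa, hQb, hns, fun z => ?_⟩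
      rw [hCa, hCb, reflLin_smul Q b kb hkb, reflLin_smul Q a ka hka]
    · exact absurd ⟨rfl, hμ⟩ hA2
  · rcases hlam with rfl | rfl
    · exact hB hμ (exists_orth_image hQ h2 hdim h hμ)
    · exact hB hμ ⟨x₀, hx₀0, h.pol_self_map_of_neg h2 x₀⟩

end Finite

end Cfsg.Agent.Lib.Helper36
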