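import Mathlib
import Cfsg.Agent.Lib.Helper36.GraphInv
import Cfsg.Agent.Lib.Helper36.PgoInn
import Cfsg.Agent.Lib.Helper94.SympSL

set_option autoImplicit false
set_option linter.unusedSectionVars false
set_option linter.unusedVariables false

/-!
# A rotation of spinor norm `-1` commuting with a similarity whose square is a scalar
(matrix form), and the determinant of a skew similarity with square multiplier
-/

namespace Cfsg.Agent.Lib.Helper36

open Module Matrix Cfsg.Agent.Lib.Helper13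

variable {ι : Type} [Fintype ι] [DecidableEq ι] {F : Type*} [Field F] [Fintype F] [DecidableEq F]

local notation "pol" => QuadraticMap.polar

/-- The rotation `r_a r_b` as a matrix; its spinor norm is `-1` when `Q a * Q b` is not a
square. -/
theorem exists_rotation_of_pair (Q : QuadraticForm F (ι → F))
    (hQ : (QuadraticMap.polarBilin Q).Nondegenerate) (h2 : (2 : F) ≠ 0)
    (a b : ι → F) (ha : Q a ≠ 0) (hb : Q b ≠ 0) (hns : ¬ IsSquare (Q a * Q b)) :
    ∃ g₀ : GL ι F, g₀ ∈ Cfsg.specialIsometryGL F (⇑Q) ∧ spin Q (glLinEquiv ι F g₀) = -1 ∧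
      ∀ z, glLinEquiv ι F g₀ z = reflLin Q a (reflLin Q b z) := by
  have hT₂ : reflEquiv Q b hb ∈ Cfsg.Agent.Lib.Helper13.isoGroup Q :=
    reflGroup_le_isoGroup Q (Subgroup.subset_closure (reflEquiv_mem Q b hb))
  have hT₁ : reflEquiv Q a ha ∈ Cfsg.Agent.Lib.Helper13.isoGroup Q :=
    reflGroup_le_isoGroup Q (Subgroup.subset_closure (reflEquiv_mem Q a ha))
  set T : (ι → F) ≃ₗ[F] (ι → F) := reflEquiv Q a ha * reflEquiv Q b hb with hT
  have hTiso : T ∈ Cfsg.Agent.Lib.Helper13.isoGroup Q := Subgroup.mul_mem _ hT₁ hT₂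
  set g₀ : GL ι F := (glLinEquiv ι F).symm T with hg₀
  have hgT : glLinEquiv ι F g₀ = T := by rw [hg₀, MulEquiv.apply_symm_apply]
  have hg₀O : g₀ ∈ Cfsg.isometryGroup F (⇑Q) := by
    rw [mem_isometryGroup_iff_isoGroup, hgT]
    exact hTiso
  have hpar : par (glLinEquiv ι F g₀) = 0 := by
    rw [hgT, hT, par_refl_mul Q hQ _ hT₂ _ (reflEquiv_mem Q a ha),
      par_refl Q hQ _ (reflEquiv_mem Q b hb)]
    decide
  have hspin : spin Q (glLinEquiv ι F g₀) = -1 := by
    rw [hgT, hT, spin_refl_mul Q hQ _ hT₂ a ha _ (fun _ => rfl),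
      spin_refl Q hQ b hb _ (fun _ => rfl), ← map_mul, quadraticChar_neg_one_iff_not_isSquare]
    exact hns
  refine ⟨g₀, ⟨hg₀O, ?_⟩, hspin, fun z => ?_⟩
  · change Matrix.GeneralLinearGroup.det g₀ = 1
    apply Units.ext
    rw [Matrix.GeneralLinearGroup.val_det_apply, Units.val_one]
    exact (det_eq_one_iff_par Q hQ h2 g₀ hg₀O).mpr hpar
  · rw [hgT, hT]
    rfl

/-- **A rotation of spinor norm `-1` commuting with a similarity of scalar square.** -/
theorem exists_commuting_rotation (Q : QuadraticForm F (ι → F))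
    (hQ : (QuadraticMap.polarBilin Q).Nondegenerate) (h2 : (2 : F) ≠ 0)
    (hdim : 5 ≤ Fintype.card ι) (c : GL ι F) (μ : F) (hμ0 : μ ≠ 0)
    (hμ : ∀ v : ι → F, Q ((c : Matrix ι ι F) *ᵥ v) = μ * Q v) (lam : F)
    (hlam : ∀ v : ι → F, (c : Matrix ι ι F) *ᵥ ((c : Matrix ι ι F) *ᵥ v) = lam • v)
    (hA2 : ¬ (lam = -μ ∧ IsSquare μ)) :
    ∃ s : GL ι F, s ∈ Cfsg.specialIsometryGL F (⇑Q) ∧ spin Q (glLinEquiv ι F s) = -1 ∧
      c * s = s * c := by
  have hdim' : 5 ≤ finrank F (ι → F) := by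
    rw [Module.finrank_fintype_fun_eq_card]
    exact hdim
  set D : (ι → F) ≃ₗ[F] (ι → F) := glLinEquiv ι F c with hD
  have hDz : ∀ z, D z = (c : Matrix ι ι F) *ᵥ z := fun z => rfl
  have hS : SimSq Q (D : (ι → F) →ₗ[F] (ι → F)) μ lam :=
    ⟨hμ0, fun z => hμ z, fun z => hlam z⟩
  obtain ⟨a, b, ha, hb, hns, hpair⟩ := exists_reflection_pair hQ h2 hdim' hS hA2
  obtain ⟨s, hsS, hspin, hsz⟩ := exists_rotation_of_pair Q hQ h2 a b ha hb hns
  refine ⟨s, hsS, hspin, ?_⟩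
  have hconj : c * s * c⁻¹ = s := by
    apply (glLinEquiv ι F).injective
    apply LinearEquiv.ext
    intro z
    rw [map_mul, map_mul, map_inv, ← hD, LinearEquiv.mul_apply, LinearEquiv.mul_apply, hsz, hsz]
    have hDQ : ∀ z, Q (D z) = μ * Q z := fun z => hμ z
    have h1 : D (reflLin Q a (reflLin Q b (D⁻¹ z))) =
        reflLin Q (D a) (D (reflLin Q b (D⁻¹ z))) := by
      have h3 := conj_reflLin_similarity Q D μ hμ0 hDQ a ha (D (reflLin Q b (D⁻¹ z)))
      rw [← h3]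
      congr 2
      rw [← LinearEquiv.mul_apply, inv_mul_cancel]
      rfl
    rw [h1, conj_reflLin_similarity Q D μ hμ0 hDQ b hb z]
    exact hpair z
  calc c * s = c * s * c⁻¹ * c := by group
    _ = s * c := by rw [hconj]

/-- A similarity with multiplier `ν²` whose square is `-ν²` has determinant `ν ^ n`. -/
theorem det_of_skew_similarity (Q : QuadraticForm F (ι → F))
    (hQ : (QuadraticMap.polarBilin Q).Nondegenerate) (h2 : (2 : F) ≠ 0)
    (c : GL ι F) (ν : F) (hν : ν ≠ 0)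
    (hμ : ∀ v : ι → F, Q ((c : Matrix ι ι F) *ᵥ v) = (ν * ν) * Q v)
    (hlam : ∀ v : ι → F, (c : Matrix ι ι F) *ᵥ ((c : Matrix ι ι F) *ᵥ v) = (-(ν * ν)) • v) :
    (c : Matrix ι ι F).det = ν ^ Fintype.card ι := by
  set D : (ι → F) ≃ₗ[F] (ι → F) := glLinEquiv ι F c with hD
  have hS : SimSq Q (D : (ι → F) →ₗ[F] (ι → F)) (ν * ν) (-(ν * ν)) :=
    ⟨mul_ne_zero hν hν, fun z => hμ z, fun z => hlam z⟩
  -- the isometry `ν⁻¹ D`
  set u : Fˣ := Units.mk0 ν⁻¹ (inv_ne_zero hν) with hu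
  set c₁ : GL ι F := Matrix.GeneralLinearGroup.scalar ι u * c with hc₁
  set D₁ : (ι → F) ≃ₗ[F] (ι → F) := glLinEquiv ι F c₁ with hD₁
  have hc₁m : (c₁ : Matrix ι ι F) = ν⁻¹ • (c : Matrix ι ι F) := by
    rw [hc₁, Units.val_mul, Matrix.GeneralLinearGroup.coe_scalar, hu, Units.val_mk0,
      Matrix.smul_eq_diagonal_mul]
    rfl
  have hD₁z : ∀ z, D₁ z = ν⁻¹ • D z := by
    intro z
    change (c₁ : Matrix ι ι F) *ᵥ z = ν⁻¹ • ((c : Matrix ι ι F) *ᵥ z)
    rw [hc₁m, Matrix.smul_mulVec]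
  set β : LinearMap.BilinForm F (ι → F) :=
    LinearMap.BilinForm.compRight (QuadraticMap.polarBilin Q)
      (D₁ : (ι → F) →ₗ[F] (ι → F)) with hβ
  have hβz : ∀ x y, β x y = ν⁻¹ * pol (⇑Q) x (D y) := by
    intro x y
    rw [hβ, LinearMap.BilinForm.compRight_apply]
    change pol (⇑Q) x (D₁ y) = _
    rw [hD₁z, QuadraticMap.polar_smul_right, smul_eq_mul]
  have hSD : Cfsg.Agent.Lib.Helper94.SympData β := by
    constructor
    · intro x
      rw [hβz]
      have := hS.pol_self_map_of_neg h2 x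
      change pol (⇑Q) x (D x) = 0 at this
      rw [this, mul_zero]
    · intro x hx
      apply hQ.1
      intro y
      have h1 := hx (D⁻¹ y)
      rw [hβz] at h1
      have h3 : D (D⁻¹ y) = y := by
        rw [← LinearEquiv.mul_apply, mul_inv_cancel]; rfl
      rw [h3] at h1
      rcases mul_eq_zero.mp h1 with h4 | h4
      · exact absurd h4 (inv_ne_zero hν)
      · exact h4
  have hSp : D₁ ∈ Cfsg.Agent.Lib.Helper94.SympData.Sp β := by
    rw [Cfsg.Agent.Lib.Helper94.SympData.mem_Sp]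
    intro x y
    rw [hβz, hβz, hD₁z, hD₁z, map_smul, QuadraticMap.polar_smul_left,
      QuadraticMap.polar_smul_right, smul_eq_mul, smul_eq_mul]
    have := hS.pol_map x (D y)
    change pol (⇑Q) (D x) (D (D y)) = _ at this
    rw [this]
    field_simp
  have hdet1 : LinearEquiv.det D₁ = 1 := by
    have h1 : D₁ ∈ Cfsg.Agent.Lib.Helper94.SympData.SLe F (ι → F) := by
      apply hSD.TN_le_SLe ⊤
      rw [← hSD.Sp_eq_TN_top]
      exact hSp
    exact Cfsg.Agent.Lib.Helper94.SympData.mem_SLe.mp h1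
  have hdet2 : (c₁ : Matrix ι ι F).det = 1 := by
    have h1 := det_glEquivι c₁
    have h3 : LinearMap.det ((D₁ : (ι → F) ≃ₗ[F] (ι → F)) : (ι → F) →ₗ[F] (ι → F)) = 1 := by
      rw [← LinearEquiv.coe_det, hdet1, Units.val_one]
    rw [← h1]
    exact h3
  rw [hc₁m, Matrix.det_smul] at hdet2
  have h5 : (ν⁻¹ ^ Fintype.card ι) * ν ^ Fintype.card ι = 1 := by
    rw [← mul_pow, inv_mul_cancel₀ hν, one_pow]
  have h6 : (c : Matrix ι ι F).det = ν ^ Fintype.card ι * (ν⁻¹ ^ Fintype.card ι *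
      (c : Matrix ι ι F).det) := by
    rw [← mul_assoc, mul_comm (ν ^ Fintype.card ι), h5, one_mul]
  rw [h6, hdet2, mul_one]

end Cfsg.Agent.Lib.Helper36
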