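import Mathlib
import Cfsg.Agent.Lib.Helper36.MaxTS

set_option autoImplicit false
set_option linter.unusedSectionVars false
set_option linter.unusedVariables false

/-!
# Determinants of linear maps with scalar square

* `isCompl_eigen_involution`: the eigenspaces of an involution (`2 ≠ 0`) are complementary;
* `det_of_isCompl_scalar`: the determinant of a map acting as `1` and `s` on complementary spaces;
* `det_of_sq_nonsquare`: `M² = lam` with `lam` a non-square forces `det M = (-lam)^n`.
-/

namespace Cfsg.Agent.Lib.Helper36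

open Module

section Det

variable {F V : Type*} [Field F] [AddCommGroup V] [Module F V]

theorem isCompl_eigen_involution (h2 : (2 : F) ≠ 0) (T : V →ₗ[F] V) (hT : ∀ v, T (T v) = v) :
    IsCompl (LinearMap.ker (T - LinearMap.id)) (LinearMap.ker (T + LinearMap.id)) := by
  constructor
  · rw [Submodule.disjoint_def]
    intro x h₁ h₂
    rw [LinearMap.mem_ker, LinearMap.sub_apply, LinearMap.id_apply, sub_eq_zero] at h₁
    rw [LinearMap.mem_ker, LinearMap.add_apply, LinearMap.id_apply, h₁] at h₂
    have h3 : (2 : F) • x = 0 := by rw [two_smul]; exact h₂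
    exact (smul_eq_zero.mp h3).resolve_left h2
  · rw [codisjoint_iff, eq_top_iff]
    intro x _
    rw [Submodule.mem_sup]
    refine ⟨(2 : F)⁻¹ • (x + T x), ?_, (2 : F)⁻¹ • (x - T x), ?_, ?_⟩
    · rw [LinearMap.mem_ker, LinearMap.sub_apply, LinearMap.id_apply, map_smul, map_add, hT,
        add_comm]
      exact sub_self _
    · rw [LinearMap.mem_ker, LinearMap.add_apply, LinearMap.id_apply, map_smul, map_sub, hT,
        ← smul_add]
      have : T x - x + (x - T x) = 0 := by abel
      rw [this, smul_zero]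
    · rw [← smul_add]
      have : x + T x + (x - T x) = (2 : F) • x := by rw [two_smul]; abel
      rw [this, smul_smul, inv_mul_cancel₀ h2, one_smul]

theorem mem_ker_sub_id (T : V →ₗ[F] V) (x : V) :
    x ∈ LinearMap.ker (T - LinearMap.id) ↔ T x = x := by
  rw [LinearMap.mem_ker, LinearMap.sub_apply, LinearMap.id_apply, sub_eq_zero]

theorem mem_ker_add_id (T : V →ₗ[F] V) (x : V) :
    x ∈ LinearMap.ker (T + LinearMap.id) ↔ T x = -x := by
  rw [LinearMap.mem_ker, LinearMap.add_apply, LinearMap.id_apply, eq_neg_iff_add_eq_zero]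

/-- The determinant of a map acting as `1` on `E₁` and as the scalar `s` on a complement `E₂`. -/
theorem det_of_isCompl_scalar [FiniteDimensional F V] (E₁ E₂ : Submodule F V)
    (h : IsCompl E₁ E₂) (S : V →ₗ[F] V) (s : F) (h₁ : ∀ x ∈ E₁, S x = x)
    (h₂ : ∀ x ∈ E₂, S x = s • x) : LinearMap.det S = s ^ finrank F E₂ := by
  set e := Submodule.prodEquivOfIsCompl E₁ E₂ h with he
  have hS : S = (e : (E₁ × E₂) →ₗ[F] V) ∘ₗ
      (LinearMap.prodMap (LinearMap.id : E₁ →ₗ[F] E₁) (s • (LinearMap.id : E₂ →ₗ[F] E₂))) ∘ₗ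
      (e.symm : V →ₗ[F] (E₁ × E₂)) := by
    apply LinearMap.ext
    intro v
    obtain ⟨p, rfl⟩ := e.surjective v
    rw [LinearMap.comp_apply, LinearMap.comp_apply, LinearEquiv.coe_coe, LinearEquiv.coe_coe,
      LinearEquiv.symm_apply_apply, LinearMap.prodMap_apply, he,
      Submodule.coe_prodEquivOfIsCompl', Submodule.coe_prodEquivOfIsCompl', map_add,
      h₁ _ p.1.2, h₂ _ p.2.2]
    rfl
  rw [hS, LinearMap.det_conj, LinearMap.det_prodMap, LinearMap.det_id, LinearMap.det_smul,
    LinearMap.det_id, one_mul, mul_one]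

/-- The determinant of an involution. -/
theorem det_involution [FiniteDimensional F V] (h2 : (2 : F) ≠ 0) (T : V →ₗ[F] V)
    (hT : ∀ v, T (T v) = v) :
    LinearMap.det T = (-1) ^ finrank F (LinearMap.ker (T + LinearMap.id)) := by
  apply det_of_isCompl_scalar _ _ (isCompl_eigen_involution h2 T hT)
  · intro x hx
    exact (mem_ker_sub_id T x).mp hx
  · intro x hx
    rw [(mem_ker_add_id T x).mp hx, neg_smul, one_smul]

theorem finrank_eigen_add [FiniteDimensional F V] (h2 : (2 : F) ≠ 0) (T : V →ₗ[F] V)
    (hT : ∀ v, T (T v) = v) :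
    finrank F (LinearMap.ker (T - LinearMap.id)) + finrank F (LinearMap.ker (T + LinearMap.id)) =
      finrank F V :=
  Submodule.finrank_add_eq_of_isCompl (isCompl_eigen_involution h2 T hT)

end Det

section Charpoly

open Polynomial

variable {F : Type*} [Field F] {ι : Type*} [Fintype ι] [DecidableEq ι]

/-- A matrix whose square is a non-square scalar `lam` has determinant `(-lam)^n` (size `2n`). -/
theorem det_of_sq_nonsquare (M : Matrix ι ι F) (lam : F) (hM : M * M = lam • (1 : Matrix ι ι F))
    (hlam : ¬ IsSquare lam) (n : ℕ) (hcard : Fintype.card ι = 2 * n) :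
    M.det = (-lam) ^ n := by
  set q : F[X] := X ^ 2 - C lam with hq
  have hqm : q.Monic := monic_X_pow_sub_C lam (by norm_num)
  have hqd : q.natDegree = 2 := natDegree_X_pow_sub_C
  have hqirr : Irreducible q := by
    rw [hqm.irreducible_iff_roots_eq_zero_of_degree_le_three (by rw [hqd])
      (by rw [hqd]; norm_num), Multiset.eq_zero_iff_forall_notMem]
    intro z hz
    rw [mem_roots hqm.ne_zero, IsRoot.def, hq, eval_sub, eval_pow, eval_X, eval_C] at hz
    apply hlam
    exact ⟨z, by linear_combination -hz⟩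
  have hmat : Matrix.charmatrix M * Matrix.charmatrix (-M) = q • (1 : Matrix ι ι F[X]) := by
    unfold Matrix.charmatrix
    rw [map_neg, sub_neg_eq_add]
    have hcomm : Matrix.scalar ι (X : F[X]) * C.mapMatrix M =
        C.mapMatrix M * Matrix.scalar ι (X : F[X]) :=
      ((Matrix.scalar_commute (X : F[X]) (fun r' => Commute.all _ _)) (C.mapMatrix M)).eq
    have hsq : C.mapMatrix M * C.mapMatrix M = C lam • (1 : Matrix ι ι F[X]) := by
      rw [← map_mul, hM]
      ext i j
      simp [Matrix.one_apply]
      split_ifs <;> simp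
    have hXX : Matrix.scalar ι (X : F[X]) * Matrix.scalar ι (X : F[X]) =
        (X ^ 2 : F[X]) • (1 : Matrix ι ι F[X]) := by
      rw [← map_mul, ← pow_two, Matrix.scalar_apply, Matrix.smul_one_eq_diagonal]
    rw [sub_mul, mul_add, mul_add, hXX, hsq, hcomm, hq, sub_smul]
    abel
  have hprod : M.charpoly * (-M).charpoly = q ^ Fintype.card ι := by
    unfold Matrix.charpoly
    rw [← Matrix.det_mul, hmat, Matrix.det_smul, Matrix.det_one, mul_one]
  obtain ⟨k, hk, hassoc⟩ := (dvd_prime_pow hqirr.prime _).mp ⟨_, hprod.symm⟩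
  have hpeq : M.charpoly = q ^ k :=
    eq_of_monic_of_associated (Matrix.charpoly_monic M) (hqm.pow k) hassoc
  have hkn : k = n := by
    have h1 := congrArg natDegree hpeq
    rw [Matrix.charpoly_natDegree_eq_dim, natDegree_pow, hqd, hcard] at h1
    omega
  rw [Matrix.det_eq_sign_charpoly_coeff, hcard, pow_mul, neg_one_sq, one_pow, one_mul, hpeq, hkn,
    coeff_zero_eq_eval_zero, eval_pow, hq, eval_sub, eval_pow, eval_X, eval_C]
  congr 1
  ring

end Charpoly

end Cfsg.Agent.Lib.Helper36
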