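import Mathlib
import Cfsg.Agent.Lib.Helper36.InvolDet
import Cfsg.Agent.Lib.Helper36.GraphInvRot

set_option autoImplicit false
set_option linter.unusedSectionVars false
set_option linter.unusedVariables false

/-!
# Similarities commuting (projectively) with an involutory graph-type similarity

Let `dim V = 2n` with `n` even.  If `c` is a similarity with `c²` scalar and `det c ≠ μ(c)^n`, then
every similarity `a` with `a c = ± c a` has square multiplier.
-/

namespace Cfsg.Agent.Lib.Helper36

open Module Matrix Cfsg.Agent.Lib.Helper13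

variable {ι : Type} [Fintype ι] [DecidableEq ι] {F : Type*} [Field F]

local notation "pol" => QuadraticMap.polar

/-- If `B(T x, T y) = B(x, S y)` for a nondegenerate `B` then `det S = (det T)²`. -/
theorem det_eq_sq_of_comp (B : LinearMap.BilinForm F (ι → F)) (hB : B.Nondegenerate)
    (T S : (ι → F) →ₗ[F] (ι → F)) (h : ∀ x y, B (T x) (T y) = B x (S y)) :
    LinearMap.det S = LinearMap.det T * LinearMap.det T := by
  have hcomp : B.comp T T = B.compRight S := by
    refine LinearMap.ext fun x => LinearMap.ext fun y => ?_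
    rw [LinearMap.BilinForm.comp_apply, LinearMap.BilinForm.compRight_apply]
    exact h x y
  have hM := congrArg LinearMap.BilinForm.toMatrix' hcomp
  rw [LinearMap.BilinForm.toMatrix'_comp, LinearMap.BilinForm.toMatrix'_compRight] at hM
  have hdet := congrArg Matrix.det hM
  rw [Matrix.det_mul, Matrix.det_mul, Matrix.det_transpose, Matrix.det_mul,
    LinearMap.det_toMatrix', LinearMap.det_toMatrix'] at hdet
  have hMne : (LinearMap.BilinForm.toMatrix' B).det ≠ 0 := by
    rw [← Matrix.nondegenerate_iff_det_ne_zero]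
    exact LinearMap.BilinForm.nondegenerate_toMatrix'_iff.mpr hB
  have : (LinearMap.det S - LinearMap.det T * LinearMap.det T) *
      (LinearMap.BilinForm.toMatrix' B).det = 0 := by
    linear_combination -hdet
  rcases mul_eq_zero.mp this with h | h
  · exact sub_eq_zero.mp h
  · exact absurd h hMne

/-- An involutive anti-isometry has determinant `(-1)^n`. -/
theorem det_neg_sim_involution (Q : QuadraticForm F (ι → F))
    (hQ : (QuadraticMap.polarBilin Q).Nondegenerate) (h2 : (2 : F) ≠ 0) (n : ℕ)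
    (hcard : Fintype.card ι = 2 * n) (T : (ι → F) →ₗ[F] (ι → F)) (hTT : ∀ v, T (T v) = v)
    (hTQ : ∀ v, Q (T v) = -Q v) : LinearMap.det T = (-1) ^ n := by
  have hfr : finrank F (ι → F) = 2 * n := by
    rw [Module.finrank_fintype_fun_eq_card]
    exact hcard
  have hsing : ∀ v, Q (T v) = Q v → Q v = 0 := by
    intro v hv
    rw [hTQ] at hv
    have h3 : (2 : F) * Q v = 0 := by linear_combination -hv
    exact (mul_eq_zero.mp h3).resolve_left h2
  have hp : IsTS Q (LinearMap.ker (T - LinearMap.id)) := by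
    intro v hv
    rw [mem_ker_sub_id] at hv
    apply hsing
    rw [hv]
  have hm : IsTS Q (LinearMap.ker (T + LinearMap.id)) := by
    intro v hv
    rw [mem_ker_add_id] at hv
    apply hsing
    rw [hv, QuadraticMap.map_neg]
  have hle : ∀ W : Submodule F (ι → F), IsTS Q W → finrank F W ≤ n := by
    intro W hW
    have h1 := Submodule.finrank_mono hW.le_perp
    rw [finrank_perp hQ, hfr] at h1
    omega
  have hsum := finrank_eigen_add h2 T hTT
  rw [hfr] at hsum
  have h1 := hle _ hp
  have h3 := hle _ hm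
  rw [det_involution h2 T hTT]
  congr 1
  omega

variable [Fintype F] [DecidableEq F]

set_option maxHeartbeats 1600000 in
/-- **Key lemma**: in dimension `2n` with `n` even, a similarity commuting up to sign with a
similarity `c` of scalar square and `det c ≠ μ(c)^n` has square multiplier. -/
theorem isSquare_mult_of_commute (Q : QuadraticForm F (ι → F))
    (hQ : (QuadraticMap.polarBilin Q).Nondegenerate) (h2 : (2 : F) ≠ 0) (n : ℕ) (hn : Even n)
    (hcard : Fintype.card ι = 2 * n) (v₀ : ι → F) (hv₀ : Q v₀ ≠ 0)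
    (c a : GL ι F) (μ lam α : F) (hμ0 : μ ≠ 0)
    (hμ : ∀ v : ι → F, Q ((c : Matrix ι ι F) *ᵥ v) = μ * Q v)
    (hlam : ∀ v : ι → F, (c : Matrix ι ι F) *ᵥ ((c : Matrix ι ι F) *ᵥ v) = lam • v)
    (hα0 : α ≠ 0) (hα : ∀ v : ι → F, Q ((a : Matrix ι ι F) *ᵥ v) = α * Q v)
    (ε : F) (hε : ε = 1 ∨ ε = -1)
    (hac : ∀ v : ι → F, (a : Matrix ι ι F) *ᵥ ((c : Matrix ι ι F) *ᵥ v) =
      ε • ((c : Matrix ι ι F) *ᵥ ((a : Matrix ι ι F) *ᵥ v)))
    (hdet : (c : Matrix ι ι F).det ≠ μ ^ n) : IsSquare α := by
  have hfr : finrank F (ι → F) = 2 * n := by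
    rw [Module.finrank_fintype_fun_eq_card]
    exact hcard
  set Cl : (ι → F) →ₗ[F] (ι → F) := Matrix.toLin' (c : Matrix ι ι F) with hCl
  set Al : (ι → F) →ₗ[F] (ι → F) := Matrix.toLin' (a : Matrix ι ι F) with hAl
  have hClz : ∀ z, Cl z = (c : Matrix ι ι F) *ᵥ z := fun z => Matrix.toLin'_apply _ _
  have hAlz : ∀ z, Al z = (a : Matrix ι ι F) *ᵥ z := fun z => Matrix.toLin'_apply _ _
  have hdetC : LinearMap.det Cl = (c : Matrix ι ι F).det := LinearMap.det_toLin' _
  have hS : SimSq Q Cl μ lam :=
    ⟨hμ0, fun z => by rw [hClz]; exact hμ z, fun z => by rw [hClz, hClz]; exact hlam z⟩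
  have hll : lam * lam = μ * μ := hS.lam_sq v₀ hv₀
  have hlam0 : lam ≠ 0 := hS.lam_ne v₀ hv₀
  obtain ⟨j, hj⟩ := hn
  have hpow : lam ^ n = μ ^ n := by
    rw [hj, ← two_mul, pow_mul, pow_mul, pow_two, pow_two, hll]
  -- a general involution `T = x⁻¹ C` when `lam = x²`
  have hinv : ∀ x : F, x ≠ 0 → lam = x * x →
      (∀ v, (x⁻¹ • Cl) ((x⁻¹ • Cl) v) = v) ∧
      (∀ v, Q ((x⁻¹ • Cl) v) = (μ / lam) * Q v) ∧
      LinearMap.det Cl = lam ^ n * LinearMap.det (x⁻¹ • Cl) := by
    intro x hx hlx
    refine ⟨?_, ?_, ?_⟩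
    · intro v
      rw [LinearMap.smul_apply, LinearMap.smul_apply, map_smul, hS.sq, smul_smul, smul_smul, hlx]
      have : x⁻¹ * x⁻¹ * (x * x) = 1 := by field_simp
      rw [this, one_smul]
    · intro v
      rw [LinearMap.smul_apply, QuadraticMap.map_smul, hS.sim, hlx, smul_eq_mul]
      field_simp
    · rw [LinearMap.det_smul, hfr, hlx, ← mul_assoc]
      have h1 : (x * x) ^ n * x⁻¹ ^ (2 * n) = 1 := by
        rw [pow_mul, ← mul_pow]
        have : x * x * (x⁻¹ ^ 2) = 1 := by field_simp
        rw [this, one_pow]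
      rw [h1, one_mul]
  by_cases hlsq : IsSquare lam
  swap
  · -- `lam` a non-square: `det c = (-lam)^n = μ^n`
    exfalso
    apply hdet
    have hM : (c : Matrix ι ι F) * (c : Matrix ι ι F) = lam • (1 : Matrix ι ι F) := by
      apply matrix_eq_of_mulVec
      intro z
      rw [← Matrix.mulVec_mulVec, hlam, Matrix.smul_mulVec, Matrix.one_mulVec]
    rw [det_of_sq_nonsquare _ lam hM hlsq n hcard, Even.neg_pow ⟨j, hj⟩, hpow]
  obtain ⟨x, hx⟩ := hlsq
  have hx0 : x ≠ 0 := by
    rintro rfl
    rw [mul_zero] at hx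
    exact hlam0 hx
  obtain ⟨hTT, hTQ, hTdet⟩ := hinv x hx0 hx
  set T : (ι → F) →ₗ[F] (ι → F) := x⁻¹ • Cl with hT
  have hAT : ∀ v, Al (T v) = ε • T (Al v) := by
    intro v
    rw [hT, LinearMap.smul_apply, LinearMap.smul_apply, map_smul, hClz, hAlz, hAlz, hClz, hac,
      smul_comm]
  clear_value T
  rcases (mul_eq_zero.mp (show (lam - μ) * (lam + μ) = 0 by linear_combination hll)) with h | h
  swap
  · -- `lam = -μ`: `T` is an anti-isometry, `det T = (-1)^n = 1`
    exfalso
    apply hdet
    have hlm : μ / lam = -1 := by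
      have : μ = -lam := by linear_combination h
      rw [this]
      field_simp
    have hTQ' : ∀ v, Q (T v) = -Q v := by
      intro v
      rw [hTQ, hlm, neg_one_mul]
    rw [← hdetC, hTdet, det_neg_sim_involution Q hQ h2 n hcard T hTT hTQ', Even.neg_one_pow ⟨j, hj⟩,
      mul_one, hpow]
  -- `lam = μ`: `T` is an involutive isometry
  have hlm : lam = μ := by linear_combination h
  have hTQ' : ∀ v, Q (T v) = Q v := by
    intro v
    rw [hTQ, hlm, div_self hμ0, one_mul]
  have hTpol : ∀ u w, pol (⇑Q) (T u) (T w) = pol (⇑Q) u w := by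
    intro u w
    unfold QuadraticMap.polar
    rw [← map_add, hTQ', hTQ', hTQ']
  set Em := LinearMap.ker (T + LinearMap.id) with hEm
  set Ep := LinearMap.ker (T - LinearMap.id) with hEp
  have hsum : finrank F Ep + finrank F Em = 2 * n := by
    rw [← hfr]
    exact finrank_eigen_add h2 T hTT
  have hTdet' : LinearMap.det T = (-1) ^ finrank F Em := det_involution h2 T hTT
  have hodd : Odd (finrank F Em) := by
    rw [← Nat.not_even_iff_odd]
    intro he
    apply hdet
    rw [← hdetC, hTdet, hTdet', Even.neg_one_pow he, mul_one, hpow]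
  rcases hε with rfl | rfl
  swap
  · -- `ε = -1`: the eigenspaces are swapped, so they have the same dimension `n`, even
    exfalso
    set Ae : (ι → F) ≃ₗ[F] (ι → F) := glLinEquiv ι F a with hAe
    have hAez : ∀ z, Ae z = Al z := fun z => by rw [hAlz]; rfl
    have h1 : Ep.map (Ae : (ι → F) →ₗ[F] (ι → F)) ≤ Em := by
      rintro _ ⟨u, hu, rfl⟩
      rw [SetLike.mem_coe, hEp, mem_ker_sub_id] at hu
      rw [hEm, mem_ker_add_id, LinearEquiv.coe_coe, hAez]
      have := hAT u
      rw [hu, neg_one_smul] at this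
      exact neg_eq_iff_eq_neg.mp this.symm
    have h3 : Em.map (Ae : (ι → F) →ₗ[F] (ι → F)) ≤ Ep := by
      rintro _ ⟨u, hu, rfl⟩
      rw [SetLike.mem_coe, hEm, mem_ker_add_id] at hu
      rw [hEp, mem_ker_sub_id, LinearEquiv.coe_coe, hAez]
      have := hAT u
      rw [hu, map_neg, neg_one_smul] at this
      exact (neg_injective this).symm
    have h4 := Submodule.finrank_mono h1
    have h5 := Submodule.finrank_mono h3
    rw [LinearEquiv.finrank_map_eq] at h4 h5
    have h6 : finrank F Em = n := by omega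
    rw [h6] at hodd
    exact (Nat.not_even_iff_odd.mpr hodd) ⟨j, hj⟩
  -- `ε = 1`
  have hAT' : ∀ v, Al (T v) = T (Al v) := by
    intro v
    rw [hAT, one_smul]
  set Pm : (ι → F) →ₗ[F] (ι → F) := (2 : F)⁻¹ • (LinearMap.id - T) with hPm
  set Pp : (ι → F) →ₗ[F] (ι → F) := (2 : F)⁻¹ • (LinearMap.id + T) with hPp
  have hPmT : ∀ v, T (Pm v) = -Pm v := by
    intro v
    rw [hPm, LinearMap.smul_apply, LinearMap.sub_apply, LinearMap.id_apply, map_smul, map_sub,
      hTT, ← smul_neg, neg_sub]
  have hPpT : ∀ v, T (Pp v) = Pp v := by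
    intro v
    rw [hPp, LinearMap.smul_apply, LinearMap.add_apply, LinearMap.id_apply, map_smul, map_add,
      hTT, add_comm]
  have hPsum : ∀ v, Pm v + Pp v = v := by
    intro v
    rw [hPm, hPp, LinearMap.smul_apply, LinearMap.smul_apply, ← smul_add, LinearMap.sub_apply,
      LinearMap.add_apply, LinearMap.id_apply]
    have : v - T v + (v + T v) = (2 : F) • v := by rw [two_smul]; abel
    rw [this, smul_smul, inv_mul_cancel₀ h2, one_smul]
  clear_value Pm Pp
  have horth : ∀ u w, T u = -u → T w = w → pol (⇑Q) u w = 0 := by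
    intro u w hu hw
    have h1 := hTpol u w
    rw [hu, hw, QuadraticMap.polar_neg_left] at h1
    have h3 : (2 : F) * pol (⇑Q) u w = 0 := by linear_combination -h1
    exact (mul_eq_zero.mp h3).resolve_left h2
  have hApol : ∀ u w, pol (⇑Q) (Al u) (Al w) = α * pol (⇑Q) u w := by
    intro u w
    rw [hAlz, hAlz]
    exact polar_mulVec_of_similarity Q _ α hα u w
  set TT : (ι → F) →ₗ[F] (ι → F) := Al ∘ₗ Pm + Pp with hTTdef
  set S : (ι → F) →ₗ[F] (ι → F) := α • Pm + Pp with hSdef
  have hkey : ∀ u w, (QuadraticMap.polarBilin Q) (TT u) (TT w) =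
      (QuadraticMap.polarBilin Q) u (S w) := by
    intro u w
    change pol (⇑Q) (TT u) (TT w) = pol (⇑Q) u (S w)
    have hAm : ∀ v, T (Al (Pm v)) = -Al (Pm v) := by
      intro v
      rw [← hAT', hPmT, map_neg]
    rw [hTTdef, hSdef, LinearMap.add_apply, LinearMap.add_apply, LinearMap.comp_apply,
      LinearMap.comp_apply, LinearMap.add_apply, LinearMap.smul_apply]
    conv_rhs => rw [← hPsum u]
    rw [QuadraticMap.polar_add_left, QuadraticMap.polar_add_right, QuadraticMap.polar_add_right,
      QuadraticMap.polar_add_left, QuadraticMap.polar_add_right, QuadraticMap.polar_add_right,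
      QuadraticMap.polar_smul_right, QuadraticMap.polar_smul_right, hApol,
      horth _ _ (hAm u) (hPpT w), horth _ _ (hPmT u) (hPpT w),
      QuadraticMap.polar_comm (⇑Q) (Pp u) (Al (Pm w)), horth _ _ (hAm w) (hPpT u),
      QuadraticMap.polar_comm (⇑Q) (Pp u) (Pm w), horth _ _ (hPmT w) (hPpT u)]
    simp
  have hdetS := det_eq_sq_of_comp _ hQ TT S hkey
  have hdetS' : LinearMap.det S = α ^ finrank F Em := by
    apply det_of_isCompl_scalar Ep Em (isCompl_eigen_involution h2 T hTT)
    · intro u hu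
      rw [hEp, mem_ker_sub_id] at hu
      have h1 : Pm u = 0 := by
        rw [hPm, LinearMap.smul_apply, LinearMap.sub_apply, LinearMap.id_apply, hu, sub_self,
          smul_zero]
      have h3 : Pp u = u := by
        have := hPsum u
        rw [h1, zero_add] at this
        exact this
      rw [hSdef, LinearMap.add_apply, LinearMap.smul_apply, h1, h3, smul_zero, zero_add]
    · intro u hu
      rw [hEm, mem_ker_add_id] at hu
      have h1 : Pp u = 0 := by
        rw [hPp, LinearMap.smul_apply, LinearMap.add_apply, LinearMap.id_apply, hu,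
          add_neg_cancel, smul_zero]
      have h3 : Pm u = u := by
        have := hPsum u
        rw [h1, add_zero] at this
        exact this
      rw [hSdef, LinearMap.add_apply, LinearMap.smul_apply, h1, h3, add_zero]
  obtain ⟨k, hk⟩ := hodd
  rw [hdetS', hk, pow_succ, pow_mul, pow_two] at hdetS
  have hαk : α ^ k ≠ 0 := pow_ne_zero k hα0
  refine ⟨LinearMap.det TT / α ^ k, ?_⟩
  field_simp
  linear_combination hdetS

end Cfsg.Agent.Lib.Helper36
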