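import Mathlib

set_option autoImplicit false
set_option linter.unusedSectionVars false

/-!
# Commuting elements in an extension with quotient dihedral of order eight

If `φ : P → D₈` is onto with kernel `N`, and `S ⊇ N` is a normal subgroup with `|S : N| = 2`, then
`S` is the preimage of the centre of `D₈`, and two commuting elements `x, y` of `P` satisfy
`x ∈ S`, `y ∈ S` or `x⁻¹ y ∈ S`.
-/

namespace Cfsg.Agent.Lib.Helper36

theorem dihedral_four_central :
    ∀ z : DihedralGroup 4, (∀ d : DihedralGroup 4, d * z = z * d) →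
      z = 1 ∨ z = DihedralGroup.r 2 := by
  decide

theorem dihedral_four_commute :
    ∀ a b : DihedralGroup 4, a * b = b * a →
      (a = 1 ∨ a = DihedralGroup.r 2) ∨ (b = 1 ∨ b = DihedralGroup.r 2) ∨
        (a⁻¹ * b = 1 ∨ a⁻¹ * b = DihedralGroup.r 2) := by
  decide

variable {P : Type*} [Group P]

theorem mem_of_commute_dihedral (φ : P →* DihedralGroup 4) (hφ : Function.Surjective φ)
    (S : Subgroup P) [S.Normal] (hNS : φ.ker ≤ S)
    (s : P) (hsS : s ∈ S) (hsN : s ∉ φ.ker)
    (hidx : ∀ t ∈ S, t ∉ φ.ker → s⁻¹ * t ∈ φ.ker)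
    (x y : P) (hxy : x * y = y * x) : x ∈ S ∨ y ∈ S ∨ x⁻¹ * y ∈ S := by
  -- the image of `s` is the central involution
  have hz : φ s = DihedralGroup.r 2 := by
    have hcentral : ∀ d : DihedralGroup 4, d * φ s = φ s * d := by
      intro d
      obtain ⟨p, rfl⟩ := hφ d
      have h1 : p * s * p⁻¹ ∈ S := Subgroup.Normal.conj_mem inferInstance s hsS p
      have h2 : p * s * p⁻¹ ∉ φ.ker := by
        intro h
        apply hsN
        rw [MonoidHom.mem_ker] at h ⊢
        rw [map_mul, map_mul, map_inv] at h
        have : φ s = (φ p)⁻¹ * (φ p * φ s * (φ p)⁻¹) * φ p := by group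
        rw [this, h]
        group
      have h3 := hidx _ h1 h2
      rw [MonoidHom.mem_ker, map_mul, map_inv, map_mul, map_mul, map_inv] at h3
      have h4 : φ p * φ s * (φ p)⁻¹ = φ s := by
        have := congrArg (fun t => φ s * t) h3
        simpa [mul_assoc] using this
      calc φ p * φ s = φ p * φ s * (φ p)⁻¹ * φ p := by group
        _ = φ s * φ p := by rw [h4]
    rcases dihedral_four_central (φ s) hcentral with h | h
    · exact absurd (MonoidHom.mem_ker.mpr h) hsN
    · exact h
  have hmem : ∀ w : P, (φ w = 1 ∨ φ w = DihedralGroup.r 2) → w ∈ S := by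
    intro w hw
    rcases hw with hw | hw
    · exact hNS (MonoidHom.mem_ker.mpr hw)
    · have h1 : s⁻¹ * w ∈ φ.ker := by
        rw [MonoidHom.mem_ker, map_mul, map_inv, hz, hw, inv_mul_cancel]
      have h2 : w = s * (s⁻¹ * w) := by group
      rw [h2]
      exact S.mul_mem hsS (hNS h1)
  have hc : φ x * φ y = φ y * φ x := by rw [← map_mul, ← map_mul, hxy]
  rcases dihedral_four_commute (φ x) (φ y) hc with h | h | h
  · exact Or.inl (hmem x h)
  · exact Or.inr (Or.inl (hmem y h))
  · refine Or.inr (Or.inr (hmem _ ?_))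
    rw [map_mul, map_inv]
    exact h

end Cfsg.Agent.Lib.Helper36
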