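import Mathlib
import Cfsg.Prelude.Def_LieTypeDatum

set_option autoImplicit false
set_option linter.unusedSectionVars false

/-!
# Counting the classes into which a conjugacy class splits

`splitClassCount H K x` for a subgroup `K` normalised by `H`, via a character `χ : H → C₂`.
-/

namespace Cfsg.Agent.Lib.Helper36

variable {X : Type*} [Group X]

/-- If `χ : H → C₂` is onto, kills `K` and the centraliser of `x` in `H`, and its kernel is
contained in `K · C_H(x)`, then the `H`-class of `x` is the union of exactly two `K`-classes. -/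
theorem splitClassCount_eq_two (H K : Subgroup X) (x : X)
    (χ : ↥H →* Multiplicative (ZMod 2)) (hχ : Function.Surjective χ)
    (hKH : K ≤ H) (hK : ∀ h : ↥H, (h : X) ∈ K → χ h = 1)
    (hnorm : ∀ h ∈ H, ∀ k ∈ K, h * k * h⁻¹ ∈ K)
    (hcent : ∀ h : ↥H, (h : X) * x = x * (h : X) → χ h = 1)
    (hker : ∀ h : ↥H, χ h = 1 → ∃ k ∈ K, ∃ c ∈ H, c * x = x * c ∧ (h : X) = k * c) :
    Cfsg.splitClassCount H K x = 2 := by
  classical
  unfold Cfsg.splitClassCount
  -- the invariant of a conjugate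
  have key : ∀ h h' : ↥H, (h : X) * x * (h : X)⁻¹ = (h' : X) * x * (h' : X)⁻¹ → χ h = χ h' := by
    intro h h' e
    have hc : ((h'⁻¹ * h : ↥H) : X) * x = x * ((h'⁻¹ * h : ↥H) : X) := by
      rw [Subgroup.coe_mul, Subgroup.coe_inv]
      have e' : (h : X) * x = (h' : X) * x * (h' : X)⁻¹ * (h : X) := by
        rw [← e]; group
      calc (h' : X)⁻¹ * (h : X) * x = (h' : X)⁻¹ * ((h : X) * x) := by group
        _ = (h' : X)⁻¹ * ((h' : X) * x * (h' : X)⁻¹ * (h : X)) := by rw [← e']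
        _ = x * ((h' : X)⁻¹ * (h : X)) := by group
    have h1 := hcent _ hc
    rw [map_mul, map_inv] at h1
    have h3 : χ h = χ h' := by
      have := congrArg (fun t => χ h' * t) h1
      simpa using this
    exact h3
  let f : {y : X // Cfsg.IsConjUnder H x y} → Multiplicative (ZMod 2) :=
    fun y => χ ⟨Classical.choose y.2, (Classical.choose_spec y.2).1⟩
  have hf : ∀ (y : {y : X // Cfsg.IsConjUnder H x y}) (h : ↥H),
      y.1 = (h : X) * x * (h : X)⁻¹ → f y = χ h := by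
    intro y h e
    apply key
    change Classical.choose y.2 * x * (Classical.choose y.2)⁻¹ = _
    rw [← (Classical.choose_spec y.2).2, e]
  have hresp : ∀ y z : {y : X // Cfsg.IsConjUnder H x y}, Cfsg.IsConjUnder K y.1 z.1 →
      f y = f z := by
    rintro y z ⟨k, hk, e⟩
    obtain ⟨h, hh, ey⟩ := y.2
    have ez : z.1 = ((⟨k, hKH hk⟩ * ⟨h, hh⟩ : ↥H) : X) * x * ((⟨k, hKH hk⟩ * ⟨h, hh⟩ : ↥H) : X)⁻¹ := by
      rw [e, ey, Subgroup.coe_mul]
      change k * (h * x * h⁻¹) * k⁻¹ = k * h * x * (k * h)⁻¹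
      group
    rw [hf y ⟨h, hh⟩ ey, hf z _ ez, map_mul, hK ⟨k, hKH hk⟩ hk, one_mul]
  let fbar : Quot (fun y z : {y : X // Cfsg.IsConjUnder H x y} => Cfsg.IsConjUnder K y.1 z.1) →
      Multiplicative (ZMod 2) := Quot.lift f hresp
  have hbij : Function.Bijective fbar := by
    constructor
    · rintro ⟨y⟩ ⟨z⟩ e
      change f y = f z at e
      obtain ⟨h, hh, ey⟩ := y.2
      obtain ⟨h', hh', ez⟩ := z.2
      rw [hf y ⟨h, hh⟩ ey, hf z ⟨h', hh'⟩ ez] at e
      have h1 : χ (⟨h, hh⟩⁻¹ * ⟨h', hh'⟩) = 1 := by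
        rw [map_mul, map_inv, e, inv_mul_cancel]
      obtain ⟨k, hk, c, hc, hcx, hkc⟩ := hker _ h1
      rw [Subgroup.coe_mul, Subgroup.coe_inv] at hkc
      change h⁻¹ * h' = k * c at hkc
      apply Quot.sound
      refine ⟨h * k * h⁻¹, hnorm h hh k hk, ?_⟩
      have hh'eq : h' = h * (k * c) := by rw [← hkc]; group
      have hcx' : c * x * c⁻¹ = x := by rw [hcx]; group
      rw [ez, ey, hh'eq]
      calc h * (k * c) * x * (h * (k * c))⁻¹ = h * k * (c * x * c⁻¹) * k⁻¹ * h⁻¹ := by group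
        _ = h * k * x * k⁻¹ * h⁻¹ := by rw [hcx']
        _ = h * k * h⁻¹ * (h * x * h⁻¹) * (h * k * h⁻¹)⁻¹ := by group
    · intro a
      obtain ⟨h, rfl⟩ := hχ a
      refine ⟨Quot.mk _ ⟨(h : X) * x * (h : X)⁻¹, h, h.2, rfl⟩, ?_⟩
      change f _ = χ h
      exact hf _ h rfl
  rw [Nat.card_congr (Equiv.ofBijective fbar hbij), Nat.card_eq_fintype_card]
  rfl

/-- If `K` is the kernel of a character `χ : H → C₂`, the `H`-class of `x` is the union of one or
two `K`-classes. -/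
theorem splitClassCount_eq_one_or_two (H K : Subgroup X) (x : X)
    (χ : ↥H →* Multiplicative (ZMod 2))
    (hK : ∀ h : ↥H, χ h = 1 → (h : X) ∈ K) :
    Cfsg.splitClassCount H K x = 1 ∨ Cfsg.splitClassCount H K x = 2 := by
  classical
  unfold Cfsg.splitClassCount
  set R := Quot (fun y z : {y : X // Cfsg.IsConjUnder H x y} => Cfsg.IsConjUnder K y.1 z.1)
    with hR
  -- a map from `C₂` onto the quotient
  let pick : Multiplicative (ZMod 2) → ↥H := fun a =>
    if ha : ∃ h : ↥H, χ h = a then Classical.choose ha else 1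
  have hpick : ∀ h : ↥H, χ (pick (χ h)) = χ h := by
    intro h
    have ha : ∃ h' : ↥H, χ h' = χ h := ⟨h, rfl⟩
    change χ (if ha : ∃ h' : ↥H, χ h' = χ h then Classical.choose ha else 1) = χ h
    rw [dif_pos ha]
    exact Classical.choose_spec ha
  let g : Multiplicative (ZMod 2) → R := fun a =>
    Quot.mk _ ⟨((pick a : ↥H) : X) * x * ((pick a : ↥H) : X)⁻¹, (pick a : ↥H), (pick a).2, rfl⟩
  have hg : Function.Surjective g := by
    rintro ⟨y⟩
    obtain ⟨h, hh, ey⟩ := y.2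
    refine ⟨χ ⟨h, hh⟩, ?_⟩
    apply Quot.sound
    set h₀ : ↥H := pick (χ ⟨h, hh⟩) with hh₀
    have h₀spec : χ h₀ = χ ⟨h, hh⟩ := hpick ⟨h, hh⟩
    have h1 : χ (⟨h, hh⟩ * h₀⁻¹) = 1 := by
      rw [map_mul, map_inv, h₀spec, mul_inv_cancel]
    have hk := hK _ h1
    rw [Subgroup.coe_mul, Subgroup.coe_inv] at hk
    refine ⟨h * (h₀ : X)⁻¹, hk, ?_⟩
    change y.1 = h * (h₀ : X)⁻¹ * ((h₀ : X) * x * (h₀ : X)⁻¹) * (h * (h₀ : X)⁻¹)⁻¹
    rw [ey]
    group
  have hfin : Finite R := Finite.of_surjective g hg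
  have hle : Nat.card R ≤ 2 := by
    have := Nat.card_le_card_of_surjective g hg
    have h2 : Nat.card (Multiplicative (ZMod 2)) = 2 := by
      rw [Nat.card_eq_fintype_card]; rfl
    rwa [h2] at this
  have hpos : 0 < Nat.card R := by
    have : Nonempty R := ⟨Quot.mk _ ⟨x, 1, H.one_mem, by simp⟩⟩
    exact Nat.card_pos
  omega

end Cfsg.Agent.Lib.Helper36
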