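import Mathlib
import Cfsg.Agent.Lib.Helper36.InndiagPlus3
import Cfsg.Agent.Lib.Helper36.SplitCount
import Cfsg.Agent.Lib.Helper36.DihedralCommute
import Cfsg.Agent.Lib.Helper36.GraphInvRot
import Cfsg.Agent.Lib.Helper36.PgoPsoForms

set_option autoImplicit false
set_option linter.unusedSectionVars false
set_option linter.unusedVariables false

/-!
# The splitting of the class of an involutory graph automorphism of `PΩ⁺_{2m}(q)`, `q` odd

The `Inndiag`-class of a similarity-induced involutory graph automorphism `γ` is the union of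
exactly two `Inn`-classes unless `m` is odd and `q ≡ 3 (mod 4)`, when it is the union of at most
two.
-/

namespace Cfsg.Agent.Lib.Helper36

open Module Matrix Cfsg.Agent.Lib.Helper13 Cfsg.Agent.S2168

section Abstract

variable {X : Type*} [Group X]

theorem inv_mul_mem_of_relIndex_two (A B : Subgroup X) (h : A.relIndex B = 2) {s t : X}
    (hs : s ∈ B) (ht : t ∈ B) (hsA : s ∉ A) (htA : t ∉ A) : s⁻¹ * t ∈ A := by
  have h' : (A.subgroupOf B).index = 2 := h
  have key := Subgroup.mul_mem_iff_of_index_two h' (a := (⟨s, hs⟩ : ↥B)⁻¹) (b := ⟨t, ht⟩)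
  rw [Subgroup.mem_subgroupOf, Subgroup.mem_subgroupOf, Subgroup.mem_subgroupOf] at key
  simp only [Subgroup.coe_mul, Subgroup.coe_inv] at key
  rw [key, inv_mem_iff]
  exact iff_of_false hsA htA

theorem mul_inv_mem_of_relIndex_two (A B : Subgroup X) (h : A.relIndex B = 2) {s t : X}
    (hs : s ∈ B) (ht : t ∈ B) (hsA : s ∉ A) (htA : t ∉ A) : t * s⁻¹ ∈ A := by
  have h' : (A.subgroupOf B).index = 2 := h
  have key := Subgroup.mul_mem_iff_of_index_two h' (a := (⟨t, ht⟩ : ↥B)) (b := (⟨s, hs⟩ : ↥B)⁻¹)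
  rw [Subgroup.mem_subgroupOf, Subgroup.mem_subgroupOf, Subgroup.mem_subgroupOf] at key
  simp only [Subgroup.coe_mul, Subgroup.coe_inv] at key
  rw [key, inv_mem_iff]
  exact iff_of_false htA hsA

end Abstract

variable {m : ℕ} {F : Type*} [Field F] [Fintype F] [DecidableEq F]

set_option maxHeartbeats 1600000 in
/-- **The class of an involutory graph automorphism of `PΩ⁺_{2m}(q)` splits into two.** -/
theorem graph_involution_split (hodd : Odd (Fintype.card F)) (hm : 4 ≤ m)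
    (γ : MulAut (Cfsg.POmega F (⇑(plusQF m F))))
    (hγ : ∃ g : GL (Fin m ⊕ Fin m) F, g ∈ Cfsg.Geo.quadSimilarityGroup (⇑(plusQF m F)) ∧
      ¬ Cfsg.PreservesSingularClasses (⇑(plusQF m F))
        (g : Matrix (Fin m ⊕ Fin m) (Fin m ⊕ Fin m) F) ∧
      Cfsg.IsInducedBySemilinearPOmega (⇑(plusQF m F)) g (RingEquiv.refl F) γ)
    (hγ2 : orderOf γ = 2) :
    (Cfsg.splitClassCount (inndiagPlusQ m F) (Cfsg.Inn (Cfsg.POmega F (⇑(plusQF m F)))) γ = 1 ∨
      Cfsg.splitClassCount (inndiagPlusQ m F) (Cfsg.Inn (Cfsg.POmega F (⇑(plusQF m F)))) γ = 2) ∧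
    (¬ (Odd m ∧ Fintype.card F % 4 = 3) →
      Cfsg.splitClassCount (inndiagPlusQ m F) (Cfsg.Inn (Cfsg.POmega F (⇑(plusQF m F)))) γ = 2) := by
  have h2 : (2 : F) ≠ 0 := two_ne_zero_of_odd_card hodd
  have hQ := plusQF_nondeg m F
  have hcard : Fintype.card (Fin m ⊕ Fin m) = 2 * m := card_plus_index
  have hdim : 5 ≤ Fintype.card (Fin m ⊕ Fin m) := by rw [hcard]; omega
  have hdim2 : 2 ≤ Fintype.card (Fin m ⊕ Fin m) := by omega
  have hdim' : 2 ≤ finrank F (Fin m ⊕ Fin m → F) := by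
    rw [Module.finrank_fintype_fun_eq_card]
    exact hdim2
  have heven : Even (Fintype.card (Fin m ⊕ Fin m)) := by rw [hcard]; exact even_two_mul m
  have hq : Fintype.card F % 2 = 1 := Nat.odd_iff.mp hodd
  obtain ⟨v₀, hv₀'⟩ := exists_Q_eq (plusQF m F) hQ h2 hdim' 1 one_ne_zero
  have hv₀ : plusQF m F v₀ ≠ 0 := by rw [hv₀']; exact one_ne_zero
  obtain ⟨φ₀, hφ₀s, hφ₀k⟩ := exists_hom_inndiag_pso h2 (by omega) v₀ hv₀
  have hIP := Inn_le_psoAut (⇑(plusQF m F))
  have hPD := psoAut_le_inndiag h2 v₀ hv₀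
  obtain ⟨hI2, hI1⟩ := relIndex_Inn_psoAut (plusQF m F) hQ h2 hdim heven
  have hiff := Cfsg.Agent.S0790.result (F := F) rfl hodd m (by omega)
  -- the similarity inducing `γ`
  obtain ⟨g, hgG, hnp, hind⟩ := hγ
  set c : ↥(Cfsg.Geo.quadSimilarityGroup (⇑(plusQF m F))) := ⟨g, hgG⟩ with hc
  have hγc : γ = simAut (⇑(plusQF m F)) c := (isInduced_iff _ c γ).mp hind
  have hδc : deltaHom (plusQF m F) v₀ hv₀ m c ≠ 1 :=
    fun h => hnp ((preserves_iff_deltaHom h2 v₀ hv₀ c).mpr h)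
  have hpsi2c : psi2 (plusQF m F) v₀ hv₀ m hQ h2 hcard c ≠ 1 :=
    fun h => hδc ((psi2_eq_one_iff _ _ _ _ _ _ _ _).mp h)
  by_cases hex : Odd m ∧ Fintype.card F % 4 = 3
  · -- the exceptional case: `Inndiag / Inn` has order two
    obtain ⟨φ, hφs, hφk⟩ := (inndiag_structure hodd hm).1 hex
    refine ⟨?_, fun h => absurd hex h⟩
    apply splitClassCount_eq_one_or_two _ _ γ φ
    intro h hh
    have h1 : h ∈ φ.ker := MonoidHom.mem_ker.mpr hh
    rw [hφk, Subgroup.mem_subgroupOf] at h1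
    exact h1
  · -- the main case
    suffices key : Cfsg.splitClassCount (inndiagPlusQ m F)
        (Cfsg.Inn (Cfsg.POmega F (⇑(plusQF m F)))) γ = 2 from ⟨Or.inr key, fun _ => key⟩
    have hneg := hiff.mpr ((pow_mod_four_eq_one_iff _ _ hq).mpr hex)
    have hneg' := (neg_one_mem_Omega_iff_negGL (⇑(plusQF m F))).mp hneg
    have hIdx := hI2 hneg
    have hchar : ringChar F ≠ 2 := by
      intro h
      apply h2
      have : ((2 : ℕ) : F) = 0 := by
        rw [← h]; exact ringChar.Nat.cast_ringChar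
      exact_mod_cast this
    obtain ⟨η, hη⟩ := FiniteField.exists_nonsquare hchar
    have hη0 : η ≠ 0 := by
      rintro rfl
      exact hη IsSquare.zero
    obtain ⟨g₁, hg₁⟩ := exists_similarity_plus (F := F) m (Units.mk0 η hη0)
    have hns : ∃ (g₁ : GL (Fin m ⊕ Fin m) F) (c : Fˣ), ¬ IsSquare (c : F) ∧
        ∀ v : Fin m ⊕ Fin m → F,
          plusQF m F ((g₁ : Matrix (Fin m ⊕ Fin m) (Fin m ⊕ Fin m) F) *ᵥ v) =
            (c : F) * plusQF m F v := ⟨g₁, Units.mk0 η hη0, hη, hg₁⟩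
    obtain ⟨φD, hφDs, hφDk⟩ := exists_hom_pgo_inn_dihedral (plusQF m F) hQ h2 hdim m hcard hns hneg
    obtain ⟨φK, hφKs, hφKk⟩ := exists_hom_pgo_pso (plusQF m F) hQ h2 hdim m hcard hns
    -- the square of the similarity is a scalar
    have hγγ : γ * γ = 1 := by
      have := pow_orderOf_eq_one γ
      rw [hγ2, pow_two] at this
      exact this
    have hcc : simAut (⇑(plusQF m F)) (c * c) = 1 := by
      rw [map_mul, ← hγc]
      exact hγγ
    obtain ⟨lam, hlam⟩ := scalar_of_normAut_eq_one (plusQF m F) hQ h2 hdim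
      (Subgroup.inclusion (similarity_le_normalizer (⇑(plusQF m F))) (c * c)) hcc
    have hlam' : ∀ v : Fin m ⊕ Fin m → F,
        (g : Matrix (Fin m ⊕ Fin m) (Fin m ⊕ Fin m) F) *ᵥ
          ((g : Matrix (Fin m ⊕ Fin m) (Fin m ⊕ Fin m) F) *ᵥ v) = lam • v := by
      intro v
      rw [Matrix.mulVec_mulVec, ← Units.val_mul]
      exact hlam v
    set μ : Fˣ := mult (plusQF m F) v₀ hv₀ c with hμ
    have hμs : ∀ v : Fin m ⊕ Fin m → F,
        plusQF m F ((g : Matrix (Fin m ⊕ Fin m) (Fin m ⊕ Fin m) F) *ᵥ v) =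
          (μ : F) * plusQF m F v := fun v => mult_spec (plusQF m F) v₀ hv₀ c v
    have hA2 : ¬ (lam = -(μ : F) ∧ IsSquare (μ : F)) := by
      rintro ⟨hl, ν, hν⟩
      apply hδc
      have hν0 : ν ≠ 0 := by
        rintro rfl
        rw [mul_zero] at hν
        exact μ.ne_zero hν
      have hdet := det_of_skew_similarity (plusQF m F) hQ h2 g ν hν0
        (by intro v; rw [← hν]; exact hμs v) (by intro v; rw [← hν, ← hl]; exact hlam' v)
      have hdetg : Matrix.GeneralLinearGroup.det (c : GL (Fin m ⊕ Fin m) F) = μ ^ m := by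
        apply Units.ext
        rw [Matrix.GeneralLinearGroup.val_det_apply, Units.val_pow_eq_pow_val, hν]
        change (g : Matrix (Fin m ⊕ Fin m) (Fin m ⊕ Fin m) F).det = _
        rw [hdet, hcard, pow_mul, pow_two]
      rw [deltaHom_apply, hdetg, mul_inv_cancel]
    obtain ⟨s, hsS, hsspin, hcs⟩ := exists_commuting_rotation (plusQF m F) hQ h2 hdim g (μ : F)
      μ.ne_zero hμs lam hlam' hA2
    have hSO_le : Cfsg.specialIsometryGL F (⇑(plusQF m F)) ≤
        Cfsg.Geo.quadSimilarityGroup (⇑(plusQF m F)) :=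
      le_trans inf_le_left (isometryGroup_le_similarity (⇑(plusQF m F)))
    set s' : ↥(Cfsg.Geo.quadSimilarityGroup (⇑(plusQF m F))) := ⟨s, hSO_le hsS⟩ with hs'
    set s₀ : MulAut (Cfsg.POmega F (⇑(plusQF m F))) := simAut (⇑(plusQF m F)) s' with hs₀
    have hs₀P : s₀ ∈ Cfsg.psoAut F (⇑(plusQF m F)) := by
      rw [psoAut_eq]
      exact ⟨s', hsS, rfl⟩
    have hs₀I : s₀ ∉ Cfsg.Inn (Cfsg.POmega F (⇑(plusQF m F))) := by
      rw [hs₀, simAut_mem_Inn_iff_spin (plusQF m F) hQ h2 hdim hneg' s' hsS]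
      change ¬ spin (plusQF m F) (glLinEquiv (Fin m ⊕ Fin m) F s) = 1
      rw [hsspin]
      decide
    have hs₀γ : s₀ * γ = γ * s₀ := by
      rw [hγc, hs₀, ← map_mul, ← map_mul]
      congr 1
      apply Subtype.ext
      exact hcs.symm
    have hs₀G : s₀ ∈ Cfsg.pgoAut F (⇑(plusQF m F)) := psoAut_le_pgoAut _ hs₀P
    have hγG : γ ∈ Cfsg.pgoAut F (⇑(plusQF m F)) := by
      rw [pgoAut_eq]
      exact ⟨c, hγc.symm⟩
    apply splitClassCount_eq_two (inndiagPlusQ m F) (Cfsg.Inn (Cfsg.POmega F (⇑(plusQF m F)))) γ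
      φ₀ hφ₀s (le_trans hIP hPD)
    · -- `χ` kills `Inn`
      intro h hh
      have h1 : h ∈ φ₀.ker := by
        rw [hφ₀k, Subgroup.mem_subgroupOf]
        exact hIP hh
      exact MonoidHom.mem_ker.mp h1
    · -- normality
      intro h _ k hk
      exact (Cfsg.innNormal _).conj_mem k hk h
    · -- the centraliser of `γ` lies in the image of `SO`
      intro h hcomm
      suffices hsuff : (h : MulAut (Cfsg.POmega F (⇑(plusQF m F)))) ∈
          Cfsg.psoAut F (⇑(plusQF m F)) by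
        have h1 : h ∈ φ₀.ker := by
          rw [hφ₀k, Subgroup.mem_subgroupOf]
          exact hsuff
        exact MonoidHom.mem_ker.mp h1
      have hmem : (h : MulAut (Cfsg.POmega F (⇑(plusQF m F)))) ∈
          (psi2 (plusQF m F) v₀ hv₀ m (plusQF_nondeg m F) h2 card_plus_index).ker.map
            (simAut (⇑(plusQF m F))) := by
        rw [← inndiag_eq h2 v₀ hv₀]
        exact h.2
      obtain ⟨a, ha, hah⟩ := hmem
      have ha' : psi2 (plusQF m F) v₀ hv₀ m hQ h2 hcard a = 1 := MonoidHom.mem_ker.mp ha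
      have hhG : (h : MulAut (Cfsg.POmega F (⇑(plusQF m F)))) ∈
          Cfsg.pgoAut F (⇑(plusQF m F)) := by
        rw [pgoAut_eq]
        exact ⟨a, hah⟩
      have : ((Cfsg.psoAut F (⇑(plusQF m F))).subgroupOf
          (Cfsg.pgoAut F (⇑(plusQF m F)))).Normal := by
        rw [← hφKk]
        infer_instance
      have hNS : φD.ker ≤ (Cfsg.psoAut F (⇑(plusQF m F))).subgroupOf
          (Cfsg.pgoAut F (⇑(plusQF m F))) := by
        rw [hφDk]
        intro x hx
        rw [Subgroup.mem_subgroupOf] at hx ⊢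
        exact hIP hx
      have hsS' : (⟨s₀, hs₀G⟩ : ↥(Cfsg.pgoAut F (⇑(plusQF m F)))) ∈
          (Cfsg.psoAut F (⇑(plusQF m F))).subgroupOf (Cfsg.pgoAut F (⇑(plusQF m F))) := by
        rw [Subgroup.mem_subgroupOf]
        exact hs₀P
      have hsN : (⟨s₀, hs₀G⟩ : ↥(Cfsg.pgoAut F (⇑(plusQF m F)))) ∉ φD.ker := by
        rw [hφDk, Subgroup.mem_subgroupOf]
        exact hs₀I
      have hidx : ∀ t ∈ (Cfsg.psoAut F (⇑(plusQF m F))).subgroupOf
          (Cfsg.pgoAut F (⇑(plusQF m F))), t ∉ φD.ker →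
          (⟨s₀, hs₀G⟩ : ↥(Cfsg.pgoAut F (⇑(plusQF m F))))⁻¹ * t ∈ φD.ker := by
        intro t htS htN
        rw [hφDk, Subgroup.mem_subgroupOf] at htN ⊢
        rw [Subgroup.mem_subgroupOf] at htS
        rw [Subgroup.coe_mul, Subgroup.coe_inv]
        exact inv_mul_mem_of_relIndex_two _ _ hIdx hs₀P htS hs₀I htN
      rcases mem_of_commute_dihedral φD hφDs _ hNS ⟨s₀, hs₀G⟩ hsS' hsN hidx
        ⟨(h : MulAut (Cfsg.POmega F (⇑(plusQF m F)))), hhG⟩ ⟨γ, hγG⟩ (Subtype.ext hcomm)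
        with h1 | h1 | h1
      · exact Subgroup.mem_subgroupOf.mp h1
      · exfalso
        have h3 := psi_eq_one_of_simAut_mem_psoAut (plusQF m F) v₀ hv₀ m hQ h2 hcard hdim c
          (by rw [← hγc]; exact Subgroup.mem_subgroupOf.mp h1)
        exact hpsi2c ((psi_eq_one_iff _ _ _ _ _ _ _ _).mp h3).2
      · exfalso
        rw [Subgroup.mem_subgroupOf, Subgroup.coe_mul, Subgroup.coe_inv] at h1
        have h3 : simAut (⇑(plusQF m F)) (a⁻¹ * c) ∈ Cfsg.psoAut F (⇑(plusQF m F)) := by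
          rw [map_mul, map_inv, hah, ← hγc]
          exact h1
        have h4 := psi_eq_one_of_simAut_mem_psoAut (plusQF m F) v₀ hv₀ m hQ h2 hcard hdim _ h3
        have h5 := ((psi_eq_one_iff _ _ _ _ _ _ _ _).mp h4).2
        rw [map_mul, map_inv, ha', inv_one, one_mul] at h5
        exact hpsi2c h5
    · -- the kernel of `χ` is `Inn · C(γ)`
      intro h hh
      have hhP : (h : MulAut (Cfsg.POmega F (⇑(plusQF m F)))) ∈ Cfsg.psoAut F (⇑(plusQF m F)) := by
        have h1 : h ∈ φ₀.ker := MonoidHom.mem_ker.mpr hh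
        rw [hφ₀k, Subgroup.mem_subgroupOf] at h1
        exact h1
      by_cases hhI : (h : MulAut (Cfsg.POmega F (⇑(plusQF m F)))) ∈
          Cfsg.Inn (Cfsg.POmega F (⇑(plusQF m F)))
      · exact ⟨h, hhI, 1, Subgroup.one_mem _, by rw [one_mul, mul_one], (mul_one _).symm⟩
      · refine ⟨(h : MulAut (Cfsg.POmega F (⇑(plusQF m F)))) * s₀⁻¹,
          mul_inv_mem_of_relIndex_two _ _ hIdx hs₀P hhP hs₀I hhI, s₀, hPD hs₀P, hs₀γ, ?_⟩
        rw [inv_mul_cancel_right]

end Cfsg.Agent.Lib.Helper36
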