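import Mathlib
import Cfsg.Agent.Lib.Helper36.GraphInvPlus
import Cfsg.Agent.Lib.Helper36.CommuteSq
import Cfsg.Agent.Lib.Helper36.InndiagMinus

set_option autoImplicit false
set_option linter.unusedSectionVars false
set_option linter.unusedVariables false

/-!
# Splitting of the class of a similarity-induced outer involution: generic even-dimensional form

`Q` a nondegenerate quadratic form of dimension `2M ≥ 6` over a finite field of odd order,
`D` the image of `ker psi2` (the inner-diagonal group), `γ = simAut c` an involution with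
`δ(c) ≠ 1`.  If `-1 ∈ Ω(Q)`, or if `-1 ∉ Ω(Q)` and `M` is even, the `D`-class of `γ` is the union
of exactly two `Inn`-classes.
-/

namespace Cfsg.Agent.Lib.Helper36

open Module Matrix Cfsg.Agent.Lib.Helper13

variable {ι : Type} [Fintype ι] [DecidableEq ι] {F : Type*} [Field F] [Fintype F] [DecidableEq F]

section

variable (Q : QuadraticForm F (ι → F)) (v₀ : ι → F) (hv₀ : Q v₀ ≠ 0) (M : ℕ)
  (hQ : (QuadraticMap.polarBilin Q).Nondegenerate) (h2 : (2 : F) ≠ 0)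
  (hcard : Fintype.card ι = 2 * M)

set_option maxHeartbeats 1600000 in
/-- The case `-1 ∈ Ω(Q)`. -/
theorem split_eq_two_of_neg_mem (hdim : 5 ≤ Fintype.card ι)
    (D : Subgroup (MulAut (Cfsg.POmega F (⇑Q))))
    (hD : D = (psi2 Q v₀ hv₀ M hQ h2 hcard).ker.map (simAut (⇑Q)))
    (φ₀ : ↥D →* Multiplicative (ZMod 2)) (hφ₀s : Function.Surjective φ₀)
    (hφ₀k : φ₀.ker = (Cfsg.psoAut F (⇑Q)).subgroupOf D)
    (hns : ∃ (g₁ : GL ι F) (c : Fˣ), ¬ IsSquare (c : F) ∧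
      ∀ v : ι → F, Q ((g₁ : Matrix ι ι F) *ᵥ v) = (c : F) * Q v)
    (hneg : ∃ t : ↥(Cfsg.isometryGroup F (⇑Q)), t ∈ Cfsg.Omega F (⇑Q) ∧
      ((t : GL ι F) : Matrix ι ι F) = -1)
    (c : ↥(Cfsg.Geo.quadSimilarityGroup (⇑Q))) (hδc : deltaHom Q v₀ hv₀ M c ≠ 1)
    (hγ2 : orderOf (simAut (⇑Q) c) = 2) :
    Cfsg.splitClassCount D (Cfsg.Inn (Cfsg.POmega F (⇑Q))) (simAut (⇑Q) c) = 2 := by
  have heven : Even (Fintype.card ι) := by rw [hcard]; exact even_two_mul M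
  have hIP := Inn_le_psoAut (⇑Q)
  have hPD : Cfsg.psoAut F (⇑Q) ≤ D := by
    rw [psoAut_eq_map_ker_psi Q v₀ hv₀ M hQ h2 hcard, hD]
    apply Subgroup.map_mono
    intro g hg
    rw [MonoidHom.mem_ker] at hg ⊢
    exact ((psi_eq_one_iff _ _ _ _ _ _ _ _).mp hg).2
  obtain ⟨hI2, hI1⟩ := relIndex_Inn_psoAut Q hQ h2 hdim heven
  set γ : MulAut (Cfsg.POmega F (⇑Q)) := simAut (⇑Q) c with hγc
  set g : GL ι F := (c : GL ι F) with hg
  have hpsi2c : psi2 Q v₀ hv₀ M hQ h2 hcard c ≠ 1 :=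
    fun h => hδc ((psi2_eq_one_iff _ _ _ _ _ _ _ _).mp h)
  have hneg' := (neg_one_mem_Omega_iff_negGL (⇑Q)).mp hneg
  have hIdx := hI2 hneg
  obtain ⟨φD, hφDs, hφDk⟩ := exists_hom_pgo_inn_dihedral Q hQ h2 hdim M hcard hns hneg
  obtain ⟨φK, hφKs, hφKk⟩ := exists_hom_pgo_pso Q hQ h2 hdim M hcard hns
  -- the square of the similarity is a scalar
  have hγγ : γ * γ = 1 := by
    have := pow_orderOf_eq_one γ
    rw [hγ2, pow_two] at this
    exact this
  have hcc : simAut (⇑Q) (c * c) = 1 := by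
    rw [map_mul, ← hγc]
    exact hγγ
  obtain ⟨lam, hlam⟩ := scalar_of_normAut_eq_one Q hQ h2 hdim
    (Subgroup.inclusion (similarity_le_normalizer (⇑Q)) (c * c)) hcc
  have hlam' : ∀ v : ι → F,
      (g : Matrix ι ι F) *ᵥ ((g : Matrix ι ι F) *ᵥ v) = lam • v := by
    intro v
    rw [Matrix.mulVec_mulVec, ← Units.val_mul]
    exact hlam v
  set μ : Fˣ := mult Q v₀ hv₀ c with hμ
  have hμs : ∀ v : ι → F, Q ((g : Matrix ι ι F) *ᵥ v) = (μ : F) * Q v :=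
    fun v => mult_spec Q v₀ hv₀ c v
  have hA2 : ¬ (lam = -(μ : F) ∧ IsSquare (μ : F)) := by
    rintro ⟨hl, ν, hν⟩
    apply hδc
    have hν0 : ν ≠ 0 := by
      rintro rfl
      rw [mul_zero] at hν
      exact μ.ne_zero hν
    have hdet := det_of_skew_similarity Q hQ h2 g ν hν0
      (by intro v; rw [← hν]; exact hμs v) (by intro v; rw [← hν, ← hl]; exact hlam' v)
    have hdetg : Matrix.GeneralLinearGroup.det (c : GL ι F) = μ ^ M := by
      apply Units.ext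
      rw [Matrix.GeneralLinearGroup.val_det_apply, Units.val_pow_eq_pow_val, hν]
      change (g : Matrix ι ι F).det = _
      rw [hdet, hcard, pow_mul, pow_two]
    rw [deltaHom_apply, hdetg, mul_inv_cancel]
  obtain ⟨s, hsS, hsspin, hcs⟩ := exists_commuting_rotation Q hQ h2 hdim g (μ : F)
    μ.ne_zero hμs lam hlam' hA2
  have hSO_le : Cfsg.specialIsometryGL F (⇑Q) ≤ Cfsg.Geo.quadSimilarityGroup (⇑Q) :=
    le_trans inf_le_left (isometryGroup_le_similarity (⇑Q))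
  set s' : ↥(Cfsg.Geo.quadSimilarityGroup (⇑Q)) := ⟨s, hSO_le hsS⟩ with hs'
  set s₀ : MulAut (Cfsg.POmega F (⇑Q)) := simAut (⇑Q) s' with hs₀
  have hs₀P : s₀ ∈ Cfsg.psoAut F (⇑Q) := by
    rw [psoAut_eq]
    exact ⟨s', hsS, rfl⟩
  have hs₀I : s₀ ∉ Cfsg.Inn (Cfsg.POmega F (⇑Q)) := by
    rw [hs₀, simAut_mem_Inn_iff_spin Q hQ h2 hdim hneg' s' hsS]
    change ¬ spin Q (glLinEquiv ι F s) = 1
    rw [hsspin]
    decide
  have hs₀γ : s₀ * γ = γ * s₀ := by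
    rw [hγc, hs₀, ← map_mul, ← map_mul]
    congr 1
    apply Subtype.ext
    exact hcs.symm
  have hs₀G : s₀ ∈ Cfsg.pgoAut F (⇑Q) := psoAut_le_pgoAut _ hs₀P
  have hγG : γ ∈ Cfsg.pgoAut F (⇑Q) := by
    rw [pgoAut_eq]
    exact ⟨c, hγc.symm⟩
  apply splitClassCount_eq_two D (Cfsg.Inn (Cfsg.POmega F (⇑Q))) γ
    φ₀ hφ₀s (le_trans hIP hPD)
  · -- `χ` kills `Inn`
    intro h hh
    have h1 : h ∈ φ₀.ker := by
      rw [hφ₀k, Subgroup.mem_subgroupOf]
      exact hIP hh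
    exact MonoidHom.mem_ker.mp h1
  · -- normality
    intro h _ k hk
    exact (Cfsg.innNormal _).conj_mem k hk h
  · -- the centraliser of `γ` lies in the image of `SO`
    intro h hcomm
    suffices hsuff : (h : MulAut (Cfsg.POmega F (⇑Q))) ∈ Cfsg.psoAut F (⇑Q) by
      have h1 : h ∈ φ₀.ker := by
        rw [hφ₀k, Subgroup.mem_subgroupOf]
        exact hsuff
      exact MonoidHom.mem_ker.mp h1
    have hmem : (h : MulAut (Cfsg.POmega F (⇑Q))) ∈
        (psi2 Q v₀ hv₀ M hQ h2 hcard).ker.map (simAut (⇑Q)) := by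
      rw [← hD]
      exact h.2
    obtain ⟨a, ha, hah⟩ := hmem
    have ha' : psi2 Q v₀ hv₀ M hQ h2 hcard a = 1 := MonoidHom.mem_ker.mp ha
    have hhG : (h : MulAut (Cfsg.POmega F (⇑Q))) ∈ Cfsg.pgoAut F (⇑Q) := by
      rw [pgoAut_eq]
      exact ⟨a, hah⟩
    have : ((Cfsg.psoAut F (⇑Q)).subgroupOf (Cfsg.pgoAut F (⇑Q))).Normal := by
      rw [← hφKk]
      infer_instance
    have hNS : φD.ker ≤ (Cfsg.psoAut F (⇑Q)).subgroupOf (Cfsg.pgoAut F (⇑Q)) := by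
      rw [hφDk]
      intro x hx
      rw [Subgroup.mem_subgroupOf] at hx ⊢
      exact hIP hx
    have hsS' : (⟨s₀, hs₀G⟩ : ↥(Cfsg.pgoAut F (⇑Q))) ∈
        (Cfsg.psoAut F (⇑Q)).subgroupOf (Cfsg.pgoAut F (⇑Q)) := by
      rw [Subgroup.mem_subgroupOf]
      exact hs₀P
    have hsN : (⟨s₀, hs₀G⟩ : ↥(Cfsg.pgoAut F (⇑Q))) ∉ φD.ker := by
      rw [hφDk, Subgroup.mem_subgroupOf]
      exact hs₀I
    have hidx : ∀ t ∈ (Cfsg.psoAut F (⇑Q)).subgroupOf (Cfsg.pgoAut F (⇑Q)), t ∉ φD.ker →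
        (⟨s₀, hs₀G⟩ : ↥(Cfsg.pgoAut F (⇑Q)))⁻¹ * t ∈ φD.ker := by
      intro t htS htN
      rw [hφDk, Subgroup.mem_subgroupOf] at htN ⊢
      rw [Subgroup.mem_subgroupOf] at htS
      rw [Subgroup.coe_mul, Subgroup.coe_inv]
      exact inv_mul_mem_of_relIndex_two _ _ hIdx hs₀P htS hs₀I htN
    rcases mem_of_commute_dihedral φD hφDs _ hNS ⟨s₀, hs₀G⟩ hsS' hsN hidx
      ⟨(h : MulAut (Cfsg.POmega F (⇑Q))), hhG⟩ ⟨γ, hγG⟩ (Subtype.ext hcomm)
      with h1 | h1 | h1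
    · exact Subgroup.mem_subgroupOf.mp h1
    · exfalso
      have h3 := psi_eq_one_of_simAut_mem_psoAut Q v₀ hv₀ M hQ h2 hcard hdim c
        (by rw [← hγc]; exact Subgroup.mem_subgroupOf.mp h1)
      exact hpsi2c ((psi_eq_one_iff _ _ _ _ _ _ _ _).mp h3).2
    · exfalso
      rw [Subgroup.mem_subgroupOf, Subgroup.coe_mul, Subgroup.coe_inv] at h1
      have h3 : simAut (⇑Q) (a⁻¹ * c) ∈ Cfsg.psoAut F (⇑Q) := by
        rw [map_mul, map_inv, hah, ← hγc]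
        exact h1
      have h4 := psi_eq_one_of_simAut_mem_psoAut Q v₀ hv₀ M hQ h2 hcard hdim _ h3
      have h5 := ((psi_eq_one_iff _ _ _ _ _ _ _ _).mp h4).2
      rw [map_mul, map_inv, ha', inv_one, one_mul] at h5
      exact hpsi2c h5
  · -- the kernel of `χ` is `Inn · C(γ)`
    intro h hh
    have hhP : (h : MulAut (Cfsg.POmega F (⇑Q))) ∈ Cfsg.psoAut F (⇑Q) := by
      have h1 : h ∈ φ₀.ker := MonoidHom.mem_ker.mpr hh
      rw [hφ₀k, Subgroup.mem_subgroupOf] at h1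
      exact h1
    by_cases hhI : (h : MulAut (Cfsg.POmega F (⇑Q))) ∈ Cfsg.Inn (Cfsg.POmega F (⇑Q))
    · exact ⟨h, hhI, 1, Subgroup.one_mem _, by rw [one_mul, mul_one], (mul_one _).symm⟩
    · refine ⟨(h : MulAut (Cfsg.POmega F (⇑Q))) * s₀⁻¹,
        mul_inv_mem_of_relIndex_two _ _ hIdx hs₀P hhP hs₀I hhI, s₀, hPD hs₀P, hs₀γ, ?_⟩
      rw [inv_mul_cancel_right]

set_option maxHeartbeats 1600000 in
/-- The case `-1 ∉ Ω(Q)`, `M` even. -/
theorem split_eq_two_of_even (hdim : 5 ≤ Fintype.card ι) (hM : Even M)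
    (D : Subgroup (MulAut (Cfsg.POmega F (⇑Q))))
    (hD : D = (psi2 Q v₀ hv₀ M hQ h2 hcard).ker.map (simAut (⇑Q)))
    (φ₀ : ↥D →* Multiplicative (ZMod 2)) (hφ₀s : Function.Surjective φ₀)
    (hφ₀k : φ₀.ker = (Cfsg.psoAut F (⇑Q)).subgroupOf D)
    (hnneg : ¬ ∃ t : ↥(Cfsg.isometryGroup F (⇑Q)), t ∈ Cfsg.Omega F (⇑Q) ∧
      ((t : GL ι F) : Matrix ι ι F) = -1)
    (c : ↥(Cfsg.Geo.quadSimilarityGroup (⇑Q))) (hδc : deltaHom Q v₀ hv₀ M c ≠ 1)
    (hγ2 : orderOf (simAut (⇑Q) c) = 2) :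
    Cfsg.splitClassCount D (Cfsg.Inn (Cfsg.POmega F (⇑Q))) (simAut (⇑Q) c) = 2 := by
  have heven : Even (Fintype.card ι) := by rw [hcard]; exact even_two_mul M
  have hIP := Inn_le_psoAut (⇑Q)
  have hPD : Cfsg.psoAut F (⇑Q) ≤ D := by
    rw [psoAut_eq_map_ker_psi Q v₀ hv₀ M hQ h2 hcard, hD]
    apply Subgroup.map_mono
    intro g hg
    rw [MonoidHom.mem_ker] at hg ⊢
    exact ((psi_eq_one_iff _ _ _ _ _ _ _ _).mp hg).2
  obtain ⟨hI2, hI1⟩ := relIndex_Inn_psoAut Q hQ h2 hdim heven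
  have hIeq := Inn_eq_psoAut_of_relIndex _ (hI1 hnneg)
  set γ : MulAut (Cfsg.POmega F (⇑Q)) := simAut (⇑Q) c with hγc
  set g : GL ι F := (c : GL ι F) with hg
  have hγγ : γ * γ = 1 := by
    have := pow_orderOf_eq_one γ
    rw [hγ2, pow_two] at this
    exact this
  have hcc : simAut (⇑Q) (c * c) = 1 := by
    rw [map_mul, ← hγc]
    exact hγγ
  obtain ⟨lam, hlam⟩ := scalar_of_normAut_eq_one Q hQ h2 hdim
    (Subgroup.inclusion (similarity_le_normalizer (⇑Q)) (c * c)) hcc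
  have hlam' : ∀ v : ι → F,
      (g : Matrix ι ι F) *ᵥ ((g : Matrix ι ι F) *ᵥ v) = lam • v := by
    intro v
    rw [Matrix.mulVec_mulVec, ← Units.val_mul]
    exact hlam v
  set μ : Fˣ := mult Q v₀ hv₀ c with hμ
  have hμs : ∀ v : ι → F, Q ((g : Matrix ι ι F) *ᵥ v) = (μ : F) * Q v :=
    fun v => mult_spec Q v₀ hv₀ c v
  have hdetc : (g : Matrix ι ι F).det ≠ (μ : F) ^ M := by
    intro hdet
    apply hδc
    have hdetg : Matrix.GeneralLinearGroup.det (c : GL ι F) = μ ^ M := by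
      apply Units.ext
      rw [Matrix.GeneralLinearGroup.val_det_apply, Units.val_pow_eq_pow_val]
      exact hdet
    rw [deltaHom_apply, hdetg, mul_inv_cancel]
  apply splitClassCount_eq_two D (Cfsg.Inn (Cfsg.POmega F (⇑Q))) γ
    φ₀ hφ₀s (le_trans hIP hPD)
  · intro h hh
    have h1 : h ∈ φ₀.ker := by
      rw [hφ₀k, Subgroup.mem_subgroupOf]
      exact hIP hh
    exact MonoidHom.mem_ker.mp h1
  · intro h _ k hk
    exact (Cfsg.innNormal _).conj_mem k hk h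
  · -- the centraliser of `γ` lies in the image of `SO`
    intro h hcomm
    suffices hsuff : (h : MulAut (Cfsg.POmega F (⇑Q))) ∈ Cfsg.psoAut F (⇑Q) by
      have h1 : h ∈ φ₀.ker := by
        rw [hφ₀k, Subgroup.mem_subgroupOf]
        exact hsuff
      exact MonoidHom.mem_ker.mp h1
    have hmem : (h : MulAut (Cfsg.POmega F (⇑Q))) ∈
        (psi2 Q v₀ hv₀ M hQ h2 hcard).ker.map (simAut (⇑Q)) := by
      rw [← hD]
      exact h.2
    obtain ⟨a, ha, hah⟩ := hmem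
    have ha' : psi2 Q v₀ hv₀ M hQ h2 hcard a = 1 := MonoidHom.mem_ker.mp ha
    -- the commutator is a scalar
    have hcomm' : simAut (⇑Q) ((c * a)⁻¹ * (a * c)) = 1 := by
      rw [map_mul, map_inv, map_mul, map_mul, hah, ← hγc, ← hcomm, inv_mul_cancel]
    obtain ⟨z, hz⟩ := scalar_of_normAut_eq_one Q hQ h2 hdim
      (Subgroup.inclusion (similarity_le_normalizer (⇑Q)) ((c * a)⁻¹ * (a * c))) hcomm'
    set α : Fˣ := mult Q v₀ hv₀ a with hα
    have hαs : ∀ v : ι → F, Q (((a : GL ι F) : Matrix ι ι F) *ᵥ v) = (α : F) * Q v :=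
      fun v => mult_spec Q v₀ hv₀ a v
    have hz' : ∀ v : ι → F, ((a : GL ι F) : Matrix ι ι F) *ᵥ ((g : Matrix ι ι F) *ᵥ v) =
        z • ((g : Matrix ι ι F) *ᵥ (((a : GL ι F) : Matrix ι ι F) *ᵥ v)) := by
      intro v
      have h1 := hz v
      have h3 : (((c * a)⁻¹ * (a * c) : ↥(Cfsg.Geo.quadSimilarityGroup (⇑Q))) : GL ι F) =
          ((c : GL ι F) * (a : GL ι F))⁻¹ * ((a : GL ι F) * (c : GL ι F)) := rfl
      change ((((c * a)⁻¹ * (a * c) : ↥(Cfsg.Geo.quadSimilarityGroup (⇑Q))) : GL ι F) :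
        Matrix ι ι F) *ᵥ v = z • v at h1
      rw [h3] at h1
      have h4 := congrArg (fun w => (((c : GL ι F) * (a : GL ι F) : GL ι F) : Matrix ι ι F) *ᵥ w) h1
      simp only [Matrix.mulVec_mulVec, Matrix.mulVec_smul] at h4
      rw [← Units.val_mul, mul_inv_cancel_left, Units.val_mul, Units.val_mul] at h4
      rw [Matrix.mulVec_mulVec, Matrix.mulVec_mulVec]
      exact h4
    have hzz : z = 1 ∨ z = -1 := by
      have h1 := congrArg Q (hz' v₀)
      rw [hαs, hμs, QuadraticMap.map_smul, hμs, hαs, smul_eq_mul] at h1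
      have h3 : (z * z - 1) * ((α : F) * ((μ : F) * Q v₀)) = 0 := by linear_combination -h1
      have h4 : (α : F) * ((μ : F) * Q v₀) ≠ 0 :=
        mul_ne_zero α.ne_zero (mul_ne_zero μ.ne_zero hv₀)
      have h5 : (z - 1) * (z + 1) = 0 := by
        have := (mul_eq_zero.mp h3).resolve_right h4
        linear_combination this
      rcases mul_eq_zero.mp h5 with h6 | h6
      · left; linear_combination h6
      · right; linear_combination h6
    have hsq : IsSquare (α : F) :=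
      isSquare_mult_of_commute Q hQ h2 M hM hcard v₀ hv₀ g (a : GL ι F) (μ : F) lam (α : F)
        μ.ne_zero hμs hlam' α.ne_zero hαs z hzz hz' hdetc
    rw [psoAut_eq_map_ker_psi Q v₀ hv₀ M hQ h2 hcard]
    refine ⟨a, ?_, hah⟩
    rw [SetLike.mem_coe, MonoidHom.mem_ker, psi_eq_one_iff]
    exact ⟨(psi1_eq_one_iff Q v₀ hv₀ a).mpr hsq, ha'⟩
  · intro h hh
    have hhP : (h : MulAut (Cfsg.POmega F (⇑Q))) ∈ Cfsg.psoAut F (⇑Q) := by
      have h1 : h ∈ φ₀.ker := MonoidHom.mem_ker.mpr hh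
      rw [hφ₀k, Subgroup.mem_subgroupOf] at h1
      exact h1
    rw [← hIeq] at hhP
    exact ⟨h, hhP, 1, Subgroup.one_mem _, by rw [one_mul, mul_one], (mul_one _).symm⟩

end

end Cfsg.Agent.Lib.Helper36
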