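import Mathlib
import Cfsg.Agent.S0791
import Cfsg.Agent.Lib.Helper36.EichUnip
import Cfsg.Agent.Lib.Helper36.MinusFormNondeg

set_option autoImplicit false
set_option linter.unusedSectionVars false
set_option linter.unusedVariables false
set_option linter.unusedSimpArgs false

/-!
# A unipotent family in `Ω` of the minus-type form
-/

namespace Cfsg.Agent.Lib.Helper36

open Matrix Cfsg.Agent.Lib.Helper44 Cfsg.Agent.Lib.Helper13 Cfsg.Agent.S0791

variable {F : Type*} [Field F]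

local notation "pol" => QuadraticMap.polar

theorem minusForm_single_e (m : ℕ) (a b : F) (i : Fin m) :
    minusForm m F a b (Pi.single (Sum.inl (Sum.inl i)) (1 : F)) = 0 := by
  have h := congrFun (minusForm_coe m F a b) (Pi.single (Sum.inl (Sum.inl i)) (1 : F))
  rw [h]
  simp [Cfsg.quadFormMinus, Pi.single_apply]

theorem minusForm_polar_e_e (m : ℕ) (a b : F) (i j : Fin m) :
    pol (⇑(minusForm m F a b)) (Pi.single (Sum.inl (Sum.inl i)) (1 : F))
      (Pi.single (Sum.inl (Sum.inl j)) (1 : F)) = 0 := by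
  rw [minusForm_polar]
  simp [Pi.single_apply]

theorem minusForm_gram_mulVec_e (m : ℕ) (a b : F) (i : Fin m) :
    gramStd (⇑(minusForm m F a b)) *ᵥ (Pi.single (Sum.inl (Sum.inl i)) (1 : F)) =
      Pi.single (Sum.inl (Sum.inr i)) (1 : F) := by
  rw [Matrix.mulVec_single_one]
  funext j
  change gramStd (⇑(minusForm m F a b)) j (Sum.inl (Sum.inl i)) = _
  rw [gramStd_apply, minusForm_polar]
  rcases j with (j | j) | j
  · simp [Pi.single_apply]
  · by_cases hji : j = i
    · subst hji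
      simp [Pi.single_apply]
    · have hij : i ≠ j := fun h => hji h.symm
      simp [Pi.single_apply, hji, hij]
  · simp [Pi.single_apply]

/-- The nilpotent matrix of the standard unipotent family of the minus-type form. -/
def minusN (m : ℕ) (F : Type*) [Field F] (i₁ i₂ : Fin m) :
    Matrix ((Fin m ⊕ Fin m) ⊕ Fin 2) ((Fin m ⊕ Fin m) ⊕ Fin 2) F :=
  vecMulVec (Pi.single (Sum.inl (Sum.inl i₁)) (1 : F)) (Pi.single (Sum.inl (Sum.inr i₂)) (1 : F)) -
    vecMulVec (Pi.single (Sum.inl (Sum.inl i₂)) (1 : F)) (Pi.single (Sum.inl (Sum.inr i₁)) (1 : F))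

theorem eichN_minus (m : ℕ) (a b : F) (i₁ i₂ : Fin m) :
    eichN (⇑(minusForm m F a b)) (Pi.single (Sum.inl (Sum.inl i₁)) (1 : F))
      (Pi.single (Sum.inl (Sum.inl i₂)) (1 : F)) = minusN m F i₁ i₂ := by
  unfold eichN minusN
  rw [minusForm_gram_mulVec_e, minusForm_gram_mulVec_e]

theorem minusN_map (m : ℕ) (i₁ i₂ : Fin m) (τ : F ≃+* F) :
    (minusN m F i₁ i₂).map τ = minusN m F i₁ i₂ := by
  ext i j
  unfold minusN
  rw [Matrix.map_apply, Matrix.sub_apply, vecMulVec_apply, vecMulVec_apply, map_sub, map_mul,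
    map_mul]
  simp only [Pi.single_apply]
  split_ifs <;> simp

theorem minusN_ne_zero (m : ℕ) (i₁ i₂ : Fin m) (h : i₁ ≠ i₂) : minusN m F i₁ i₂ ≠ 0 := by
  intro h0
  have h1 := congrFun (congrFun h0 (Sum.inl (Sum.inl i₁))) (Sum.inl (Sum.inr i₂))
  unfold minusN at h1
  rw [Matrix.sub_apply, vecMulVec_apply, vecMulVec_apply] at h1
  simp [Pi.single_apply, h, h.symm] at h1

theorem minusN_mul_self (m : ℕ) (a b : F) (i₁ i₂ : Fin m) :
    minusN m F i₁ i₂ * minusN m F i₁ i₂ = 0 := by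
  rw [← eichN_minus m (0 : F) (0 : F) i₁ i₂]
  exact eichN_mul_self _ _ _ (minusForm_single_e m _ _ i₁) (minusForm_single_e m _ _ i₂)
    (minusForm_polar_e_e m _ _ i₁ i₂)

/-- The unipotent family `1 + t N` lies in `Ω` of the minus-type form. -/
theorem exists_Omega_minus_unipotent [Fintype F] (h2 : (2 : F) ≠ 0) (m : ℕ) (hm : 3 ≤ m)
    (a b : F)
    (hab : ∀ z₁ z₂ : F, z₁ ^ 2 + a * z₁ * z₂ + b * z₂ ^ 2 = 0 → z₁ = 0 ∧ z₂ = 0)
    (i₁ i₂ : Fin m) (t : F) :
    ∃ s : ↥(Cfsg.Omega F (⇑(minusForm m F a b))),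
      (((s : ↥(Cfsg.isometryGroup F (⇑(minusForm m F a b)))) :
        GL ((Fin m ⊕ Fin m) ⊕ Fin 2) F) : Matrix _ _ F) = 1 + t • minusN m F i₁ i₂ := by
  rw [← eichN_minus m a b i₁ i₂]
  exact exists_Omega_unipotent (minusForm m F a b) (minusForm_nondeg h2 m a b hab)
    (by rw [card_minus_index]; omega) _ _ (minusForm_single_e m _ _ i₁)
    (minusForm_single_e m _ _ i₂) (minusForm_polar_e_e m _ _ i₁ i₂) t

end Cfsg.Agent.Lib.Helper36
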