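import Mathlib
import Cfsg.Agent.Lib.Helper36.SemiPair
import Cfsg.Agent.Lib.Helper36.ScalarCentral2

set_option autoImplicit false
set_option linter.unusedSectionVars false
set_option linter.unusedVariables false

/-!
# A semisimilarity acting trivially on `PΩ(Q)` is a scalar

If the pair `(h, τ)` induces the identity of `PΩ(Q)` and `Ω(Q)` contains the unipotent elements
`1 + t N` (`N² = 0`, `N` fixed by `τ`), then `τ = 1`.  Consequently an involution in the image of
the semisimilarity group is induced by a similarity, provided the form admits no semilinear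
involution.
-/

namespace Cfsg.Agent.Lib.Helper36

open Matrix Module Cfsg.Agent.Lib.Helper13

variable {ι : Type} [Fintype ι] [DecidableEq ι] {F : Type*} [Field F]

omit [Fintype ι] [DecidableEq ι] in
theorem map_smul_ringEquiv (τ : F ≃+* F) (t : F) (N : Matrix ι ι F) :
    (t • N).map τ = τ t • N.map τ := by
  ext i j
  simp only [Matrix.map_apply, Matrix.smul_apply, smul_eq_mul, map_mul]

theorem map_one_add_smul (τ : F ≃+* F) (t : F) (N : Matrix ι ι F) :
    ((1 : Matrix ι ι F) + t • N).map τ = 1 + τ t • N.map τ := by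
  rw [Matrix.map_add _ (map_add τ), map_smul_ringEquiv, Matrix.map_one _ (map_zero τ) (map_one τ)]

/-- `1 + X = -(1 + M)` with `X² = M² = 0` is impossible over a field with `4 ≠ 0` (unless the
matrix ring is trivial). -/
theorem unipotent_ne_neg_unipotent (h4 : (4 : F) ≠ 0) (M X : Matrix ι ι F) (hMM : M * M = 0)
    (hXX : X * X = 0) (h : 1 + X = -(1 + M)) (N : Matrix ι ι F) : N = 0 := by
  have hX : X = -(1 + M) - 1 := by rw [← h]; abel
  rw [hX] at hXX
  have e : (-(1 + M) - 1) * (-(1 + M) - 1) = (1 + M) + (1 + M) + (1 + M) + (1 + M) + M * M := by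
    noncomm_ring
  rw [e, hMM, add_zero] at hXX
  have e2 : (4 : F) • ((1 : Matrix ι ι F) + M) = 0 := by
    rw [← hXX, show (4 : F) = 1 + 1 + 1 + 1 by norm_num, add_smul, add_smul, add_smul, one_smul]
  have e4 : (1 : Matrix ι ι F) + M = 0 := by
    have := congrArg (fun Y : Matrix ι ι F => (4 : F)⁻¹ • Y) e2
    simpa [smul_smul, inv_mul_cancel₀ h4] using this
  have e5 : ((1 : Matrix ι ι F) + M) * (1 - M) = 1 - M * M := by noncomm_ring
  rw [e4, hMM, Matrix.zero_mul, sub_zero] at e5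
  calc N = N * 1 := (Matrix.mul_one N).symm
    _ = 0 := by rw [← e5, Matrix.mul_zero]

/-- **A semisimilarity acting trivially on `PΩ` has trivial field automorphism**, given a family of
unipotent elements `1 + t N` in `Ω`. -/
theorem ringEquiv_apply_of_induced_one (Q : (ι → F) → F) (h : GL ι F) (τ : F ≃+* F)
    (hpair : Cfsg.IsSemisimilarityPair Q h τ)
    (hind : Cfsg.IsInducedBySemilinearPOmega Q h τ (1 : MulAut (Cfsg.POmega F Q)))
    (h2 : (2 : F) ≠ 0)
    (N : Matrix ι ι F) (hNN : N * N = 0) (hN0 : N ≠ 0) (hNτ : N.map τ = N)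
    (hu : ∀ t : F, ∃ s : ↥(Cfsg.Omega F Q),
      (((s : ↥(Cfsg.isometryGroup F Q)) : GL ι F) : Matrix ι ι F) = 1 + t • N)
    (hcen : ∀ z : ↥(Cfsg.Omega F Q), z ∈ Subgroup.center ↥(Cfsg.Omega F Q) →
      (((z : ↥(Cfsg.isometryGroup F Q)) : GL ι F) : Matrix ι ι F) = 1 ∨
      (((z : ↥(Cfsg.isometryGroup F Q)) : GL ι F) : Matrix ι ι F) = -1) :
    ∀ t : F, τ t = t := by
  set A : Matrix ι ι F := (h : Matrix ι ι F) * N * ((h⁻¹ : GL ι F) : Matrix ι ι F) with hA
  have hAA : A * A = 0 := by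
    rw [hA]
    calc (h : Matrix ι ι F) * N * ((h⁻¹ : GL ι F) : Matrix ι ι F) *
        ((h : Matrix ι ι F) * N * ((h⁻¹ : GL ι F) : Matrix ι ι F))
        = (h : Matrix ι ι F) * N * (((h⁻¹ : GL ι F) : Matrix ι ι F) * (h : Matrix ι ι F)) * N *
            ((h⁻¹ : GL ι F) : Matrix ι ι F) := by simp only [Matrix.mul_assoc]
      _ = (h : Matrix ι ι F) * (N * N) * ((h⁻¹ : GL ι F) : Matrix ι ι F) := by
          rw [← Units.val_mul, inv_mul_cancel, Units.val_one, Matrix.mul_one]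
          simp only [Matrix.mul_assoc]
      _ = 0 := by rw [hNN, Matrix.mul_zero, Matrix.zero_mul]
  have h4 : (4 : F) ≠ 0 := by
    have : (4 : F) = 2 * 2 := by norm_num
    rw [this]
    exact mul_ne_zero h2 h2
  have key : ∀ t : F, τ t • A = t • N := by
    intro t
    obtain ⟨s, hs⟩ := hu t
    obtain ⟨s', hs'⟩ := exists_semiconj_Omega Q h τ hpair s
    have h1 := hind s s' hs'
    rw [MulAut.one_apply] at h1
    have hz : s⁻¹ * s' ∈ Subgroup.center ↥(Cfsg.Omega F Q) := QuotientGroup.eq.mp h1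
    have hs'eq : s' = s * (s⁻¹ * s') := by group
    have hmat : (((s' : ↥(Cfsg.isometryGroup F Q)) : GL ι F) : Matrix ι ι F) =
        (((s : ↥(Cfsg.isometryGroup F Q)) : GL ι F) : Matrix ι ι F) *
          ((((s⁻¹ * s' : ↥(Cfsg.Omega F Q)) : ↥(Cfsg.isometryGroup F Q)) : GL ι F) :
            Matrix ι ι F) := by
      conv_lhs => rw [hs'eq]
      rfl
    have hconj : (h : Matrix ι ι F) * ((1 : Matrix ι ι F) + τ t • N) *
        ((h⁻¹ : GL ι F) : Matrix ι ι F) = 1 + τ t • A := by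
      rw [Matrix.mul_add, Matrix.add_mul, Matrix.mul_one, ← Units.val_mul, mul_inv_cancel,
        Units.val_one, Matrix.mul_smul, Matrix.smul_mul, hA]
    rw [hs, map_one_add_smul, hNτ, hconj] at hs'
    rcases hcen _ hz with hZ | hZ
    · rw [hs', hs, hZ, Matrix.mul_one] at hmat
      exact add_left_cancel hmat
    · exfalso
      rw [hs', hs, hZ, Matrix.mul_neg, Matrix.mul_one] at hmat
      exact hN0 (unipotent_ne_neg_unipotent h4 (t • N) (τ t • A)
        (by rw [Matrix.smul_mul, Matrix.mul_smul, hNN, smul_zero, smul_zero])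
        (by rw [Matrix.smul_mul, Matrix.mul_smul, hAA, smul_zero, smul_zero]) hmat N)
  have hA1 : A = N := by
    have := key 1
    rwa [map_one, one_smul, one_smul] at this
  intro t
  have h1 := key t
  rw [hA1] at h1
  by_contra hne
  apply hN0
  have h3 : (τ t - t) • N = 0 := by rw [sub_smul, h1, sub_self]
  have h5 : τ t - t ≠ 0 := sub_ne_zero.mpr hne
  have := congrArg (fun M : Matrix ι ι F => (τ t - t)⁻¹ • M) h3
  simpa [smul_smul, inv_mul_cancel₀ h5] using this

section Center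

variable [Fintype F] [DecidableEq F]

/-- The centre of `Ω(Q)` consists of `±1`. -/
theorem center_Omega_eq (Q : QuadraticForm F (ι → F))
    (hQ : (QuadraticMap.polarBilin Q).Nondegenerate) (h2 : (2 : F) ≠ 0)
    (hdim : 5 ≤ Fintype.card ι) (z : ↥(Cfsg.Omega F (⇑Q)))
    (hz : z ∈ Subgroup.center ↥(Cfsg.Omega F (⇑Q))) :
    (((z : ↥(Cfsg.isometryGroup F (⇑Q))) : GL ι F) : Matrix ι ι F) = 1 ∨
    (((z : ↥(Cfsg.isometryGroup F (⇑Q))) : GL ι F) : Matrix ι ι F) = -1 := by
  have hdim' : 5 ≤ finrank F (ι → F) := by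
    rw [Module.finrank_fintype_fun_eq_card]
    exact hdim
  have key := eq_one_or_neg_one_of_centralizes Q hQ h2 hdim'
    (isometryGroupEquiv Q (z : ↥(Cfsg.isometryGroup F (⇑Q)))) ?_
  · rcases key with h | h
    · left
      apply matrix_eq_of_mulVec
      intro x
      rw [Matrix.one_mulVec]
      exact h x
    · right
      apply matrix_eq_of_mulVec
      intro x
      rw [Matrix.neg_mulVec, Matrix.one_mulVec]
      exact h x
  · intro s' hs'
    set s₁ : ↥(Cfsg.isometryGroup F (⇑Q)) := (isometryGroupEquiv Q).symm s' with hs₁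
    have hs₁mem : s₁ ∈ commutator ↥(Cfsg.isometryGroup F (⇑Q)) := by
      rw [mem_commutator_iff_equiv (isometryGroupEquiv Q), hs₁, MulEquiv.apply_symm_apply]
      exact hs'
    have h1 := (Subgroup.mem_center_iff.mp hz) ⟨s₁, hs₁mem⟩
    have h3 : s₁ * (z : ↥(Cfsg.isometryGroup F (⇑Q))) =
        (z : ↥(Cfsg.isometryGroup F (⇑Q))) * s₁ := congrArg Subtype.val h1
    have h4 := congrArg (isometryGroupEquiv Q) h3
    rw [map_mul, map_mul, hs₁, MulEquiv.apply_symm_apply] at h4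
    exact h4.symm

/-- **An involution in the image of the semisimilarity group is induced by a similarity**, if the
form admits no semilinear involution and `Ω` contains a suitable family of unipotent elements. -/
theorem exists_similarity_of_involution (Q : QuadraticForm F (ι → F))
    (hQ : (QuadraticMap.polarBilin Q).Nondegenerate) (h2 : (2 : F) ≠ 0)
    (hdim : 5 ≤ Fintype.card ι)
    (N : Matrix ι ι F) (hNN : N * N = 0) (hN0 : N ≠ 0) (hNτ : ∀ τ : F ≃+* F, N.map τ = N)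
    (hu : ∀ t : F, ∃ s : ↥(Cfsg.Omega F (⇑Q)),
      (((s : ↥(Cfsg.isometryGroup F (⇑Q))) : GL ι F) : Matrix ι ι F) = 1 + t • N)
    (hnoinv : ∀ (g : GL ι F) (σ : F ≃+* F), Cfsg.IsSemisimilarityPair (⇑Q) g σ →
      σ ≠ RingEquiv.refl F → (∀ x, σ (σ x) = x) →
      (∃ z : F, ∀ v : ι → F, ((g * glMap σ g : GL ι F) : Matrix ι ι F) *ᵥ v = z • v) → False)
    (γ : MulAut (Cfsg.POmega F (⇑Q))) (hγ : γ ∈ Cfsg.gammaPOmega F (⇑Q)) (hγγ : γ * γ = 1) :
    ∃ c : ↥(Cfsg.Geo.quadSimilarityGroup (⇑Q)), γ = simAut (⇑Q) c := by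
  obtain ⟨g, σ, hp, hi⟩ := (mem_gammaPOmega_iff (⇑Q) γ).mp hγ
  have hp2 := isSemisimilarityPair_mul (⇑Q) g g σ σ hp hp
  have hi2 := isInduced_mul (⇑Q) g g σ σ γ γ hp hi hi
  rw [hγγ] at hi2
  have hσσ : ∀ t : F, σ (σ t) = t :=
    ringEquiv_apply_of_induced_one (⇑Q) _ _ hp2 hi2 h2 N hNN hN0 (hNτ _) hu
      (center_Omega_eq Q hQ h2 hdim)
  have hσσ' : σ.trans σ = RingEquiv.refl F := RingEquiv.ext hσσ
  rw [hσσ'] at hp2 hi2
  -- `g σ(g)` is a similarity acting trivially
  have hmemG : g * glMap σ g ∈ Cfsg.Geo.quadSimilarityGroup (⇑Q) := by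
    obtain ⟨c, hc⟩ := hp2
    exact ⟨c, fun v => hc v⟩
  have h1 : (1 : MulAut (Cfsg.POmega F (⇑Q))) = simAut (⇑Q) ⟨g * glMap σ g, hmemG⟩ :=
    (isInduced_iff (⇑Q) ⟨g * glMap σ g, hmemG⟩ 1).mp hi2
  obtain ⟨z, hz⟩ := scalar_of_normAut_eq_one Q hQ h2 hdim
    (Subgroup.inclusion (similarity_le_normalizer (⇑Q)) ⟨g * glMap σ g, hmemG⟩) h1.symm
  by_cases hσ : σ = RingEquiv.refl F
  · subst hσ
    have hgG : g ∈ Cfsg.Geo.quadSimilarityGroup (⇑Q) := by
      obtain ⟨c, hc⟩ := hp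
      exact ⟨c, fun v => hc v⟩
    exact ⟨⟨g, hgG⟩, (isInduced_iff (⇑Q) ⟨g, hgG⟩ γ).mp hi⟩
  · exfalso
    exact hnoinv g σ hp hσ hσσ ⟨z, fun v => hz v⟩

end Center

end Cfsg.Agent.Lib.Helper36
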