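import Mathlib
import Cfsg.Agent.Lib.Helper36.GraphInvGen
import Cfsg.Agent.Lib.Helper36.InndiagMinus2
import Cfsg.Agent.Lib.Helper36.MinusUnip
import Cfsg.Agent.Lib.Helper36.SemiPair2
import Cfsg.Agent.Lib.Helper36.SemiInv

set_option autoImplicit false
set_option linter.unusedSectionVars false
set_option linter.unusedVariables false

/-!
# The splitting of the class of an involutory graph automorphism of `PΩ⁻_{2m+2}(q)`, `q` odd
-/

namespace Cfsg.Agent.Lib.Helper36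

open Module Matrix Cfsg.Agent.Lib.Helper13 Cfsg.Agent.S0791 Cfsg.Agent.Lib.Helper44

universe u

variable {F : Type u} [Field F] [Fintype F] [DecidableEq F]

set_option maxHeartbeats 1600000 in
/-- **The class of an involutory graph automorphism of `PΩ⁻_{2m+2}(q)`** (bundled form). -/
theorem graph_involution_split_minus (hodd : Odd (Fintype.card F)) {m : ℕ} (hm : 3 ≤ m) (a b : F)
    (hab : ∀ z₁ z₂ : F, z₁ ^ 2 + a * z₁ * z₂ + b * z₂ ^ 2 = 0 → z₁ = 0 ∧ z₂ = 0)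
    (γ : MulAut (Cfsg.POmega F (⇑(minusForm m F a b))))
    (hγ : γ ∈ Cfsg.gammaPOmega F (⇑(minusForm m F a b)))
    (hγD : γ ∉ inndiagMinusOf m a b (⇑(minusForm m F a b)))
    (hγ2 : orderOf γ = 2) :
    (Cfsg.splitClassCount (inndiagMinusOf m a b (⇑(minusForm m F a b)))
        (Cfsg.Inn (Cfsg.POmega F (⇑(minusForm m F a b)))) γ = 1 ∨
      Cfsg.splitClassCount (inndiagMinusOf m a b (⇑(minusForm m F a b)))
        (Cfsg.Inn (Cfsg.POmega F (⇑(minusForm m F a b)))) γ = 2) ∧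
    (¬ (Even m ∧ Fintype.card F % 4 = 1) →
      Cfsg.splitClassCount (inndiagMinusOf m a b (⇑(minusForm m F a b)))
        (Cfsg.Inn (Cfsg.POmega F (⇑(minusForm m F a b)))) γ = 2) := by
  have h2 : (2 : F) ≠ 0 := two_ne_zero_of_odd_card hodd
  have hq : Fintype.card F % 2 = 1 := Nat.odd_iff.mp hodd
  have hQ := minusForm_nondeg h2 m a b hab
  have hcard := card_minus_index m
  have hdim : 5 ≤ Fintype.card ((Fin m ⊕ Fin m) ⊕ Fin 2) := by rw [hcard]; omega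
  have hdim2 : 2 ≤ Fintype.card ((Fin m ⊕ Fin m) ⊕ Fin 2) := by omega
  have hdim' : 2 ≤ finrank F ((Fin m ⊕ Fin m) ⊕ Fin 2 → F) := by
    rw [Module.finrank_fintype_fun_eq_card]
    exact hdim2
  obtain ⟨v₀, hv₀'⟩ := exists_Q_eq (minusForm m F a b) hQ h2 hdim' 1 one_ne_zero
  have hv₀ : minusForm m F a b v₀ ≠ 0 := by rw [hv₀']; exact one_ne_zero
  have hchar : ringChar F ≠ 2 := by
    intro h
    apply h2
    have : ((2 : ℕ) : F) = 0 := by
      rw [← h]; exact ringChar.Nat.cast_ringChar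
    exact_mod_cast this
  -- a similarity with non-square multiplier in the kernel of `psi2`
  obtain ⟨η, hη⟩ := FiniteField.exists_nonsquare hchar
  have hη0 : η ≠ 0 := by
    rintro rfl
    exact hη IsSquare.zero
  obtain ⟨s₀, t₀, hst₀⟩ := exists_binary_eq hq h2 a b hab η
  obtain ⟨d₀, hd₀sim, hd₀det⟩ := exists_similarity_minus_det m a b s₀ t₀ (Units.mk0 η hη0)
    (by rw [Units.val_mk0]; exact hst₀.symm)
  have hd₀sim' : ∀ v, minusForm m F a b
      ((d₀ : Matrix ((Fin m ⊕ Fin m) ⊕ Fin 2) ((Fin m ⊕ Fin m) ⊕ Fin 2) F) *ᵥ v) =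
      ((Units.mk0 η hη0 : Fˣ) : F) * minusForm m F a b v := by
    intro v
    rw [minusForm_coe]
    exact hd₀sim v
  obtain ⟨δ₀, hδ₀⟩ : ∃ δ : ↥(Cfsg.Geo.quadSimilarityGroup (⇑(minusForm m F a b))),
      (δ : GL ((Fin m ⊕ Fin m) ⊕ Fin 2) F) = d₀ := ⟨⟨d₀, ⟨Units.mk0 η hη0, hd₀sim'⟩⟩, rfl⟩
  have hδ₀mult : mult (minusForm m F a b) v₀ hv₀ δ₀ = Units.mk0 η hη0 := by
    apply mult_eq
    rw [hδ₀]
    exact hd₀sim'
  have hδ₀delta : deltaHom (minusForm m F a b) v₀ hv₀ (m + 1) δ₀ = 1 := by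
    rw [deltaHom_apply, hδ₀mult, hδ₀, hd₀det, mul_inv_cancel]
  have hδ₀psi1 : psi1 (minusForm m F a b) v₀ hv₀ δ₀ = -1 := by
    unfold psi1
    rw [MonoidHom.comp_apply, hδ₀mult, ← Units.val_inj, MulChar.coe_toUnitHom,
      Units.val_neg, Units.val_one, quadraticChar_neg_one_iff_not_isSquare, Units.val_mk0]
    exact hη
  have hDeq := inndiag_minus_eq hq h2 m a b hab v₀ hv₀
  obtain ⟨φ₀, hφ₀s, hφ₀k⟩ := exists_hom_ker_psi2_mod_pso (minusForm m F a b) v₀ hv₀ (m + 1) hQ h2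
    hcard hdim _ hDeq δ₀ hδ₀delta hδ₀psi1
  have hns : ∃ (g₁ : GL ((Fin m ⊕ Fin m) ⊕ Fin 2) F) (c : Fˣ), ¬ IsSquare (c : F) ∧
      ∀ v : (Fin m ⊕ Fin m) ⊕ Fin 2 → F,
        minusForm m F a b ((g₁ : Matrix ((Fin m ⊕ Fin m) ⊕ Fin 2) ((Fin m ⊕ Fin m) ⊕ Fin 2) F) *ᵥ v)
          = (c : F) * minusForm m F a b v :=
    ⟨d₀, Units.mk0 η hη0, by rw [Units.val_mk0]; exact hη, hd₀sim'⟩
  have hiff : (∃ t : ↥(Cfsg.isometryGroup F (Cfsg.quadFormMinus m F a b)),
      t ∈ Cfsg.Omega F (Cfsg.quadFormMinus m F a b) ∧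
      ((t : GL ((Fin m ⊕ Fin m) ⊕ Fin 2) F) :
        Matrix ((Fin m ⊕ Fin m) ⊕ Fin 2) ((Fin m ⊕ Fin m) ⊕ Fin 2) F) = -1) ↔
      Fintype.card F ^ (m + 1) % 4 = 3 :=
    Cfsg.Agent.S0791.result (F := F) rfl hodd (m + 1) (by omega) a b hab
  rw [← minusForm_coe m F a b] at hiff
  have hpar : (Even m ∧ Fintype.card F % 4 = 3) ↔ Fintype.card F ^ (m + 1) % 4 = 3 := by
    rw [pow_mod_four_eq_three_iff _ _ hq, Nat.odd_add_one, Nat.not_odd_iff_even]
  -- Part I: `γ` is induced by a similarity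
  have hγγ : γ * γ = 1 := by
    have := pow_orderOf_eq_one γ
    rw [hγ2, pow_two] at this
    exact this
  have hi₁ : (0 : ℕ) < m := by omega
  have hi₂ : (1 : ℕ) < m := by omega
  set i₁ : Fin m := ⟨0, hi₁⟩ with hi₁def
  set i₂ : Fin m := ⟨1, hi₂⟩ with hi₂def
  have hi₁₂ : i₁ ≠ i₂ := by
    intro h
    have := congrArg Fin.val h
    simp [hi₁def, hi₂def] at this
  have hdisc := disc_not_isSquare h2 a b hab
  have hdisc0 : a ^ 2 - 4 * b ≠ 0 := by
    intro h0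
    apply hdisc
    rw [h0]
    exact IsSquare.zero
  have hgd : (gramStd (⇑(minusForm m F a b))).det = (-1) ^ (m + 1) * (a ^ 2 - 4 * b) :=
    minusForm_gram_det m a b
  obtain ⟨c, hγc⟩ := exists_similarity_of_involution (minusForm m F a b) hQ h2 hdim
    (minusN m F i₁ i₂) (minusN_mul_self m a b i₁ i₂) (minusN_ne_zero m i₁ i₂ hi₁₂)
    (fun τ => minusN_map m i₁ i₂ τ)
    (fun t => exists_Omega_minus_unipotent h2 m hm a b hab i₁ i₂ t)
    (fun g σ hp hσ hσσ hz =>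
      no_semilinear_involution (minusForm m F a b) h2 (m + 1) hcard v₀ hv₀
        ((-1) ^ (m + 1)) (a ^ 2 - 4 * b) hgd
        (pow_ne_zero _ (neg_ne_zero.mpr one_ne_zero)) hdisc0 hdisc g σ
        (by rw [map_pow, map_neg, map_one]) hp hσ hσσ hz)
    γ hγ hγγ
  have hδc : deltaHom (minusForm m F a b) v₀ hv₀ (m + 1) c ≠ 1 := by
    intro h
    apply hγD
    rw [hDeq, hγc]
    refine ⟨c, ?_, rfl⟩
    rw [SetLike.mem_coe, MonoidHom.mem_ker, psi2_eq_one_iff]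
    exact h
  rw [hγc] at hγ2 ⊢
  by_cases hE : Even m ∧ Fintype.card F % 4 = 1
  · -- the exceptional case: `Inndiag / Inn` has order two
    have hnot : ¬ (Even m ∧ Fintype.card F % 4 = 3) := by
      rintro ⟨-, h3⟩
      omega
    obtain ⟨φ, hφs, hφk⟩ := (inndiag_minus_structure hodd hm a b hab).2 hnot
    refine ⟨?_, fun h => absurd hE h⟩
    apply splitClassCount_eq_one_or_two _ _ _ φ
    intro h hh
    have h1 : h ∈ φ.ker := MonoidHom.mem_ker.mpr hh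
    rw [hφk, Subgroup.mem_subgroupOf] at h1
    exact h1
  · suffices key : Cfsg.splitClassCount (inndiagMinusOf m a b (⇑(minusForm m F a b)))
        (Cfsg.Inn (Cfsg.POmega F (⇑(minusForm m F a b)))) (simAut (⇑(minusForm m F a b)) c) = 2 from
      ⟨Or.inr key, fun _ => key⟩
    by_cases hA : Even m ∧ Fintype.card F % 4 = 3
    · have hneg := hiff.mpr (hpar.mp hA)
      exact split_eq_two_of_neg_mem (minusForm m F a b) v₀ hv₀ (m + 1) hQ h2 hcard hdim _ hDeq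
        φ₀ hφ₀s hφ₀k hns hneg c hδc hγ2
    · have hmodd : ¬ Even m := by
        intro he
        have h4 : Fintype.card F % 4 = 1 ∨ Fintype.card F % 4 = 3 := by omega
        rcases h4 with h4 | h4
        · exact hE ⟨he, h4⟩
        · exact hA ⟨he, h4⟩
      have hM : Even (m + 1) := by
        rw [Nat.even_add_one]
        exact hmodd
      have hnneg : ¬ ∃ t : ↥(Cfsg.isometryGroup F (⇑(minusForm m F a b))),
          t ∈ Cfsg.Omega F (⇑(minusForm m F a b)) ∧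
          ((t : GL ((Fin m ⊕ Fin m) ⊕ Fin 2) F) :
            Matrix ((Fin m ⊕ Fin m) ⊕ Fin 2) ((Fin m ⊕ Fin m) ⊕ Fin 2) F) = -1 := by
        intro hneg
        exact hA (hpar.mpr (hiff.mp hneg))
      exact split_eq_two_of_even (minusForm m F a b) v₀ hv₀ (m + 1) hQ h2 hcard hdim hM _ hDeq
        φ₀ hφ₀s hφ₀k hnneg c hδc hγ2

/-- Version of `graph_involution_split_minus` for a function propositionally equal to the
form. -/
theorem graph_involution_split_minus_of_eq {m : ℕ} (a b : F)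
    (f : ((Fin m ⊕ Fin m) ⊕ Fin 2 → F) → F) (hf : ⇑(minusForm m F a b) = f)
    (hodd : Odd (Fintype.card F)) (hm : 3 ≤ m)
    (hab : ∀ z₁ z₂ : F, z₁ ^ 2 + a * z₁ * z₂ + b * z₂ ^ 2 = 0 → z₁ = 0 ∧ z₂ = 0)
    (γ : MulAut (Cfsg.POmega F f)) (hγ : γ ∈ Cfsg.gammaPOmega F f)
    (hγD : γ ∉ inndiagMinusOf m a b f) (hγ2 : orderOf γ = 2) :
    (Cfsg.splitClassCount (inndiagMinusOf m a b f) (Cfsg.Inn (Cfsg.POmega F f)) γ = 1 ∨
      Cfsg.splitClassCount (inndiagMinusOf m a b f) (Cfsg.Inn (Cfsg.POmega F f)) γ = 2) ∧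
    (¬ (Even m ∧ Fintype.card F % 4 = 1) →
      Cfsg.splitClassCount (inndiagMinusOf m a b f) (Cfsg.Inn (Cfsg.POmega F f)) γ = 2) := by
  subst hf
  exact graph_involution_split_minus hodd hm a b hab γ hγ hγD hγ2

end Cfsg.Agent.Lib.Helper36
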