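import Mathlib
import Cfsg.Prelude.Def_HallClasses

/-!
# S2538 / S2535 modules [HALL-UP] [HALL-DOWN] [HALL-ODD] [SYL2-A] (helper36, for helper71)

Hall subgroups of `A_n` versus Hall subgroups of `S_n`: index bookkeeping.
-/

set_option autoImplicit false
set_option linter.unusedSectionVars false

namespace Cfsg.Agent.Lib.Helper36.HallAlt

open Cfsg Equiv

variable {β : Type} [Fintype β] [DecidableEq β]

/-- the index of the alternating group divides `2` -/
theorem alt_index_dvd_two : (alternatingGroup β).index ∣ 2 := by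
  rcases subsingleton_or_nontrivial β with h | h
  · have h1 : (alternatingGroup β) = ⊤ := by
      apply Subgroup.eq_top_of_card_eq
      have hs : Subsingleton (Perm β) := inferInstance
      have e1 : Nat.card (Perm β) = 1 := Nat.card_unique
      have e2 : Nat.card ↥(alternatingGroup β) = 1 := by
        have : Subsingleton ↥(alternatingGroup β) := inferInstance
        exact Nat.card_unique
      rw [e1, e2]
    rw [h1, Subgroup.index_top]
    exact one_dvd 2
  · rw [alternatingGroup.index_eq_two]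

/-- if `K` is not inside `A` then `|K : K ∩ A| = 2` -/
theorem alt_relIndex_eq_two (K : Subgroup (Perm β)) (hKA : ¬ K ≤ alternatingGroup β) :
    (alternatingGroup β).relIndex K = 2 := by
  have h1 : (alternatingGroup β).relIndex K ∣ 2 :=
    (Subgroup.relIndex_dvd_index_of_normal (alternatingGroup β) K).trans alt_index_dvd_two
  have h2 : (alternatingGroup β).relIndex K ≠ 1 := by
    intro h
    exact hKA (Subgroup.relIndex_eq_one.mp h)
  rcases (Nat.dvd_prime Nat.prime_two).mp h1 with h | h
  · exact absurd h h2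
  · exact h

/-- if some subgroup is not inside `A`, the index of `A` is `2` -/
theorem alt_index_eq_two_of_not_le (K : Subgroup (Perm β)) (hKA : ¬ K ≤ alternatingGroup β) :
    (alternatingGroup β).index = 2 := by
  rcases (Nat.dvd_prime Nat.prime_two).mp (alt_index_dvd_two (β := β)) with h | h
  · exfalso
    apply hKA
    rw [Subgroup.index_eq_one.mp h]
    exact le_top
  · exact h

/-- **[HALL-UP]** -/
theorem hall_up (π : Set ℕ) (M K : Subgroup (Perm β))
    (hM : IsPiHallOf π M (alternatingGroup β)) (hMK : M ≤ K)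
    (hK : ∀ p : ℕ, p.Prime → p ∣ Nat.card K → p ∈ π) (hKA : ¬ K ≤ alternatingGroup β) :
    IsPiHall π K ∧ K ⊓ alternatingGroup β = M := by
  obtain ⟨hMA, hMπ, hMidx⟩ := hM
  have hle : M ≤ K ⊓ alternatingGroup β := le_inf hMK hMA
  -- `K ⊓ A = M`
  have heq : K ⊓ alternatingGroup β = M := by
    apply le_antisymm _ hle
    rw [← Subgroup.relIndex_eq_one]
    by_contra hne
    obtain ⟨r, hr, hrd⟩ := Nat.exists_prime_and_dvd hne
    have h1 : r ∣ Nat.card ↥(K ⊓ alternatingGroup β) :=
      hrd.trans (Subgroup.relIndex_dvd_card M (K ⊓ alternatingGroup β))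
    have h2 : r ∣ Nat.card K := h1.trans (Subgroup.card_dvd_of_le inf_le_left)
    have h3 : r ∣ M.relIndex (alternatingGroup β) := by
      rw [← Subgroup.relIndex_mul_relIndex M (K ⊓ alternatingGroup β) (alternatingGroup β) hle
        inf_le_right]
      exact Dvd.dvd.mul_right hrd _
    exact hMidx r hr (hK r hr h2) h3
  refine ⟨⟨hK, ?_⟩, heq⟩
  -- `K.index = M.relIndex A`
  have hA2 : (alternatingGroup β).index = 2 := alt_index_eq_two_of_not_le K hKA
  have hK2 : M.relIndex K = 2 := by
    rw [← heq, Subgroup.inf_relIndex_left]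
    exact alt_relIndex_eq_two K hKA
  have e1 : M.relIndex (alternatingGroup β) * 2 = M.index := by
    rw [← hA2]
    exact Subgroup.relIndex_mul_index hMA
  have e2 : 2 * K.index = M.index := by
    rw [← hK2]
    exact Subgroup.relIndex_mul_index hMK
  have e3 : K.index = M.relIndex (alternatingGroup β) := by omega
  intro p hp hpπ
  rw [e3]
  exact hMidx p hp hpπ

/-- for `A` normal: `|A : K ∩ A|` divides `|G : K|` -/
theorem inf_relIndex_dvd_index {G : Type*} [Group G] [Finite G] (K A : Subgroup G) [A.Normal] :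
    (K ⊓ A).relIndex A ∣ K.index := by
  rw [Subgroup.inf_relIndex_right]
  have h0 : A.index ≠ 0 := Subgroup.index_ne_zero_of_finite
  have h1 : K.relIndex A * A.index = (K ⊓ A).index := by
    rw [← Subgroup.inf_relIndex_right]
    exact Subgroup.relIndex_mul_index inf_le_right
  have h2 : A.relIndex K * K.index = (K ⊓ A).index := by
    rw [← Subgroup.inf_relIndex_left]
    exact Subgroup.relIndex_mul_index inf_le_left
  obtain ⟨c, hc⟩ := Subgroup.relIndex_dvd_index_of_normal A K
  have hb0 : A.relIndex K ≠ 0 := by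
    intro h
    rw [h, zero_mul] at hc
    exact h0 hc
  refine ⟨c, ?_⟩
  have h3 : A.relIndex K * K.index = A.relIndex K * (K.relIndex A * c) := by
    rw [h2, ← h1, hc]
    ring
  exact Nat.eq_of_mul_eq_mul_left (Nat.pos_of_ne_zero hb0) h3

/-- **[HALL-DOWN]** -/
theorem hall_down (π : Set ℕ) (K : Subgroup (Perm β)) (hK : IsPiHall π K) :
    IsPiHallOf π (K ⊓ alternatingGroup β) (alternatingGroup β) := by
  refine ⟨inf_le_right, ?_, ?_⟩
  · intro p hp hpd
    exact hK.1 p hp (hpd.trans (Subgroup.card_dvd_of_le inf_le_left))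
  · intro p hp hpπ hpd
    exact hK.2 p hp hpπ (hpd.trans (inf_relIndex_dvd_index K (alternatingGroup β)))

/-- **[HALL-ODD]** -/
theorem hall_of_two_not_mem (π : Set ℕ) (M : Subgroup (Perm β))
    (hM : IsPiHallOf π M (alternatingGroup β)) (h2 : 2 ∉ π) : IsPiHall π M := by
  obtain ⟨hMA, hMπ, hMidx⟩ := hM
  refine ⟨hMπ, ?_⟩
  intro p hp hpπ hpd
  rw [← Subgroup.relIndex_mul_index hMA] at hpd
  rcases (Nat.Prime.dvd_mul hp).mp hpd with h | h
  · exact hMidx p hp hpπ h
  · have h3 : p ∣ 2 := h.trans alt_index_dvd_two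
    have h4 : p = 2 := (Nat.prime_dvd_prime_iff_eq hp Nat.prime_two).mp h3
    exact h2 (h4 ▸ hpπ)

/-- **[SYL2-A]** -/
theorem exists_two_overgroup (M : Subgroup (Perm β)) (hcard : 2 ≤ Fintype.card β)
    (hM2 : ∀ p : ℕ, p.Prime → p ∣ Nat.card M → p = 2) :
    ∃ K : Subgroup (Perm β), M ≤ K ∧ (∀ p : ℕ, p.Prime → p ∣ Nat.card K → p = 2) ∧
      ¬ K ≤ alternatingGroup β := by
  have : Fact (Nat.Prime 2) := ⟨Nat.prime_two⟩
  -- `M` is a 2-group
  have hMp : IsPGroup 2 M := by
    have hpos : Nat.card M ≠ 0 := Nat.card_pos.ne'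
    have := Nat.eq_prime_pow_of_unique_prime_dvd hpos (fun {d} hd hdd => hM2 d hd hdd)
    exact IsPGroup.of_card this
  obtain ⟨Q, hMQ⟩ := hMp.exists_le_sylow
  refine ⟨(Q : Subgroup (Perm β)), hMQ, ?_, ?_⟩
  · intro p hp hpd
    obtain ⟨n, hn⟩ := IsPGroup.iff_card.mp Q.isPGroup'
    rw [hn] at hpd
    exact (Nat.prime_dvd_prime_iff_eq hp Nat.prime_two).mp (hp.dvd_of_dvd_pow hpd)
  · -- a swap is conjugate into `Q`
    obtain ⟨a, b, hab⟩ : ∃ a b : β, a ≠ b := by
      have h1 : 1 < Fintype.card β := by omega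
      exact Fintype.exists_pair_of_one_lt_card h1
    have hsw : IsPGroup 2 (Subgroup.zpowers (swap a b)) := by
      apply IsPGroup.of_card (n := 1)
      rw [Nat.card_zpowers, pow_one]
      exact orderOf_eq_prime (by rw [sq]; exact swap_mul_self a b) (fun h => hab (swap_eq_one_iff.mp h))
    obtain ⟨Q', hQ'⟩ := hsw.exists_le_sylow
    obtain ⟨g, hg⟩ := MulAction.exists_smul_eq (Perm β) Q' Q
    intro hQA
    have h1 : swap a b ∈ (Q' : Subgroup (Perm β)) := hQ' (Subgroup.mem_zpowers _)
    have h2 : g * swap a b * g⁻¹ ∈ (Q : Subgroup (Perm β)) := by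
      rw [← hg, Sylow.coe_subgroup_smul]
      exact ⟨swap a b, h1, rfl⟩
    have h3 := hQA h2
    rw [Perm.mem_alternatingGroup, map_mul, map_mul, Perm.sign_swap hab, map_inv] at h3
    have h4 : Perm.sign g * -1 * (Perm.sign g)⁻¹ = -1 := by
      rw [mul_comm (Perm.sign g) (-1), mul_assoc, mul_inv_cancel, mul_one]
    rw [h4] at h3
    exact absurd h3 (by decide)

end Cfsg.Agent.Lib.Helper36.HallAlt
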