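import Mathlib
import Cfsg.Agent.Lib.Helper36.HermOrtho
import Cfsg.Agent.Lib.Helper36.Frame

set_option autoImplicit false

/-!
# Adapted bases for a self-adjoint square-zero operator on a Hermitian space over a finite field
-/

namespace Cfsg.Agent.Lib.Helper36

open Module

universe u v

variable {F : Type u} [Field F] {V : Type v} [AddCommGroup V] [Module F V] {σ : F →+* F}

/-- Expansion in an orthonormal basis. -/
theorem orthonormal_basis_expand {ι : Type*} [Fintype ι] [DecidableEq ι]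
    (B : V →ₛₗ[σ] V →ₗ[F] F) (b : Basis ι F V)
    (hb : ∀ i j, B (b i) (b j) = if i = j then 1 else 0) (x : V) :
    ∑ i, B (b i) x • b i = x := by
  have h : ∀ i, B (b i) x = b.repr x i := by
    intro i
    have h1 := congrArg (B (b i)) (b.sum_repr x)
    simp only [map_sum, map_smul, hb, smul_eq_mul, mul_ite, mul_one, mul_zero, Finset.sum_ite_eq,
      Finset.mem_univ, if_true] at h1
    exact h1.symm
  simp_rw [h]
  exact b.sum_repr x

/-- A complement of `ker N` with a basis orthonormal for the form `(x, y) ↦ B x (N y)`. -/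
theorem exists_compl_orthonormal [Finite F] [FiniteDimensional F V] (σ : F →+* F)
    (hσ : σ ≠ RingHom.id F) (hσ2 : ∀ a : F, σ (σ a) = a)
    (B : V →ₛₗ[σ] V →ₗ[F] F) (hS : B.IsSymm) (hB : B.Nondegenerate)
    (N : V →ₗ[F] V) (hadj : ∀ x y, B (N x) y = B x (N y)) :
    ∃ (W₀ : Submodule F V) (b : Basis (Fin (finrank F (LinearMap.range N))) F W₀),
      IsCompl (LinearMap.ker N) W₀ ∧
      ∀ i j, B (b i : V) (N (b j : V)) = if i = j then 1 else 0 := by
  classical
  obtain ⟨W₀, hW₀⟩ := Submodule.exists_isCompl (LinearMap.ker N)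
  have hdecomp : ∀ y : V, ∃ z ∈ LinearMap.ker N, ∃ y₀ ∈ W₀, z + y₀ = y := by
    intro y
    have : y ∈ LinearMap.ker N ⊔ W₀ := by rw [hW₀.sup_eq_top]; exact Submodule.mem_top
    exact Submodule.mem_sup.mp this
  set k : V →ₛₗ[σ] V →ₗ[F] F := B.compl₂ N with hk
  have hkapp : ∀ x y, k x y = B x (N y) := fun x y => rfl
  have hkS : k.IsSymm := ⟨fun x y => by rw [hkapp, hkapp, hS.eq, hadj]⟩
  set kW : W₀ →ₛₗ[σ] W₀ →ₗ[F] F := k.domRestrict₁₂ W₀ W₀ with hkW
  have hkWapp : ∀ x y : W₀, kW x y = B (x : V) (N (y : V)) := fun x y => rfl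
  have hSW : kW.IsSymm := hkS.domRestrict W₀
  have hNW : kW.Nondegenerate := by
    constructor
    · intro x hx
      have h1 : N (x : V) = 0 := by
        apply hB.1
        intro y
        obtain ⟨z, hz, y₀, hy₀, rfl⟩ := hdecomp y
        rw [hadj, map_add, map_add, LinearMap.mem_ker.mp hz, map_zero, zero_add]
        exact hx ⟨y₀, hy₀⟩
      have h2 : (x : V) ∈ LinearMap.ker N ⊓ W₀ := ⟨LinearMap.mem_ker.mpr h1, x.2⟩
      rw [hW₀.inf_eq_bot] at h2
      exact Subtype.ext ((Submodule.mem_bot F).mp h2)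
    · intro y hy
      have h1 : N (y : V) = 0 := by
        apply hB.2
        intro x
        obtain ⟨z, hz, x₀, hx₀, rfl⟩ := hdecomp x
        rw [map_add, LinearMap.add_apply, ← hadj, LinearMap.mem_ker.mp hz, map_zero,
          LinearMap.zero_apply, zero_add]
        exact hy ⟨x₀, hx₀⟩
      have h2 : (y : V) ∈ LinearMap.ker N ⊓ W₀ := ⟨LinearMap.mem_ker.mpr h1, y.2⟩
      rw [hW₀.inf_eq_bot] at h2
      exact Subtype.ext ((Submodule.mem_bot F).mp h2)
  have hdim : finrank F W₀ = finrank F (LinearMap.range N) := by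
    have h1 := Submodule.finrank_add_eq_of_isCompl hW₀
    have h2 := LinearMap.finrank_range_add_finrank_ker N
    omega
  obtain ⟨e, he⟩ := exists_orthonormal_family_aux σ hσ hσ2 (finrank F (LinearMap.range N)) W₀ kW
    hSW hNW hdim
  have hli := linearIndependent_of_orthonormal σ kW e he
  refine ⟨W₀, basisOfLinearIndependentOfCardEqFinrank' e hli (by simp [hdim]), hW₀, ?_⟩
  intro i j
  rw [coe_basisOfLinearIndependentOfCardEqFinrank', ← hkWapp]
  exact he i j

/-- Making a family isotropic without changing its image under `N`. -/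
theorem exists_isotropic_adjust (σ : F →+* F) (t : F) (ht : t + σ t = 1)
    (B : V →ₛₗ[σ] V →ₗ[F] F) (hS : B.IsSymm)
    (N : V →ₗ[F] V) (hN2 : ∀ x, N (N x) = 0) (hadj : ∀ x y, B (N x) y = B x (N y))
    {r : ℕ} (w0 : Fin r → V) (h0 : ∀ i j, B (w0 i) (N (w0 j)) = if i = j then 1 else 0) :
    ∃ w : Fin r → V, (∀ i, N (w i) = N (w0 i)) ∧ ∀ i j, B (w i) (w j) = 0 := by
  classical
  set S : Fin r → V := fun i => ∑ l, B (w0 l) (w0 i) • w0 l with hSdef
  refine ⟨fun i => w0 i - t • N (S i), ?_, ?_⟩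
  · intro i
    simp [map_sub, hN2]
  · intro i j
    have e1 : B (w0 i) (N (S j)) = B (w0 i) (w0 j) := by
      simp only [hSdef, map_sum, map_smul, h0, smul_eq_mul, mul_ite, mul_one, mul_zero,
        Finset.sum_ite_eq, Finset.mem_univ, if_true]
    have e2 : B (N (S i)) (w0 j) = B (w0 i) (w0 j) := by
      rw [hadj]
      simp only [hSdef, map_sum, LinearMap.sum_apply, LinearMap.map_smulₛₗ, LinearMap.smul_apply,
        h0, smul_eq_mul, mul_ite, mul_one, mul_zero, Finset.sum_ite_eq', Finset.mem_univ, if_true]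
      rw [hS.eq]
    have e3 : B (N (S i)) (N (S j)) = 0 := by rw [hadj, hN2, map_zero]
    simp only [map_sub, LinearMap.sub_apply, map_smul, LinearMap.map_smulₛₗ, LinearMap.smul_apply,
      smul_eq_mul, e1, e2, e3]
    linear_combination (-(B (w0 i) (w0 j))) * ht

/-- Adapted system for a self-adjoint square-zero operator `N` on a non-degenerate Hermitian space over
a finite field: vectors `w i` (`i < rank N`) and `c k` with `w` totally isotropic, `B (w i) (N (w j)) = δ`,
`c` orthonormal, orthogonal to the `w i` and `N (w i)`, killed by `N`, and every vector expands in the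
system `w, N w, c` with the dual system `N w, w, c`. -/
theorem exists_adapted [Finite F] [FiniteDimensional F V] (σ : F →+* F)
    (hσ : σ ≠ RingHom.id F) (hσ2 : ∀ a : F, σ (σ a) = a) (t : F) (ht : t + σ t = 1)
    (B : V →ₛₗ[σ] V →ₗ[F] F) (hS : B.IsSymm) (hB : B.Nondegenerate)
    (N : V →ₗ[F] V) (hN2 : ∀ x, N (N x) = 0) (hadj : ∀ x y, B (N x) y = B x (N y)) :
    ∃ (s : ℕ) (w : Fin (finrank F (LinearMap.range N)) → V) (c : Fin s → V),
      (∀ i j, B (w i) (w j) = 0) ∧ (∀ i j, B (w i) (N (w j)) = if i = j then 1 else 0) ∧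
      (∀ k l, B (c k) (c l) = if k = l then 1 else 0) ∧ (∀ k i, B (w i) (c k) = 0) ∧
      (∀ k i, B (N (w i)) (c k) = 0) ∧ (∀ k, N (c k) = 0) ∧
      (∀ x, ∑ i, B (N (w i)) x • w i + ∑ i, B (w i) x • N (w i) + ∑ k, B (c k) x • c k = x) := by
  classical
  obtain ⟨W₀, b, hcompl, hb⟩ := exists_compl_orthonormal σ hσ hσ2 B hS hB N hadj
  obtain ⟨w, hNw, hww⟩ := exists_isotropic_adjust σ t ht B hS N hN2 hadj (fun i => (b i : V)) hb
  have hwN : ∀ i j, B (w i) (N (w j)) = if i = j then 1 else 0 := by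
    intro i j
    rw [hNw j, ← hadj, hNw i, hadj]
    exact hb i j
  have hNww : ∀ i j, B (N (w i)) (w j) = if i = j then 1 else 0 := by
    intro i j
    rw [hadj]
    exact hwN i j
  have hNN : ∀ i j, B (N (w i)) (N (w j)) = 0 := by
    intro i j
    rw [hadj, hN2, map_zero]
  -- the orthogonal complement of the hyperbolic part
  obtain ⟨C, hC⟩ : ∃ C : Submodule F V,
      C = ⨅ i, (LinearMap.ker (B (w i)) ⊓ LinearMap.ker (B (N (w i)))) := ⟨_, rfl⟩
  have hCmem : ∀ x, x ∈ C ↔ ∀ i, B (w i) x = 0 ∧ B (N (w i)) x = 0 := by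
    intro x
    rw [hC]
    simp [Submodule.mem_iInf]
  obtain ⟨p, hpdef⟩ : ∃ p : V → V,
      ∀ x, p x = x - ∑ i, B (N (w i)) x • w i - ∑ i, B (w i) x • N (w i) := ⟨_, fun _ => rfl⟩
  have hp : ∀ x, p x ∈ C := by
    intro x
    rw [hCmem]
    intro j
    constructor
    · rw [hpdef]
      simp only [map_sub, map_sum, map_smul, hww, hwN, smul_eq_mul, mul_zero, Finset.sum_const_zero,
        sub_zero, mul_ite, mul_one, Finset.sum_ite_eq, Finset.mem_univ, if_true, sub_self]
    · rw [hpdef]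
      simp only [map_sub, map_sum, map_smul, hNww, hNN, smul_eq_mul, mul_zero,
        Finset.sum_const_zero, mul_ite, mul_one, Finset.sum_ite_eq, Finset.mem_univ,
        if_true, sub_self]
  -- C ≤ ker N
  have hCker : ∀ x ∈ C, N x = 0 := by
    intro x hx
    apply hB.2
    intro y
    have hy : y ∈ LinearMap.ker N ⊔ W₀ := by rw [hcompl.sup_eq_top]; exact Submodule.mem_top
    obtain ⟨z, hz, y₀, hy₀, rfl⟩ := Submodule.mem_sup.mp hy
    rw [map_add, LinearMap.add_apply]
    have h1 : B z (N x) = 0 := by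
      rw [← hadj, LinearMap.mem_ker.mp hz, map_zero, LinearMap.zero_apply]
    have h2 : B y₀ (N x) = 0 := by
      have h3 := congrArg Subtype.val (b.sum_repr ⟨y₀, hy₀⟩)
      simp only [Submodule.coe_sum, Submodule.coe_smul] at h3
      rw [← h3, map_sum, LinearMap.sum_apply]
      apply Finset.sum_eq_zero
      intro i _
      rw [LinearMap.map_smulₛₗ, LinearMap.smul_apply, ← hadj, ← hNw i, ((hCmem x).mp hx i).2,
        smul_zero]
    rw [h1, h2, add_zero]
  -- the restriction of B to C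
  set BC : C →ₛₗ[σ] C →ₗ[F] F := B.domRestrict₁₂ C C with hBC
  have hBCapp : ∀ x y : C, BC x y = B (x : V) (y : V) := fun x y => rfl
  have hSC : BC.IsSymm := hS.domRestrict C
  have hCw : ∀ x ∈ C, ∀ i, B x (w i) = 0 := by
    intro x hx i
    rw [← hS.eq, ((hCmem x).mp hx i).1, map_zero]
  have hCNw : ∀ x ∈ C, ∀ i, B x (N (w i)) = 0 := by
    intro x hx i
    rw [← hS.eq, ((hCmem x).mp hx i).2, map_zero]
  have hBCp : ∀ x ∈ C, ∀ y, B x (p y) = B x y := by
    intro x hx y
    rw [hpdef]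
    simp only [map_sub, map_sum, map_smul, hCw x hx, hCNw x hx, smul_zero, Finset.sum_const_zero,
      sub_zero]
  have hBCp' : ∀ y ∈ C, ∀ x, B (p x) y = B x y := by
    intro y hy x
    rw [hpdef]
    simp only [map_sub, map_sum, LinearMap.sub_apply, LinearMap.sum_apply, LinearMap.map_smulₛₗ,
      LinearMap.smul_apply, ((hCmem y).mp hy _).1, ((hCmem y).mp hy _).2, smul_zero,
      Finset.sum_const_zero, sub_zero]
  have hNC : BC.Nondegenerate := by
    constructor
    · intro x hx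
      apply Subtype.ext
      apply hB.1
      intro y
      rw [← hBCp x x.2 y]
      exact hx ⟨p y, hp y⟩
    · intro y hy
      apply Subtype.ext
      apply hB.2
      intro x
      rw [← hBCp' y y.2 x]
      exact hy ⟨p x, hp x⟩
  obtain ⟨c, hc⟩ := exists_orthonormal_basis σ hσ hσ2 BC hSC hNC
  refine ⟨finrank F C, w, fun k => (c k : V), hww, hwN, hc, ?_, ?_, ?_, ?_⟩
  · intro k i
    exact ((hCmem _).mp (c k).2 i).1
  · intro k i
    exact ((hCmem _).mp (c k).2 i).2
  · intro k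
    exact hCker _ (c k).2
  · intro x
    have h1 := orthonormal_basis_expand BC c hc ⟨p x, hp x⟩
    have h2 := congrArg Subtype.val h1
    simp only [Submodule.coe_sum, Submodule.coe_smul] at h2
    have h3 : ∀ k, BC (c k) ⟨p x, hp x⟩ = B (c k : V) x := fun k => hBCp (c k) (c k).2 x
    simp_rw [h3] at h2
    rw [h2, hpdef]
    abel

/-- The standard Gram function of an adapted frame. -/
def stdGram (F : Type u) [Field F] (r s : ℕ) :
    (Fin r ⊕ Fin r ⊕ Fin s) → (Fin r ⊕ Fin r ⊕ Fin s) → F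
  | Sum.inl i, Sum.inr (Sum.inl j) => if i = j then 1 else 0
  | Sum.inr (Sum.inl i), Sum.inl j => if i = j then 1 else 0
  | Sum.inr (Sum.inr k), Sum.inr (Sum.inr l) => if k = l then 1 else 0
  | _, _ => 0

/-- Adapted frame for a self-adjoint square-zero operator on a non-degenerate Hermitian space. -/
theorem exists_adapted_frame [Finite F] [FiniteDimensional F V] (σ : F →+* F)
    (hσ : σ ≠ RingHom.id F) (hσ2 : ∀ a : F, σ (σ a) = a) (t : F) (ht : t + σ t = 1)
    (B : V →ₛₗ[σ] V →ₗ[F] F) (hS : B.IsSymm) (hB : B.Nondegenerate)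
    (N : V →ₗ[F] V) (hN2 : ∀ x, N (N x) = 0) (hadj : ∀ x y, B (N x) y = B x (N y))
    (r : ℕ) (hr : finrank F (LinearMap.range N) = r) :
    ∃ (s : ℕ) (e e' : Fin r ⊕ Fin r ⊕ Fin s → V), 2 * r + s = finrank F V ∧
      IsFrame B e e' ∧ (∀ i j, B (e i) (e j) = stdGram F r s i j) ∧
      (∀ i, N (e (Sum.inl i)) = e (Sum.inr (Sum.inl i))) ∧ (∀ i, N (e (Sum.inr i)) = 0) := by
  classical
  subst hr
  obtain ⟨s, w, c, hww, hwN, hcc, hwc, hNwc, hNc, hexp⟩ :=
    exists_adapted σ hσ hσ2 t ht B hS hB N hN2 hadj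
  have hNww : ∀ i j, B (N (w i)) (w j) = if i = j then 1 else 0 := by
    intro i j
    rw [hadj]
    exact hwN i j
  have hNN : ∀ i j, B (N (w i)) (N (w j)) = 0 := by
    intro i j
    rw [hadj, hN2, map_zero]
  have hcw : ∀ k i, B (c k) (w i) = 0 := by
    intro k i
    rw [← hS.eq, hwc, map_zero]
  have hcNw : ∀ k i, B (c k) (N (w i)) = 0 := by
    intro k i
    rw [← hS.eq, hNwc, map_zero]
  have hframe : IsFrame B (Sum.elim w (Sum.elim (fun i => N (w i)) c))
      (Sum.elim (fun i => N (w i)) (Sum.elim w c)) := by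
    constructor
    · intro i j
      rcases i with i | i | k <;> rcases j with j | j | l <;>
        simp [hww, hwN, hNww, hNN, hcc, hwc, hNwc, hcw, hcNw]
    · intro x
      rw [Fintype.sum_sum_type, Fintype.sum_sum_type]
      simp only [Sum.elim_inl, Sum.elim_inr]
      rw [← add_assoc]
      exact hexp x
  refine ⟨s, Sum.elim w (Sum.elim (fun i => N (w i)) c),
    Sum.elim (fun i => N (w i)) (Sum.elim w c), ?_, hframe, ?_, ?_, ?_⟩
  · have h := hframe.card_eq
    simp only [Fintype.card_sum, Fintype.card_fin] at h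
    omega
  · intro i j
    rcases i with i | i | k <;> rcases j with j | j | l <;>
      simp [stdGram, hww, hwN, hNww, hNN, hcc, hwc, hNwc, hcw, hcNw]
  · intro i
    simp
  · intro i
    rcases i with i | k
    · simp [hN2]
    · simp [hNc]

/-- An isometry commuting with `N` of determinant `μ * μ`, for `μ` of norm one. -/
theorem exists_centralizing_isometry [FiniteDimensional F V] (σ : F →+* F)
    (B : V →ₛₗ[σ] V →ₗ[F] F) (hS : B.IsSymm)
    (N : V →ₗ[F] V) (hN2 : ∀ x, N (N x) = 0) (hadj : ∀ x y, B (N x) y = B x (N y))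
    (w₁ : V) (h11 : B w₁ w₁ = 0) (h1N : B w₁ (N w₁) = 1) (μ : F) (hμ : μ * σ μ = 1) :
    ∃ z : V →ₗ[F] V, LinearMap.det z = μ * μ ∧ (∀ x y, B (z x) (z y) = B x y) ∧
      ∀ x, z (N x) = N (z x) := by
  have hN1 : B (N w₁) w₁ = 1 := by rw [hadj]; exact h1N
  have hNN : B (N w₁) (N w₁) = 0 := by rw [hadj, hN2, map_zero]
  set z₁ : V →ₗ[F] V := LinearMap.transvection ((μ - 1) • B (N w₁)) w₁ with hz₁
  set z₂ : V →ₗ[F] V := LinearMap.transvection ((μ - 1) • B w₁) (N w₁) with hz₂
  have hz : ∀ x, (z₁ ∘ₗ z₂) x = x + ((μ - 1) * B w₁ x) • N w₁ + ((μ - 1) * B (N w₁) x) • w₁ := by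
    intro x
    simp only [LinearMap.comp_apply, hz₁, hz₂, LinearMap.transvection.apply, LinearMap.smul_apply,
      smul_eq_mul, map_add, map_smul, hNN, mul_zero, zero_smul, add_zero]
    abel
  refine ⟨z₁ ∘ₗ z₂, ?_, ?_, ?_⟩
  · rw [LinearMap.det_comp, hz₁, hz₂, LinearMap.transvection.det, LinearMap.transvection.det]
    simp only [LinearMap.smul_apply, smul_eq_mul, hN1, h1N]
    ring
  · intro x y
    rw [hz, hz]
    have s1 : B x (N w₁) = σ (B (N w₁) x) := (hS.eq _ _).symm
    have s2 : B x w₁ = σ (B w₁ x) := (hS.eq _ _).symm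
    simp only [map_add, LinearMap.add_apply, map_smul, LinearMap.map_smulₛₗ, LinearMap.smul_apply,
      smul_eq_mul, map_mul, map_sub, map_one, hNN, hN1, h1N, h11, s1, s2]
    linear_combination (B w₁ y * σ (B (N w₁) x) + B (N w₁) y * σ (B w₁ x)) * hμ
  · intro x
    rw [hz, hz]
    have e1 : B w₁ (N x) = B (N w₁) x := (hadj _ _).symm
    have e2 : B (N w₁) (N x) = 0 := by rw [← hadj, hN2, map_zero, LinearMap.zero_apply]
    simp only [map_add, map_smul, hN2, e1, e2, mul_zero, zero_smul, smul_zero, add_zero]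

end Cfsg.Agent.Lib.Helper36
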