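import Mathlib
import Cfsg.Agent.Lib.Helper58.IP26.Defs
import Cfsg.Agent.Lib.Helper36.IP26Ext
import Cfsg.Agent.Lib.Helper84.IP26Van
import Cfsg.Agent.Lib.Helper81.IrrTwist
import Cfsg.Agent.Lib.Helper78.CharOrtho

/-!
# Project IP26 (helper58): module [F1] (helper36, hedge)
-/

set_option autoImplicit false
set_option linter.style.haveILetI false

namespace Cfsg.Agent.Lib.Helper58.IP26

open Cfsg Cfsg.Agent.Lib
open scoped commutatorElement ComplexConjugate

universe u

variable {G : Type u} [Group G] [Finite G] {b : ℕ}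

/-- the sum of `|θ|²` over a finite group, for an irreducible character -/
theorem sum_mul_conj_of_irr {K : Type u} [Group K] [Fintype K] {θ : K → ℂ} (hθ : IsIrrCharacter K θ) :
    ∑ k : K, θ k * conj (θ k) = (Nat.card K : ℂ) := by
  have h1 := Helper78.classInner_irr_self hθ
  unfold classInner at h1
  have hK : (Nat.card K : ℂ) ≠ 0 := by
    have : Nat.card K ≠ 0 := Nat.card_pos.ne'
    exact_mod_cast this
  field_simp at h1
  exact h1

/-- IP26-[F1]: in a counterexample every subgroup of index `≤ b` is normal with abelian quotient. -/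
theorem CE.normal_of_index_le (hb : IsMaxDeg G b) (hCE : CE G b) (H : Subgroup G)
    (hH : H.index ≤ b) : H.Normal ∧ commutator G ≤ H := by
  classical
  letI : Fintype G := Fintype.ofFinite G
  letI : Fintype H := Fintype.ofFinite H
  have hbpos : 0 < b := by
    obtain ⟨χ, hχ⟩ := hb.exists
    rw [← hχ]
    exact Helper80.charDegree_pos_of_isIrr χ.2
  have hbsq : b ≤ b ^ 2 := by nlinarith
  have hnormal : H.Normal := by
    by_contra hnn
    have : ∃ h₀ ∈ H, ∃ g : G, g * h₀ * g⁻¹ ∉ H := by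
      by_contra hcon
      push Not at hcon
      exact hnn ⟨fun n hn g => hcon n hn g⟩
    obtain ⟨h₀, hh₀, g, hg⟩ := this
    -- the subgroup `D = H ⊓ g⁻¹ H g`
    let C : Subgroup G := H.comap (MulAut.conj g).toMonoidHom
    have hCmem : ∀ y, y ∈ C ↔ g * y * g⁻¹ ∈ H := fun y => Iff.rfl
    have hCidx : C.index = H.index :=
      Subgroup.index_comap_of_surjective H (MulAut.conj g).surjective
    have hDidx : (H ⊓ C).index ≤ b ^ 2 := by
      calc (H ⊓ C).index ≤ H.index * C.index := Subgroup.index_inf_le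
        _ = H.index * H.index := by rw [hCidx]
        _ ≤ b * b := Nat.mul_le_mul hH hH
        _ = b ^ 2 := (sq b).symm
    obtain ⟨ψ, hψ⟩ := hCE (H ⊓ C) hDidx
    -- transport to a subgroup of `H`
    let e : (H ⊓ C).subgroupOf H ≃* (H ⊓ C : Subgroup G) :=
      Subgroup.subgroupOfEquivOfLe inf_le_left
    have hψ' : IsIrrCharacter ((H ⊓ C).subgroupOf H) ((ψ : (H ⊓ C : Subgroup G) → ℂ) ∘ e) :=
      Helper81.isIrrCharacter_comp_mulEquiv ψ.2 e
    have hdeg' : charDegree ((ψ : (H ⊓ C : Subgroup G) → ℂ) ∘ e) = b := by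
      rw [← hψ]
      unfold charDegree
      rw [Function.comp_apply, map_one]
    obtain ⟨θ, hθ1, hθ2⟩ := exists_over (G := H) ((H ⊓ C).subgroupOf H) ⟨_, hψ'⟩
    have hθb : charDegree (θ : H → ℂ) = b :=
      le_antisymm (degree_le_of_subgroup hb H θ) (hdeg' ▸ hθ1)
    have hres : ∀ d : (H ⊓ C).subgroupOf H, (θ : H → ℂ) (d : H) =
        ((ψ : (H ⊓ C : Subgroup G) → ℂ) ∘ e) d := hθ2 (by rw [hθb]; exact hdeg')
    -- `θ` vanishes off `D`
    have hvan : ∀ h : H, h ∉ (H ⊓ C).subgroupOf H → (θ : H → ℂ) h = 0 := by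
      intro h hh
      apply vanish_off_core hb H θ hθb h g
      intro hcon
      apply hh
      rw [Subgroup.mem_subgroupOf]
      exact ⟨h.2, (hCmem _).mpr hcon⟩
    letI instD : Fintype ((H ⊓ C).subgroupOf H) := Fintype.ofFinite _
    have hsumH := sum_mul_conj_of_irr θ.2
    have hsumD := sum_mul_conj_of_irr hψ'
    have hsplit : ∑ h : H, (θ : H → ℂ) h * conj ((θ : H → ℂ) h) =
        ∑ d : (H ⊓ C).subgroupOf H, (((ψ : (H ⊓ C : Subgroup G) → ℂ) ∘ e) d) *
          conj ((((ψ : (H ⊓ C : Subgroup G) → ℂ) ∘ e) d)) := by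
      have h1 : ∑ h : H, (θ : H → ℂ) h * conj ((θ : H → ℂ) h) =
          ∑ h ∈ Finset.univ.filter (fun h : H => h ∈ (H ⊓ C).subgroupOf H),
            (θ : H → ℂ) h * conj ((θ : H → ℂ) h) := by
        rw [Finset.sum_filter]
        apply Finset.sum_congr rfl
        intro h _
        split_ifs with hh
        · rfl
        · rw [hvan h hh, zero_mul]
      have h2 := Finset.sum_subtype (F := instD)
        (Finset.univ.filter (fun h : H => h ∈ (H ⊓ C).subgroupOf H))
        (p := fun h : H => h ∈ (H ⊓ C).subgroupOf H) (by simp)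
        (fun h : H => (θ : H → ℂ) h * conj ((θ : H → ℂ) h))
      rw [h1, h2]
      refine Finset.sum_congr rfl (fun d _ => ?_)
      rw [hres d]
    have hcard : (Nat.card H : ℂ) = (Nat.card ((H ⊓ C).subgroupOf H) : ℂ) := by
      rw [← hsumH, hsplit, hsumD]
    have hcard' : Nat.card ((H ⊓ C).subgroupOf H) = Nat.card H := by exact_mod_cast hcard.symm
    have htop : (H ⊓ C).subgroupOf H = ⊤ := (Subgroup.card_eq_iff_eq_top _).mp hcard'
    have hmem : (⟨h₀, hh₀⟩ : H) ∈ (H ⊓ C).subgroupOf H := by rw [htop]; trivial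
    rw [Subgroup.mem_subgroupOf] at hmem
    exact hg ((hCmem _).mp hmem.2)
  refine ⟨hnormal, ?_⟩
  obtain ⟨ψ, hψ⟩ := hCE H (hH.trans hbsq)
  exact commutator_le_of_maxDeg hb H ψ hψ

end Cfsg.Agent.Lib.Helper58.IP26
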