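import Mathlib
import Cfsg.Agent.Lib.Helper58.IP26.Defs
import Cfsg.Agent.Lib.Helper80.ItoMichler
import Cfsg.Agent.Lib.Helper80.TwoDeg

/-!
# Project IP26 (helper58): module [F2] in `_of` form (helper36)
-/

set_option autoImplicit false
set_option linter.style.haveILetI false

namespace Cfsg.Agent.Lib.Helper58.IP26

open Cfsg Cfsg.Agent.Lib
open scoped commutatorElement

universe u

variable {G : Type u} [Group G] [Finite G] {b : ℕ}

/-- IP26-[F2], with the statements of [VAN] and [F1] as hypotheses. -/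
theorem CE.mem_centralizer_commutator_of (hb : IsMaxDeg G b) (hCE : CE G b)
    (hVAN : ∀ (H : Subgroup G) (ψ : IrrCharacter H), charDegree (ψ : H → ℂ) = b →
      ∀ (h : H) (x : G), x * (h : G) * x⁻¹ ∉ H → (ψ : H → ℂ) h = 0)
    (hF1 : ∀ H : Subgroup G, H.index ≤ b → H.Normal ∧ commutator G ≤ H)
    (x : G) (hx : (Subgroup.centralizer ({x} : Set G)).index ≤ b ^ 2) :
    x ∈ Subgroup.centralizer (commutator G : Set G) := by
  classical
  letI : Fintype G := Fintype.ofFinite G
  obtain ⟨ψ, hψ⟩ := hCE (Subgroup.centralizer ({x} : Set G)) hx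
  letI : Fintype (Subgroup.centralizer ({x} : Set G)) := Fintype.ofFinite _
  have hxH : x ∈ Subgroup.centralizer ({x} : Set G) :=
    Subgroup.mem_centralizer_iff.mpr (fun h hh => by rw [Set.mem_singleton_iff.mp hh])
  have hz : (⟨x, hxH⟩ : Subgroup.centralizer ({x} : Set G)) ∈
      Subgroup.center (Subgroup.centralizer ({x} : Set G)) := by
    rw [Subgroup.mem_center_iff]
    intro g
    apply Subtype.ext
    exact (Subgroup.mem_centralizer_iff.mp g.2 x rfl).symm
  have hψx : (ψ : Subgroup.centralizer ({x} : Set G) → ℂ) ⟨x, hxH⟩ ≠ 0 :=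
    Helper80.irr_apply_ne_zero_of_mem_center ψ hz
  have hconj : ∀ g : G, g * x * g⁻¹ ∈ Subgroup.centralizer ({x} : Set G) := by
    intro g
    by_contra hcon
    exact hψx (hVAN _ ψ hψ ⟨x, hxH⟩ g hcon)
  -- the conjugates of `x` commute pairwise
  have hcc : ∀ g h : G, (g * x * g⁻¹) * (h * x * h⁻¹) = (h * x * h⁻¹) * (g * x * g⁻¹) := by
    intro g h
    have h1 := Subgroup.mem_centralizer_iff.mp (hconj (h⁻¹ * g)) x rfl
    calc (g * x * g⁻¹) * (h * x * h⁻¹)
        = h * ((h⁻¹ * g * x * (h⁻¹ * g)⁻¹) * x) * h⁻¹ := by group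
      _ = h * (x * (h⁻¹ * g * x * (h⁻¹ * g)⁻¹)) * h⁻¹ := by rw [h1]
      _ = (h * x * h⁻¹) * (g * x * g⁻¹) := by group
  have hS : ∀ s ∈ Group.conjugatesOfSet ({x} : Set G), ∀ t ∈ Group.conjugatesOfSet ({x} : Set G),
      s * t = t * s := by
    intro s hs t ht
    rw [Group.mem_conjugatesOfSet_iff] at hs ht
    obtain ⟨s', hs', hs⟩ := hs
    obtain ⟨t', ht', ht⟩ := ht
    rw [Set.mem_singleton_iff] at hs' ht'
    subst hs' ht'
    obtain ⟨g, rfl⟩ := isConj_iff.mp hs
    obtain ⟨h, rfl⟩ := isConj_iff.mp ht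
    exact hcc g h
  have hX1 : Subgroup.normalClosure ({x} : Set G) ≤
      Subgroup.centralizer (Group.conjugatesOfSet ({x} : Set G)) := by
    unfold Subgroup.normalClosure
    rw [Subgroup.closure_le]
    intro s hs
    exact Subgroup.mem_centralizer_iff.mpr (fun t ht => hS t ht s hs)
  have hX2 : Subgroup.normalClosure ({x} : Set G) ≤
      Subgroup.centralizer (Subgroup.normalClosure ({x} : Set G) : Set G) := by
    conv_lhs => unfold Subgroup.normalClosure
    rw [Subgroup.closure_le]
    intro s hs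
    refine Subgroup.mem_centralizer_iff.mpr (fun y hy => ?_)
    exact (Subgroup.mem_centralizer_iff.mp (hX1 hy) s hs).symm
  have hXcomm : ∀ a c : Subgroup.normalClosure ({x} : Set G), a * c = c * a := by
    intro a c
    apply Subtype.ext
    exact (Subgroup.mem_centralizer_iff.mp (hX2 a.2) c c.2).symm
  letI : Fintype (Subgroup.normalClosure ({x} : Set G)) := Fintype.ofFinite _
  have hlin : ∀ θ : IrrCharacter (Subgroup.normalClosure ({x} : Set G)),
      charDegree (θ : Subgroup.normalClosure ({x} : Set G) → ℂ) = 1 :=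
    Helper80.charDegree_eq_one_of_comm hXcomm
  have hstab : ∀ lam : Subgroup.normalClosure ({x} : Set G) →* ℂˣ,
      commutator G ≤ Helper80.stab (Subgroup.normalClosure ({x} : Set G)) lam := by
    intro lam
    have hirr := Helper77.isIrrCharacter_of_monoidHom lam
    obtain ⟨χ, hχ, hne⟩ := Helper80.exists_irr_over' (Subgroup.normalClosure ({x} : Set G)) hirr
    have hdvd := Helper80.index_inertia_dvd_charDegree (Subgroup.normalClosure ({x} : Set G)) hχ hirr hne
    have hle : (Helper80.stab (Subgroup.normalClosure ({x} : Set G)) lam).index ≤ b :=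
      (Nat.le_of_dvd (Helper80.charDegree_pos_of_isIrr hχ) hdvd).trans (hb.le ⟨χ, hχ⟩)
    exact (hF1 _ hle).2
  rw [Subgroup.mem_centralizer_iff]
  intro g hg
  have hgX := Helper80.mem_centralizer_of_forall_mem_stab (Subgroup.normalClosure ({x} : Set G)) hlin g
    (fun lam => hstab lam hg)
  exact (Subgroup.mem_centralizer_iff.mp hgX x (Subgroup.subset_normalClosure rfl)).symm

end Cfsg.Agent.Lib.Helper58.IP26
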