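import Mathlib
import Cfsg.Agent.Lib.Helper58.IP26.Defs
import Cfsg.Agent.Lib.Helper36.IP26F1
import Cfsg.Agent.Lib.Helper36.IP26F2
import Cfsg.Agent.Lib.Helper84.IP26Van

/-!
# Project IP26 (helper58): module [F2], exact skeleton statement (helper36)
-/

set_option autoImplicit false

namespace Cfsg.Agent.Lib.Helper58.IP26

open Cfsg
open scoped commutatorElement

universe u

variable {G : Type u} [Group G] [Finite G] {b : ℕ}

/-- IP26-[F2]: in a counterexample every element with at most `b²` conjugates centralizes `G'`. -/
theorem CE.mem_centralizer_commutator (hb : IsMaxDeg G b) (hCE : CE G b) (x : G)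
    (hx : (Subgroup.centralizer ({x} : Set G)).index ≤ b ^ 2) :
    x ∈ Subgroup.centralizer (commutator G : Set G) :=
  CE.mem_centralizer_commutator_of hb hCE
    (fun H ψ hψ h y hy => vanish_off_core hb H ψ hψ h y hy)
    (fun H hH => CE.normal_of_index_le hb hCE H hH) x hx

end Cfsg.Agent.Lib.Helper58.IP26
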