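import Mathlib
import Cfsg.Agent.Lib.Helper58.IP26.Defs
import Cfsg.Agent.Lib.Helper36.IP26Ext
import Cfsg.Agent.Lib.Helper19.IP26Fin
import Cfsg.Agent.Lib.Helper71.IP26Count
import Cfsg.Agent.Lib.Helper78.IP26Beta
import Cfsg.Agent.Lib.Helper78.IP26Perf
import Cfsg.Agent.Lib.Helper78.IP26Solv
import Cfsg.Agent.Lib.Helper75.Taketa
import Cfsg.Agent.Lib.Helper80.ItoMichler

/-!
# Project IP26 (helper58): modules [FIN] (wrapper) and [MAIN] (helper36, hedge; own names)
-/

set_option autoImplicit false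
set_option linter.style.haveILetI false

namespace Cfsg.Agent.Lib.Helper36.IP26

open Cfsg Cfsg.Agent.Lib Cfsg.Agent.Lib.Helper58.IP26
open scoped commutatorElement

universe u

/-- [FIN], exact skeleton statement, own name: helper19's `_of` form fed with [COUNT] (helper71),
[BETA] and [PERF] (helper78). -/
theorem hasAbelian_of_perfect_h36 {G : Type u} [Group G] [Finite G] {b : ℕ}
    (hb : IsMaxDeg G b) (h2 : 2 ≤ b) (hCE : CE G b)
    (hperf : ⁅commutator G, commutator G⁆ = commutator G)
    (IH : ∀ (H : Subgroup G) (b' : ℕ), b' < b → IsMaxDeg H b' → HasAbelian H b') :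
    HasAbelian G b :=
  Helper19.IP26.hasAbelian_of_perfect_of hperf (Helper71.IP26Count.CE.card_le hb hCE)
    (fun hP η => two_mul_degree_le_of_perfect hb (commutator G) hperf hP η)
    (fun hP => three_le_of_perfect hb (commutator G) hperf hP) IH

/-- every finite group has a largest irreducible character degree, bounded by any bound on the degrees -/
theorem exists_isMaxDeg_le_h36 (H : Type u) [Group H] [Finite H] (B : ℕ)
    (hB : ∀ ψ : IrrCharacter H, charDegree (ψ : H → ℂ) ≤ B) : ∃ b', IsMaxDeg H b' ∧ b' ≤ B := by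
  have h1 : {d : ℕ | ∃ χ : IrrCharacter H, charDegree (χ : H → ℂ) = d}.Nonempty :=
    ⟨_, Helper75.trivIrr H, rfl⟩
  have h2 : BddAbove {d : ℕ | ∃ χ : IrrCharacter H, charDegree (χ : H → ℂ) = d} := by
    refine ⟨B, ?_⟩
    rintro d ⟨χ, rfl⟩
    exact hB χ
  refine ⟨sSup {d : ℕ | ∃ χ : IrrCharacter H, charDegree (χ : H → ℂ) = d},
    ⟨Nat.sSup_mem h1 h2, fun x hx => le_csSup h2 hx⟩, ?_⟩
  obtain ⟨χ, hχ⟩ := Nat.sSup_mem h1 h2
  rw [← hχ]
  exact hB χ

/-- IP26-[MAIN]: Isaacs 12.26 (own name). -/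
theorem main_h36 (b : ℕ) : ∀ (G : Type u) [Group G] [Finite G], IsMaxDeg G b → HasAbelian G b := by
  induction b using Nat.strong_induction_on with
  | _ b IH =>
  intro G _ _ hb
  classical
  have hbpos : 0 < b := by
    obtain ⟨χ, hχ⟩ := hb.exists
    rw [← hχ]
    exact Helper80.charDegree_pos_of_isIrr χ.2
  rcases Nat.lt_or_ge b 2 with hb1 | hb2
  · -- `b = 1`: the group is abelian
    have hb1' : b = 1 := by omega
    subst hb1'
    letI : Fintype G := Fintype.ofFinite G
    have hlin : ∀ χ : IrrCharacter G, charDegree (χ : G → ℂ) = 1 := by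
      intro χ
      have h1 := hb.le χ
      have h2 : 0 < charDegree (χ : G → ℂ) := Helper80.charDegree_pos_of_isIrr χ.2
      omega
    have hcomm := Helper80.commutative_of_forall_charDegree_eq_one hlin
    refine ⟨⊤, fun x _ y _ => hcomm x y, ?_⟩
    rw [Subgroup.index_top]
    simp
  · by_cases hCE : CE G b
    · exact hasAbelian_of_perfect_h36 hb hb2 hCE (hCE.commutator_perfect hb hb2)
        (fun H b' hb' hH => IH b' hb' H hH)
    · unfold CE at hCE
      push Not at hCE
      obtain ⟨H, hHidx, hH⟩ := hCE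
      obtain ⟨b', hb', hb'le⟩ := exists_isMaxDeg_le_h36 H b (fun ψ => degree_le_of_subgroup hb H ψ)
      have hb'lt : b' < b := by
        obtain ⟨ψ, hψ⟩ := hb'.exists
        have := hH ψ
        omega
      obtain ⟨A, hA, hAidx⟩ := IH b' hb'lt H hb'
      refine ⟨A.map H.subtype, ?_, ?_⟩
      · rintro _ ⟨x, hx, rfl⟩ _ ⟨y, hy, rfl⟩
        have := hA x hx y hy
        exact congrArg Subtype.val this
      · rw [Subgroup.index_map_subtype]
        have hfac : b.factorial = b * (b - 1).factorial := by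
          obtain ⟨k, rfl⟩ : ∃ k, b = k + 1 := ⟨b - 1, by omega⟩
          simp [Nat.factorial_succ]
        have hmono : b'.factorial ≤ (b - 1).factorial := Nat.factorial_le (by omega)
        calc A.index * H.index ≤ b'.factorial ^ 2 * b ^ 2 := Nat.mul_le_mul hAidx hHidx
          _ ≤ (b - 1).factorial ^ 2 * b ^ 2 :=
            Nat.mul_le_mul_right _ (Nat.pow_le_pow_left hmono 2)
          _ = b.factorial ^ 2 := by rw [hfac]; ring

end Cfsg.Agent.Lib.Helper36.IP26
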