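import Mathlib
import Cfsg.Agent.Lib.Helper36.AutO.Model

set_option autoImplicit false
set_option linter.unusedSimpArgs false
set_option linter.unusedVariables false
set_option linter.unusedSectionVars false

/-!
# Project LIE2 (S4625), abstract part for the orthogonal groups in characteristic 2

For a model `M : OModel Q Γ` of `Ω(Q)` over a finite field of characteristic 2 and a hyperbolic
system `e f : Fin k → V` we construct a 2-subgroup of `Γ`, generated by involutions (Eichler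
transformations), of order at least `|F|^(k * dim V - k (k+1))`.
-/

namespace Cfsg.Agent.Lib.Helper36.Lie2O

open Cfsg.Agent.Lib.Helper13 hiding isoGroup mem_isoGroup
open Cfsg.Agent.Lib.Helper36 Cfsg.Agent.Lib.Helper36.AutO Cfsg.Agent.Lib.Helper44 Module

section
variable {F V : Type*} [Field F] [AddCommGroup V] [Module F V]

local notation "pol" => QuadraticMap.polar

variable {Q : QuadraticForm F V} {Γ : Type*} [Group Γ] (M : OModel Q Γ)

/-- stabiliser of a subspace -/
def stabG (B : Submodule F V) : Subgroup Γ where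
  carrier := {x | ∀ z, M.ρ x z ∈ B ↔ z ∈ B}
  one_mem' := fun z => by rw [M.one_apply]
  mul_mem' := fun {x y} hx hy z => by rw [M.mul_apply, hx, hy]
  inv_mem' := fun {x} hx z => by rw [← hx, M.inv_apply]

theorem mem_stabG (B : Submodule F V) (x : Γ) :
    x ∈ stabG M B ↔ ∀ z, M.ρ x z ∈ B ↔ z ∈ B := Iff.rfl

/-- fixer of a vector -/
def fixG (z : V) : Subgroup Γ where
  carrier := {x | M.ρ x z = z}
  one_mem' := M.one_apply z
  mul_mem' := fun {x y} hx hy => by
    show M.ρ (x * y) z = z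
    rw [M.mul_apply, hy, hx]
  inv_mem' := fun {x} hx => by
    show M.ρ x⁻¹ z = z
    have := M.inv_apply' x z
    rw [hx] at this
    exact this

theorem mem_fixG (z : V) (x : Γ) : x ∈ fixG M z ↔ M.ρ x z = z := Iff.rfl

/-- the perp of a pair of vectors -/
def perp2 (Q : QuadraticForm F V) (e f : V) : Submodule F V :=
  LinearMap.ker (QuadraticMap.polarBilin Q e) ⊓ LinearMap.ker (QuadraticMap.polarBilin Q f)

theorem mem_perp2 (e f z : V) : z ∈ perp2 Q e f ↔ pol (⇑Q) e z = 0 ∧ pol (⇑Q) f z = 0 := by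
  rw [perp2, Submodule.mem_inf, LinearMap.mem_ker, LinearMap.mem_ker]
  rfl

/-- the root group `{E(e,w) : w ∈ A}` -/
def rootG (e : V) (A : Submodule F V) (he : Q e = 0) (hA : ∀ w ∈ A, pol (⇑Q) e w = 0) :
    Subgroup Γ where
  carrier := {x | ∃ w ∈ A, x = M.E e w}
  one_mem' := ⟨0, A.zero_mem, (M.E_zero e he).symm⟩
  mul_mem' := by
    rintro _ _ ⟨w₁, h₁, rfl⟩ ⟨w₂, h₂, rfl⟩
    exact ⟨w₁ + w₂, A.add_mem h₁ h₂, (M.E_add e w₁ w₂ he (hA _ h₁) (hA _ h₂)).symm⟩
  inv_mem' := by
    rintro _ ⟨w, h, rfl⟩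
    exact ⟨-w, A.neg_mem h, (M.E_neg e w he (hA _ h)).symm⟩

theorem mem_rootG (e : V) (A : Submodule F V) (he : Q e = 0) (hA : ∀ w ∈ A, pol (⇑Q) e w = 0)
    (x : Γ) : x ∈ rootG M e A he hA ↔ ∃ w ∈ A, x = M.E e w := Iff.rfl

theorem E_fix (e w z : V) (he : Q e = 0) (hew : pol (⇑Q) e w = 0) (hez : pol (⇑Q) e z = 0)
    (hwz : pol (⇑Q) w z = 0) : M.ρ (M.E e w) z = z := by
  rw [M.E_apply e w he hew, siegelLin_apply, hez, hwz]
  simp

theorem E_stab (B : Submodule F V) (e w z : V) (he : Q e = 0) (hew : pol (⇑Q) e w = 0)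
    (heB : e ∈ B) (hwB : w ∈ B) (hz : z ∈ B) : M.ρ (M.E e w) z ∈ B := by
  rw [M.E_apply e w he hew, siegelLin_apply]
  exact B.sub_mem (B.add_mem hz (B.smul_mem _ heB)) (B.smul_mem _ hwB)

theorem E_mem_stabG (B : Submodule F V) (e w : V) (he : Q e = 0) (hew : pol (⇑Q) e w = 0)
    (heB : e ∈ B) (hwB : w ∈ B) : M.E e w ∈ stabG M B := by
  intro z
  constructor
  · intro h
    have h2 := E_stab M B e (-w) _ he
      (by rw [QuadraticMap.polar_neg_right, hew, neg_zero]) heB (B.neg_mem hwB) h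
    rw [M.E_neg e w he hew, M.inv_apply'] at h2
    exact h2
  · exact E_stab M B e w z he hew heB hwB

theorem E_inj (e f w w' : V) (he : Q e = 0) (hef : pol (⇑Q) e f = 1)
    (hew : pol (⇑Q) e w = 0) (hew' : pol (⇑Q) e w' = 0)
    (hfw : pol (⇑Q) f w = 0) (hfw' : pol (⇑Q) f w' = 0)
    (h : M.ρ (M.E e w) f = M.ρ (M.E e w') f) : w = w' := by
  rw [M.E_apply e w he hew, M.E_apply e w' he hew', siegelLin_apply, siegelLin_apply, hef,
    QuadraticMap.polar_comm (⇑Q) w f, QuadraticMap.polar_comm (⇑Q) w' f, hfw, hfw'] at h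
  simp only [mul_one, zero_sub, one_smul, neg_smul] at h
  -- h : f + -(Q w • e) - w = f + -(Q w' • e) - w'
  have hfe : pol (⇑Q) f e = 1 := by rw [QuadraticMap.polar_comm]; exact hef
  have h1 : Q w • e + w = Q w' • e + w' := by
    have h2 : f - (Q w • e + w) = f - (Q w' • e + w') := by
      rw [sub_add_eq_sub_sub, sub_add_eq_sub_sub, sub_eq_add_neg f, sub_eq_add_neg f]
      exact h
    exact sub_right_injective h2
  have h3 := congrArg (pol (⇑Q) f) h1
  rw [QuadraticMap.polar_add_right, QuadraticMap.polar_add_right, QuadraticMap.polar_smul_right,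
    QuadraticMap.polar_smul_right, hfe, hfw, hfw'] at h3
  simp only [smul_eq_mul, mul_one, add_zero] at h3
  rw [h3] at h1
  exact add_left_cancel h1

theorem le_normalizer_of_conj' {G : Type*} [Group G] (P N : Subgroup G)
    (h : ∀ s ∈ P, ∀ g ∈ N, s * g * s⁻¹ ∈ N) : P ≤ Subgroup.normalizer (N : Set G) := by
  intro s hs
  rw [Subgroup.mem_normalizer_iff]
  intro g
  constructor
  · exact h s hs g
  · intro hg
    have := h s⁻¹ (P.inv_mem hs) _ hg
    rw [inv_inv] at this
    have e : s⁻¹ * (s * g * s⁻¹) * s = g := by group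
    rwa [e] at this

/-- one step: adjoin the root group at `e` over `A` to a group fixing `e`, `f` and stabilising `A` -/
theorem step [Finite Γ] [CharP F 2] (e f : V) (he : Q e = 0) (hef : pol (⇑Q) e f = 1)
    (A : Submodule F V) (hAe : ∀ w ∈ A, pol (⇑Q) e w = 0) (hAf : ∀ w ∈ A, pol (⇑Q) f w = 0)
    (S' : Set Γ) (hS' : ∀ s ∈ S', s ^ 2 = 1) (hP : IsPGroup 2 (Subgroup.closure S'))
    (hfe : Subgroup.closure S' ≤ fixG M e) (hff : Subgroup.closure S' ≤ fixG M f)
    (hst : Subgroup.closure S' ≤ stabG M A) :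
    (∀ s ∈ {x | ∃ w ∈ A, x = M.E e w} ∪ S', s ^ 2 = 1) ∧
    IsPGroup 2 (Subgroup.closure ({x | ∃ w ∈ A, x = M.E e w} ∪ S')) ∧
    Nat.card A * Nat.card (Subgroup.closure S') ≤
      Nat.card (Subgroup.closure ({x | ∃ w ∈ A, x = M.E e w} ∪ S')) := by
  have hcl : Subgroup.closure ({x | ∃ w ∈ A, x = M.E e w} ∪ S') =
      rootG M e A he hAe ⊔ Subgroup.closure S' := by
    rw [Subgroup.closure_union]
    congr 1
    exact Subgroup.closure_eq (rootG M e A he hAe)
  refine ⟨?_, ?_, ?_⟩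
  · rintro s (⟨w, hw, rfl⟩ | hs)
    · exact M.E_pow_char e w he (hAe w hw) 2
    · exact hS' s hs
  · rw [hcl]
    have hR : IsPGroup 2 (rootG M e A he hAe) := by
      rintro ⟨x, w, hw, rfl⟩
      refine ⟨1, ?_⟩
      apply Subtype.ext
      rw [pow_one]
      exact M.E_pow_char e w he (hAe w hw) 2
    refine IsPGroup.to_sup_of_normal_left' hR hP ?_
    apply le_normalizer_of_conj'
    rintro s hs _ ⟨w, hw, rfl⟩
    refine ⟨M.ρ s w, ((hst hs) w).2 hw, ?_⟩
    rw [M.conj_E s e w he (hAe w hw), (hfe hs : M.ρ s e = e)]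
  · rw [hcl]
    rw [← Nat.card_prod]
    let φ : ↥A × ↥(Subgroup.closure S') → ↥(rootG M e A he hAe ⊔ Subgroup.closure S') :=
      fun p => ⟨M.E e (p.1 : V) * (p.2 : Γ), Subgroup.mul_mem _
        (Subgroup.mem_sup_left ⟨p.1, p.1.2, rfl⟩) (Subgroup.mem_sup_right p.2.2)⟩
    apply Nat.card_le_card_of_injective φ
    rintro ⟨⟨w, hw⟩, ⟨h, hh⟩⟩ ⟨⟨w', hw'⟩, ⟨h', hh'⟩⟩ heq
    have h0 : M.E e w * h = M.E e w' * h' := congrArg Subtype.val heq
    have h1 := congrArg (fun x => M.ρ x f) h0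
    simp only [M.mul_apply] at h1
    rw [(hff hh : M.ρ h f = f), (hff hh' : M.ρ h' f = f)] at h1
    have hww : w = w' := E_inj M e f w w' he hef (hAe w hw) (hAe w' hw') (hAf w hw) (hAf w' hw') h1
    subst hww
    have hh2 : h = h' := mul_left_cancel h0
    subst hh2
    rfl

/-- decomposition along a hyperbolic pair -/
theorem hyp_decomp' (e f z : V) (he : Q e = 0) (hf : Q f = 0) (hef : pol (⇑Q) e f = 1) :
    pol (⇑Q) e (z - pol (⇑Q) f z • e - pol (⇑Q) e z • f) = 0 ∧
    pol (⇑Q) f (z - pol (⇑Q) f z • e - pol (⇑Q) e z • f) = 0 := by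
  have hfe : pol (⇑Q) f e = 1 := by rw [QuadraticMap.polar_comm]; exact hef
  constructor
  · rw [QuadraticMap.polar_sub_right, QuadraticMap.polar_sub_right, QuadraticMap.polar_smul_right,
      QuadraticMap.polar_smul_right, pol_self_of_sing Q e he, hef]
    simp
  · rw [QuadraticMap.polar_sub_right, QuadraticMap.polar_sub_right, QuadraticMap.polar_smul_right,
      QuadraticMap.polar_smul_right, pol_self_of_sing Q f hf, hfe]
    simp

/-- `|B| ≤ |B ∩ {e,f}^⊥| * q^2` -/
theorem card_le_perp [Finite F] [FiniteDimensional F V] (e f : V) (he : Q e = 0) (hf : Q f = 0)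
    (hef : pol (⇑Q) e f = 1) (B : Submodule F V) (heB : e ∈ B) (hfB : f ∈ B) :
    Nat.card B ≤ Nat.card ↥(B ⊓ perp2 Q e f) * Nat.card F ^ 2 := by
  have : Finite V := Module.finite_of_finite F
  have hc : Nat.card (↥(B ⊓ perp2 Q e f) × F × F) =
      Nat.card ↥(B ⊓ perp2 Q e f) * Nat.card F ^ 2 := by
    rw [Nat.card_prod, Nat.card_prod, sq]
  rw [← hc]
  let φ : ↥B → ↥(B ⊓ perp2 Q e f) × F × F := fun z =>
    (⟨(z : V) - pol (⇑Q) f z • e - pol (⇑Q) e z • f,
      ⟨B.sub_mem (B.sub_mem z.2 (B.smul_mem _ heB)) (B.smul_mem _ hfB),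
        (mem_perp2 e f _).2 (hyp_decomp' e f z he hf hef)⟩⟩, pol (⇑Q) f z, pol (⇑Q) e z)
  apply Nat.card_le_card_of_injective φ
  intro z z' h
  have h1 : (z : V) - pol (⇑Q) f z • e - pol (⇑Q) e z • f =
      (z' : V) - pol (⇑Q) f z' • e - pol (⇑Q) e z' • f := congrArg (fun t => (t.1 : V)) h
  have h2 : pol (⇑Q) f z = pol (⇑Q) f z' := congrArg (fun t => t.2.1) h
  have h3 : pol (⇑Q) e z = pol (⇑Q) e z' := congrArg (fun t => t.2.2) h
  rw [h2, h3] at h1
  apply Subtype.ext
  exact sub_left_injective (sub_left_injective h1)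

/-- A hyperbolic system. -/
structure HypSys (Q : QuadraticForm F V) (k : ℕ) (e f : Fin k → V) : Prop where
  he : ∀ i, Q (e i) = 0
  hf : ∀ i, Q (f i) = 0
  hee : ∀ i j, pol (⇑Q) (e i) (e j) = 0
  hff : ∀ i j, pol (⇑Q) (f i) (f j) = 0
  hef : ∀ i j, pol (⇑Q) (e i) (f j) = if i = j then 1 else 0

theorem HypSys.tail {k : ℕ} {e f : Fin (k + 1) → V} (h : HypSys Q (k + 1) e f) :
    HypSys Q k (fun i => e i.succ) (fun i => f i.succ) where
  he := fun i => h.he _
  hf := fun i => h.hf _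
  hee := fun i j => h.hee _ _
  hff := fun i j => h.hff _ _
  hef := fun i j => by
    rw [h.hef]
    simp [Fin.succ_inj]

/-- the main induction -/
theorem flag_aux [Finite Γ] [Finite F] [FiniteDimensional F V] [CharP F 2] (k : ℕ) :
    ∀ (e f : Fin k → V), HypSys Q k e f → ∀ (B : Submodule F V), (∀ i, e i ∈ B) → (∀ i, f i ∈ B) →
    ∃ S : Set Γ, (∀ s ∈ S, s ^ 2 = 1) ∧ IsPGroup 2 (Subgroup.closure S) ∧
      (∀ z : V, (∀ b ∈ B, pol (⇑Q) z b = 0) → Subgroup.closure S ≤ fixG M z) ∧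
      Subgroup.closure S ≤ stabG M B ∧
      Nat.card B ^ k ≤ Nat.card (Subgroup.closure S) * Nat.card F ^ (k * (k + 1)) := by
  induction k with
  | zero =>
    intro e f _ B _ _
    refine ⟨∅, fun s hs => absurd hs (Set.notMem_empty s), ?_, ?_, ?_, ?_⟩
    · rw [Subgroup.closure_empty]; exact IsPGroup.of_bot
    · intro z _; rw [Subgroup.closure_empty]; exact bot_le
    · rw [Subgroup.closure_empty]; exact bot_le
    · rw [Subgroup.closure_empty]; simp
  | succ k ih =>
    intro e f h B heB hfB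
    have : Finite V := Module.finite_of_finite F
    set e0 := e 0 with he0
    set f0 := f 0 with hf0
    have hQe : Q e0 = 0 := h.he 0
    have hQf : Q f0 = 0 := h.hf 0
    have hef0 : pol (⇑Q) e0 f0 = 1 := by rw [h.hef]; simp
    set A : Submodule F V := B ⊓ perp2 Q e0 f0 with hA
    have hAe : ∀ w ∈ A, pol (⇑Q) e0 w = 0 := fun w hw => ((mem_perp2 e0 f0 w).1 hw.2).1
    have hAf : ∀ w ∈ A, pol (⇑Q) f0 w = 0 := fun w hw => ((mem_perp2 e0 f0 w).1 hw.2).2
    have hAB : A ≤ B := inf_le_left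
    -- the tail system lies in A
    have heA : ∀ i : Fin k, e i.succ ∈ A := fun i => by
      refine ⟨heB _, (mem_perp2 e0 f0 _).2 ⟨h.hee _ _, ?_⟩⟩
      rw [QuadraticMap.polar_comm, h.hef]
      simp [Fin.succ_ne_zero]
    have hfA : ∀ i : Fin k, f i.succ ∈ A := fun i => by
      refine ⟨hfB _, (mem_perp2 e0 f0 _).2 ⟨?_, h.hff _ _⟩⟩
      rw [h.hef]
      simp [(Fin.succ_ne_zero i).symm]
    obtain ⟨S', hS'2, hS'P, hS'fix, hS'st, hS'card⟩ := ih _ _ h.tail A heA hfA
    have hfe : Subgroup.closure S' ≤ fixG M e0 := hS'fix e0 hAe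
    have hff : Subgroup.closure S' ≤ fixG M f0 := hS'fix f0 hAf
    obtain ⟨h1, h2, h3⟩ := step M e0 f0 hQe hef0 A hAe hAf S' hS'2 hS'P hfe hff hS'st
    refine ⟨{x | ∃ w ∈ A, x = M.E e0 w} ∪ S', h1, h2, ?_, ?_, ?_⟩
    · intro z hz
      rw [Subgroup.closure_le]
      rintro s (⟨w, hw, rfl⟩ | hs)
      · show M.ρ (M.E e0 w) z = z
        apply E_fix M e0 w z hQe (hAe w hw)
        · rw [QuadraticMap.polar_comm]; exact hz e0 (heB 0)
        · rw [QuadraticMap.polar_comm]; exact hz w (hAB hw)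
      · exact hS'fix z (fun b hb => hz b (hAB hb)) (Subgroup.subset_closure hs)
    · rw [Subgroup.closure_le]
      rintro s (⟨w, hw, rfl⟩ | hs)
      · exact E_mem_stabG M B e0 w hQe (hAe w hw) (heB 0) (hAB hw)
      · -- s fixes e0, f0 and stabilises A
        have hs' : s ∈ Subgroup.closure S' := Subgroup.subset_closure hs
        have key : ∀ t ∈ Subgroup.closure S', ∀ z ∈ B, M.ρ t z ∈ B := by
          intro t ht z hz
          have hd := hyp_decomp' e0 f0 z hQe hQf hef0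
          set a := z - pol (⇑Q) f0 z • e0 - pol (⇑Q) e0 z • f0 with ha
          have haA : a ∈ A := ⟨B.sub_mem (B.sub_mem hz (B.smul_mem _ (heB 0)))
            (B.smul_mem _ (hfB 0)), (mem_perp2 e0 f0 _).2 hd⟩
          have hz2 : z = a + pol (⇑Q) f0 z • e0 + pol (⇑Q) e0 z • f0 := by
            rw [ha]; abel
          rw [hz2, map_add, map_add, map_smul, map_smul, (hfe ht : M.ρ t e0 = e0),
            (hff ht : M.ρ t f0 = f0)]
          exact B.add_mem (B.add_mem (hAB (((hS'st ht) a).2 haA)) (B.smul_mem _ (heB 0)))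
            (B.smul_mem _ (hfB 0))
        intro z
        constructor
        · intro hz
          have := key s⁻¹ (Subgroup.inv_mem _ hs') _ hz
          rwa [M.inv_apply'] at this
        · exact key s hs' z
    · -- the count
      have hB := card_le_perp e0 f0 hQe hQf hef0 B (heB 0) (hfB 0)
      rw [← hA] at hB
      calc Nat.card B ^ (k + 1) ≤ (Nat.card A * Nat.card F ^ 2) ^ (k + 1) :=
            Nat.pow_le_pow_left hB _
        _ = Nat.card A * (Nat.card A ^ k) * Nat.card F ^ (2 * (k + 1)) := by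
            rw [mul_pow, pow_succ, ← pow_mul]; ring
        _ ≤ Nat.card A * (Nat.card (Subgroup.closure S') * Nat.card F ^ (k * (k + 1))) *
              Nat.card F ^ (2 * (k + 1)) := by
            apply Nat.mul_le_mul_right
            exact Nat.mul_le_mul_left _ hS'card
        _ = (Nat.card A * Nat.card (Subgroup.closure S')) * Nat.card F ^ ((k + 1) * (k + 1 + 1)) := by
            have : (k + 1) * (k + 1 + 1) = k * (k + 1) + 2 * (k + 1) := by ring
            rw [this, pow_add]; ring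
        _ ≤ _ := Nat.mul_le_mul_right _ h3

/-- **Abstract flag theorem.** -/
theorem exists_flag_group (M : OModel Q Γ) [Finite Γ] [Finite F] [FiniteDimensional F V]
    [CharP F 2] (k : ℕ) (e f : Fin k → V) (h : HypSys Q k e f) :
    ∃ S : Set Γ, (∀ s ∈ S, s ^ 2 = 1) ∧ IsPGroup 2 (Subgroup.closure S) ∧
      Nat.card F ^ (k * finrank F V) ≤
        Nat.card (Subgroup.closure S) * Nat.card F ^ (k * (k + 1)) := by
  obtain ⟨S, h1, h2, _, _, h5⟩ := flag_aux M k e f h ⊤ (fun _ => Submodule.mem_top)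
    (fun _ => Submodule.mem_top)
  refine ⟨S, h1, h2, ?_⟩
  have hV : Nat.card (⊤ : Submodule F V) = Nat.card F ^ finrank F V := by
    rw [Nat.card_congr (Submodule.topEquiv (R := F) (M := V)).toEquiv]
    exact Module.natCard_eq_pow_finrank (K := F) (V := V)
  rw [hV, ← pow_mul, mul_comm (finrank F V) k] at h5
  exact h5

end

end Cfsg.Agent.Lib.Helper36.Lie2O
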