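import Mathlib
import Cfsg.Agent.Lib.Helper36.Lie2OFlag
import Cfsg.Agent.Lib.Helper36.AutO.Transfer
import Cfsg.Agent.Lib.Helper44.POmegaOrder
import Cfsg.Agent.Lib.Helper37.OrthEvenCount
import Cfsg.Agent.Lib.Helper72.Lie2Gen
import Cfsg.Agent.Lib.Helper87.Lie2SylAbs
import Cfsg.Agent.S0288

set_option autoImplicit false
set_option linter.unusedSimpArgs false
set_option linter.unusedVariables false
set_option linter.unusedSectionVars false

/-!
# Project LIE2 (S4625), module [M-OM]: Sylow 2-subgroups of `PΩ⁻_{2m}(q)`, `q` even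
-/

namespace Cfsg.Agent.Lib.Helper36.Lie2O

open Cfsg.Agent.Lib.Helper36.AutO Cfsg.Agent.Lib.Helper37.OrthEven Cfsg.Agent.Lib.Helper72 Module

section
variable {F : Type*} [Field F]

local notation "pol" => QuadraticMap.polar

theorem minusQ_polar' (n : ℕ) (a c : F) (x y : (Fin n ⊕ Fin n) ⊕ Fin 2 → F) :
    QuadraticMap.polar (⇑(minusQ n F a c)) x y =
      ∑ i, (x (Sum.inl (Sum.inl i)) * y (Sum.inl (Sum.inr i)) +
        y (Sum.inl (Sum.inl i)) * x (Sum.inl (Sum.inr i))) +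
      (2 * x (Sum.inr 0) * y (Sum.inr 0) + a * (x (Sum.inr 0) * y (Sum.inr 1) +
        x (Sum.inr 1) * y (Sum.inr 0)) + 2 * c * x (Sum.inr 1) * y (Sum.inr 1)) := by
  unfold minusQ
  rw [Cfsg.Agent.Lib.Helper5.tailForm_polar, Cfsg.Agent.Lib.Helper5.binForm_polar]
  rfl

/-- the standard hyperbolic system of the minus form -/
theorem hypSys_minus (n : ℕ) (a c : F) :
    HypSys (minusQ n F a c) n (fun i => Pi.single (Sum.inl (Sum.inl i)) (1 : F))
      (fun i => Pi.single (Sum.inl (Sum.inr i)) (1 : F)) where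
  he := fun i => by
    have h := congrFun (minusQ_coe n F a c) (Pi.single (Sum.inl (Sum.inl i)) (1 : F))
    rw [h]
    simp [Cfsg.quadFormMinus, Pi.single_apply]
  hf := fun i => by
    have h := congrFun (minusQ_coe n F a c) (Pi.single (Sum.inl (Sum.inr i)) (1 : F))
    rw [h]
    simp [Cfsg.quadFormMinus, Pi.single_apply]
  hee := fun i j => by
    rw [minusQ_polar']
    simp [Pi.single_apply]
  hff := fun i j => by
    rw [minusQ_polar']
    simp [Pi.single_apply]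
  hef := fun i j => by
    rw [minusQ_polar']
    simp [Pi.single_apply, eq_comm]

end

section main
variable {F : Type} [Field F] [Fintype F] [CharP F 2]

theorem odd_pow_two_sub_one (f t : ℕ) (hf : 0 < f) (ht : 0 < t) : Odd (((2 : ℕ) ^ f) ^ t - 1) := by
  apply Nat.Even.sub_odd
  · exact Nat.one_le_pow _ _ (by positivity)
  · rw [← pow_mul]
    exact (Nat.even_pow.2 ⟨even_two, by positivity⟩)
  · exact odd_one

/-- [M-OM] -/
theorem sqComm_POmegaMinus (m : ℕ) (hm : 4 ≤ m) (a b : F)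
    (hab : ∀ z₁ z₂ : F, z₁ ^ 2 + a * z₁ * z₂ + b * z₂ ^ 2 = 0 → z₁ = 0 ∧ z₂ = 0)
    (P : Sylow 2 (Cfsg.POmega F (Cfsg.quadFormMinus (m - 1) F a b))) :
    Lie2.SqComm (P : Subgroup (Cfsg.POmega F (Cfsg.quadFormMinus (m - 1) F a b))) := by
  classical
  have h20 : (2 : F) = 0 := by exact_mod_cast CharP.cast_eq_zero F 2
  obtain ⟨f, _, hf⟩ := FiniteField.card F 2
  set Q := minusQ (m - 1) F a b with hQdef
  have hQnd : (QuadraticMap.polarBilin Q).Nondegenerate := minusQ_nondeg (m - 1) F a b hab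
  have hcardι : Fintype.card ((Fin (m - 1) ⊕ Fin (m - 1)) ⊕ Fin 2) = 2 * m := by
    rw [Fintype.card_sum, Fintype.card_sum, Fintype.card_fin, Fintype.card_fin]; omega
  have hfr : finrank F ((Fin (m - 1) ⊕ Fin (m - 1)) ⊕ Fin 2 → F) = 2 * m := by
    rw [Module.finrank_fintype_fun_eq_card, hcardι]
  have h7 : 7 ≤ finrank F ((Fin (m - 1) ⊕ Fin (m - 1)) ⊕ Fin 2 → F) := by rw [hfr]; omega
  -- everything for `⇑Q`, transported at the end
  suffices hmain : ∀ P : Sylow 2 (Cfsg.POmega F (⇑Q)),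
      Lie2.SqComm (P : Subgroup (Cfsg.POmega F (⇑Q))) by
    rw [hQdef, minusQ_coe] at hmain
    exact hmain P
  have hidx : (commutator ↥(Cfsg.isometryGroup F (⇑Q))).index = 2 :=
    Cfsg.Agent.Lib.Helper44.index_Omega_of_two_eq_zero Q hQnd (by rw [hcardι]; omega) h20
  have hO : Nat.card ↥(Cfsg.isometryGroup F (⇑Q)) =
      2 * (((2 : ℕ) ^ (f : ℕ)) ^ (m * (m - 1)) * ((((2 : ℕ) ^ (f : ℕ)) ^ m + 1) *
        ∏ i ∈ Finset.range (m - 1), (((2 : ℕ) ^ (f : ℕ)) ^ (2 * (i + 1)) - 1))) := by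
    have h := Cfsg.Agent.S0288.result (F := F) hf m (by omega) a b hab
    rw [hQdef, minusQ_coe, h]
    ring
  have hD : Odd ((((2 : ℕ) ^ (f : ℕ)) ^ m + 1) *
        ∏ i ∈ Finset.range (m - 1), (((2 : ℕ) ^ (f : ℕ)) ^ (2 * (i + 1)) - 1)) := by
    apply Odd.mul
    · apply Even.add_odd _ odd_one
      rw [← pow_mul]
      exact (Nat.even_pow.2 ⟨even_two, by have := f.pos; positivity⟩)
    · apply Finset.prod_induction _ Odd (fun a b ha hb => ha.mul hb) odd_one
      intro i _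
      exact odd_pow_two_sub_one f _ f.pos (by omega)
  -- the model and the flag group
  let M := omegaModel Q hQnd h7
  have hfinΓ : Finite ↥(Cfsg.Omega F (⇑Q)) := inferInstance
  obtain ⟨S, hS2, hSP, hScard⟩ := exists_flag_group M (m - 1) _ _ (hypSys_minus (m - 1) a b)
  set U₀ : Subgroup ↥(Cfsg.Omega F (⇑Q)) := Subgroup.closure S with hU₀
  have hsq₀ : Lie2.SqComm U₀ := Lie2.sqComm_of_closure_sq_eq_one U₀ S rfl hS2
  have hcard₀ : ((2 : ℕ) ^ (f : ℕ)) ^ (m * (m - 1)) ≤ Nat.card U₀ := by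
    rw [hfr, Nat.card_eq_fintype_card, hf] at hScard
    have e1 : (m - 1) * (2 * m) = m * (m - 1) + m * (m - 1) := by ring
    have e2 : (m - 1) * (m - 1 + 1) = m * (m - 1) := by
      have : m - 1 + 1 = m := by omega
      rw [this]; ring
    rw [e1, e2, pow_add] at hScard
    exact Nat.le_of_mul_le_mul_right hScard (by positivity)
  -- push into the isometry group
  set U : Subgroup ↥(Cfsg.isometryGroup F (⇑Q)) :=
    U₀.map (Cfsg.Omega F (⇑Q)).subtype with hU
  have hUle : U ≤ commutator ↥(Cfsg.isometryGroup F (⇑Q)) := by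
    rintro _ ⟨x, _, rfl⟩
    exact x.2
  have hUP : IsPGroup 2 U := hSP.map _
  have hUcard : ((2 : ℕ) ^ (f : ℕ)) ^ (m * (m - 1)) ≤ Nat.card U := by
    rw [hU, Subgroup.card_map_of_injective (Subgroup.subtype_injective _)]
    exact hcard₀
  have hUsq : Lie2.SqComm U := Lie2.sqComm_map _ U₀ hsq₀
  intro P
  exact Cfsg.Agent.Lib.Helper87.Lie2SylAbs.sqComm_sylow_quot_of_big_subgroup hidx (f : ℕ)
    (m * (m - 1)) _ hD hO U hUle hUP hUcard hUsq P

end main

end Cfsg.Agent.Lib.Helper36.Lie2O
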