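/-
helper36: S5634-[SL-L1] `sl_le_of_elemTv` (helper43's S5634 project):
a subgroup of `GL ι F` containing `Mono ⊓ SL` and one non-trivial elementary transvection contains `SL`
(`card ι ≥ 3`).
-/
import Mathlib
import Cfsg.Agent.Lib.Helper43.MonoStar

set_option autoImplicit false

namespace Cfsg.Agent.Lib.Helper36

open Matrix Cfsg.Geo Cfsg.Agent.Lib.Helper93 Cfsg.Agent.Lib.Helper43

variable {ι : Type} [Fintype ι] [DecidableEq ι] {F : Type*} [Field F]

/-- moving a diagonal element past an elementary transvection -/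
theorem dg_mul_elemTv (e : ι → Fˣ) (i j : ι) (hij : i ≠ j) (b : F) :
    dg e * elemTv i j hij b = elemTv i j hij ((e i : F) * b * ((e j : F))⁻¹) * dg e := by
  apply Units.ext
  ext r s
  rw [dg_mul_apply, mul_dg_apply, elemTv_apply, elemTv_apply]
  by_cases hrs : r = s
  · subst hrs
    have hn : ¬ (r = i ∧ r = j) := fun h => hij (h.1.symm.trans h.2)
    rw [if_pos rfl, if_neg hn, if_neg hn, add_zero, mul_one, one_mul]
  · by_cases h : r = i ∧ s = j
    · obtain ⟨rfl, rfl⟩ := h
      rw [if_neg hrs, if_pos ⟨rfl, rfl⟩, if_pos ⟨rfl, rfl⟩, zero_add, zero_add]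
      have hs : ((e s : Fˣ) : F) ≠ 0 := (e s).ne_zero
      field_simp
    · rw [if_neg hrs, if_neg h, if_neg h, add_zero, mul_zero, zero_mul]

/-- moving a permutation element past an elementary transvection -/
theorem pm_mul_elemTv (σ : Equiv.Perm ι) (i j : ι) (hij : i ≠ j) (b : F) :
    pm σ * elemTv i j hij b =
      elemTv (σ i) (σ j) (fun h => hij (σ.injective h)) b * pm σ := by
  apply Units.ext
  ext r s
  rw [pm_mul_apply, mul_pm_apply, elemTv_apply, elemTv_apply]
  have h1 : (σ⁻¹ r = s) ↔ (r = σ s) := by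
    constructor
    · intro h; rw [← h]; simp
    · intro h; rw [h]; simp
  have h2 : (σ⁻¹ r = i ∧ s = j) ↔ (r = σ i ∧ σ s = σ j) := by
    constructor
    · rintro ⟨h, h'⟩
      exact ⟨by rw [← h]; simp, by rw [h']⟩
    · rintro ⟨h, h'⟩
      exact ⟨by rw [h]; simp, σ.injective h'⟩
  simp only [h1, h2]

theorem elemTv_zero (i j : ι) (hij : i ≠ j) : elemTv i j hij (0 : F) = 1 := by
  apply Units.ext
  ext r s
  rw [elemTv_apply, Units.val_one, Matrix.one_apply]
  simp

omit [Fintype ι] in
/-- two-transitivity of the symmetric group -/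
theorem exists_perm_two {i j i' j' : ι} (hij : i ≠ j) (hij' : i' ≠ j') :
    ∃ σ : Equiv.Perm ι, σ i = i' ∧ σ j = j' := by
  have hj1 : Equiv.swap i i' j ≠ i' := by
    intro h
    have : Equiv.swap i i' j = Equiv.swap i i' i := by rw [h, Equiv.swap_apply_left]
    exact hij (Equiv.injective _ this).symm
  refine ⟨Equiv.swap (Equiv.swap i i' j) j' * Equiv.swap i i', ?_, ?_⟩
  · rw [Equiv.Perm.mul_apply, Equiv.swap_apply_left]
    exact Equiv.swap_apply_of_ne_of_ne (Ne.symm hj1) hij'
  · rw [Equiv.Perm.mul_apply, Equiv.swap_apply_left]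

-- [SL-L1]
theorem sl_le_of_elemTv [Fintype F] (hq : 4 ≤ Fintype.card F) (hcard : 3 ≤ Fintype.card ι)
    {M : Subgroup (GL ι F)} (hN : Mono ι F ⊓ specialLinear ι F ≤ M) {i j : ι} (hij : i ≠ j)
    {b : F} (hb : b ≠ 0) (h : elemTv i j hij b ∈ M) : specialLinear ι F ≤ M := by
  -- a third index
  obtain ⟨l, hli, hlj⟩ : ∃ l, l ≠ i ∧ l ≠ j := by
    by_contra hcon
    push Not at hcon
    have hsub : (Finset.univ : Finset ι) ⊆ {i, j} := by
      intro x _
      by_cases hx : x = i
      · simp [hx]
      · simp [hcon x hx]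
    have h2 : Fintype.card ι ≤ 2 :=
      calc Fintype.card ι = (Finset.univ : Finset ι).card := rfl
        _ ≤ ({i, j} : Finset ι).card := Finset.card_le_card hsub
        _ ≤ 2 := Finset.card_le_two
    omega
  -- step 1: all `elemTv i j b'`
  have step1 : ∀ b' : F, elemTv i j hij b' ∈ M := by
    intro b'
    by_cases hb' : b' = 0
    · subst hb'
      rw [elemTv_zero]
      exact M.one_mem
    · let c : Fˣ := Units.mk0 (b' / b) (div_ne_zero hb' hb)
      have hd : dg2 i l c ∈ M := hN ⟨dg2_mem_Mono _ _ _, dg2_mem_specialLinear hli.symm c⟩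
      have hconj := M.mul_mem (M.mul_mem hd h) (M.inv_mem hd)
      rw [dg2_eq, dg_mul_elemTv, mul_assoc, mul_inv_cancel, mul_one] at hconj
      have hval : ((((Function.update (1 : ι → Fˣ) i c * Function.update (1 : ι → Fˣ) l c⁻¹) i : Fˣ) : F) * b *
          ((((Function.update (1 : ι → Fˣ) i c * Function.update (1 : ι → Fˣ) l c⁻¹) j : Fˣ) : F))⁻¹) = b' := by
        rw [Pi.mul_apply, Pi.mul_apply, Function.update_self, Function.update_of_ne hli.symm,
          Function.update_of_ne hij.symm, Function.update_of_ne hlj.symm]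
        simp only [Pi.one_apply, mul_one, Units.val_one, inv_one]
        show b' / b * b = b'
        field_simp
      rw [hval] at hconj
      exact hconj
  -- step 2: all elementary transvections
  have helem : ∀ (i' j' : ι) (hij' : i' ≠ j') (b' : F), elemTv i' j' hij' b' ∈ M := by
    intro i' j' hij' b'
    obtain ⟨σ, rfl, rfl⟩ := exists_perm_two hij hij'
    -- sign correction
    obtain ⟨ε, hε⟩ : ∃ ε : Fˣ, (((Equiv.Perm.sign σ : ℤˣ) : ℤ) : F) * (ε : F) = 1 := by
      rcases Int.units_eq_one_or (Equiv.Perm.sign σ) with hs | hs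
      · exact ⟨1, by rw [hs]; simp⟩
      · exact ⟨-1, by rw [hs]; simp⟩
    have hπ : pm σ * dg1 i ε ∈ M := by
      apply hN
      refine ⟨(Mono ι F).mul_mem (pm_mem_Mono σ) (dg1_mem_Mono _ _), ?_⟩
      show pm σ * dg1 i ε ∈ specialLinear ι F
      rw [mem_specialLinear_iff, Units.val_mul, Matrix.det_mul, det_pm]
      unfold dg1
      rw [det_dg, ← Units.coe_prod, Finset.prod_update_of_mem (Finset.mem_univ i)]
      simp only [Pi.one_apply, Finset.prod_const_one, mul_one]
      exact_mod_cast hε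
    have hx := step1 ((ε : F)⁻¹ * b')
    have hconj := M.mul_mem (M.mul_mem hπ hx) (M.inv_mem hπ)
    have key : pm σ * dg1 i ε * elemTv i j hij ((ε : F)⁻¹ * b') =
        elemTv (σ i) (σ j) hij' b' * (pm σ * dg1 i ε) := by
      unfold dg1
      rw [mul_assoc, dg_mul_elemTv, ← mul_assoc, pm_mul_elemTv, mul_assoc]
      congr 2
      rw [Function.update_self, Function.update_of_ne hij.symm]
      simp only [Pi.one_apply, Units.val_one, inv_one, mul_one]
      have hε0 : (ε : F) ≠ 0 := ε.ne_zero
      field_simp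
    rw [key, mul_assoc, mul_inv_cancel, mul_one] at hconj
    exact hconj
  -- step 3: generation of SL by elementary transvections
  have : Nontrivial ι := Fintype.one_lt_card_iff_nontrivial.mp (by omega)
  intro g hg
  rw [mem_specialLinear_iff] at hg
  have hgs : g = Matrix.SpecialLinearGroup.toGL
      (⟨(g : Matrix ι ι F), hg⟩ : Matrix.SpecialLinearGroup ι F) :=
    Units.ext rfl
  rw [hgs]
  refine Matrix.SpecialLinearGroup.diagonal_transvection_induction'
    (fun A => Matrix.SpecialLinearGroup.toGL A ∈ M) _ ?_ ?_ ?_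
  · intro i j hij c hc
    show Matrix.SpecialLinearGroup.toGL (Matrix.SpecialLinearGroup.diag2n hij c hc) ∈ M
    rw [toGL_diag2n]
    exact M.mul_mem (M.mul_mem (M.mul_mem (helem _ _ _ _) (helem _ _ _ _)) (helem _ _ _ _))
      (M.mul_mem (M.mul_mem (helem _ _ _ _) (helem _ _ _ _)) (helem _ _ _ _))
  · intro i j hij a
    show Matrix.SpecialLinearGroup.toGL (Matrix.SpecialLinearGroup.transvection hij a) ∈ M
    rw [toGL_transvection]
    exact helem _ _ _ _
  · intro A B hA hB
    show Matrix.SpecialLinearGroup.toGL (A * B) ∈ M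
    rw [map_mul]
    exact M.mul_mem hA hB

end Cfsg.Agent.Lib.Helper36
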