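/-
helper36: ASCHOE-[C1] (sheet of helper55): a reducible group of isometries of a non-degenerate quadratic form fixes a
totally singular subspace, a non-degenerate subspace, or (characteristic 2) a non-singular line.
-/
import Mathlib
import Cfsg.Prelude.Def_GeometricClasses
import Cfsg.Agent.Lib.Helper99.AschDefs
import Cfsg.Agent.Lib.Helper55.Oe.Defs
import Cfsg.Agent.Lib.Helper52.AschOC1

set_option autoImplicit false
set_option linter.unusedSectionVars false

namespace Cfsg.Agent.Lib.Helper55.Oe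

open Cfsg Cfsg.Geo Cfsg.Agent.Lib.Helper99.Asch Cfsg.Agent.Lib.Helper52.AschOC1
open scoped MatrixGroups Matrix Kronecker

variable {n : ℕ} {F : Type*} [Field F] [Fintype F]

/-- ASCHOE-[C1] -/
theorem out_of_not_irreducible {Q : (Fin n → F) → F} (hQ : IsNondegenerateQuadraticForm Q)
    {H : Subgroup (GL (Fin n) F)} (hH : H ≤ isometryGroup F Q)
    (h : ¬ ActsIrreducibly (matrixSet H)) : OutTS Q H ∨ OutND Q H ∨ OutNS Q H := by
  classical
  unfold ActsIrreducibly at h
  push_neg at h
  obtain ⟨W, hW, hbot, htop⟩ := h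
  have hbil := hQ.polar_bilinear
  have key : ∀ g ∈ H, ∀ v ∈ W, (g : Matrix (Fin n) (Fin n) F) *ᵥ v ∈ W := by
    intro g hg v hv
    have h1 := hW (g : Matrix (Fin n) (Fin n) F) ⟨g, hg, rfl⟩
    have h2 : Matrix.toLin' (g : Matrix (Fin n) (Fin n) F) v ∈
        W.map (Matrix.toLin' (g : Matrix (Fin n) (Fin n) F)) := Submodule.mem_map_of_mem hv
    have h3 := h1 h2
    simpa [Matrix.toLin'_apply] using h3
  have hiso : ∀ g ∈ H, ∀ u, Q ((g : Matrix (Fin n) (Fin n) F) *ᵥ u) = Q u := by
    intro g hg u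
    exact hH hg u u
  have hpol : ∀ g ∈ H, ∀ u v, QuadraticMap.polar Q ((g : Matrix (Fin n) (Fin n) F) *ᵥ u)
      ((g : Matrix (Fin n) (Fin n) F) *ᵥ v) = QuadraticMap.polar Q u v := by
    intro g hg u v
    unfold QuadraticMap.polar
    rw [← Matrix.mulVec_add, hiso g hg, hiso g hg, hiso g hg]
  let Wp : Submodule F (Fin n → F) :=
    { carrier := {v | ∀ w ∈ W, QuadraticMap.polar Q v w = 0}
      add_mem' := by
        intro a b ha hb w hw
        rw [hbil.add_left, ha w hw, hb w hw, add_zero]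
      zero_mem' := by
        intro w hw
        have := hbil.smul_left 0 0 w
        simpa using this
      smul_mem' := by
        intro c v hv w hw
        rw [hbil.smul_left, hv w hw, mul_zero] }
  have hWp_mem : ∀ v, v ∈ Wp ↔ ∀ w ∈ W, QuadraticMap.polar Q v w = 0 := fun v => Iff.rfl
  have hWp : ∀ g ∈ H, ∀ v ∈ Wp, (g : Matrix (Fin n) (Fin n) F) *ᵥ v ∈ Wp := by
    intro g hg v hv
    rw [hWp_mem]
    intro w hw
    have h1 : (g : Matrix (Fin n) (Fin n) F) *ᵥ
        (((g⁻¹ : GL (Fin n) F) : Matrix (Fin n) (Fin n) F) *ᵥ w) = w := by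
      rw [Matrix.mulVec_mulVec, ← Units.val_mul, mul_inv_cancel, Units.val_one, Matrix.one_mulVec]
    calc QuadraticMap.polar Q ((g : Matrix (Fin n) (Fin n) F) *ᵥ v) w
        = QuadraticMap.polar Q ((g : Matrix (Fin n) (Fin n) F) *ᵥ v)
            ((g : Matrix (Fin n) (Fin n) F) *ᵥ
              (((g⁻¹ : GL (Fin n) F) : Matrix (Fin n) (Fin n) F) *ᵥ w)) := by rw [h1]
      _ = QuadraticMap.polar Q v (((g⁻¹ : GL (Fin n) F) : Matrix (Fin n) (Fin n) F) *ᵥ w) :=
          hpol g hg _ _
      _ = 0 := (hWp_mem v).1 hv _ (key g⁻¹ (H.inv_mem hg) w hw)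
  by_cases hR : W ⊓ Wp = ⊥
  · -- `W` is non-degenerate
    right; left
    refine ⟨W, hbot, htop, ?_, le_subspaceStabilizer H W key⟩
    intro w hw hw0
    have hnot : w ∉ Wp := by
      intro hwp
      have : w ∈ W ⊓ Wp := ⟨hw, hwp⟩
      rw [hR] at this
      exact hw0 ((Submodule.mem_bot F).1 this)
    rw [hWp_mem] at hnot
    push_neg at hnot
    obtain ⟨x, hx, hxw⟩ := hnot
    refine ⟨⟨x, hx, ?_⟩, ⟨x, hx, hxw⟩⟩
    rw [QuadraticMap.polar_comm]
    exact hxw
  · -- the radical `R` of `W`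
    have hRinv : ∀ g ∈ H, ∀ v ∈ W ⊓ Wp, (g : Matrix (Fin n) (Fin n) F) *ᵥ v ∈ W ⊓ Wp :=
      fun g hg v hv => ⟨key g hg v hv.1, hWp g hg v hv.2⟩
    have hRpol : ∀ u ∈ W ⊓ Wp, ∀ v ∈ W ⊓ Wp, QuadraticMap.polar Q u v = 0 :=
      fun u hu v hv => (hWp_mem u).1 hu.2 v hv.1
    have hRadd : ∀ u ∈ W ⊓ Wp, ∀ v ∈ W ⊓ Wp, Q (u + v) = Q u + Q v := by
      intro u hu v hv
      have := hRpol u hu v hv
      unfold QuadraticMap.polar at this
      linear_combination this
    have hQ0 : Q 0 = 0 := by
      have := hQ.smul 0 0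
      simpa using this
    -- the singular vectors of `R`
    let R₀ : Submodule F (Fin n → F) :=
      { carrier := {v | v ∈ W ⊓ Wp ∧ Q v = 0}
        add_mem' := by
          intro a b ha hb
          exact ⟨(W ⊓ Wp).add_mem ha.1 hb.1, by rw [hRadd a ha.1 b hb.1, ha.2, hb.2, add_zero]⟩
        zero_mem' := ⟨(W ⊓ Wp).zero_mem, hQ0⟩
        smul_mem' := by
          intro c v hv
          exact ⟨(W ⊓ Wp).smul_mem c hv.1, by rw [hQ.smul, hv.2, mul_zero]⟩ }
    have hR₀_mem : ∀ v, v ∈ R₀ ↔ v ∈ W ⊓ Wp ∧ Q v = 0 := fun v => Iff.rfl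
    by_cases hR₀ : R₀ = ⊥
    · -- characteristic 2 and `R` is a non-singular line
      right; right
      have h2 : (2 : F) = 0 := by
        by_contra h2
        apply hR
        rw [eq_bot_iff]
        intro v hv
        have h0 : QuadraticMap.polar Q v v = 0 := hRpol v hv v hv
        have h1 : QuadraticMap.polar Q v v = 2 * Q v := by
          unfold QuadraticMap.polar
          rw [← two_smul F v, hQ.smul]
          ring
        rw [h1] at h0
        have hv0 : v ∈ R₀ := ⟨hv, (mul_eq_zero.1 h0).resolve_left h2⟩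
        rw [hR₀] at hv0
        exact hv0
      obtain ⟨v, hvR, hv0⟩ := (Submodule.ne_bot_iff _).1 hR
      have hQv : Q v ≠ 0 := by
        intro h0
        have : v ∈ R₀ := ⟨hvR, h0⟩
        rw [hR₀] at this
        exact hv0 ((Submodule.mem_bot F).1 this)
      have hchar : ringChar F = 2 := by
        haveI : CharP F 2 := CharTwo.of_one_ne_zero_of_two_eq_zero one_ne_zero h2
        exact ringChar.eq F 2
      have hspan : W ⊓ Wp = Submodule.span F {v} := by
        apply le_antisymm
        · intro w hw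
          obtain ⟨c, hc⟩ := FiniteField.isSquare_of_char_two hchar (Q w / Q v)
          have hmem : w + c • v ∈ W ⊓ Wp := (W ⊓ Wp).add_mem hw ((W ⊓ Wp).smul_mem c hvR)
          have hQz : Q (w + c • v) = 0 := by
            rw [hRadd w hw _ ((W ⊓ Wp).smul_mem c hvR), hQ.smul, pow_two, ← hc]
            field_simp
            linear_combination Q w * h2
          have hz : w + c • v ∈ R₀ := ⟨hmem, hQz⟩
          rw [hR₀] at hz
          have hz0 : w + c • v = 0 := (Submodule.mem_bot F).1 hz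
          have hw' : w = (-c) • v := by
            rw [neg_smul]
            exact eq_neg_of_add_eq_zero_left hz0
          rw [hw']
          exact Submodule.smul_mem _ _ (Submodule.mem_span_singleton_self v)
        · rw [Submodule.span_singleton_le_iff_mem]
          exact hvR
      refine ⟨h2, v, hQv, ?_⟩
      rw [← hspan]
      exact le_subspaceStabilizer H (W ⊓ Wp) hRinv
    · -- `R₀` is a non-zero totally singular invariant subspace
      left
      refine ⟨R₀, hR₀, fun v hv => hv.2, le_subspaceStabilizer H R₀ ?_⟩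
      intro g hg v hv
      exact ⟨hRinv g hg v hv.1, by rw [hiso g hg, hv.2]⟩

end Cfsg.Agent.Lib.Helper55.Oe
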