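import Mathlib
import Cfsg.Prelude.Def_GeometricClasses
import Cfsg.Agent.Lib.Helper99.AschDefs
import Cfsg.Agent.Lib.Helper55.Oe.Defs
import Cfsg.Agent.Lib.Helper51.AschOPerp
import Cfsg.Agent.Lib.Helper37.Asch.FormClifford

/-!
# ASCHOE-[C-DEC] (helper55's sheet B): a form-aware Clifford decomposition gives `OutDec` or `OutTSPair`
-/

set_option autoImplicit false

namespace Cfsg.Agent.Lib.Helper36.OeCDec

open Cfsg Cfsg.Geo Cfsg.Agent.Lib.Helper99.Asch Cfsg.Agent.Lib.Helper51.AschOPerp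
  Cfsg.Agent.Lib.Helper55.Oe
open scoped MatrixGroups Matrix Kronecker

variable {n : ℕ} {F : Type*} [Field F]

/-- A family of pairwise orthogonal subspaces, each paired with itself, permuted transitively by `H`,
gives `OutDec`. -/
theorem outDec_of_family {Q : (Fin n → F) → F} {H : Subgroup (GL (Fin n) F)}
    (hH : H ≤ isometryGroup F Q)
    (s : ℕ) (E : Fin s → Submodule F (Fin n → F)) (hs : 2 ≤ s) (hne : ∀ j, E j ≠ ⊥)
    (hind : iSupIndep E) (htop : iSup E = ⊤)
    (hmapsto : ∀ h ∈ H, ∀ j, ∃ k,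
      (E j).map (Matrix.toLin' (h : Matrix (Fin n) (Fin n) F)) = E k)
    (htrans : ∀ j k, ∃ h ∈ H, (E j).map (Matrix.toLin' (h : Matrix (Fin n) (Fin n) F)) = E k)
    (horth : ∀ j k, j ≠ k → AreOrthogonalFor (QuadraticMap.polar Q) (E j) (E k))
    (hpair : ∀ j, ∀ w ∈ E j, w ≠ 0 → ∃ x ∈ E j, QuadraticMap.polar Q x w ≠ 0) : OutDec Q H := by
  classical
  have hinj : Function.Injective E := hind.injective hne
  have hiso : ∀ j k, AreIsometricFor Q (E j) (E k) := by
    intro j k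
    obtain ⟨h, hh, hmap⟩ := htrans j k
    exact areIsometricFor_of_map (hH hh) hmap
  let j₀ : Fin s := ⟨0, by omega⟩
  have hfin : ∀ j, Module.finrank F (E j) = Module.finrank F (E j₀) :=
    fun j => finrank_eq_of_areIsometricFor (hiso j j₀)
  refine ⟨s, Module.finrank F (E j₀), E, ⟨⟨⟨hs, ?_, hfin, hind, htop⟩, ?_, horth⟩, hiso⟩, ?_⟩
  · rw [Nat.pos_iff_ne_zero]
    intro h0
    exact hne j₀ (Submodule.finrank_eq_zero.mp h0)
  · intro j w hw hw0
    obtain ⟨x, hx, hxw⟩ := hpair j w hw hw0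
    exact ⟨⟨x, hx, hxw⟩, ⟨x, hx, by rwa [QuadraticMap.polar_comm]⟩⟩
  · intro h hh
    choose k hk using hmapsto h hh
    have hkinj : Function.Injective k := by
      intro a b hab
      apply hinj
      apply Submodule.map_injective_of_injective (toLin'_gl_injective h)
      rw [hk a, hk b, hab]
    exact ⟨Equiv.ofBijective k (Finite.injective_iff_bijective.mp hkinj), fun j => by
      rw [hk j]; rfl⟩

/-- The pairing involution `τ` commutes with the permutations induced by isometries. -/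
theorem tau_equivariant {Q : (Fin n → F) → F} {h : GL (Fin n) F} (hh : h ∈ isometryGroup F Q)
    {t : ℕ} (D : Fin t → Submodule F (Fin n → F)) (τ : Equiv.Perm (Fin t)) (hne : ∀ i, D i ≠ ⊥)
    (horth : ∀ i j, j ≠ τ i → AreOrthogonalFor (QuadraticMap.polar Q) (D i) (D j))
    (hpair : ∀ i, ∀ w ∈ D i, w ≠ 0 → ∃ x ∈ D (τ i), QuadraticMap.polar Q x w ≠ 0)
    (π : Equiv.Perm (Fin t))
    (hπ : ∀ i, (D i).map (Matrix.toLin' (h : Matrix (Fin n) (Fin n) F)) = D (π i)) (i : Fin t) :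
    π (τ i) = τ (π i) := by
  by_contra hcon
  obtain ⟨w, hw, hw0⟩ := Submodule.exists_mem_ne_zero_of_ne_bot (hne i)
  obtain ⟨x, hx, hxw⟩ := hpair i w hw hw0
  apply hxw
  have h1 : (h : Matrix (Fin n) (Fin n) F) *ᵥ w ∈ D (π i) := by
    rw [← hπ i]; exact ⟨w, hw, by rw [Matrix.toLin'_apply]⟩
  have h2 : (h : Matrix (Fin n) (Fin n) F) *ᵥ x ∈ D (π (τ i)) := by
    rw [← hπ (τ i)]; exact ⟨x, hx, by rw [Matrix.toLin'_apply]⟩
  have h3 := horth (π i) (π (τ i)) hcon _ h1 _ h2
  rw [polar_map_of_mem hh] at h3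
  rw [QuadraticMap.polar_comm]
  exact h3

/-- Case of a fixed-point-free pairing with at least three members: the blocks `D i ⊔ D (τ i)`. -/
theorem outDec_of_pairs {Q : (Fin n → F) → F} (hQ : IsNondegenerateQuadraticForm Q)
    {H : Subgroup (GL (Fin n) F)} (hH : H ≤ isometryGroup F Q)
    (t : ℕ) (D : Fin t → Submodule F (Fin n → F)) (τ : Equiv.Perm (Fin t)) (ht : 3 ≤ t)
    (hne : ∀ i, D i ≠ ⊥) (hind : iSupIndep D) (htop : iSup D = ⊤)
    (hperm : ∀ h ∈ H, ∃ π : Equiv.Perm (Fin t), ∀ i,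
      (D i).map (Matrix.toLin' (h : Matrix (Fin n) (Fin n) F)) = D (π i))
    (htrans : ∀ i j, ∃ h ∈ H, (D i).map (Matrix.toLin' (h : Matrix (Fin n) (Fin n) F)) = D j)
    (hτ : ∀ i, τ (τ i) = i)
    (horth : ∀ i j, j ≠ τ i → AreOrthogonalFor (QuadraticMap.polar Q) (D i) (D j))
    (hpair : ∀ i, ∀ w ∈ D i, w ≠ 0 → ∃ x ∈ D (τ i), QuadraticMap.polar Q x w ≠ 0)
    (hτne : ∀ i, τ i ≠ i) : OutDec Q H := by
  classical
  have hb : IsBilinearForm (QuadraticMap.polar Q) := hQ.polar_bilinear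
  have hinjD : Function.Injective D := hind.injective hne
  -- representatives of the orbits of `τ`
  let R := {i : Fin t // i < τ i}
  let s := Fintype.card R
  let e : R ≃ Fin s := Fintype.equivFin R
  let r : Fin s → Fin t := fun j => (e.symm j).1
  have hr : ∀ j, r j < τ (r j) := fun j => (e.symm j).2
  have hrinj : Function.Injective r := fun a b hab => e.symm.injective (Subtype.ext hab)
  have hre : ∀ (i : Fin t) (hi : i < τ i), r (e ⟨i, hi⟩) = i := by
    intro i hi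
    show (e.symm (e ⟨i, hi⟩)).1 = i
    rw [Equiv.symm_apply_apply]
  let E : Fin s → Submodule F (Fin n → F) := fun j => D (r j) ⊔ D (τ (r j))
  have hE : ∀ j, E j = D (r j) ⊔ D (τ (r j)) := fun j => rfl
  have hblock : ∀ i, ∃ k, E k = D i ⊔ D (τ i) := by
    intro i
    by_cases hi : i < τ i
    · refine ⟨e ⟨i, hi⟩, ?_⟩
      rw [hE, hre]
    · have hi' : τ i < τ (τ i) := by
        rw [hτ]; exact lt_of_le_of_ne (not_lt.mp hi) (hτne i)
      refine ⟨e ⟨τ i, hi'⟩, ?_⟩
      rw [hE, hre, hτ, sup_comm]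
  have hdist : ∀ j k, j ≠ k → r k ≠ r j ∧ r k ≠ τ (r j) := by
    intro j k hjk
    refine ⟨fun h => hjk (hrinj h.symm), fun h => ?_⟩
    have h1 := hr j
    have h2 := hr k
    rw [h, hτ] at h2
    exact lt_asymm h1 h2
  have hτinj : Function.Injective τ := τ.injective
  -- each member is totally isotropic
  have hiso : ∀ i, AreOrthogonalFor (QuadraticMap.polar Q) (D i) (D i) :=
    fun i => horth i i (hτne i).symm
  -- two different blocks
  have hs : 2 ≤ s := by
    let i₀ : Fin t := ⟨0, by omega⟩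
    obtain ⟨i₁, h10, h11⟩ : ∃ i₁ : Fin t, i₁ ≠ i₀ ∧ i₁ ≠ τ i₀ := by
      by_cases h : τ i₀ = ⟨1, by omega⟩
      · refine ⟨⟨2, by omega⟩, ?_, ?_⟩
        · intro h'; simp [i₀, Fin.ext_iff] at h'
        · rw [h]; intro h'; simp [Fin.ext_iff] at h'
      · refine ⟨⟨1, by omega⟩, ?_, fun h' => h h'.symm⟩
        intro h'; simp [i₀, Fin.ext_iff] at h'
    obtain ⟨k₀, hk₀⟩ := hblock i₀
    obtain ⟨k₁, hk₁⟩ := hblock i₁
    by_contra hlt
    have hsub : Subsingleton (Fin s) := Fin.subsingleton_iff_le_one.mpr (by omega)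
    have hk : k₁ = k₀ := Subsingleton.elim _ _
    rw [hk, hk₀] at hk₁
    -- `D i₁ ≤ D i₀ ⊔ D (τ i₀)` contradicts independence
    have hle : D i₁ ≤ ⨆ (l : Fin t) (_ : l ≠ i₁), D l := by
      have h1 : D i₁ ≤ D i₀ ⊔ D (τ i₀) := by rw [hk₁]; exact le_sup_left
      refine h1.trans (sup_le ?_ ?_)
      · exact le_iSup₂_of_le i₀ (Ne.symm h10) le_rfl
      · exact le_iSup₂_of_le (τ i₀) (Ne.symm h11) le_rfl
    have hdisj := hind i₁
    exact hne i₁ (disjoint_self.mp (hdisj.mono_right hle))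
  have hEne : ∀ j, E j ≠ ⊥ := by
    intro j h0
    apply hne (r j)
    rw [eq_bot_iff, ← h0]
    exact le_sup_left
  have hEtop : iSup E = ⊤ := by
    rw [eq_top_iff, ← htop]
    refine iSup_le fun i => ?_
    obtain ⟨k, hk⟩ := hblock i
    exact le_trans (by rw [hk]; exact le_sup_left) (le_iSup E k)
  have hEind : iSupIndep E := by
    intro j
    have h1 : E j ≤ ⨆ i ∈ ({r j, τ (r j)} : Set (Fin t)), D i := by
      refine sup_le ?_ ?_
      · exact le_iSup₂_of_le (r j) (by simp) le_rfl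
      · exact le_iSup₂_of_le (τ (r j)) (by simp) le_rfl
    have h2 : (⨆ (k : Fin s) (_ : k ≠ j), E k) ≤
        ⨆ i ∈ ({i | i ≠ r j ∧ i ≠ τ (r j)} : Set (Fin t)), D i := by
      refine iSup₂_le fun k hk => ?_
      obtain ⟨ha, hb'⟩ := hdist j k (Ne.symm hk)
      refine sup_le ?_ ?_
      · exact le_iSup₂_of_le (r k) ⟨ha, hb'⟩ le_rfl
      · refine le_iSup₂_of_le (τ (r k)) ⟨?_, ?_⟩ le_rfl
        · intro h
          apply hb'
          rw [← h, hτ]
        · intro h
          exact ha (hτinj h)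
    refine (hind.disjoint_biSup_biSup' ?_ (Set.toFinite _)).mono h1 h2
    rw [Set.disjoint_left]
    rintro i hi ⟨h1', h2'⟩
    rcases hi with hi | hi
    · exact h1' hi
    · exact h2' hi
  have hEorth : ∀ j k, j ≠ k → AreOrthogonalFor (QuadraticMap.polar Q) (E j) (E k) := by
    intro j k hjk u hu v hv
    obtain ⟨ha, hb'⟩ := hdist j k hjk
    obtain ⟨a, haD, b, hbD, rfl⟩ := Submodule.mem_sup.mp hu
    obtain ⟨c, hcD, d, hdD, rfl⟩ := Submodule.mem_sup.mp hv
    have e1 : QuadraticMap.polar Q a c = 0 := horth (r j) (r k) hb' a haD c hcD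
    have e2 : QuadraticMap.polar Q a d = 0 :=
      horth (r j) (τ (r k)) (fun h => ha (hτinj h)) a haD d hdD
    have e3 : QuadraticMap.polar Q b c = 0 :=
      horth (τ (r j)) (r k) (by rw [hτ]; exact ha) b hbD c hcD
    have e4 : QuadraticMap.polar Q b d = 0 :=
      horth (τ (r j)) (τ (r k)) (by
        rw [hτ]; intro h; apply hb'; rw [← h, hτ]) b hbD d hdD
    rw [hb.add_left, hb.add_right, hb.add_right, e1, e2, e3, e4]
    simp
  have hEpair : ∀ j, ∀ w ∈ E j, w ≠ 0 → ∃ x ∈ E j, QuadraticMap.polar Q x w ≠ 0 := by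
    intro j w hw hw0
    obtain ⟨a, haD, b, hbD, rfl⟩ := Submodule.mem_sup.mp hw
    by_cases ha0 : a = 0
    · have hb0 : b ≠ 0 := by
        intro h; apply hw0; rw [ha0, h, add_zero]
      obtain ⟨x, hx, hxb⟩ := hpair (τ (r j)) b hbD hb0
      rw [hτ] at hx
      refine ⟨x, Submodule.mem_sup_left hx, ?_⟩
      rw [hb.add_right, hiso (r j) x hx a haD, zero_add]
      exact hxb
    · obtain ⟨x, hx, hxa⟩ := hpair (r j) a haD ha0
      refine ⟨x, Submodule.mem_sup_right hx, ?_⟩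
      rw [hb.add_right, hiso (τ (r j)) x hx b hbD, add_zero]
      exact hxa
  have hmapE : ∀ h ∈ H, ∀ (π : Equiv.Perm (Fin t)),
      (∀ i, (D i).map (Matrix.toLin' (h : Matrix (Fin n) (Fin n) F)) = D (π i)) → ∀ j,
      (E j).map (Matrix.toLin' (h : Matrix (Fin n) (Fin n) F)) = D (π (r j)) ⊔ D (τ (π (r j))) := by
    intro h hh π hπ j
    rw [hE, Submodule.map_sup, hπ, hπ, tau_equivariant (hH hh) D τ hne horth hpair π hπ]
  have hEmapsto : ∀ h ∈ H, ∀ j, ∃ k,
      (E j).map (Matrix.toLin' (h : Matrix (Fin n) (Fin n) F)) = E k := by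
    intro h hh j
    obtain ⟨π, hπ⟩ := hperm h hh
    obtain ⟨k, hk⟩ := hblock (π (r j))
    exact ⟨k, by rw [hk, hmapE h hh π hπ]⟩
  have hEtrans : ∀ j k, ∃ h ∈ H,
      (E j).map (Matrix.toLin' (h : Matrix (Fin n) (Fin n) F)) = E k := by
    intro j k
    obtain ⟨h, hh, hmap⟩ := htrans (r j) (r k)
    obtain ⟨π, hπ⟩ := hperm h hh
    have hπj : π (r j) = r k := hinjD (by rw [← hπ, hmap])
    exact ⟨h, hh, by rw [hmapE h hh π hπ, hπj]⟩
  exact outDec_of_family hH s E hs hEne hEind hEtop hEmapsto hEtrans hEorth hEpair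

/-- Case of a fixed-point-free pairing with two members: both are totally singular. -/
theorem outTSPair_of_two [Fintype F] {Q : (Fin n → F) → F} (hQ : IsNondegenerateQuadraticForm Q)
    (hn : 4 ≤ n)
    {H : Subgroup (GL (Fin n) F)} (hH : H ≤ isometryGroup F Q)
    (hirr : ActsIrreducibly (matrixSet H))
    (D : Fin 2 → Submodule F (Fin n → F)) (τ : Equiv.Perm (Fin 2))
    (hne : ∀ i, D i ≠ ⊥) (hind : iSupIndep D) (htop : iSup D = ⊤)
    (hperm : ∀ h ∈ H, ∃ π : Equiv.Perm (Fin 2), ∀ i,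
      (D i).map (Matrix.toLin' (h : Matrix (Fin n) (Fin n) F)) = D (π i))
    (htrans : ∀ i j, ∃ h ∈ H, (D i).map (Matrix.toLin' (h : Matrix (Fin n) (Fin n) F)) = D j)
    (horth : ∀ i j, j ≠ τ i → AreOrthogonalFor (QuadraticMap.polar Q) (D i) (D j))
    (hτne : ∀ i, τ i ≠ i) : OutTSPair Q H := by
  classical
  obtain ⟨m, hm⟩ := Cfsg.Agent.Lib.Helper37.Asch.isMDecomposition_of_transitive (le_refl 2) D hne
    hind htop (fun i j => let ⟨h, _, hh⟩ := htrans i j; ⟨h, hh⟩)
  refine ⟨m, D, hm, ?_, fun h hh => hperm h hh⟩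
  have hiso : ∀ i, ∀ u ∈ D i, ∀ v ∈ D i, QuadraticMap.polar Q u v = 0 :=
    fun i => horth i i (hτne i).symm
  by_cases h2 : (2 : F) = 0
  · -- characteristic 2
    have hchar : ringChar F = 2 := by
      have : CharP F 2 := CharTwo.of_one_ne_zero_of_two_eq_zero one_ne_zero h2
      exact ringChar.eq F 2
    have hQ0 : Q 0 = 0 := by
      have := hQ.smul 0 0
      simpa using this
    have hadd : ∀ i, ∀ u ∈ D i, ∀ v ∈ D i, Q (u + v) = Q u + Q v := by
      intro i u hu v hv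
      have := hiso i u hu v hv
      unfold QuadraticMap.polar at this
      linear_combination this
    let D0 : Fin 2 → Submodule F (Fin n → F) := fun i =>
      { carrier := {v | v ∈ D i ∧ Q v = 0}
        add_mem' := by
          rintro a b ⟨ha, ha0⟩ ⟨hb, hb0⟩
          exact ⟨(D i).add_mem ha hb, by rw [hadd i a ha b hb, ha0, hb0, add_zero]⟩
        zero_mem' := ⟨(D i).zero_mem, hQ0⟩
        smul_mem' := by
          rintro c a ⟨ha, ha0⟩
          exact ⟨(D i).smul_mem c ha, by rw [hQ.smul, ha0, mul_zero]⟩ }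
    have hD0mem : ∀ i v, v ∈ D0 i ↔ v ∈ D i ∧ Q v = 0 := fun i v => Iff.rfl
    have hD0le : ∀ i, D0 i ≤ D i := fun i v hv => hv.1
    have hWinv : ∀ x ∈ matrixSet H, (⨆ i, D0 i).map (Matrix.toLin' x) ≤ ⨆ i, D0 i := by
      rintro _ ⟨h, hh, rfl⟩
      obtain ⟨π, hπ⟩ := hperm h hh
      rw [Submodule.map_iSup]
      refine iSup_le fun i => ?_
      refine le_trans ?_ (le_iSup D0 (π i))
      rintro _ ⟨v, hv, rfl⟩
      rw [SetLike.mem_coe, hD0mem] at hv
      rw [hD0mem]
      refine ⟨?_, ?_⟩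
      · rw [← hπ i]; exact ⟨v, hv.1, rfl⟩
      · rw [Matrix.toLin'_apply, mem_isometryGroup_apply (hH hh)]; exact hv.2
    have hWne : (⨆ i, D0 i) ≠ ⊥ := by
      have hmul : 2 * m = n := mul_eq_of_decomp D hind htop hm.finrank_eq
      have hm2 : 1 < Module.finrank F (D 0) := by rw [hm.finrank_eq]; omega
      suffices h : ∃ z ∈ D0 0, z ≠ 0 by
        obtain ⟨z, hz, hz0⟩ := h
        intro hbot
        apply hz0
        have : z ∈ (⨆ i, D0 i) := (le_iSup D0 0) hz
        rw [hbot] at this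
        exact (Submodule.mem_bot F).mp this
      obtain ⟨x, hx, hx0⟩ := Submodule.exists_mem_ne_zero_of_ne_bot (hne 0)
      by_cases hQx : Q x = 0
      · exact ⟨x, ⟨hx, hQx⟩, hx0⟩
      have hx0' : (⟨x, hx⟩ : D 0) ≠ 0 := fun h => hx0 (congrArg Subtype.val h)
      obtain ⟨y, hy⟩ := exists_linearIndependent_pair_of_one_lt_finrank hm2 hx0'
      rw [LinearIndependent.pair_iff] at hy
      by_cases hQy : Q (y : Fin n → F) = 0
      · refine ⟨y, ⟨y.2, hQy⟩, ?_⟩
        intro hy0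
        have := hy 0 1 (by
          apply Subtype.ext
          simp [hy0])
        exact one_ne_zero this.2
      obtain ⟨c, hc⟩ := FiniteField.isSquare_of_char_two hchar (Q x / Q (y : Fin n → F))
      refine ⟨x + c • (y : Fin n → F), ⟨(D 0).add_mem hx ((D 0).smul_mem c y.2), ?_⟩, ?_⟩
      · rw [hadd 0 x hx _ ((D 0).smul_mem c y.2), hQ.smul, pow_two, ← hc]
        field_simp
        linear_combination Q x * h2
      · intro h0
        have := hy 1 c (by
          apply Subtype.ext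
          simpa using h0)
        exact one_ne_zero this.1
    have hWtop : (⨆ i, D0 i) = ⊤ := (hirr _ hWinv).resolve_left hWne
    intro i w hw
    have hwW : w ∈ (⨆ i, D0 i) := by rw [hWtop]; trivial
    have hle : (⨆ i, D0 i) ≤ D0 i ⊔ ⨆ (l : Fin 2) (_ : l ≠ i), D l := by
      refine iSup_le fun l => ?_
      by_cases hl : l = i
      · subst hl; exact le_sup_left
      · exact le_sup_of_le_right (le_trans (hD0le l) (le_iSup₂_of_le l hl le_rfl))
    obtain ⟨a, ha, b, hb, hab⟩ := Submodule.mem_sup.mp (hle hwW)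
    have hb0 : b = 0 := by
      have hbD : b ∈ D i := by
        have : b = w - a := by rw [← hab]; abel
        rw [this]; exact (D i).sub_mem hw (hD0le i ha)
      exact (Submodule.disjoint_def.mp (hind i)) b hbD hb
    rw [hb0, add_zero] at hab
    rw [← hab]; exact ha.2
  · intro i w hw
    have h1 : QuadraticMap.polar Q w w = 2 * Q w := by
      unfold QuadraticMap.polar
      have : w + w = (2 : F) • w := (two_smul F w).symm
      rw [this, hQ.smul]; ring
    have h3 := hiso i w hw w hw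
    rw [h1] at h3
    exact (mul_eq_zero.mp h3).resolve_left h2

end Cfsg.Agent.Lib.Helper36.OeCDec

namespace Cfsg.Agent.Lib.Helper55.Oe

open Cfsg Cfsg.Geo Cfsg.Agent.Lib.Helper99.Asch Cfsg.Agent.Lib.Helper36.OeCDec
open scoped MatrixGroups Matrix Kronecker

variable {n : ℕ} {F : Type*} [Field F] [Fintype F]

/-- ASCHOE-[C-DEC] -/
theorem out_of_form_decomposition {Q : (Fin n → F) → F} (hQ : IsNondegenerateQuadraticForm Q) (hn : 4 ≤ n)
    {H : Subgroup (GL (Fin n) F)} (hH : H ≤ isometryGroup F Q) (hirr : ActsIrreducibly (matrixSet H))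
    (t : ℕ) (D : Fin t → Submodule F (Fin n → F)) (τ : Equiv.Perm (Fin t)) (ht : 2 ≤ t)
    (hne : ∀ i, D i ≠ ⊥) (hind : iSupIndep D) (htop : iSup D = ⊤)
    (hperm : ∀ h ∈ H, ∃ π : Equiv.Perm (Fin t), ∀ i,
      (D i).map (Matrix.toLin' (h : Matrix (Fin n) (Fin n) F)) = D (π i))
    (htrans : ∀ i j, ∃ h ∈ H, (D i).map (Matrix.toLin' (h : Matrix (Fin n) (Fin n) F)) = D j)
    (hτ : ∀ i, τ (τ i) = i)
    (horth : ∀ i j, j ≠ τ i → AreOrthogonalFor (QuadraticMap.polar Q) (D i) (D j))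
    (hpair : ∀ i, ∀ w ∈ D i, w ≠ 0 → ∃ x ∈ D (τ i), QuadraticMap.polar Q x w ≠ 0)
    (hcase : (∀ i, τ i = i) ∨ (∀ i, τ i ≠ i)) : OutDec Q H ∨ OutTSPair Q H := by
  rcases hcase with hid | hτne
  · left
    refine outDec_of_family hH t D ht hne hind htop (fun h hh j => ?_) htrans (fun i j hij => ?_)
      (fun i w hw hw0 => ?_)
    · obtain ⟨π, hπ⟩ := hperm h hh
      exact ⟨π j, hπ j⟩
    · exact horth i j (by rw [hid i]; exact hij.symm)
    · have := hpair i w hw hw0
      rwa [hid i] at this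
  · rcases Nat.lt_or_ge 2 t with h3 | h2
    · left
      exact outDec_of_pairs hQ hH t D τ h3 hne hind htop hperm htrans hτ horth hpair hτne
    · right
      have ht2 : t = 2 := le_antisymm h2 ht
      subst ht2
      exact outTSPair_of_two hQ hn hH hirr D τ hne hind htop hperm htrans horth hτne

end Cfsg.Agent.Lib.Helper55.Oe
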