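/-
helper36: ASCHOE-[C-FIELDSIM] (sheet B of helper55): a matrix in the commutant of `N` that is a similarity of the polar
form is a similarity of the quadratic form (in characteristic 2 this uses that `N` is isotypic and not scalar).
-/
import Mathlib
import Cfsg.Prelude.Def_GeometricClasses
import Cfsg.Agent.Lib.Helper99.AschDefs
import Cfsg.Agent.Lib.Helper55.Oe.Defs

set_option autoImplicit false
set_option linter.unusedSectionVars false
set_option linter.unusedVariables false
set_option linter.style.haveILetI false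

namespace Cfsg.Agent.Lib.Helper36.OeCFieldSim

section generic

variable {F V : Type*} [Field F] [Fintype F] [AddCommGroup V] [Module F V]

set_option synthInstance.maxHeartbeats 400000 in
set_option maxHeartbeats 1000000 in
/-- Characteristic 2: a non-zero "square-semilinear" additive functional `φ` invariant under a set `S` of
endomorphisms forces `S` to act trivially, when `V` is semisimple and isotypic over the algebra generated by `S`. -/
theorem fixed_of_invariant_functional (S : Set (Module.End F V))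
    (hss : IsSemisimpleModule (Algebra.adjoin F S) V) (hiso : IsIsotypic (Algebra.adjoin F S) V)
    (h2 : (2 : F) = 0) (φ : V → F) (hadd : ∀ u v, φ (u + v) = φ u + φ v)
    (hsm : ∀ (a : F) (v : V), φ (a • v) = a ^ 2 * φ v)
    (hinv : ∀ a ∈ S, ∀ v, φ (a v) = φ v) (w₀ : V) (hw₀ : φ w₀ ≠ 0) :
    ∀ a ∈ S, ∀ v, a v = v := by
  classical
  haveI := hss
  have hφ0 : φ 0 = 0 := by
    have := hsm 0 0
    simpa using this
  have hchar : ringChar F = 2 := by
    haveI : CharP F 2 := CharTwo.of_one_ne_zero_of_two_eq_zero one_ne_zero h2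
    exact ringChar.eq F 2
  -- elements of the algebra preserve the zero set of `φ`
  have hA0 : ∀ a : Module.End F V, a ∈ Algebra.adjoin F S → ∀ v, φ v = 0 → φ (a v) = 0 := by
    intro a ha
    induction ha using Algebra.adjoin_induction with
    | mem a ha =>
      intro v hv
      rw [hinv a ha, hv]
    | algebraMap r =>
      intro v hv
      show φ (r • v) = 0
      rw [hsm, hv, mul_zero]
    | add a b _ _ iha ihb =>
      intro v hv
      show φ (a v + b v) = 0
      rw [hadd, iha v hv, ihb v hv, add_zero]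
    | mul a b _ _ iha ihb =>
      intro v hv
      show φ (a (b v)) = 0
      exact iha _ (ihb v hv)
  let M₀ : Submodule (Algebra.adjoin F S) V :=
    { carrier := {v | φ v = 0}
      add_mem' := by
        intro a b ha hb
        show φ (a + b) = 0
        rw [hadd, ha, hb, add_zero]
      zero_mem' := hφ0
      smul_mem' := by
        intro a v hv
        exact hA0 a.1 a.2 v hv }
  obtain ⟨L, hL⟩ := exists_isCompl M₀
  -- `F`-scalars act inside submodules
  have hFsm : ∀ (L' : Submodule (Algebra.adjoin F S) V) (r : F) (u : V), u ∈ L' → r • u ∈ L' := by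
    intro L' r u hu
    have : r • u = (algebraMap F (Algebra.adjoin F S) r) • u := rfl
    rw [this]
    exact L'.smul_mem _ hu
  have hLne : L ≠ ⊥ := by
    intro hLb
    have h1 : M₀ = ⊤ := by
      have := hL.sup_eq_top
      rwa [hLb, sup_bot_eq] at this
    have : w₀ ∈ M₀ := by rw [h1]; exact Submodule.mem_top
    exact hw₀ this
  obtain ⟨w, hwL, hw0⟩ := (Submodule.ne_bot_iff L).1 hLne
  have hφw : φ w ≠ 0 := by
    intro h0
    have : w ∈ M₀ ⊓ L := ⟨h0, hwL⟩
    rw [hL.inf_eq_bot] at this
    exact hw0 ((Submodule.mem_bot _).1 this)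
  -- `L` is the line of `w`
  have hline : ∀ v ∈ L, ∃ r : F, v = r • w := by
    intro v hv
    obtain ⟨r, hr⟩ := FiniteField.isSquare_of_char_two hchar (φ v / φ w)
    have hmem : v + r • w ∈ L := L.add_mem hv (hFsm L r w hwL)
    have hz : φ (v + r • w) = 0 := by
      rw [hadd, hsm, pow_two, ← hr]
      field_simp
      linear_combination φ v * h2
    have : v + r • w ∈ M₀ ⊓ L := ⟨hz, hmem⟩
    rw [hL.inf_eq_bot] at this
    have h0 : v + r • w = 0 := (Submodule.mem_bot _).1 this
    refine ⟨-r, ?_⟩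
    rw [neg_smul]
    exact eq_neg_of_add_eq_zero_left h0
  -- `S` fixes `w`
  have hfixw : ∀ a ∈ S, a w = w := by
    intro a ha
    have haA : a ∈ Algebra.adjoin F S := Algebra.subset_adjoin ha
    have hxw : a w ∈ L := L.smul_mem (⟨a, haA⟩ : Algebra.adjoin F S) hwL
    obtain ⟨s, hs⟩ := hline _ hxw
    have h1 : φ (a w) = φ w := hinv a ha w
    rw [hs, hsm] at h1
    have h3 : (s - 1) ^ 2 = 0 := by
      have h4 : (s ^ 2 - 1) * φ w = 0 := by linear_combination h1
      have h5 : s ^ 2 - 1 = 0 := (mul_eq_zero.1 h4).resolve_right hφw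
      linear_combination h5 + (1 - s) * h2
    have h6 : s = 1 := by
      have := (pow_eq_zero_iff (two_ne_zero)).1 h3
      exact sub_eq_zero.1 this
    rw [hs, h6, one_smul]
  have hfixL : ∀ a ∈ S, ∀ v ∈ L, a v = v := by
    intro a ha v hv
    obtain ⟨r, rfl⟩ := hline v hv
    rw [map_smul, hfixw a ha]
  -- `L` is simple
  have hLsimple : IsSimpleModule (Algebra.adjoin F S) L := by
    rw [isSimpleModule_iff_isAtom]
    refine ⟨hLne, fun b hb => ?_⟩
    by_contra hbne
    obtain ⟨u, hub, hu0⟩ := (Submodule.ne_bot_iff b).1 hbne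
    obtain ⟨r, hr⟩ := hline u (hb.le hub)
    have hr0 : r ≠ 0 := by
      rintro rfl
      rw [zero_smul] at hr
      exact hu0 hr
    have hwb : w ∈ b := by
      have : w = r⁻¹ • u := by rw [hr, smul_smul, inv_mul_cancel₀ hr0, one_smul]
      rw [this]
      exact hFsm b _ _ hub
    have hLb : L ≤ b := by
      intro v hv
      obtain ⟨s, rfl⟩ := hline v hv
      exact hFsm b _ _ hwb
    exact lt_irrefl _ (lt_of_le_of_lt hLb hb)
  -- every simple submodule is fixed pointwise
  have hfix_simple : ∀ (m : Submodule (Algebra.adjoin F S) V), IsSimpleModule (Algebra.adjoin F S) m →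
      ∀ a ∈ S, ∀ v ∈ m, a v = v := by
    intro m hm a ha v hv
    haveI := hm
    haveI := hLsimple
    obtain ⟨e⟩ := hiso L m
    have haA : a ∈ Algebra.adjoin F S := Algebra.subset_adjoin ha
    set a' : Algebra.adjoin F S := ⟨a, haA⟩ with ha'
    have h1 : e ((a' • (⟨v, hv⟩ : m) : m)) = (a' • e ⟨v, hv⟩ : L) := map_smul e a' _
    have h2' : (a' • e ⟨v, hv⟩ : L) = e ⟨v, hv⟩ := by
      apply Subtype.ext
      show a ((e ⟨v, hv⟩ : L) : V) = _
      exact hfixL a ha _ (e ⟨v, hv⟩).2
    rw [h2'] at h1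
    have h3 : (a' • (⟨v, hv⟩ : m) : m) = ⟨v, hv⟩ := e.injective h1
    have h4 := congrArg (fun z : m => (z : V)) h3
    exact h4
  have htop : sSup {m : Submodule (Algebra.adjoin F S) V | IsSimpleModule (Algebra.adjoin F S) m} = ⊤ :=
    IsSemisimpleModule.sSup_simples_eq_top _ _
  intro a ha v
  have hv : v ∈ sSup {m : Submodule (Algebra.adjoin F S) V | IsSimpleModule (Algebra.adjoin F S) m} := by
    rw [htop]; exact Submodule.mem_top
  rw [sSup_eq_iSup'] at hv
  refine Submodule.iSup_induction _ (motive := fun v => a v = v) hv ?_ ?_ ?_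
  · rintro ⟨m, hm⟩ u hu
    exact hfix_simple m hm a ha u hu
  · exact map_zero a
  · intro u u' hu hu'
    rw [map_add, hu, hu']

end generic

end Cfsg.Agent.Lib.Helper36.OeCFieldSim

namespace Cfsg.Agent.Lib.Helper55.Oe

open Cfsg Cfsg.Geo Cfsg.Agent.Lib.Helper99.Asch
open scoped MatrixGroups Matrix Kronecker

variable {n : ℕ} {F : Type*} [Field F] [Fintype F]

/-- ASCHOE-[C-FIELDSIM] -/
theorem quad_similarity_of_commutant {Q : (Fin n → F) → F} (hQ : IsNondegenerateQuadraticForm Q)
    (N : Subgroup (GL (Fin n) F)) (hN : N ≤ isometryGroup F Q)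
    (hss : IsSemisimpleModule (endAlg N) (Fin n → F)) (hiso : IsIsotypic (endAlg N) (Fin n → F))
    (hns : ¬ N ≤ scalars (Fin n) F) (k : Matrix (Fin n) (Fin n) F) (hk : k ∈ commutant N) (c : F)
    (hkc : ∀ u v : Fin n → F, QuadraticMap.polar Q (k *ᵥ u) (k *ᵥ v) = c * QuadraticMap.polar Q u v) :
    ∀ v : Fin n → F, Q (k *ᵥ v) = c * Q v := by
  classical
  set φ : (Fin n → F) → F := fun v => Q (k *ᵥ v) - c * Q v with hφ
  have hadd : ∀ u v, φ (u + v) = φ u + φ v := by
    intro u v
    have h1 := hkc u v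
    unfold QuadraticMap.polar at h1
    rw [← Matrix.mulVec_add] at h1
    simp only [hφ]
    linear_combination h1
  have hsm : ∀ (a : F) (v : Fin n → F), φ (a • v) = a ^ 2 * φ v := by
    intro a v
    simp only [hφ]
    rw [Matrix.mulVec_smul, hQ.smul, hQ.smul]
    ring
  suffices hzero : ∀ v, φ v = 0 by
    intro v
    exact sub_eq_zero.1 (hzero v)
  by_cases h2 : (2 : F) = 0
  swap
  · intro v
    have h4 := hsm 2 v
    rw [two_smul, hadd] at h4
    have h5 : 2 * φ v = 0 := by linear_combination -h4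
    exact (mul_eq_zero.1 h5).resolve_left h2
  -- characteristic 2: `φ` is `N`-invariant
  have hinv : ∀ x ∈ N, ∀ v, φ ((x : Matrix (Fin n) (Fin n) F) *ᵥ v) = φ v := by
    intro x hx v
    have hcomm : (x : Matrix (Fin n) (Fin n) F) * k = k * (x : Matrix (Fin n) (Fin n) F) :=
      (Subalgebra.mem_centralizer_iff F).1 hk _ ⟨x, hx, rfl⟩
    have hQx : ∀ w, Q ((x : Matrix (Fin n) (Fin n) F) *ᵥ w) = Q w := fun w => hN hx w w
    simp only [hφ]
    rw [Matrix.mulVec_mulVec, ← hcomm, ← Matrix.mulVec_mulVec, hQx, hQx]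
  by_contra hne
  push_neg at hne
  obtain ⟨w₀, hw₀⟩ := hne
  apply hns
  have hall := Cfsg.Agent.Lib.Helper36.OeCFieldSim.fixed_of_invariant_functional
    ((fun g : GL (Fin n) F => Matrix.toLin' (g : Matrix (Fin n) (Fin n) F)) '' (N : Set (GL (Fin n) F)))
    hss hiso h2 φ hadd hsm (by
      rintro a ⟨x, hx, rfl⟩ v
      show φ (Matrix.toLin' (x : Matrix (Fin n) (Fin n) F) v) = φ v
      rw [Matrix.toLin'_apply]
      exact hinv x hx v) w₀ hw₀
  intro x hx
  have hx1 : x = 1 := by
    apply Units.ext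
    rw [Units.val_one]
    apply Matrix.toLin'.injective
    apply LinearMap.ext
    intro v
    rw [hall _ ⟨x, hx, rfl⟩ v, Matrix.toLin'_one, LinearMap.id_apply]
  rw [hx1]
  exact Subgroup.one_mem _

end Cfsg.Agent.Lib.Helper55.Oe
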