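/-
helper36: ASCHOE-[NAIZ] (sheet B of helper55): `NAIq` gives the dichotomy scalar / absolutely irreducible for every
subgroup of `H · scalars` normalised by `H`.
-/
import Mathlib
import Cfsg.Prelude.Def_GeometricClasses
import Cfsg.Agent.Lib.Helper99.AschDefs
import Cfsg.Agent.Lib.Helper55.Oe.Defs
import Cfsg.Agent.Lib.Helper44.SubF1

set_option autoImplicit false
set_option linter.unusedSectionVars false

namespace Cfsg.Agent.Lib.Helper36.OeNaiz

open Cfsg Cfsg.Geo Cfsg.Agent.Lib.Helper99.Asch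
open scoped MatrixGroups Matrix Kronecker

variable {n : ℕ} {F : Type*} [Field F]

/-- absolute irreducibility passes from `N₁` to `N` when every element of `N₁` is a scalar multiple of an element
of `N` -/
theorem absIrred_of_scalar_multiples (N₁ N : Subgroup (GL (Fin n) F))
    (h : ∀ x₁ ∈ N₁, ∃ x ∈ N, ∃ c : F, (x₁ : Matrix (Fin n) (Fin n) F) = c • (x : Matrix (Fin n) (Fin n) F))
    (habs : ActsAbsolutelyIrreducibly (matrixSet N₁)) : ActsAbsolutelyIrreducibly (matrixSet N) := by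
  refine ⟨fun W hW => habs.1 W ?_, fun M hM => habs.2 M ?_⟩
  · rintro s ⟨x₁, hx₁, rfl⟩
    obtain ⟨x, hx, c, hc⟩ := h x₁ hx₁
    have h1 := hW (x : Matrix (Fin n) (Fin n) F) ⟨x, hx, rfl⟩
    rintro _ ⟨w, hw, rfl⟩
    show Matrix.toLin' (x₁ : Matrix (Fin n) (Fin n) F) w ∈ W
    rw [hc, map_smul, LinearMap.smul_apply]
    exact W.smul_mem c (h1 ⟨w, hw, rfl⟩)
  · rintro s ⟨x₁, hx₁, rfl⟩
    obtain ⟨x, hx, c, hc⟩ := h x₁ hx₁
    have h1 := hM (x : Matrix (Fin n) (Fin n) F) ⟨x, hx, rfl⟩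
    show M * (x₁ : Matrix (Fin n) (Fin n) F) = (x₁ : Matrix (Fin n) (Fin n) F) * M
    rw [hc, Matrix.mul_smul, Matrix.smul_mul, h1]

end Cfsg.Agent.Lib.Helper36.OeNaiz

namespace Cfsg.Agent.Lib.Helper55.Oe

open Cfsg Cfsg.Geo Cfsg.Agent.Lib.Helper99.Asch Cfsg.Agent.Lib.Helper36.OeNaiz
open Cfsg.Agent.Lib.Helper44.SubF
open scoped MatrixGroups Matrix Kronecker

variable {n : ℕ} {F : Type*} [Field F] [Fintype F]

/-- ASCHOE-[NAIZ] -/
theorem naiz_of_naiq {Q : (Fin n → F) → F} {H : Subgroup (GL (Fin n) F)} (hH : H ≤ isometryGroup F Q)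
    (hNAI : NAIq Q H) (N : Subgroup (GL (Fin n) F)) (hnrm : Nrm H N) (hle : N ≤ H ⊔ scalars (Fin n) F) :
    N ≤ scalars (Fin n) F ∨ ActsAbsolutelyIrreducibly (matrixSet N) := by
  classical
  set Z := scalars (Fin n) F with hZ
  set N₁ : Subgroup (GL (Fin n) F) := (N ⊔ Z) ⊓ H with hN₁
  have hN₁I : N₁ ≤ isometryGroup F Q := fun x hx => hH hx.2
  have hN₁nrm : ∀ h ∈ H, ∀ x ∈ N₁, h * x * h⁻¹ ∈ N₁ := by
    intro h hh x hx
    refine ⟨?_, H.mul_mem (H.mul_mem hh hx.2) (H.inv_mem hh)⟩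
    obtain ⟨y, hy, z, hz, rfl⟩ := (Subgroup.mem_sup_of_normal_right).1 hx.1
    have hzc : h * (y * z) * h⁻¹ = (h * y * h⁻¹) * z := by
      obtain ⟨c, rfl⟩ := (Cfsg.Agent.Lib.Helper44.SubF.mem_scalars_iff z).1 hz
      have := scalarGL_comm c h⁻¹
      calc h * (y * scalarGL c) * h⁻¹ = h * y * (scalarGL c * h⁻¹) := by group
        _ = h * y * (h⁻¹ * scalarGL c) := by rw [this]
        _ = h * y * h⁻¹ * scalarGL c := by group
    rw [hzc]
    exact (Subgroup.mem_sup_of_normal_right).2 ⟨_, hnrm h hh y hy, z, hz, rfl⟩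
  rcases hNAI N₁ hN₁I hN₁nrm with h1 | h1
  · -- `N₁` scalar ⇒ `N` scalar
    left
    intro x hx
    obtain ⟨h, hh, z, hz, rfl⟩ := (Subgroup.mem_sup_of_normal_right).1 (hle hx)
    have hh1 : h ∈ N₁ := by
      refine ⟨?_, hh⟩
      have : h = (h * z) * z⁻¹ := by group
      rw [this]
      exact Subgroup.mul_mem _ (Subgroup.mem_sup_left hx) (Subgroup.mem_sup_right (Z.inv_mem hz))
    exact Z.mul_mem (h1 hh1) hz
  · -- `N₁` absolutely irreducible ⇒ `N` absolutely irreducible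
    right
    refine absIrred_of_scalar_multiples N₁ N ?_ h1
    intro x₁ hx₁
    obtain ⟨y, hy, z, hz, rfl⟩ := (Subgroup.mem_sup_of_normal_right).1 hx₁.1
    obtain ⟨c, rfl⟩ := (Cfsg.Agent.Lib.Helper44.SubF.mem_scalars_iff z).1 hz
    refine ⟨y, hy, (c : F), ?_⟩
    rw [← scalarGL_comm, scalarGL_mul_val]

end Cfsg.Agent.Lib.Helper55.Oe
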