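import Mathlib
import Cfsg.Prelude.Def_GeometricClasses
import Cfsg.Agent.Lib.Helper55.Oe.Defs
import Cfsg.Agent.Lib.Helper55.Oe.Between
import Cfsg.Agent.Lib.Helper19.OePIrr
import Cfsg.Agent.Lib.Helper19.OeGPerp
import Cfsg.Agent.Lib.Helper19.OeGEven
import Cfsg.Agent.Lib.Helper51.AschOPerp

/-!
# Project ASCHOE (helper55): small kit for the row assemblies (helper36)
-/

set_option autoImplicit false

namespace Cfsg.Agent.Lib.Helper36.OeRowKit

open Cfsg Cfsg.Geo Cfsg.Agent.Lib.Helper55.Oe
open scoped MatrixGroups Matrix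

variable {n : ℕ} {F : Type*} [Field F]

theorem odd_card_of_two_ne_zero [Fintype F] (h2 : (2 : F) ≠ 0) : Odd (Fintype.card F) := by
  rw [Nat.odd_iff]
  apply FiniteField.odd_card_of_char_ne_two
  intro hc
  apply h2
  have : CharP F 2 := ringChar.of_eq hc
  exact CharTwo.two_eq_zero

theorem not_odd_card_of_two_eq_zero [Fintype F] (h2 : (2 : F) = 0) : ¬ Odd (Fintype.card F) := by
  rw [Nat.not_odd_iff]
  apply FiniteField.even_card_of_char_two
  have : CharP F 2 := CharTwo.of_one_ne_zero_of_two_eq_zero one_ne_zero h2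
  exact ringChar.eq F 2

theorem two_ne_zero_of_odd_card [Fintype F] (h : Odd (Fintype.card F)) : (2 : F) ≠ 0 :=
  fun h2 => not_odd_card_of_two_eq_zero h2 h

theorem two_eq_zero_of_not_odd_card [Fintype F] (h : ¬ Odd (Fintype.card F)) : (2 : F) = 0 := by
  by_contra h2
  exact h (odd_card_of_two_ne_zero h2)

theorem Q_zero {Q : (Fin n → F) → F} (hQ : IsNondegenerateQuadraticForm Q) : Q 0 = 0 := by
  have := hQ.smul 0 0
  simpa using this

/-- a totally singular subspace is proper -/
theorem ne_top_of_totallySingular {Q : (Fin n → F) → F} (hQ : IsNondegenerateQuadraticForm Q)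
    (hn : 0 < n) (W : Submodule F (Fin n → F)) (hts : IsTotallySingularQuad Q W) : W ≠ ⊤ := by
  intro hT
  have hQ0 : ∀ v, Q v = 0 := fun v => hts v (by rw [hT]; trivial)
  let v : Fin n → F := fun _ => 1
  have hv : v ≠ 0 := by
    intro h
    have := congrFun h ⟨0, hn⟩
    simp [v] at this
  obtain ⟨x, hx⟩ := (hQ.nondegenerate v hv).1
  apply hx
  unfold QuadraticMap.polar
  rw [hQ0, hQ0, hQ0]
  simp

/-- properness of the stabiliser of a proper non-zero subspace -/
theorem not_omegaGL_le_subspaceStabilizer [Fintype F] {Q : (Fin n → F) → F}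
    (hQ : IsNondegenerateQuadraticForm Q) (hn : 7 ≤ n) (W : Submodule F (Fin n → F)) (h0 : W ≠ ⊥)
    (hT : W ≠ ⊤) : ¬ omegaGL Q ≤ subspaceStabilizer W := by
  intro hle
  have hinv : ∀ s ∈ matrixSet (omegaGL Q), W.map (Matrix.toLin' s) ≤ W := by
    rintro _ ⟨g, hg, rfl⟩
    rintro _ ⟨x, hx, rfl⟩
    rw [Matrix.toLin'_apply]
    exact ((hle hg) x).1 hx
  rcases omegaGL_irreducible hQ hn W hinv with h | h
  · exact h0 h
  · exact hT h

theorem areIsometricFor_refl (Q : (Fin n → F) → F) (W : Submodule F (Fin n → F)) :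
    AreIsometricFor Q W W := ⟨LinearEquiv.refl F W, fun _ => rfl⟩

theorem areIsometricFor_symm {Q : (Fin n → F) → F} {W W' : Submodule F (Fin n → F)}
    (h : AreIsometricFor Q W W') : AreIsometricFor Q W' W := by
  obtain ⟨e, he⟩ := h
  refine ⟨e.symm, fun w => ?_⟩
  have := he (e.symm w)
  rw [LinearEquiv.apply_symm_apply] at this
  exact this.symm

/-- two orthogonal complementary isometric non-degenerate subspaces form an orthogonal decomposition -/
theorem isOrthogonalMDecomposition_pair {Q : (Fin n → F) → F} (W W' : Submodule F (Fin n → F))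
    (hW : IsNondegenerateOn (QuadraticMap.polar Q) W) (hW' : IsNondegenerateOn (QuadraticMap.polar Q) W')
    (horth : AreOrthogonalFor (QuadraticMap.polar Q) W W') (hinf : W ⊓ W' = ⊥) (hsup : W ⊔ W' = ⊤)
    (hiso : AreIsometricFor Q W W') (m : ℕ) (hm : 0 < m) (hfr : Module.finrank F W = m)
    (hfr' : Module.finrank F W' = m) : IsOrthogonalMDecomposition Q m ![W, W'] := by
  have hD : ∀ i : Fin 2, (![W, W'] : Fin 2 → Submodule F (Fin n → F)) i = if i = 0 then W else W' := by
    intro i; fin_cases i <;> rfl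
  refine ⟨⟨⟨le_refl 2, hm, ?_, ?_, ?_⟩, ?_, ?_⟩, ?_⟩
  · intro i; fin_cases i
    · exact hfr
    · exact hfr'
  · intro i
    fin_cases i
    · refine Disjoint.mono_right ?_ (disjoint_iff.mpr hinf)
      refine iSup₂_le fun j hj => ?_
      fin_cases j
      · exact absurd rfl hj
      · exact le_rfl
    · refine Disjoint.mono_right ?_ (disjoint_iff.mpr hinf).symm
      refine iSup₂_le fun j hj => ?_
      fin_cases j
      · exact le_rfl
      · exact absurd rfl hj
  · rw [eq_top_iff, ← hsup]
    exact sup_le (le_iSup (![W, W'] : Fin 2 → Submodule F (Fin n → F)) 0)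
      (le_iSup (![W, W'] : Fin 2 → Submodule F (Fin n → F)) 1)
  · intro i; fin_cases i
    · exact hW
    · exact hW'
  · intro i j hij
    fin_cases i <;> fin_cases j
    · exact absurd rfl hij
    · exact horth
    · intro u hu v hv
      show QuadraticMap.polar Q u v = 0
      rw [QuadraticMap.polar_comm]
      exact horth v hv u hu
    · exact absurd rfl hij
  · intro i j
    fin_cases i <;> fin_cases j
    · exact areIsometricFor_refl Q W
    · exact hiso
    · exact areIsometricFor_symm hiso
    · exact areIsometricFor_refl Q W'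

/-- a group stabilising both members stabilises the pair -/
theorem le_decompositionStabilizer_pair (W W' : Submodule F (Fin n → F)) :
    subspaceStabilizer W ⊓ subspaceStabilizer W' ≤ decompositionStabilizer ![W, W'] := by
  rintro g ⟨hg, hg'⟩
  refine ⟨1, fun i => ?_⟩
  have key : ∀ (U : Submodule F (Fin n → F)), g ∈ subspaceStabilizer U →
      U.map (Matrix.toLin' (g : Matrix (Fin n) (Fin n) F)) = U := by
    intro U hU
    apply le_antisymm
    · rintro _ ⟨x, hx, rfl⟩
      rw [Matrix.toLin'_apply]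
      exact (hU x).1 hx
    · intro y hy
      have hgy : (g : Matrix (Fin n) (Fin n) F) *ᵥ
          (((g⁻¹ : GL (Fin n) F) : Matrix (Fin n) (Fin n) F) *ᵥ y) = y := by
        rw [Matrix.mulVec_mulVec, ← Units.val_mul, mul_inv_cancel, Units.val_one, Matrix.one_mulVec]
      refine ⟨((g⁻¹ : GL (Fin n) F) : Matrix (Fin n) (Fin n) F) *ᵥ y, ?_, ?_⟩
      · rw [SetLike.mem_coe]
        apply (hU _).2
        show (g : Matrix (Fin n) (Fin n) F) *ᵥ _ ∈ U
        rw [hgy]
        exact hy
      · rw [Matrix.toLin'_apply, hgy]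
  fin_cases i
  · exact key W hg
  · exact key W' hg'

end Cfsg.Agent.Lib.Helper36.OeRowKit
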