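/-
helper36: ASCHOE-[T-TENSORALT] (sheet of helper55): a quadratic form whose polar form is a tensor product of two
symplectic forms and which vanishes on the pure tensors is of plus type.
-/
import Mathlib
import Cfsg.Prelude.Def_GeometricClasses
import Cfsg.Agent.Lib.Helper99.AschDefs
import Cfsg.Agent.Lib.Helper55.Oe.Defs
import Cfsg.Agent.Lib.Helper5.AschOBasic
import Cfsg.Agent.Lib.Helper36.SympAdapted

set_option autoImplicit false
set_option linter.unusedSectionVars false
set_option linter.unusedVariables false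

namespace Cfsg.Agent.Lib.Helper36.OeTensorAlt

open Cfsg Cfsg.Geo
open scoped MatrixGroups Matrix Kronecker

variable {n : ℕ} {F : Type*} [Field F]

/-- a Lagrangian family for a symplectic form on `F^n₁` -/
theorem exists_lagrangian_family {n₁ : ℕ} (f₁ : (Fin n₁ → F) → (Fin n₁ → F) → F)
    (h₁ : IsSymplecticForm f₁) :
    ∃ (l : ℕ) (y : Fin l → (Fin n₁ → F)), 2 * l = n₁ ∧ LinearIndependent F y ∧
      ∀ i j, f₁ (y i) (y j) = 0 := by
  classical
  set B : LinearMap.BilinForm F (Fin n₁ → F) :=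
    LinearMap.mk₂ F f₁ h₁.bilinear.add_left h₁.bilinear.smul_left h₁.bilinear.add_right
      h₁.bilinear.smul_right with hB
  have hBf : ∀ u v, B u v = f₁ u v := fun u v => rfl
  have hA : B.IsAlt := fun x => h₁.alternating x
  have hnd : B.Nondegenerate := by
    refine ⟨fun x hx => ?_, fun y hy => ?_⟩
    · by_contra h0
      obtain ⟨z, hz⟩ := (h₁.nondegenerate x h0).2
      exact hz (hx z)
    · by_contra h0
      obtain ⟨z, hz⟩ := (h₁.nondegenerate y h0).1
      exact hz (hy z)
  obtain ⟨l, u, v, huv, huu, hvv, hexp⟩ :=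
    Cfsg.Agent.Lib.Helper36.exists_symplectic_family B hA hnd
  let e : Fin l ⊕ Fin l → (Fin n₁ → F) := Sum.elim u v
  let ε : Fin l ⊕ Fin l → Module.Dual F (Fin n₁ → F) :=
    Sum.elim (fun i => B.flip (v i)) (fun i => B (u i))
  have hdb : Module.DualBases e ε :=
    { eval_same := by
        rintro (i | i)
        · show B (u i) (v i) = 1
          rw [huv, if_pos rfl]
        · show B (u i) (v i) = 1
          rw [huv, if_pos rfl]
      eval_of_ne := by
        rintro (i | i) (j | j) hij
        · show B (u j) (v i) = 0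
          rw [huv, if_neg]
          rintro rfl; exact hij rfl
        · show B (v j) (v i) = 0
          exact hvv j i
        · show B (u i) (u j) = 0
          exact huu i j
        · show B (u i) (v j) = 0
          rw [huv, if_neg]
          rintro rfl; exact hij rfl
      total := by
        intro m₁ m₂ h
        rw [← hexp m₁, ← hexp m₂]
        congr 1
        · refine Finset.sum_congr rfl fun i _ => ?_
          have : B m₁ (v i) = B m₂ (v i) := h (Sum.inl i)
          rw [this]
        · refine Finset.sum_congr rfl fun i _ => ?_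
          have : B (u i) m₁ = B (u i) m₂ := h (Sum.inr i)
          rw [this] }
  refine ⟨l, u, ?_, ?_, fun i j => huu i j⟩
  · have h1 := Module.finrank_eq_card_basis hdb.basis
    rw [Module.finrank_fin_fun, Fintype.card_sum, Fintype.card_fin] at h1
    omega
  · have h1 : LinearIndependent F e := by
      have := hdb.basis.linearIndependent
      rwa [hdb.coe_basis] at this
    exact h1.comp Sum.inl Sum.inl_injective

/-- the tensor form on a pair of pure tensors -/
theorem formOfGram_pure {n₁ n₂ : ℕ} (f₁ : (Fin n₁ → F) → (Fin n₁ → F) → F)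
    (f₂ : (Fin n₂ → F) → (Fin n₂ → F) → F) (h₁ : IsBilinearForm f₁) (h₂ : IsBilinearForm f₂)
    (x₁ x₁' : Fin n₁ → F) (x₂ x₂' : Fin n₂ → F) :
    formOfGram id (gramMatrix f₁ ⊗ₖ gramMatrix f₂) (fun a : Fin n₁ × Fin n₂ => x₁ a.1 * x₂ a.2)
      (fun a : Fin n₁ × Fin n₂ => x₁' a.1 * x₂' a.2) = f₁ x₁ x₁' * f₂ x₂ x₂' := by
  rw [Cfsg.Agent.Lib.Helper5.AschO.bilin_eq_dotProduct h₁,
    Cfsg.Agent.Lib.Helper5.AschO.bilin_eq_dotProduct h₂]
  simp only [formOfGram, dotProduct, Matrix.mulVec, id, Fintype.sum_prod_type,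
    Matrix.kroneckerMap_apply]
  rw [Finset.sum_mul_sum]
  refine Finset.sum_congr rfl fun a _ => Finset.sum_congr rfl fun b _ => ?_
  rw [Finset.mul_sum, Finset.mul_sum, Finset.sum_mul_sum]
  refine Finset.sum_congr rfl fun a' _ => Finset.sum_congr rfl fun b' _ => ?_
  ring

/-- `Q` vanishes on the span of a family of pairwise orthogonal singular vectors -/
theorem Q_eq_zero_on_span {Q : (Fin n → F) → F} (hQ : IsNondegenerateQuadraticForm Q) {κ : Type*}
    (t : κ → (Fin n → F)) (h0 : ∀ p, Q (t p) = 0)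
    (hp : ∀ p p', QuadraticMap.polar Q (t p) (t p') = 0) :
    ∀ v ∈ Submodule.span F (Set.range t), Q v = 0 := by
  have hbil := hQ.polar_bilinear
  have hz1 : ∀ w, QuadraticMap.polar Q 0 w = 0 := by
    intro w
    have := hbil.smul_left 0 0 w
    simpa using this
  have hz2 : ∀ w, QuadraticMap.polar Q w 0 = 0 := by
    intro w
    have := hbil.smul_right 0 w 0
    simpa using this
  have hQ0 : Q 0 = 0 := by
    have := hQ.smul 0 0
    simpa using this
  have s1 : ∀ v ∈ Submodule.span F (Set.range t), ∀ p', QuadraticMap.polar Q v (t p') = 0 := by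
    intro v hv p'
    induction hv using Submodule.span_induction with
    | mem x hx =>
      obtain ⟨p, rfl⟩ := hx
      exact hp p p'
    | zero => exact hz1 _
    | add x y _ _ ihx ihy => rw [hbil.add_left, ihx, ihy, add_zero]
    | smul a x _ ih => rw [hbil.smul_left, ih, mul_zero]
  have s2 : ∀ v ∈ Submodule.span F (Set.range t), ∀ w ∈ Submodule.span F (Set.range t),
      QuadraticMap.polar Q v w = 0 := by
    intro v hv w hw
    induction hw using Submodule.span_induction with
    | mem x hx =>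
      obtain ⟨p, rfl⟩ := hx
      exact s1 v hv p
    | zero => exact hz2 _
    | add x y _ _ ihx ihy => rw [hbil.add_right, ihx, ihy, add_zero]
    | smul a x _ ih => rw [hbil.smul_right, ih, mul_zero]
  intro v hv
  induction hv using Submodule.span_induction with
  | mem x hx =>
    obtain ⟨p, rfl⟩ := hx
    exact h0 p
  | zero => exact hQ0
  | add x y hx hy ihx ihy =>
    have := s2 x hx y hy
    unfold QuadraticMap.polar at this
    linear_combination this + ihx + ihy
  | smul a x _ ih => rw [hQ.smul, ih, mul_zero]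

end Cfsg.Agent.Lib.Helper36.OeTensorAlt

namespace Cfsg.Agent.Lib.Helper55.Oe

open Cfsg Cfsg.Geo Cfsg.Agent.Lib.Helper99.Asch Cfsg.Agent.Lib.Helper36.OeTensorAlt
open scoped MatrixGroups Matrix Kronecker

variable {n : ℕ} {F : Type*} [Field F] [Fintype F]

/-- ASCHOE-[T-TENSORALT] -/
theorem isPlusTypeOn_top_of_tensorAlt {Q : (Fin n → F) → F} (hQ : IsNondegenerateQuadraticForm Q)
    (n₁ n₂ : ℕ) (e : Fin n ≃ Fin n₁ × Fin n₂) (P : GL (Fin n) F)
    (f₁ : (Fin n₁ → F) → (Fin n₁ → F) → F) (f₂ : (Fin n₂ → F) → (Fin n₂ → F) → F)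
    (h₁ : IsSymplecticForm f₁) (h₂ : IsSymplecticForm f₂)
    (hT : IsTensorFormStructure id (QuadraticMap.polar Q) f₁ f₂ e P)
    (hpure : ∀ (x₁ : Fin n₁ → F) (x₂ : Fin n₂ → F),
      Q (Matrix.mulVec (P : Matrix (Fin n) (Fin n) F)
        ((fun a : Fin n₁ × Fin n₂ => x₁ a.1 * x₂ a.2) ∘ e)) = 0) :
    IsPlusTypeOn Q ⊤ := by
  classical
  obtain ⟨l, y, hl, hyli, hyiso⟩ := exists_lagrangian_family f₁ h₁
  obtain ⟨c, hc, hform⟩ := hT
  have hn : n = n₁ * n₂ := by
    have := Fintype.card_congr e
    simpa using this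
  -- the linear map `x ↦ P (x ∘ e)`
  let Φ : (Fin n₁ × Fin n₂ → F) →ₗ[F] (Fin n → F) :=
    (Matrix.toLin' (P : Matrix (Fin n) (Fin n) F)).comp (LinearMap.funLeft F F e)
  have hΦ : ∀ x, Φ x = (P : Matrix (Fin n) (Fin n) F) *ᵥ (x ∘ e) := fun x => rfl
  have hΦinj : Function.Injective Φ := by
    intro x x' h
    rw [hΦ, hΦ] at h
    have h1 : x ∘ e = x' ∘ e :=
      (Matrix.mulVec_injective_iff_isUnit.2 ⟨P, rfl⟩) h
    exact e.surjective.injective_comp_right h1
  let z : Fin l × Fin n₂ → (Fin n₁ × Fin n₂ → F) :=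
    fun p a => y p.1 a.1 * (Pi.single p.2 1 : Fin n₂ → F) a.2
  let t : Fin l × Fin n₂ → (Fin n → F) := fun p => Φ (z p)
  have hQt : ∀ p, Q (t p) = 0 := fun p => hpure (y p.1) (Pi.single p.2 1)
  have hpolar : ∀ p p', QuadraticMap.polar Q (t p) (t p') = 0 := by
    intro p p'
    show QuadraticMap.polar Q ((P : Matrix (Fin n) (Fin n) F) *ᵥ (z p ∘ e))
      ((P : Matrix (Fin n) (Fin n) F) *ᵥ (z p' ∘ e)) = 0
    rw [hform]
    show c * formOfGram id (gramMatrix f₁ ⊗ₖ gramMatrix f₂)
      (fun a : Fin n₁ × Fin n₂ => y p.1 a.1 * (Pi.single p.2 1 : Fin n₂ → F) a.2)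
      (fun a : Fin n₁ × Fin n₂ => y p'.1 a.1 * (Pi.single p'.2 1 : Fin n₂ → F) a.2) = 0
    rw [formOfGram_pure f₁ f₂ h₁.bilinear h₂.bilinear, hyiso, zero_mul, mul_zero]
  have hli : LinearIndependent F t := by
    rw [Fintype.linearIndependent_iff]
    intro g hg p
    have h1 : Φ (∑ p, g p • z p) = Φ 0 := by
      rw [map_sum, map_zero, ← hg]
      exact Finset.sum_congr rfl fun p _ => map_smul _ _ _
    have h2 : ∑ p, g p • z p = 0 := hΦinj h1
    obtain ⟨j, b⟩ := p
    have h3 : ∑ j', g (j', b) • y j' = 0 := by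
      ext a
      have := congrFun h2 (a, b)
      simp only [Finset.sum_apply, Pi.smul_apply, smul_eq_mul, z, Fintype.sum_prod_type,
        Pi.zero_apply] at this ⊢
      rw [← this]
      refine Finset.sum_congr rfl fun j' _ => ?_
      rw [Finset.sum_eq_single b]
      · rw [Pi.single_eq_same, mul_one]
      · intro b' _ hb'
        rw [Pi.single_eq_of_ne (Ne.symm hb'), mul_zero, mul_zero]
      · intro hb; exact absurd (Finset.mem_univ b) hb
    exact Fintype.linearIndependent_iff.1 hyli (fun j' => g (j', b)) h3 j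
  refine ⟨Submodule.span F (Set.range t), le_top, Q_eq_zero_on_span hQ t hQt hpolar, ?_⟩
  rw [finrank_span_eq_card hli, finrank_top, Module.finrank_fin_fun, Fintype.card_prod,
    Fintype.card_fin, Fintype.card_fin, hn, ← hl]
  ring

end Cfsg.Agent.Lib.Helper55.Oe
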