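import Mathlib
import Cfsg.Agent.Lib.Helper36.OmegaTrans2
import Cfsg.Agent.Lib.Helper36.DicksonMatrix

set_option autoImplicit false
set_option linter.unusedSectionVars false

/-!
# Matrix forms of the transitivity results for `Ω`
-/

namespace Cfsg.Agent.Lib.Helper36

open Module Matrix

variable {ι : Type} [Fintype ι] [DecidableEq ι] {F : Type*} [Field F]

/-- Transport of an existence statement from the abstract commutator subgroup to `Cfsg.Omega`. -/
theorem exists_Omega_of_exists_commutator (Q : QuadraticForm F (ι → F))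
    (P : ((ι → F) →ₗ[F] (ι → F)) → Prop)
    (h : ∃ g' : ↥(isoGroup Q), g' ∈ commutator ↥(isoGroup Q) ∧
      P ((g' : (ι → F) ≃ₗ[F] (ι → F)) : (ι → F) →ₗ[F] (ι → F))) :
    ∃ g : ↥(Cfsg.isometryGroup F (⇑Q)), g ∈ Cfsg.Omega F (⇑Q) ∧
      P (Matrix.mulVecLin ((g : GL ι F) : Matrix ι ι F)) := by
  obtain ⟨g', hg', hP⟩ := h
  refine ⟨(isometryGroupEquiv Q).symm g', ?_, ?_⟩
  · change _ ∈ commutator ↥(Cfsg.isometryGroup F (⇑Q))
    rw [mem_commutator_iff_equiv (isometryGroupEquiv Q), MulEquiv.apply_symm_apply]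
    exact hg'
  · have h1 : Matrix.mulVecLin ((((isometryGroupEquiv Q).symm g' :
        ↥(Cfsg.isometryGroup F (⇑Q))) : GL ι F) : Matrix ι ι F) =
        ((g' : (ι → F) ≃ₗ[F] (ι → F)) : (ι → F) →ₗ[F] (ι → F)) := by
      rw [← glLinEquiv_coe]
      have h2 : glLinEquiv ι F (((isometryGroupEquiv Q).symm g' :
          ↥(Cfsg.isometryGroup F (⇑Q))) : GL ι F) = (g' : (ι → F) ≃ₗ[F] (ι → F)) := by
        have := congrArg (fun x : ↥(isoGroup Q) => (x : (ι → F) ≃ₗ[F] (ι → F)))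
          ((isometryGroupEquiv Q).apply_symm_apply g')
        exact this
      rw [h2]
    rw [h1]
    exact hP

variable [Fintype F]

/-- **`Ω` is transitive on totally singular `k`-subspaces, `2k < n`**, matrix form. -/
theorem exists_Omega_map_ts (Q : QuadraticForm F (ι → F))
    (hQ : (QuadraticMap.polarBilin Q).Nondegenerate)
    (hF : (∀ a b : F, ∃ x : F, x ≠ a ∧ x ≠ b) ∨ Fintype.card ι ≠ 4)
    (U W : Submodule F (ι → F)) (k : ℕ) (hk : 2 * k < Fintype.card ι)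
    (hfU : finrank F U = k) (hfW : finrank F W = k) (hU : ∀ u ∈ U, Q u = 0)
    (hW : ∀ w ∈ W, Q w = 0) :
    ∃ g : ↥(Cfsg.isometryGroup F (⇑Q)), g ∈ Cfsg.Omega F (⇑Q) ∧
      U.map (Matrix.mulVecLin ((g : GL ι F) : Matrix ι ι F)) = W := by
  have hF' : (∀ a b : F, ∃ x : F, x ≠ a ∧ x ≠ b) ∨ Module.finrank F (ι → F) ≠ 4 := by
    rw [Module.finrank_fintype_fun_eq_card]
    exact hF
  apply exists_Omega_of_exists_commutator Q (fun f => U.map f = W)
  exact exists_commutator_map_ts Q hQ hF' U W k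
    (by rw [Module.finrank_fintype_fun_eq_card]; exact hk) hfU hfW hU hW

/-- **`Ω` is transitive on non-degenerate subspaces of each isometry type**, matrix form. -/
theorem exists_Omega_map_nondeg (Q : QuadraticForm F (ι → F))
    (hQ : (QuadraticMap.polarBilin Q).Nondegenerate) (hn : 3 ≤ Fintype.card ι)
    (hF : (∀ a b : F, ∃ x : F, x ≠ a ∧ x ≠ b) ∨ Fintype.card ι ≠ 4)
    (U W : Submodule F (ι → F))
    (hW : W ⊓ LinearMap.BilinForm.orthogonal (QuadraticMap.polarBilin Q) W = ⊥)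
    (e : U ≃ₗ[F] W) (he : ∀ u : U, Q (e u : ι → F) = Q (u : ι → F)) :
    ∃ g : ↥(Cfsg.isometryGroup F (⇑Q)), g ∈ Cfsg.Omega F (⇑Q) ∧
      U.map (Matrix.mulVecLin ((g : GL ι F) : Matrix ι ι F)) = W := by
  have hF' : (∀ a b : F, ∃ x : F, x ≠ a ∧ x ≠ b) ∨ Module.finrank F (ι → F) ≠ 4 := by
    rw [Module.finrank_fintype_fun_eq_card]
    exact hF
  obtain ⟨g₀, hg₀iso, hg₀e⟩ := Cfsg.Agent.Lib.Helper13.witt_quad Q hQ U W e he
  have hmap : U.map (g₀ : (ι → F) →ₗ[F] (ι → F)) = W := by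
    apply le_antisymm
    · rintro _ ⟨x, hx, rfl⟩
      change g₀ x ∈ W
      rw [hg₀e ⟨x, hx⟩]
      exact (e ⟨x, hx⟩).2
    · intro w hw
      refine ⟨(e.symm ⟨w, hw⟩ : ι → F), (e.symm ⟨w, hw⟩).2, ?_⟩
      change g₀ (e.symm ⟨w, hw⟩ : ι → F) = w
      rw [hg₀e (e.symm ⟨w, hw⟩), LinearEquiv.apply_symm_apply]
  apply exists_Omega_of_exists_commutator Q (fun f => U.map f = W)
  exact exists_commutator_map_nondeg Q hQ
    (by rw [Module.finrank_fintype_fun_eq_card]; exact hn) hF' U W hW ⟨g₀, hg₀iso⟩ hmap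

end Cfsg.Agent.Lib.Helper36
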