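import Mathlib
import Cfsg.Agent.Lib.Helper36.OrthSumOdd
import Cfsg.Agent.Lib.Helper36.DicksonMatrix
import Cfsg.Agent.Lib.Helper36.ReflMatrix

set_option autoImplicit false
set_option linter.unusedSectionVars false

/-!
# Orthogonal sums over finite fields: `diag(g, 1)` and `diag(g, g)` in `Ω`, matrix forms
-/

namespace Cfsg.Agent.Lib.Helper36

open Module Matrix

section Abstract

variable {F V V₁ V₂ : Type*} [Field F] [Fintype F] [AddCommGroup V] [Module F V]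
  [AddCommGroup V₁] [Module F V₁] [AddCommGroup V₂] [Module F V₂]
  [FiniteDimensional F V] [FiniteDimensional F V₁] [FiniteDimensional F V₂]

/-- Over a finite field: `g ⊕ 1 ∈ Ω(Q₁ ⊕ Q₂) ↔ g ∈ Ω(Q₁)`. -/
theorem inl_mem_commutator_iff (e : V ≃ₗ[F] V₁ × V₂) (Q : QuadraticForm F V)
    (Q₁ : QuadraticForm F V₁) (Q₂ : QuadraticForm F V₂)
    (hQe : ∀ v, Q v = Q₁ (e v).1 + Q₂ (e v).2)
    (h₁ : (QuadraticMap.polarBilin Q₁).Nondegenerate)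
    (h₂ : (QuadraticMap.polarBilin Q₂).Nondegenerate)
    (hF₁ : (∀ a b : F, ∃ x : F, x ≠ a ∧ x ≠ b) ∨ Module.finrank F V₁ ≠ 4)
    (hF : (∀ a b : F, ∃ x : F, x ≠ a ∧ x ≠ b) ∨ Module.finrank F V ≠ 4) (g : ↥(isoGroup Q₁)) :
    inlIso e Q Q₁ Q₂ hQe g ∈ commutator ↥(isoGroup Q) ↔ g ∈ commutator ↥(isoGroup Q₁) := by
  classical
  by_cases h2 : (2 : F) = 0
  · have : CharP F 2 := CharTwo.of_one_ne_zero_of_two_eq_zero one_ne_zero h2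
    have hsq : ∀ a : F, IsSquare a :=
      fun a => FiniteField.isSquare_of_char_two (ringChar.eq F 2) a
    exact inl_mem_commutator_iff_two e Q Q₁ Q₂ hQe h₁ h₂ hF₁ hF hsq g
  · exact inl_mem_commutator_iff_odd e Q Q₁ Q₂ hQe h2 h₁ h₂ g

/-- Over a finite field: `g ⊕ g ∈ Ω(Q' ⊕ Q')`. -/
theorem inl_mul_inr_self_mem_commutator (e : V ≃ₗ[F] V₁ × V₁) (Q : QuadraticForm F V)
    (Q' : QuadraticForm F V₁) (hQe : ∀ v, Q v = Q' (e v).1 + Q' (e v).2)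
    (h' : (QuadraticMap.polarBilin Q').Nondegenerate)
    (hF : (∀ a b : F, ∃ x : F, x ≠ a ∧ x ≠ b) ∨ Module.finrank F V ≠ 4) (g : ↥(isoGroup Q')) :
    inlIso e Q Q' Q' hQe g * inrIso e Q Q' Q' hQe g ∈ commutator ↥(isoGroup Q) := by
  classical
  by_cases h2 : (2 : F) = 0
  · have : CharP F 2 := CharTwo.of_one_ne_zero_of_two_eq_zero one_ne_zero h2
    have hsq : ∀ a : F, IsSquare a :=
      fun a => FiniteField.isSquare_of_char_two (ringChar.eq F 2) a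
    exact inl_mul_inr_mem_commutator_two e Q Q' Q' hQe h' h' hF hsq g g rfl
  · exact inl_mul_inr_mem_commutator_odd e Q Q' Q' hQe h2 h' h' g g rfl rfl

end Abstract

section Mat

variable {ι₁ ι₂ : Type} [Fintype ι₁] [DecidableEq ι₁] [Fintype ι₂] [DecidableEq ι₂]
  {F : Type*} [Field F]

/-- The orthogonal sum of two quadratic forms on coordinate spaces. -/
def sumQF (Q₁ : QuadraticForm F (ι₁ → F)) (Q₂ : QuadraticForm F (ι₂ → F)) :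
    QuadraticForm F (ι₁ ⊕ ι₂ → F) :=
  ((Q₁.comp (LinearMap.funLeft F F (Sum.inl : ι₁ → ι₁ ⊕ ι₂))) +
    (Q₂.comp (LinearMap.funLeft F F (Sum.inr : ι₂ → ι₁ ⊕ ι₂)))).copy
    (fun v => Q₁ (v ∘ Sum.inl) + Q₂ (v ∘ Sum.inr)) rfl

theorem sumQF_apply (Q₁ : QuadraticForm F (ι₁ → F)) (Q₂ : QuadraticForm F (ι₂ → F))
    (v : ι₁ ⊕ ι₂ → F) : sumQF Q₁ Q₂ v = Q₁ (v ∘ Sum.inl) + Q₂ (v ∘ Sum.inr) := rfl

/-- The splitting `F^(ι₁ ⊕ ι₂) ≃ F^ι₁ × F^ι₂`. -/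
def sumSplit (ι₁ ι₂ : Type) (F : Type*) [Field F] :
    (ι₁ ⊕ ι₂ → F) ≃ₗ[F] (ι₁ → F) × (ι₂ → F) :=
  LinearEquiv.sumArrowLequivProdArrow ι₁ ι₂ F F

theorem sumSplit_apply (v : ι₁ ⊕ ι₂ → F) :
    sumSplit ι₁ ι₂ F v = (v ∘ Sum.inl, v ∘ Sum.inr) := rfl

theorem sumSplit_symm_apply (a : ι₁ → F) (b : ι₂ → F) :
    (sumSplit ι₁ ι₂ F).symm (a, b) = Sum.elim a b := by
  funext j
  rcases j with j | j <;> rfl

theorem sumQF_split (Q₁ : QuadraticForm F (ι₁ → F)) (Q₂ : QuadraticForm F (ι₂ → F))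
    (v : ι₁ ⊕ ι₂ → F) :
    sumQF Q₁ Q₂ v = Q₁ (sumSplit ι₁ ι₂ F v).1 + Q₂ (sumSplit ι₁ ι₂ F v).2 := rfl

/-- The action of `fromBlocks A 0 0 D`. -/
theorem fromBlocks_diag_mulVec (A : Matrix ι₁ ι₁ F) (D : Matrix ι₂ ι₂ F) (v : ι₁ ⊕ ι₂ → F) :
    (Matrix.fromBlocks A 0 0 D) *ᵥ v = Sum.elim (A *ᵥ (v ∘ Sum.inl)) (D *ᵥ (v ∘ Sum.inr)) := by
  rw [Matrix.fromBlocks_mulVec]
  simp

theorem finrank_sum_fun : Module.finrank F (ι₁ ⊕ ι₂ → F) = Fintype.card ι₁ + Fintype.card ι₂ := by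
  rw [Module.finrank_fintype_fun_eq_card, Fintype.card_sum]

variable [Fintype F]

/-- **`diag(g₁, 1) ∈ Ω(Q₁ ⊕ Q₂) ↔ g₁ ∈ Ω(Q₁)`**, matrix form. -/
theorem diag_one_mem_Omega_iff (Q₁ : QuadraticForm F (ι₁ → F)) (Q₂ : QuadraticForm F (ι₂ → F))
    (h₁ : (QuadraticMap.polarBilin Q₁).Nondegenerate)
    (h₂ : (QuadraticMap.polarBilin Q₂).Nondegenerate)
    (hF₁ : (∀ a b : F, ∃ x : F, x ≠ a ∧ x ≠ b) ∨ Fintype.card ι₁ ≠ 4)
    (hF : (∀ a b : F, ∃ x : F, x ≠ a ∧ x ≠ b) ∨ Fintype.card ι₁ + Fintype.card ι₂ ≠ 4)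
    (g₁ : ↥(Cfsg.isometryGroup F (⇑Q₁))) :
    (∃ g : ↥(Cfsg.isometryGroup F (⇑(sumQF Q₁ Q₂))), g ∈ Cfsg.Omega F (⇑(sumQF Q₁ Q₂)) ∧
      ((g : GL (ι₁ ⊕ ι₂) F) : Matrix (ι₁ ⊕ ι₂) (ι₁ ⊕ ι₂) F) =
        Matrix.fromBlocks ((g₁ : GL ι₁ F) : Matrix ι₁ ι₁ F) 0 0 1) ↔
      g₁ ∈ Cfsg.Omega F (⇑Q₁) := by
  set QS := sumQF Q₁ Q₂ with hQS
  set e := sumSplit ι₁ ι₂ F with he
  have hQe : ∀ v, QS v = Q₁ (e v).1 + Q₂ (e v).2 := sumQF_split Q₁ Q₂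
  have hF₁' : (∀ a b : F, ∃ x : F, x ≠ a ∧ x ≠ b) ∨ Module.finrank F (ι₁ → F) ≠ 4 := by
    rw [Module.finrank_fintype_fun_eq_card]
    exact hF₁
  have hF' : (∀ a b : F, ∃ x : F, x ≠ a ∧ x ≠ b) ∨ Module.finrank F (ι₁ ⊕ ι₂ → F) ≠ 4 := by
    rw [finrank_sum_fun]
    exact hF
  have hmain := inl_mem_commutator_iff e QS Q₁ Q₂ hQe h₁ h₂ hF₁' hF' (isometryGroupEquiv Q₁ g₁)
  -- the image of `g₁` acts as the block matrix
  have hact : ∀ v, ((inlIso e QS Q₁ Q₂ hQe (isometryGroupEquiv Q₁ g₁) : ↥(isoGroup QS)) :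
      (ι₁ ⊕ ι₂ → F) ≃ₗ[F] (ι₁ ⊕ ι₂ → F)) v =
      (Matrix.fromBlocks ((g₁ : GL ι₁ F) : Matrix ι₁ ι₁ F) 0 0 1) *ᵥ v := by
    intro v
    rw [fromBlocks_diag_mulVec, Matrix.one_mulVec]
    change inlE e _ v = _
    rw [inlE_apply, he, sumSplit_apply, sumSplit_symm_apply]
    rfl
  have hΩ₁ : g₁ ∈ Cfsg.Omega F (⇑Q₁) ↔
      isometryGroupEquiv Q₁ g₁ ∈ commutator ↥(isoGroup Q₁) :=
    mem_commutator_iff_equiv (isometryGroupEquiv Q₁) g₁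
  rw [hΩ₁, ← hmain]
  constructor
  · rintro ⟨g, hg, hgm⟩
    have hgeq : isometryGroupEquiv QS g = inlIso e QS Q₁ Q₂ hQe (isometryGroupEquiv Q₁ g₁) := by
      apply Subtype.ext
      apply LinearEquiv.ext
      intro v
      rw [hact, isometryGroupEquiv_apply, hgm]
    rw [← hgeq]
    exact (mem_commutator_iff_equiv (isometryGroupEquiv QS) g).mp hg
  · intro hx
    refine ⟨(isometryGroupEquiv QS).symm (inlIso e QS Q₁ Q₂ hQe (isometryGroupEquiv Q₁ g₁)), ?_, ?_⟩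
    · change _ ∈ commutator ↥(Cfsg.isometryGroup F (⇑QS))
      rw [mem_commutator_iff_equiv (isometryGroupEquiv QS), MulEquiv.apply_symm_apply]
      exact hx
    · apply matrix_eq_of_mulVec
      intro v
      rw [← isometryGroupEquiv_apply, MulEquiv.apply_symm_apply, hact]

/-- **`diag(g, g) ∈ Ω(Q ⊕ Q)`**, matrix form. -/
theorem diag_self_mem_Omega (Q : QuadraticForm F (ι₁ → F))
    (hQ : (QuadraticMap.polarBilin Q).Nondegenerate)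
    (hF : (∀ a b : F, ∃ x : F, x ≠ a ∧ x ≠ b) ∨ Fintype.card ι₁ + Fintype.card ι₁ ≠ 4)
    (g : ↥(Cfsg.isometryGroup F (⇑Q))) :
    ∃ x : ↥(Cfsg.isometryGroup F (⇑(sumQF Q Q))), x ∈ Cfsg.Omega F (⇑(sumQF Q Q)) ∧
      ((x : GL (ι₁ ⊕ ι₁) F) : Matrix (ι₁ ⊕ ι₁) (ι₁ ⊕ ι₁) F) =
        Matrix.fromBlocks ((g : GL ι₁ F) : Matrix ι₁ ι₁ F) 0 0
          ((g : GL ι₁ F) : Matrix ι₁ ι₁ F) := by
  set QS := sumQF Q Q with hQS
  set e := sumSplit ι₁ ι₁ F with he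
  have hQe : ∀ v, QS v = Q (e v).1 + Q (e v).2 := sumQF_split Q Q
  have hF' : (∀ a b : F, ∃ x : F, x ≠ a ∧ x ≠ b) ∨ Module.finrank F (ι₁ ⊕ ι₁ → F) ≠ 4 := by
    rw [finrank_sum_fun]
    exact hF
  have hmain := inl_mul_inr_self_mem_commutator e QS Q hQe hQ hF' (isometryGroupEquiv Q g)
  have hact : ∀ v, ((inlIso e QS Q Q hQe (isometryGroupEquiv Q g) *
      inrIso e QS Q Q hQe (isometryGroupEquiv Q g) : ↥(isoGroup QS)) :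
      (ι₁ ⊕ ι₁ → F) ≃ₗ[F] (ι₁ ⊕ ι₁ → F)) v =
      (Matrix.fromBlocks ((g : GL ι₁ F) : Matrix ι₁ ι₁ F) 0 0
        ((g : GL ι₁ F) : Matrix ι₁ ι₁ F)) *ᵥ v := by
    intro v
    rw [fromBlocks_diag_mulVec]
    change inlE e _ (inrE e _ v) = _
    rw [inlE_apply, e_inrE, he, sumSplit_apply, sumSplit_symm_apply]
    rfl
  refine ⟨(isometryGroupEquiv QS).symm (inlIso e QS Q Q hQe (isometryGroupEquiv Q g) *
      inrIso e QS Q Q hQe (isometryGroupEquiv Q g)), ?_, ?_⟩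
  · change _ ∈ commutator ↥(Cfsg.isometryGroup F (⇑QS))
    rw [mem_commutator_iff_equiv (isometryGroupEquiv QS), MulEquiv.apply_symm_apply]
    exact hmain
  · apply matrix_eq_of_mulVec
    intro v
    rw [← isometryGroupEquiv_apply, MulEquiv.apply_symm_apply, hact]

end Mat

end Cfsg.Agent.Lib.Helper36
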