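import Mathlib
import Cfsg.Prelude.Def_LieClassical
import Cfsg.Agent.S2618
import Cfsg.Agent.Lib.Helper37.OrthIso
import Cfsg.Agent.Lib.Helper37.OrthOdd
import Cfsg.Agent.Lib.Helper40.OrthModel

/-!
# S2474 module [TRANSFER] (helper36, for helper40)

A matrix model `(B, M)` in dimension `2n+1` (symmetric nondegenerate `B`, `Mᵀ B M = B`,
`orderOf M = N`) over a finite field of odd characteristic gives an isometry of the standard
form `x₀² + Σ x_i y_i` of order exactly `N`.  Strengthening of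
`Cfsg.Agent.Lib.Helper37.OrthOdd.exists_isometry_of_model` (same construction).
-/

set_option autoImplicit false
set_option linter.unusedSectionVars false

namespace Cfsg.Agent.Lib.Helper36.OrthTransfer

open Matrix Cfsg.Agent.Lib.Helper37.OrthOdd

section equiv
variable {F : Type*} [Field F]

/-- every nondegenerate symmetric matrix in odd dimension `2m+1` over a finite field of odd
characteristic is, up to a scalar, equivalent to the standard form `x₀² + Σ x_i y_i` -/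
theorem exists_equiv_of_symm [Finite F] (h2 : (2 : F) ≠ 0) (m : ℕ) {κ : Type*} [Fintype κ]
    [DecidableEq κ] (hκ : Fintype.card κ = 2 * m + 1) (B : Matrix κ κ F) (hBsymm : Bᵀ = B)
    (hBdet : IsUnit B.det) :
    ∃ (c : F) (T : (κ → F) ≃ₗ[F] (Unit ⊕ (Fin m ⊕ Fin m) → F)), c ≠ 0 ∧
      ∀ v, oddQ m F (T v) = c⁻¹ * (v ⬝ᵥ B *ᵥ v) := by
  classical
  let QB : QuadraticForm F (κ → F) := LinearMap.BilinMap.toQuadraticMap (Matrix.toBilin' B)
  have hQB : ∀ v, QB v = v ⬝ᵥ B *ᵥ v := by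
    intro v
    show (Matrix.toBilin' B) v v = _
    rw [Matrix.toBilin'_apply']
  have hBsw : ∀ u v : κ → F, v ⬝ᵥ B *ᵥ u = u ⬝ᵥ B *ᵥ v := by
    intro u v
    have h1 : u ⬝ᵥ Bᵀ *ᵥ v = (B *ᵥ u) ⬝ᵥ v := by rw [dotProduct_mulVec, vecMul_transpose]
    rw [hBsymm] at h1
    rw [h1, dotProduct_comm]
  have hpol : ∀ u v, QuadraticMap.polar QB u v = 2 * (u ⬝ᵥ B *ᵥ v) := by
    intro u v
    show QuadraticMap.polar (LinearMap.BilinMap.toQuadraticMap (Matrix.toBilin' B)) u v = _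
    rw [LinearMap.BilinMap.polar_toQuadraticMap, Matrix.toBilin'_apply', Matrix.toBilin'_apply',
      hBsw u v]
    ring
  have hBnd : ∀ u : κ → F, (∀ v, u ⬝ᵥ B *ᵥ v = 0) → u = 0 := by
    intro u hu
    have h1 : B *ᵥ u = 0 := by
      funext k
      have := hu (Pi.single k 1)
      rw [← hBsw, single_dotProduct, one_mul] at this
      exact this
    have h3 : B⁻¹ *ᵥ (B *ᵥ u) = u := by
      rw [mulVec_mulVec, nonsing_inv_mul B hBdet, one_mulVec]
    rw [← h3, h1, mulVec_zero]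
  have hnd : (QuadraticMap.polarBilin QB).Nondegenerate := by
    have hleft : ∀ x : κ → F, (∀ y, QuadraticMap.polar QB x y = 0) → x = 0 := by
      intro x hx
      apply hBnd
      intro v
      have := hx v
      rw [hpol] at this
      exact (mul_eq_zero.1 this).resolve_left h2
    constructor
    · intro x hx
      exact hleft x hx
    · intro y hy
      apply hleft y
      intro x
      rw [QuadraticMap.polar_comm]
      exact hy x
  have hfin : Module.finrank F (κ → F) = 2 * m + 1 := by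
    rw [Module.finrank_fintype_fun_eq_card, hκ]
  obtain ⟨b, hc, hxe, hQef, hef, hee⟩ := Cfsg.Agent.S2618.result hfin QB hnd
  obtain ⟨c, hcdef⟩ : ∃ c, c = QB (b (Sum.inl ())) := ⟨_, rfl⟩
  have hc0 : c ≠ 0 := by rw [hcdef]; exact hc
  let w : Unit ⊕ (Fin m ⊕ Fin m) → Fˣ := fun k =>
    match k with
    | Sum.inr (Sum.inl _) => Units.mk0 c hc0
    | _ => 1
  let b₁ : Module.Basis (Unit ⊕ (Fin m ⊕ Fin m)) F (κ → F) := b.unitsSMul w
  have hb₁ : ∀ k, b₁ k = (w k : F) • b k := fun k => by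
    show (b.unitsSMul w) k = _
    rw [Module.Basis.unitsSMul_apply]
    rfl
  let Q₁ : QuadraticForm F (κ → F) := c⁻¹ • QB
  have hQ₁ : ∀ v, Q₁ v = c⁻¹ * QB v := fun v => rfl
  have hpolQ₁ : ∀ u v, QuadraticMap.polar Q₁ u v = c⁻¹ * QuadraticMap.polar QB u v := by
    intro u v
    unfold QuadraticMap.polar
    rw [hQ₁, hQ₁, hQ₁]
    ring
  let b₀ : Module.Basis (Unit ⊕ (Fin m ⊕ Fin m)) F (Unit ⊕ (Fin m ⊕ Fin m) → F) :=
    Pi.basisFun F (Unit ⊕ (Fin m ⊕ Fin m))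
  have hb₀ : ∀ k, b₀ k = Pi.single k 1 := fun k => Pi.basisFun_apply F _ k
  have hQ1 : ∀ k, Q₁ (b₁ k) = oddQ m F (b₀ k) := by
    intro k
    rw [hb₀, oddQ_single, hb₁, hQ₁, QuadraticMap.map_smul, smul_eq_mul]
    rcases k with ⟨⟩ | k | k
    · show c⁻¹ * ((1 : F) * 1 * QB (b (Sum.inl ()))) = _
      rw [← hcdef, if_pos rfl, one_mul, one_mul, inv_mul_cancel₀ hc0]
    · rw [(hQef k).1, mul_zero, mul_zero, if_neg (by simp)]
    · rw [(hQef k).2, mul_zero, mul_zero, if_neg (by simp)]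
  have hpolself : QuadraticMap.polar QB (b (Sum.inl ())) (b (Sum.inl ())) = 2 * c := by
    rw [QuadraticMap.polar_self, hcdef, two_smul, two_mul]
  have hpol1 : ∀ k l, QuadraticMap.polar Q₁ (b₁ k) (b₁ l) =
      QuadraticMap.polar (oddQ m F) (b₀ k) (b₀ l) := by
    intro k l
    rw [hb₀, hb₀, oddQ_polar_single, hpolQ₁, hb₁, hb₁, QuadraticMap.polar_smul_left,
      QuadraticMap.polar_smul_right, smul_eq_mul, smul_eq_mul]
    rcases k with ⟨⟩ | k | k <;> rcases l with ⟨⟩ | l | l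
    · show c⁻¹ * ((1 : F) * ((1 : F) * _)) = 2
      rw [hpolself, one_mul, one_mul, mul_comm 2 c, ← mul_assoc, inv_mul_cancel₀ hc0, one_mul]
    · rw [(hxe l).1]; simp [gramP]
    · rw [(hxe l).2]; simp [gramP]
    · rw [QuadraticMap.polar_comm, (hxe k).1]; simp [gramP]
    · rw [(hee k l).1]; simp [gramP]
    · show c⁻¹ * (c * ((1 : F) * _)) = _
      rw [hef k l, one_mul, ← mul_assoc, inv_mul_cancel₀ hc0, one_mul]
      simp [gramP]
    · rw [QuadraticMap.polar_comm, (hxe k).2]; simp [gramP]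
    · show c⁻¹ * ((1 : F) * (c * _)) = _
      rw [QuadraticMap.polar_comm, hef l k, one_mul, ← mul_assoc, inv_mul_cancel₀ hc0, one_mul]
      simp [gramP, eq_comm]
    · rw [(hee k l).2]; simp [gramP]
  let T : (κ → F) ≃ₗ[F] (Unit ⊕ (Fin m ⊕ Fin m) → F) := b₁.equiv b₀ (Equiv.refl _)
  have hT : ∀ v, oddQ m F (T v) = Q₁ v :=
    Cfsg.Agent.Lib.Helper37.OrthIso.isometry_of_bases Q₁ (oddQ m F) b₁ b₀ hQ1 hpol1
  refine ⟨c, T, hc0, ?_⟩
  intro v
  rw [hT, hQ₁, hQB]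

end equiv

section main
variable {F : Type*} [Field F]

/-- the algebra isomorphism `Matrix κ κ F ≃ Matrix κ' κ' F` of conjugation by a linear
equivalence `T : (κ → F) ≃ (κ' → F)` -/
noncomputable def conjAlg {κ κ' : Type*} [Fintype κ] [DecidableEq κ] [Fintype κ']
    [DecidableEq κ'] (T : (κ → F) ≃ₗ[F] (κ' → F)) : Matrix κ κ F ≃ₐ[F] Matrix κ' κ' F :=
  (Matrix.toLinAlgEquiv' (R := F) (n := κ)).trans
    ((T.conjAlgEquiv F).trans (LinearMap.toMatrixAlgEquiv' (R := F) (n := κ')))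

theorem conjAlg_mulVec {κ κ' : Type*} [Fintype κ] [DecidableEq κ] [Fintype κ']
    [DecidableEq κ'] (T : (κ → F) ≃ₗ[F] (κ' → F)) (M : Matrix κ κ F) (u : κ' → F) :
    (conjAlg T M) *ᵥ u = T (M *ᵥ (T.symm u)) := by
  have h1 : conjAlg T M = LinearMap.toMatrix' (T.conjAlgEquiv F (Matrix.toLin' M)) := rfl
  rw [h1, LinearMap.toMatrix'_mulVec, LinearEquiv.conjAlgEquiv_apply]
  show T ((Matrix.toLin' M) (T.symm u)) = _
  rw [Matrix.toLin'_apply]

/-- **S2474 module [TRANSFER]** -/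
theorem exists_isometry_of_orthModel [Fintype F] (h2 : (2 : F) ≠ 0)
    (n N : ℕ) (h : Cfsg.Agent.Lib.Helper40.OrthModel F (2 * n + 1) N) :
    ∃ g : ↥(Cfsg.isometryGroup F (Cfsg.quadFormOdd n F)), orderOf g = N := by
  classical
  obtain ⟨B, M, hBs, hBdet, hinv, hord⟩ := h
  obtain ⟨c, T, hc0, hT⟩ := exists_equiv_of_symm (F := F) h2 n (κ := Fin (2 * n + 1))
    (by simp) B hBs (isUnit_iff_ne_zero.mpr hBdet)
  -- `M` is invertible
  have hdetM : IsUnit M.det := by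
    rw [isUnit_iff_ne_zero]
    intro h0
    apply hBdet
    rw [← hinv, Matrix.det_mul, Matrix.det_mul, h0, mul_zero]
  let Mu : (Matrix (Fin (2 * n + 1)) (Fin (2 * n + 1)) F)ˣ := M.nonsingInvUnit hdetM
  have hMu : (Mu : Matrix (Fin (2 * n + 1)) (Fin (2 * n + 1)) F) = M := rfl
  let Ψ := conjAlg (F := F) T
  let gu : GL (Unit ⊕ (Fin n ⊕ Fin n)) F := Units.map Ψ.toRingEquiv.toMonoidHom Mu
  have hgu : (gu : Matrix (Unit ⊕ (Fin n ⊕ Fin n)) (Unit ⊕ (Fin n ⊕ Fin n)) F) = Ψ M := rfl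
  have hQBM : ∀ v : Fin (2 * n + 1) → F, (M *ᵥ v) ⬝ᵥ B *ᵥ (M *ᵥ v) = v ⬝ᵥ B *ᵥ v := by
    intro v
    have h1 : (M *ᵥ v) ⬝ᵥ B *ᵥ (M *ᵥ v) = v ⬝ᵥ (Mᵀ * B * M) *ᵥ v := by
      rw [← mulVec_mulVec, ← mulVec_mulVec, dotProduct_mulVec v Mᵀ, vecMul_transpose]
    rw [h1, hinv]
  have hmem : gu ∈ Cfsg.isometryGroup F (Cfsg.quadFormOdd n F) := by
    intro u v
    show Cfsg.quadFormOdd n F ((Ψ M) *ᵥ u) = Cfsg.quadFormOdd n F u
    rw [← oddQ_coe, conjAlg_mulVec, hT, hQBM, ← hT, LinearEquiv.apply_symm_apply]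
  refine ⟨⟨gu, hmem⟩, ?_⟩
  rw [← hord]
  have h1 : orderOf (⟨gu, hmem⟩ : ↥(Cfsg.isometryGroup F (Cfsg.quadFormOdd n F))) = orderOf gu :=
    (Subgroup.orderOf_coe (⟨gu, hmem⟩ : ↥(Cfsg.isometryGroup F (Cfsg.quadFormOdd n F)))).symm
  have h2' : orderOf gu = orderOf Mu :=
    orderOf_injective (Units.map Ψ.toRingEquiv.toMonoidHom)
      (Units.map_injective Ψ.injective) Mu
  have h3 : orderOf Mu = orderOf M := by
    rw [← hMu, orderOf_units]
  rw [h1, h2', h3]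

end main

end Cfsg.Agent.Lib.Helper36.OrthTransfer
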