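import Mathlib
import Cfsg.Agent.Lib.Helper36.DicksonMatrix
import Cfsg.Agent.Lib.Helper36.PlusConj

set_option autoImplicit false

/-!
# Matrix form of `plus_conj_core`
-/

namespace Cfsg.Agent.Lib.Helper36

open Module Matrix Cfsg.Agent.Lib.Helper13

variable {ι : Type} [Fintype ι] [DecidableEq ι] {F : Type*} [Field F]

theorem exists_Omega_conj_iff (Q : QuadraticForm F (ι → F)) (t s : ↥(Cfsg.isometryGroup F (⇑Q))) :
    (∃ g ∈ Cfsg.Omega F (⇑Q), g * t * g⁻¹ = s) ↔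
      ∃ g ∈ commutator ↥(isoGroup Q), g * isometryGroupEquiv Q t * g⁻¹ = isometryGroupEquiv Q s := by
  set e := isometryGroupEquiv Q with he
  constructor
  · rintro ⟨g, hg, hgt⟩
    refine ⟨e g, (mem_commutator_iff_equiv e g).mp hg, ?_⟩
    rw [← hgt, map_mul, map_mul, map_inv]
  · rintro ⟨g', hg', hgt⟩
    refine ⟨e.symm g', ?_, ?_⟩
    · change _ ∈ commutator ↥(Cfsg.isometryGroup F (⇑Q))
      rw [mem_commutator_iff_equiv e, MulEquiv.apply_symm_apply]
      exact hg'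
    · apply e.injective
      rw [map_mul, map_mul, map_inv, MulEquiv.apply_symm_apply, hgt]

theorem toLin'_sub_one_eq (g : GL ι F) :
    Matrix.toLin' ((g : Matrix ι ι F) - 1) =
      ((glLinEquiv ι F g : (ι → F) ≃ₗ[F] (ι → F)) : (ι → F) →ₗ[F] (ι → F)) - LinearMap.id := by
  rw [glLinEquiv_coe, Matrix.toLin'_apply']
  apply LinearMap.ext
  intro v
  simp

/-- Matrix form of `plus_conj_core`. -/
theorem plus_conj_matrix [CharP F 2] (Q : QuadraticForm F (ι → F))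
    (hQ : (QuadraticMap.polarBilin Q).Nondegenerate)
    (hF : (∀ a b : F, ∃ x : F, x ≠ a ∧ x ≠ b) ∨ Fintype.card ι ≠ 4)
    (hsq : ∀ a : F, IsSquare a) (m : ℕ) (hdim : Fintype.card ι = 2 * m)
    (hPar : ∀ U : Submodule F (ι → F), IsTS Q U → finrank F U = m → ∀ g : ↥(isoGroup Q),
      (g ∈ commutator ↥(isoGroup Q) ↔
        Even (m - finrank F ↥(U ⊓ U.map ((g : (ι → F) ≃ₗ[F] (ι → F)) : (ι → F) →ₗ[F] (ι → F))))))
    (t s : ↥(Cfsg.isometryGroup F (⇑Q))) (ht : orderOf t = 2) (htO : t ∈ Cfsg.Omega F (⇑Q))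
    (hconj : IsConj t s) :
    (¬ ((((t : GL ι F) : Matrix ι ι F) - 1).rank = m ∧
        ∀ v : ι → F, Q (v + Matrix.mulVec ((t : GL ι F) : Matrix ι ι F) v) = 0) →
      ∃ g ∈ Cfsg.Omega F (⇑Q), g * t * g⁻¹ = s) ∧
    (((((t : GL ι F) : Matrix ι ι F) - 1).rank = m ∧
        ∀ v : ι → F, Q (v + Matrix.mulVec ((t : GL ι F) : Matrix ι ι F) v) = 0) →
      ((∃ g ∈ Cfsg.Omega F (⇑Q), g * t * g⁻¹ = s) ↔
        Even (finrank F ↥(LinearMap.range (Matrix.toLin' (((t : GL ι F) : Matrix ι ι F) - 1)) ⊓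
          LinearMap.range (Matrix.toLin' (((s : GL ι F) : Matrix ι ι F) - 1)))))) := by
  have hF' : (∀ a b : F, ∃ x : F, x ≠ a ∧ x ≠ b) ∨ Module.finrank F (ι → F) ≠ 4 := by
    rw [Module.finrank_fintype_fun_eq_card]
    exact hF
  have hdim' : finrank F (ι → F) = 2 * m := by
    rw [Module.finrank_fintype_fun_eq_card]
    exact hdim
  set e := isometryGroupEquiv Q with he
  have htt : e t * e t = 1 := by
    have := pow_orderOf_eq_one t
    rw [ht, pow_two] at this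
    rw [← map_mul, this, map_one]
  have htO' : e t ∈ commutator ↥(isoGroup Q) := (mem_commutator_iff_equiv e t).mp htO
  have hconj' : IsConj (e t) (e s) := by
    obtain ⟨g₀, hg₀⟩ := isConj_iff.mp hconj
    exact isConj_iff.mpr ⟨e g₀, by rw [← hg₀, map_mul, map_mul, map_inv]⟩
  have hcore := plus_conj_core Q hQ hF' hsq m hdim' hPar (e t) (e s) htt htO' hconj'
  rw [exists_Omega_conj_iff, rank_sub_one_eq, toLin'_sub_one_eq, toLin'_sub_one_eq]
  exact hcore

end Cfsg.Agent.Lib.Helper36
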