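/-
helper36: REEW2-[W2-PSL23] (helper61's REEW2 project, S1158 + S1159 + S2357):
`PSL₂(q)`, `q` a power of `3`, has exactly `q² - 1` elements of order `3`.
-/
import Mathlib
import Cfsg.Agent.Lib.Helper36.ReeWPsl2

set_option autoImplicit false

namespace Cfsg.Agent.Lib.Helper36.ReeW2

open Cfsg.Agent.Lib.Helper41 Cfsg.Agent.Lib.Helper14 Cfsg.Agent.Lib.Helper36.ReeW

variable {K : Type*} [Field K]

/-- the unipotent element with `b = 0` -/
def unipLower (s : K) : Matrix.SpecialLinearGroup (Fin 2) K :=
  ⟨!![1, 0; s, 1], by simp [Matrix.det_fin_two]⟩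

/-- the unipotent element with `b ≠ 0` -/
def unipGen (b s : K) (hb : b ≠ 0) : Matrix.SpecialLinearGroup (Fin 2) K :=
  ⟨!![s, b; -(s - 1) ^ 2 / b, 2 - s], by
    rw [Matrix.det_fin_two]
    simp only [Matrix.of_apply, Matrix.cons_val', Matrix.cons_val_zero, Matrix.cons_val_one,
      Matrix.cons_val_fin_one]
    field_simp
    ring⟩

/-- the elements of trace `2` of `SL₂(K)` are parametrised by `K × K` -/
noncomputable def unipEquiv : {u : Matrix.SpecialLinearGroup (Fin 2) K // tr2 u = 2} ≃ K × K := by
  classical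
  exact
  { toFun := fun u => ((u.1 : Matrix (Fin 2) (Fin 2) K) 0 1,
      if (u.1 : Matrix (Fin 2) (Fin 2) K) 0 1 = 0 then (u.1 : Matrix (Fin 2) (Fin 2) K) 1 0
      else (u.1 : Matrix (Fin 2) (Fin 2) K) 0 0)
    invFun := fun p => if h : p.1 = 0 then ⟨unipLower p.2, by simp [tr2, unipLower]; norm_num⟩
      else ⟨unipGen p.1 p.2 h, by simp [tr2, unipGen]⟩
    left_inv := by
      rintro ⟨u, hu⟩
      have hd := sl2_det u
      unfold tr2 at hu
      by_cases hb : (u : Matrix (Fin 2) (Fin 2) K) 0 1 = 0
      · simp only [hb, if_true, dif_pos]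
        apply Subtype.ext
        have h11 : (u : Matrix (Fin 2) (Fin 2) K) 1 1 = 2 - (u : Matrix (Fin 2) (Fin 2) K) 0 0 := by
          linear_combination hu
        rw [hb, h11] at hd
        have h00 : (u : Matrix (Fin 2) (Fin 2) K) 0 0 = 1 := by
          have : ((u : Matrix (Fin 2) (Fin 2) K) 0 0 - 1) ^ 2 = 0 := by linear_combination -hd
          exact sub_eq_zero.mp ((pow_eq_zero_iff (two_ne_zero)).mp this)
        rw [h00] at h11
        apply sl2_ext
        · simp [unipLower, h00]
        · simp [unipLower, hb]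
        · simp [unipLower]
        · simp [unipLower, h11]; norm_num
      · simp only [hb, if_false, dif_neg, not_false_eq_true]
        apply Subtype.ext
        have h11 : (u : Matrix (Fin 2) (Fin 2) K) 1 1 = 2 - (u : Matrix (Fin 2) (Fin 2) K) 0 0 := by
          linear_combination hu
        apply sl2_ext
        · simp [unipGen]
        · simp [unipGen]
        · simp only [unipGen, Matrix.of_apply, Matrix.cons_val', Matrix.cons_val_zero,
            Matrix.cons_val_one, Matrix.cons_val_fin_one]
          rw [h11] at hd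
          field_simp
          linear_combination hd
        · simp [unipGen, h11]
    right_inv := by
      rintro ⟨b, s⟩
      by_cases hb : b = 0
      · subst hb
        simp [unipLower]
      · simp [hb, unipGen] }

/-- in characteristic 3, an element of order 3 of `SL₂` has trace 2 -/
theorem tr2_eq_two_of_orderOf_three [CharP K 3] (A : Matrix.SpecialLinearGroup (Fin 2) K)
    (hA : orderOf A = 3) : tr2 A = 2 := by
  have h3 : (3 : K) = 0 := by exact_mod_cast CharP.cast_eq_zero K 3
  have hA3 : A ^ 3 = 1 := by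
    rw [← hA]
    exact pow_orderOf_eq_one A
  have hm := congrArg (fun M : Matrix.SpecialLinearGroup (Fin 2) K => (M : Matrix (Fin 2) (Fin 2) K)) hA3
  simp only [Matrix.SpecialLinearGroup.coe_pow, Matrix.SpecialLinearGroup.coe_one] at hm
  have hch := cayley_hamilton A
  set t := tr2 A with ht
  have hcube : (A : Matrix (Fin 2) (Fin 2) K) ^ 3
      = (t ^ 2 - 1) • (A : Matrix (Fin 2) (Fin 2) K) - t • (1 : Matrix (Fin 2) (Fin 2) K) := by
    rw [pow_succ, pow_two, hch, sub_mul, Matrix.smul_mul, hch, Matrix.one_mul, smul_sub, smul_smul,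
      sub_smul, one_smul]
    rw [pow_two]
    abel
  rw [hcube] at hm
  by_cases ht1 : t ^ 2 - 1 = 0
  · rw [ht1, zero_smul, zero_sub] at hm
    have h00 := congrFun (congrFun hm 0) 0
    simp only [Matrix.neg_apply, Matrix.smul_apply, Matrix.one_apply_eq, smul_eq_mul, mul_one] at h00
    linear_combination -h00 - h3
  · exfalso
    have hs : (A : Matrix (Fin 2) (Fin 2) K)
        = ((t ^ 2 - 1)⁻¹ * (1 + t)) • (1 : Matrix (Fin 2) (Fin 2) K) := by
      have h5 : (t ^ 2 - 1) • (A : Matrix (Fin 2) (Fin 2) K) = (1 + t) • (1 : Matrix (Fin 2) (Fin 2) K) := by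
        rw [add_smul, one_smul]
        exact sub_eq_iff_eq_add.mp hm
      rw [mul_smul, ← h5, smul_smul, inv_mul_cancel₀ ht1, one_smul]
    have hc := center_sq A (mem_center_of_scalar A _ hs)
    have h6 : orderOf A ∣ 2 := orderOf_dvd_of_pow_eq_one hc
    rw [hA] at h6
    omega

-- [W2-PSL23]
theorem psl2_card_order_three {K : Type*} [Field K] [Fintype K] [CharP K 3] :
    Nat.card {x : Matrix.ProjectiveSpecialLinearGroup (Fin 2) K // orderOf x = 3} = Fintype.card K ^ 2 - 1 := by
  classical
  have h3 : (3 : K) = 0 := by exact_mod_cast CharP.cast_eq_zero K 3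
  have h22 : (2 : K) ≠ -2 := by
    intro h
    have h1 : (1 : K) = 0 := by linear_combination h - h3
    exact one_ne_zero h1
  set S : Set (Matrix.SpecialLinearGroup (Fin 2) K) := {u | tr2 u = 2} with hS
  have hS1 : (1 : Matrix.SpecialLinearGroup (Fin 2) K) ∈ S := by
    show tr2 (1 : Matrix.SpecialLinearGroup (Fin 2) K) = 2
    simp [tr2]
    norm_num
  have hcardS : S.ncard = Fintype.card K ^ 2 := by
    rw [← Nat.card_coe_set_eq]
    have h1 : Nat.card ↥S = Nat.card (K × K) := Nat.card_congr (unipEquiv (K := K))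
    rw [h1, Nat.card_prod, Nat.card_eq_fintype_card, sq]
  have hinj : Set.InjOn (fun u : Matrix.SpecialLinearGroup (Fin 2) K =>
      (QuotientGroup.mk u : Matrix.ProjectiveSpecialLinearGroup (Fin 2) K)) (S \ {1}) := by
    rintro u ⟨hu, -⟩ u' ⟨hu', -⟩ huu
    rcases (mk_eq_mk_iff u u').mp huu with h | h
    · exact Subtype.ext h
    · exfalso
      have hu2 : tr2 u = 2 := hu
      have hu2' : tr2 u' = 2 := hu'
      unfold tr2 at hu2 hu2'
      rw [h] at hu2
      simp only [Matrix.neg_apply] at hu2
      apply h22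
      linear_combination -hu2 - hu2'
  have himg : {x : Matrix.ProjectiveSpecialLinearGroup (Fin 2) K | orderOf x = 3}
      = (fun u : Matrix.SpecialLinearGroup (Fin 2) K =>
          (QuotientGroup.mk u : Matrix.ProjectiveSpecialLinearGroup (Fin 2) K)) '' (S \ {1}) := by
    ext x
    constructor
    · intro hx
      obtain ⟨A, hAx, hA⟩ := exists_lift_orderOf Nat.prime_three (by norm_num) x hx
      refine ⟨A, ⟨tr2_eq_two_of_orderOf_three A hA, ?_⟩, hAx⟩
      intro h1
      rw [Set.mem_singleton_iff] at h1
      rw [h1, orderOf_one] at hA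
      omega
    · rintro ⟨u, ⟨hu, hu1⟩, rfl⟩
      have hu2 : tr2 u = 2 := hu
      have hp := coe_pow_of_tr2_eq_two u hu2 3
      have hu3 : u ^ 3 = 1 := by
        apply Subtype.ext
        rw [hp, Matrix.SpecialLinearGroup.coe_one]
        push_cast
        rw [h3, zero_smul, zero_sub, zero_sub, neg_smul, neg_neg, one_smul]
      have hx3 : (QuotientGroup.mk u : Matrix.ProjectiveSpecialLinearGroup (Fin 2) K) ^ 3 = 1 := by
        rw [← QuotientGroup.mk_pow, hu3]
        rfl
      show orderOf (QuotientGroup.mk u : Matrix.ProjectiveSpecialLinearGroup (Fin 2) K) = 3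
      rcases (Nat.dvd_prime Nat.prime_three).mp (orderOf_dvd_of_pow_eq_one hx3) with h | h
      · exfalso
        rw [orderOf_eq_one_iff, mk_eq_one_iff] at h
        rcases h with h | h
        · exact hu1 (Subtype.ext (by rw [h, Matrix.SpecialLinearGroup.coe_one]))
        · unfold tr2 at hu2
          rw [h] at hu2
          simp only [Matrix.neg_apply, Matrix.one_apply_eq] at hu2
          apply h22
          linear_combination -hu2
      · exact h
  rw [← hcardS, ← Set.ncard_sdiff_singleton_of_mem hS1, ← Set.InjOn.ncard_image hinj, ← himg]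
  exact (Nat.card_coe_set_eq _)

end Cfsg.Agent.Lib.Helper36.ReeW2
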