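import Mathlib
import Cfsg.Prelude.Def_FischerSpaces
import Cfsg.Agent.Lib.Helper36.ReflIndex
import Cfsg.Agent.Lib.Helper36.ReflMatrix

set_option autoImplicit false
set_option linter.unusedSectionVars false

/-!
# Matrix form: the reflections of one norm class over the field with three elements generate a
subgroup of index two of the orthogonal group (dimension at least five).
-/

namespace Cfsg.Agent.Lib.Helper36

open Module Matrix Cfsg.Agent.Lib.Helper13

variable {ι : Type} [Fintype ι] [DecidableEq ι]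

/-- The reflection subgroup of the matrix isometry group corresponds to `reflGroupOf`. -/
theorem mem_reflectionSubgroup_iff {F : Type*} [Field F] (Q : QuadraticForm F (ι → F)) (c : F)
    (hc : c ≠ 0) (g : ↥(Cfsg.isometryGroup F (⇑Q))) :
    g ∈ Cfsg.reflectionSubgroup (⇑Q) c ↔
      ((isometryGroupEquiv Q g : ↥(isoGroup Q)) : (ι → F) ≃ₗ[F] (ι → F)) ∈ reflGroupOf Q c := by
  set φ : ↥(Cfsg.isometryGroup F (⇑Q)) →* ((ι → F) ≃ₗ[F] (ι → F)) :=
    (isoGroup Q).subtype.comp (isometryGroupEquiv Q).toMonoidHom with hφ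
  have hφinj : Function.Injective φ := by
    intro a b hab
    apply (isometryGroupEquiv Q).injective
    apply Subtype.ext
    exact hab
  have hmap : (Cfsg.reflectionSubgroup (⇑Q) c).map φ = reflGroupOf Q c := by
    unfold Cfsg.reflectionSubgroup reflGroupOf
    rw [MonoidHom.map_closure]
    congr 1
    ext T
    constructor
    · rintro ⟨g, ⟨v, hv, hg⟩, rfl⟩
      refine ⟨v, hv, fun z => ?_⟩
      change ((isometryGroupEquiv Q g : ↥(isoGroup Q)) : (ι → F) ≃ₗ[F] (ι → F)) z = _
      rw [isometryGroupEquiv_apply, hg, reflectionMatrix_mulVec_eq_reflLin]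
    · rintro ⟨v, hv, hT⟩
      have hv0 : Q v ≠ 0 := by rw [hv]; exact hc
      have hTiso : T ∈ isoGroup Q := by
        intro z
        rw [hT, reflLin_isom Q v hv0]
      refine ⟨(isometryGroupEquiv Q).symm ⟨T, hTiso⟩, ⟨v, hv, ?_⟩, ?_⟩
      · apply matrix_eq_of_mulVec
        intro z
        rw [← isometryGroupEquiv_apply, MulEquiv.apply_symm_apply,
          reflectionMatrix_mulVec_eq_reflLin]
        exact hT z
      · change ((isometryGroupEquiv Q ((isometryGroupEquiv Q).symm ⟨T, hTiso⟩) : ↥(isoGroup Q)) :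
          (ι → F) ≃ₗ[F] (ι → F)) = T
        rw [MulEquiv.apply_symm_apply]
  rw [← hmap]
  exact (Subgroup.mem_map_iff_mem hφinj).symm

/-- **The reflections of one norm class generate a subgroup of index two** (field with three
elements, dimension at least five). -/
theorem reflectionSubgroup_index_eq_two (Q : QuadraticForm (ZMod 3) (ι → ZMod 3))
    (hQ : (QuadraticMap.polarBilin Q).Nondegenerate) (hdim : 5 ≤ Fintype.card ι) (c : ZMod 3)
    (hc : c ≠ 0) : (Cfsg.reflectionSubgroup (⇑Q) c).index = 2 := by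
  have hdim' : 5 ≤ finrank (ZMod 3) (ι → ZMod 3) := by
    rw [Module.finrank_fintype_fun_eq_card]
    exact hdim
  have hnc : -c ≠ 0 := neg_ne_zero.mpr hc
  obtain ⟨w, hw⟩ := exists_Q_eq Q hQ two_ne_zero_zmod3' (by omega) (-c) hnc
  have hw0 : Q w ≠ 0 := by rw [hw]; exact hnc
  have hT'set : reflEquiv Q w hw0 ∈ reflSetOf Q (-c) := ⟨w, hw, fun _ => rfl⟩
  have hT'iso : reflEquiv Q w hw0 ∈ isoGroup Q :=
    reflGroup_le_isoGroup Q (Subgroup.subset_closure (reflEquiv_mem Q w hw0))
  rw [Subgroup.index_eq_two_iff_exists_notMem_and]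
  refine ⟨(isometryGroupEquiv Q).symm ⟨reflEquiv Q w hw0, hT'iso⟩, ?_, fun b => ?_⟩
  · rw [mem_reflectionSubgroup_iff Q c hc, MulEquiv.apply_symm_apply]
    exact not_mem_reflGroupOf Q hQ c hc _ hT'set
  · rw [mem_reflectionSubgroup_iff Q c hc, mem_reflectionSubgroup_iff Q c hc, map_mul,
      MulEquiv.apply_symm_apply]
    exact mul_mem_or_mem_reflGroupOf Q hQ hdim' c hc _ hT'set _ (isometryGroupEquiv Q b).2

end Cfsg.Agent.Lib.Helper36
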