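import Mathlib
import Cfsg.Agent.Lib.Helper70.RkRes.NF2

/-!
# S5289 module [POW] (helper36, for helper70): the `p`-power map of `S = ⟨x, y, z⟩`

`(x^i y^j z^k)^p = (z^p)^k`, `S` is `p`-abelian, and `Ω₁(S) = {s : s^p = 1}` has order `p³`.

Method: conjugation by `x⁻¹` on the abelian normal subgroup `A₀ = ⟨y, z⟩`, written additively, is
`1 + D` with `p D = 0` and `D³ = 0`; hence `∑_{t<p} (1+D)^{it} = p` (as `p ≥ 5`).
-/

set_option autoImplicit false
set_option linter.unusedSectionVars false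

namespace Cfsg.Agent.Lib.Helper36.RkResPow

open Cfsg.Agent.Lib.Helper70.RkRes

section ring
variable {R : Type*} [Ring R]

theorem one_add_pow_of_cube_zero (D : R) (hD3 : D ^ 3 = 0) (t : ℕ) :
    (1 + D) ^ t = 1 + t • D + (t.choose 2) • D ^ 2 := by
  induction t with
  | zero => simp
  | succ t ih =>
    have h1 : D ^ 2 * D = 0 := by rw [← pow_succ]; exact hD3
    have h2 : D * D = D ^ 2 := (sq D).symm
    rw [pow_succ, ih, mul_add, mul_one, add_mul, add_mul, one_mul, smul_mul_assoc, smul_mul_assoc,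
      h1, h2, smul_zero, add_zero, Nat.choose_succ_succ' t 1, Nat.choose_one_right, succ_nsmul,
      add_nsmul]
    abel

theorem sum_one_add_pow_of_cube_zero (D : R) (hD3 : D ^ 3 = 0) (m : ℕ) :
    ∑ t ∈ Finset.range m, (1 + D) ^ t =
      m • (1 : R) + (m.choose 2) • D + (m.choose 3) • D ^ 2 := by
  induction m with
  | zero => simp
  | succ m ih =>
    rw [Finset.sum_range_succ, ih, one_add_pow_of_cube_zero D hD3 m, Nat.choose_succ_succ' m 1,
      Nat.choose_one_right, Nat.choose_succ_succ' m 2, succ_nsmul, add_nsmul, add_nsmul]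
    abel

/-- the key ring identity -/
theorem sum_pow_pow_eq (D : R) (hD3 : D ^ 3 = 0) (p : ℕ) (hp : p.Prime) (h3 : 3 < p)
    (hpD : p • D = 0) (i : ℕ) :
    ∑ t ∈ Finset.range p, ((1 + D) ^ i) ^ t = p • (1 : R) := by
  set u : R := i • (1 : R) + (i.choose 2) • D with hu
  set Di : R := D * u with hDi
  have h1 : (1 + D) ^ i = 1 + Di := by
    rw [one_add_pow_of_cube_zero D hD3 i, hDi, hu, mul_add, mul_smul_comm, mul_one, mul_smul_comm,
      ← sq, add_assoc]
  have hcomm : Commute D u :=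
    ((Commute.one_right D).smul_right i).add_right ((Commute.refl D).smul_right _)
  have hDi3 : Di ^ 3 = 0 := by
    rw [hDi, hcomm.mul_pow, hD3, zero_mul]
  have hpDi : p • Di = 0 := by
    rw [hDi, ← smul_mul_assoc, hpD, zero_mul]
  have hpDi2 : p • Di ^ 2 = 0 := by
    rw [sq, ← smul_mul_assoc, hpDi, zero_mul]
  obtain ⟨a, ha⟩ : p ∣ p.choose 2 := hp.dvd_choose_self (by norm_num) (by omega)
  obtain ⟨b, hb⟩ : p ∣ p.choose 3 := hp.dvd_choose_self (by norm_num) h3
  rw [h1, sum_one_add_pow_of_cube_zero Di hDi3 p, ha, hb, mul_nsmul,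
    mul_nsmul, hpDi, hpDi2, smul_zero, smul_zero, add_zero, add_zero]

end ring

section comm
variable {B : Type*} [CommGroup B]

theorem end_sum_apply {M : Type*} [AddCommGroup M] (f : ℕ → AddMonoid.End M) (n : ℕ) (a : M) :
    (∑ t ∈ Finset.range n, f t) a = ∑ t ∈ Finset.range n, f t a := by
  induction n with
  | zero => rfl
  | succ n ih =>
    rw [Finset.sum_range_succ, Finset.sum_range_succ, ← ih]
    rfl

/-- iterated composition of an endomorphism -/
def iterHom (ψ : B →* B) : ℕ → (B →* B)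
  | 0 => MonoidHom.id B
  | n + 1 => ψ.comp (iterHom ψ n)

theorem iterHom_apply (ψ : B →* B) (n : ℕ) (c : B) : iterHom ψ n c = (ψ^[n]) c := by
  induction n with
  | zero => rfl
  | succ n ih =>
    rw [Function.iterate_succ_apply', ← ih]
    rfl

/-- the "derivation" `b ↦ ψ b / b` of an endomorphism of a commutative group -/
def dOf (ψ : B →* B) : B →* B := ψ / MonoidHom.id B

theorem dOf_apply (ψ : B →* B) (b : B) : dOf ψ b = ψ b / b := rfl

/-- if `D = ψ - 1` satisfies `p D = 0` and `D³ = 0`, then `∏_{t<p} ψ^{it}(b) = b^p` -/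
theorem prod_iterate_eq_pow (ψ : B →* B) (p : ℕ) (hp : p.Prime) (h3 : 3 < p)
    (hpD : ∀ b, (dOf ψ b) ^ p = 1) (hD3 : ∀ b, dOf ψ (dOf ψ (dOf ψ b)) = 1) (i : ℕ) (b : B) :
    ∏ t ∈ Finset.range p, (ψ^[i * t]) b = b ^ p := by
  let Ψ : AddMonoid.End (Additive B) := MonoidHom.toAdditive ψ
  have hΨ : ∀ a : Additive B, Ψ a = Additive.ofMul (ψ (Additive.toMul a)) := fun a => rfl
  set Dop : AddMonoid.End (Additive B) := Ψ - 1 with hDop
  have hDapp : ∀ a : Additive B, Dop a = Additive.ofMul (dOf ψ (Additive.toMul a)) := by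
    intro a
    show Ψ a - a = _
    rw [hΨ, dOf_apply, ofMul_div, ofMul_toMul]
  have hD3' : Dop ^ 3 = 0 := by
    apply AddMonoidHom.ext
    intro a
    show (Dop ^ 3) a = 0
    rw [pow_succ, pow_succ, pow_one, AddMonoid.End.coe_mul, AddMonoid.End.coe_mul,
      Function.comp_apply, Function.comp_apply, hDapp a, hDapp, hDapp, toMul_ofMul, toMul_ofMul,
      hD3]
    rfl
  have hpD' : p • Dop = 0 := by
    apply AddMonoidHom.ext
    intro a
    show p • Dop a = 0
    rw [hDapp, ← ofMul_pow, hpD]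
    rfl
  have hΨD : Ψ = 1 + Dop := by rw [hDop]; abel
  have key := sum_pow_pow_eq Dop hD3' p hp h3 hpD' i
  rw [← hΨD] at key
  have hiter : ∀ (m : ℕ) (c : B), (Ψ ^ m) (Additive.ofMul c) = Additive.ofMul (ψ^[m] c) := by
    intro m
    induction m with
    | zero => intro c; simp
    | succ m ih =>
      intro c
      rw [pow_succ, AddMonoid.End.coe_mul, Function.comp_apply, hΨ, toMul_ofMul, ih,
        Function.iterate_succ_apply]
  have h1 : (∑ t ∈ Finset.range p, (Ψ ^ i) ^ t) (Additive.ofMul b) =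
      (p • (1 : AddMonoid.End (Additive B))) (Additive.ofMul b) := by rw [key]
  have h1r : (p • (1 : AddMonoid.End (Additive B))) (Additive.ofMul b) =
      Additive.ofMul (b ^ p) := by
    show p • Additive.ofMul b = _
    rw [← ofMul_pow]
  rw [h1r, end_sum_apply] at h1
  have h2 : ∀ t ∈ Finset.range p, ((Ψ ^ i) ^ t) (Additive.ofMul b) =
      Additive.ofMul ((ψ^[i * t]) b) := by
    intro t _
    rw [← pow_mul, hiter]
  rw [Finset.sum_congr rfl h2, ← ofMul_prod] at h1
  exact Additive.ofMul.injective h1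

end comm

section conj
variable {Ω : Type*} [Group Ω] {B : Type*} [CommGroup B]

/-- `(g a)^m = g^m ∏_{t<m} a^{g^t}` for `a` in an abelian subgroup normalised by `g` -/
theorem mul_pow_eq (ι : B →* Ω) (ψ : B →* B) (g : Ω)
    (hconj : ∀ b, g⁻¹ * ι b * g = ι (ψ b)) (m : ℕ) (b : B) :
    (g * ι b) ^ m = g ^ m * ι (∏ t ∈ Finset.range m, (ψ^[t]) b) := by
  induction m with
  | zero => simp
  | succ m ih =>
    rw [pow_succ, ih, Finset.prod_range_succ', Function.iterate_zero, id_eq, map_mul]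
    have h1 : ∏ t ∈ Finset.range m, (ψ^[t + 1]) b = ψ (∏ t ∈ Finset.range m, (ψ^[t]) b) := by
      rw [map_prod]
      apply Finset.prod_congr rfl
      intro t _
      rw [Function.iterate_succ_apply']
    rw [h1, ← hconj, pow_succ]
    group

theorem conj_pow_eq (ι : B →* Ω) (ψ : B →* B) (g : Ω)
    (hconj : ∀ b, g⁻¹ * ι b * g = ι (ψ b)) (i : ℕ) (b : B) :
    (g ^ i)⁻¹ * ι b * g ^ i = ι ((ψ^[i]) b) := by
  induction i generalizing b with
  | zero => simp
  | succ i ih =>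
    rw [Function.iterate_succ_apply, ← ih, ← hconj, pow_succ']
    group

/-- `(g^i a)^p = g^{ip} a^p` -/
theorem mul_pow_p_eq (ι : B →* Ω) (ψ : B →* B) (g : Ω)
    (hconj : ∀ b, g⁻¹ * ι b * g = ι (ψ b)) (p : ℕ) (hp : p.Prime) (h3 : 3 < p)
    (hpD : ∀ b, (dOf ψ b) ^ p = 1) (hD3 : ∀ b, dOf ψ (dOf ψ (dOf ψ b)) = 1) (i : ℕ) (b : B) :
    (g ^ i * ι b) ^ p = (g ^ i) ^ p * ι b ^ p := by
  let ψi : B →* B := iterHom ψ i
  have hψi : ∀ c, ψi c = (ψ^[i]) c := fun c => iterHom_apply ψ i c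
  have h1 := mul_pow_eq ι ψi (g ^ i) (fun c => by
    rw [conj_pow_eq ι ψ g hconj i c, hψi]) p b
  rw [h1]
  congr 1
  rw [← map_pow]
  congr 1
  rw [← prod_iterate_eq_pow ψ p hp h3 hpD hD3 i b]
  apply Finset.prod_congr rfl
  intro t _
  have h2 : ∀ (t : ℕ) (c : B), (ψi^[t]) c = (ψ^[i * t]) c := by
    intro t
    induction t with
    | zero => intro c; simp
    | succ t ih =>
      intro c
      rw [Function.iterate_succ_apply, hψi, ih, ← Function.iterate_add_apply, Nat.mul_succ]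
  exact h2 t b

end conj

section inst
variable {Ω : Type*} [Group Ω] {p n : ℕ} [Fact p.Prime] {S : Subgroup Ω} {x y z : Ω} {δ e : ℕ}

theorem conj_pow' (x z : Ω) (m : ℕ) : x⁻¹ * z ^ m * x = (x⁻¹ * z * x) ^ m := by
  have h := conj_pow (a := x⁻¹) (b := z) (i := m)
  rw [inv_inv] at h
  exact h.symm

theorem pow_n3_eq (D : RData p n S x y z δ e) : p ^ (n - 3) = p * p ^ (n - 4) := by
  have hn := D.hn
  have h : n - 3 = (n - 4) + 1 := by omega
  rw [h, pow_succ']

/-- `c = z^(p^(n-3))` is centralised by `x` -/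
theorem c_conj (D : RData p n S x y z δ e) :
    x⁻¹ * z ^ p ^ (n - 3) * x = z ^ p ^ (n - 3) := by
  have hcomm : Commute (y ^ δ) z := (show Commute y z from D.yz).pow_left δ
  rw [conj_pow', D.xz, hcomm.mul_pow, ← pow_mul, pow_n3_eq D, ← mul_assoc, mul_comm δ p, mul_assoc,
    pow_mul, D.yp, one_pow, one_mul]

theorem c_pow_p (D : RData p n S x y z δ e) : (z ^ p ^ (n - 3)) ^ p = 1 := by
  have hn := D.hn
  have h : n - 2 = (n - 3) + 1 := by omega
  rw [← pow_mul, ← pow_succ, ← h, D.zp]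

theorem c_conj_pow (D : RData p n S x y z δ e) (m : ℕ) :
    x⁻¹ * (z ^ p ^ (n - 3)) ^ m * x = (z ^ p ^ (n - 3)) ^ m := by
  rw [conj_pow', c_conj D]

/-- the "derivation" `a ↦ x⁻¹ a x a⁻¹` -/
def dfun (x a : Ω) : Ω := x⁻¹ * a * x * a⁻¹

theorem dfun_one (x : Ω) : dfun x 1 = 1 := by unfold dfun; group

theorem dfun_c_pow (D : RData p n S x y z δ e) (m : ℕ) :
    dfun x ((z ^ p ^ (n - 3)) ^ m) = 1 := by
  unfold dfun
  rw [c_conj_pow D, mul_inv_cancel]

theorem dfun_y (D : RData p n S x y z δ e) : dfun x y = (z ^ p ^ (n - 3)) ^ e := by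
  unfold dfun
  have hcomm : Commute y ((z ^ p ^ (n - 3)) ^ e) :=
    ((show Commute y z from D.yz).pow_right _).pow_right _
  rw [D.xy, pow_mul', hcomm.eq, mul_assoc, mul_inv_cancel, mul_one]

theorem dfun_z (D : RData p n S x y z δ e) : dfun x z = y ^ δ := by
  unfold dfun
  rw [D.xz, mul_assoc, mul_inv_cancel, mul_one]

theorem dfun_y_pow (D : RData p n S x y z δ e) (m : ℕ) :
    dfun x (y ^ m) = ((z ^ p ^ (n - 3)) ^ e) ^ m := by
  unfold dfun
  have hcomm : Commute y ((z ^ p ^ (n - 3)) ^ e) :=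
    ((show Commute y z from D.yz).pow_right _).pow_right _
  rw [conj_pow', D.xy, pow_mul' z, hcomm.mul_pow, mul_assoc, ← mul_assoc, (hcomm.pow_pow m m).eq,
    mul_assoc, mul_inv_cancel, mul_one]

/-- the abelian normal subgroup `A₀ = ⟨y, z⟩` -/
abbrev A0 (y z : Ω) : Subgroup Ω := Subgroup.closure ({y, z} : Set Ω)

theorem y_mem_A0 (y z : Ω) : y ∈ A0 y z := Subgroup.subset_closure (by simp)

theorem z_mem_A0 (y z : Ω) : z ∈ A0 y z := Subgroup.subset_closure (by simp)

theorem comm_gens (D : RData p n S x y z δ e) :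
    ∀ a ∈ ({y, z} : Set Ω), ∀ b ∈ ({y, z} : Set Ω), a * b = b * a := by
  intro a ha b hb
  simp only [Set.mem_insert_iff, Set.mem_singleton_iff] at ha hb
  rcases ha with rfl | rfl <;> rcases hb with rfl | rfl
  · rfl
  · exact D.yz
  · exact D.yz.symm
  · rfl

theorem conj_mem_A0 (D : RData p n S x y z δ e) : ∀ a ∈ A0 y z, x⁻¹ * a * x ∈ A0 y z := by
  intro a ha
  unfold A0 at ha
  induction ha using Subgroup.closure_induction with
  | mem a ha =>
    simp only [Set.mem_insert_iff, Set.mem_singleton_iff] at ha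
    rcases ha with rfl | rfl
    · rw [D.xy]
      exact (A0 a z).mul_mem (y_mem_A0 a z) ((A0 a z).pow_mem (z_mem_A0 a z) _)
    · rw [D.xz]
      exact (A0 y a).mul_mem ((A0 y a).pow_mem (y_mem_A0 y a) _) (z_mem_A0 y a)
  | one =>
    have : x⁻¹ * 1 * x = 1 := by group
    rw [this]
    exact (A0 y z).one_mem
  | mul a b _ _ iha ihb =>
    have : x⁻¹ * (a * b) * x = (x⁻¹ * a * x) * (x⁻¹ * b * x) := by group
    rw [this]
    exact (A0 y z).mul_mem iha ihb
  | inv a _ iha =>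
    have : x⁻¹ * a⁻¹ * x = (x⁻¹ * a * x)⁻¹ := by group
    rw [this]
    exact (A0 y z).inv_mem iha

/-- conjugation by `x⁻¹` on `A₀` -/
def psiHom (D : RData p n S x y z δ e) : ↥(A0 y z) →* ↥(A0 y z) where
  toFun a := ⟨x⁻¹ * a * x, conj_mem_A0 D a a.2⟩
  map_one' := by
    apply Subtype.ext
    show x⁻¹ * 1 * x = 1
    group
  map_mul' a b := by
    apply Subtype.ext
    show x⁻¹ * ((a : Ω) * b) * x = (x⁻¹ * a * x) * (x⁻¹ * b * x)
    group

theorem psiHom_coe (D : RData p n S x y z δ e) (a : ↥(A0 y z)) :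
    ((psiHom D a : ↥(A0 y z)) : Ω) = x⁻¹ * a * x := rfl

end inst

section inst2
variable {Ω : Type*} [Group Ω] {p n : ℕ} [Fact p.Prime] {S : Subgroup Ω} {x y z : Ω} {δ e : ℕ}

/-- for `a ∈ A₀`: `(x^i a)^p = a^p` -/
theorem pow_p_A0 (D : RData p n S x y z δ e) (a : Ω) (ha : a ∈ A0 y z) (i : ℕ) :
    (x ^ i * a) ^ p = a ^ p := by
  let _ : CommGroup ↥(A0 y z) :=
    { (A0 y z).toGroup with
      mul_comm := fun a b => by
        have := Subgroup.isMulCommutative_closure (comm_gens D)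
        exact mul_comm' a b }
  have hp : p.Prime := Fact.out
  have h3 : 3 < p := by have := D.hp5; omega
  set ψ : ↥(A0 y z) →* ↥(A0 y z) := psiHom D with hψ
  have hdcoe : ∀ b : ↥(A0 y z), ((dOf ψ b : ↥(A0 y z)) : Ω) = dfun x (b : Ω) := by
    intro b
    have h1 : dOf ψ b = ψ b * b⁻¹ := by rw [dOf_apply, div_eq_mul_inv]
    rw [h1]
    rfl
  have hpD : ∀ b, (dOf ψ b) ^ p = 1 := by
    rintro ⟨b, hb⟩
    induction hb using Subgroup.closure_induction with
    | mem b hb =>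
      have hb' : b = y ∨ b = z := by simpa using hb
      apply Subtype.ext
      show (((dOf ψ ⟨b, _⟩) ^ p : ↥(A0 y z)) : Ω) = 1
      rw [Subgroup.coe_pow, hdcoe]
      rcases hb' with h | h
      · subst h
        show dfun x b ^ p = 1
        rw [dfun_y D, ← pow_mul, mul_comm, pow_mul, c_pow_p D, one_pow]
      · subst h
        show dfun x b ^ p = 1
        rw [dfun_z D, ← pow_mul, mul_comm, pow_mul, D.yp, one_pow]
    | one =>
      have : (⟨1, (A0 y z).one_mem⟩ : ↥(A0 y z)) = 1 := rfl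
      rw [this, map_one, one_pow]
    | mul a b ha hb iha ihb =>
      have : (⟨a * b, (A0 y z).mul_mem ha hb⟩ : ↥(A0 y z)) = ⟨a, ha⟩ * ⟨b, hb⟩ := rfl
      rw [this, map_mul, mul_pow, iha, ihb, one_mul]
    | inv a ha iha =>
      have : (⟨a⁻¹, (A0 y z).inv_mem ha⟩ : ↥(A0 y z)) = (⟨a, ha⟩ : ↥(A0 y z))⁻¹ := rfl
      rw [this, map_inv, inv_pow, iha, inv_one]
  have hD3 : ∀ b, dOf ψ (dOf ψ (dOf ψ b)) = 1 := by
    rintro ⟨b, hb⟩
    induction hb using Subgroup.closure_induction with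
    | mem b hb =>
      have hb' : b = y ∨ b = z := by simpa using hb
      apply Subtype.ext
      rw [hdcoe, hdcoe, hdcoe]
      rcases hb' with h | h
      · subst h
        show dfun x (dfun x (dfun x b)) = 1
        rw [dfun_y D, dfun_c_pow D, dfun_one]
      · subst h
        show dfun x (dfun x (dfun x b)) = 1
        rw [dfun_z D, dfun_y_pow D, ← pow_mul, dfun_c_pow D]
    | one =>
      have : (⟨1, (A0 y z).one_mem⟩ : ↥(A0 y z)) = 1 := rfl
      rw [this, map_one, map_one, map_one]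
    | mul a b ha hb iha ihb =>
      have : (⟨a * b, (A0 y z).mul_mem ha hb⟩ : ↥(A0 y z)) = ⟨a, ha⟩ * ⟨b, hb⟩ := rfl
      rw [this, map_mul, map_mul, map_mul, iha, ihb, one_mul]
    | inv a ha iha =>
      have : (⟨a⁻¹, (A0 y z).inv_mem ha⟩ : ↥(A0 y z)) = (⟨a, ha⟩ : ↥(A0 y z))⁻¹ := rfl
      rw [this, map_inv, map_inv, map_inv, iha, inv_one]
  have key := mul_pow_p_eq (A0 y z).subtype ψ x (fun b => rfl) p hp h3 hpD hD3 i ⟨a, ha⟩
  have hxp : (x ^ i) ^ p = 1 := by rw [← pow_mul, mul_comm, pow_mul, D.xp, one_pow]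
  rw [hxp, one_mul] at key
  exact key

theorem yz_mem_A0 (y z : Ω) (j k : ℕ) : y ^ j * z ^ k ∈ A0 y z :=
  (A0 y z).mul_mem ((A0 y z).pow_mem (y_mem_A0 y z) j) ((A0 y z).pow_mem (z_mem_A0 y z) k)

theorem yz_pow_p (D : RData p n S x y z δ e) (j k : ℕ) : (y ^ j * z ^ k) ^ p = (z ^ p) ^ k := by
  have hcomm : Commute (y ^ j) (z ^ k) := (show Commute y z from D.yz).pow_pow j k
  rw [hcomm.mul_pow, ← pow_mul, mul_comm j p, pow_mul, D.yp, one_pow, one_mul, ← pow_mul,
    mul_comm k p, pow_mul]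

/-- **[POW] 1** -/
theorem pow_p_normal_form (D : RData p n S x y z δ e) :
    ∀ i j k : ℕ, (x ^ i * y ^ j * z ^ k) ^ p = (z ^ p) ^ k := by
  intro i j k
  rw [mul_assoc, pow_p_A0 D _ (yz_mem_A0 y z j k) i, yz_pow_p D]

theorem x_mem_S (D : RData p n S x y z δ e) : x ∈ S := by
  rw [← D.gen]
  exact Subgroup.subset_closure (by simp)

theorem conj_pow_mem_A0 (D : RData p n S x y z δ e) (m : ℕ) :
    ∀ a ∈ A0 y z, (x ^ m)⁻¹ * a * x ^ m ∈ A0 y z := by
  induction m with
  | zero =>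
    intro a ha
    simpa using ha
  | succ m ih =>
    intro a ha
    have h1 : (x ^ (m + 1))⁻¹ * a * x ^ (m + 1) = x⁻¹ * ((x ^ m)⁻¹ * a * x ^ m) * x := by
      rw [pow_succ]
      group
    rw [h1]
    exact conj_mem_A0 D _ (ih a ha)

theorem A0_comm (D : RData p n S x y z δ e) : ∀ a ∈ A0 y z, ∀ b ∈ A0 y z, a * b = b * a := by
  intro a ha b hb
  have := Subgroup.isMulCommutative_closure (comm_gens D)
  have h := mul_comm' (⟨a, ha⟩ : ↥(A0 y z)) ⟨b, hb⟩
  exact congrArg Subtype.val h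

/-- **[POW] 2** -/
theorem pow_p_mul (D : RData p n S x y z δ e) :
    ∀ s ∈ S, ∀ t ∈ S, (s * t) ^ p = s ^ p * t ^ p := by
  intro s hs t ht
  obtain ⟨i, j, k, rfl⟩ := mem_normal_form D s hs
  obtain ⟨i', j', k', rfl⟩ := mem_normal_form D t ht
  set a := y ^ j * z ^ k with ha
  set a' := y ^ j' * z ^ k' with ha'
  have haA : a ∈ A0 y z := yz_mem_A0 y z j k
  have ha'A : a' ∈ A0 y z := yz_mem_A0 y z j' k'
  set a1 := (x ^ i')⁻¹ * a * x ^ i' with ha1
  have ha1A : a1 ∈ A0 y z := conj_pow_mem_A0 D i' a haA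
  have hs' : x ^ i * y ^ j * z ^ k = x ^ i * a := by rw [ha, mul_assoc]
  have ht' : x ^ i' * y ^ j' * z ^ k' = x ^ i' * a' := by rw [ha', mul_assoc]
  have hst : x ^ i * a * (x ^ i' * a') = x ^ (i + i') * (a1 * a') := by
    rw [ha1, pow_add]
    group
  rw [hs', ht', hst, pow_p_A0 D _ ((A0 y z).mul_mem ha1A ha'A), pow_p_A0 D _ haA,
    pow_p_A0 D _ ha'A]
  have hcomm : Commute a1 a' := A0_comm D a1 ha1A a' ha'A
  rw [hcomm.mul_pow]
  congr 1
  -- `a1 ^ p = a ^ p` as `a ^ p` is central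
  have hap : a ^ p = (z ^ p) ^ k := yz_pow_p D j k
  have hcen : Commute (x ^ i') ((z ^ p) ^ k) := by
    have h1 : Commute (x ^ i') (z ^ p) := zpow_p_central D (x ^ i') (S.pow_mem (x_mem_S D) i')
    exact h1.pow_right k
  have h2 : a1 ^ p = (x ^ i')⁻¹ * a ^ p * x ^ i' := by
    rw [ha1, conj_pow']
  rw [h2, hap, mul_assoc, ← hcen.eq, ← mul_assoc, inv_mul_cancel, one_mul]

/-- **[POW] 3** -/
theorem exists_omega (D : RData p n S x y z δ e) :
    ∃ E : Subgroup Ω, (∀ s, s ∈ E ↔ s ∈ S ∧ s ^ p = 1) ∧ Nat.card E = p ^ 3 := by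
  classical
  have hp : p.Prime := Fact.out
  -- the `p`-power endomorphism of `S`
  let π : ↥S →* ↥S :=
    { toFun := fun s => ⟨(s : Ω) ^ p, S.pow_mem s.2 p⟩
      map_one' := by
        apply Subtype.ext
        show (1 : Ω) ^ p = 1
        rw [one_pow]
      map_mul' := fun s t => by
        apply Subtype.ext
        exact pow_p_mul D s s.2 t t.2 }
  have hπ : ∀ s : ↥S, ((π s : ↥S) : Ω) = (s : Ω) ^ p := fun s => rfl
  refine ⟨π.ker.map S.subtype, ?_, ?_⟩
  · intro s
    constructor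
    · rintro ⟨s', hs', rfl⟩
      refine ⟨s'.2, ?_⟩
      have h1 := MonoidHom.mem_ker.mp hs'
      exact congrArg Subtype.val h1
    · rintro ⟨hs, hsp⟩
      refine ⟨⟨s, hs⟩, ?_, rfl⟩
      show (⟨s, hs⟩ : ↥S) ∈ π.ker
      rw [MonoidHom.mem_ker]
      apply Subtype.ext
      exact hsp
  · -- counting
    have hz : z ∈ S := by
      rw [← D.gen]
      exact Subgroup.subset_closure (by simp)
    let w : ↥S := ⟨z ^ p, S.pow_mem hz p⟩
    have hrange : π.range = Subgroup.zpowers w := by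
      apply le_antisymm
      · rintro _ ⟨s, rfl⟩
        obtain ⟨i, j, k, hs⟩ := mem_normal_form D s s.2
        rw [Subgroup.mem_zpowers_iff]
        refine ⟨k, ?_⟩
        apply Subtype.ext
        rw [hπ, hs, pow_p_normal_form D, zpow_natCast, Subgroup.coe_pow]
      · rw [Subgroup.zpowers_le]
        exact ⟨⟨z, hz⟩, rfl⟩
    have hn := D.hn
    have hordw : orderOf w = p ^ (n - 3) := by
      have h1 : orderOf w = orderOf (z ^ p) := (Subgroup.orderOf_coe w).symm
      have hdvd : p ∣ orderOf z := by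
        rw [orderOf_z D]
        exact dvd_pow_self p (by omega)
      rw [h1, orderOf_pow_of_dvd hp.ne_zero hdvd, orderOf_z D]
      have h : n - 2 = (n - 3) + 1 := by omega
      rw [h, pow_succ, Nat.mul_div_cancel _ hp.pos]
    have hcardrange : Nat.card π.range = p ^ (n - 3) := by
      rw [hrange, Nat.card_zpowers, hordw]
    have h1 : Nat.card ↥S = Nat.card π.ker * Nat.card π.range := by
      rw [← Nat.card_congr (QuotientGroup.quotientKerEquivRange π).toEquiv, mul_comm]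
      exact Subgroup.card_eq_card_quotient_mul_card_subgroup π.ker
    have h2 : Nat.card ↥(π.ker.map S.subtype) = Nat.card π.ker :=
      (Nat.card_congr
        (π.ker.equivMapOfInjective S.subtype (Subgroup.subtype_injective S)).toEquiv).symm
    rw [h2]
    rw [D.card, hcardrange] at h1
    have h3 : p ^ n = p ^ 3 * p ^ (n - 3) := by
      rw [← pow_add]
      congr 1
      omega
    rw [h3] at h1
    exact (Nat.eq_of_mul_eq_mul_right (pow_pos hp.pos _) h1).symm

end inst2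

end Cfsg.Agent.Lib.Helper36.RkResPow
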