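import Mathlib
import Cfsg.Agent.Lib.Helper53.SL2Pres.Defs

/-!
helper36: S2286-[RANK1A] (helper53's sheet) : `w(lam^j) = h^j t`.
-/

set_option autoImplicit false

namespace Cfsg.Agent.Lib.Helper36.SL2Pres

open Cfsg.Agent.Lib.Helper53 Cfsg.Agent.Lib.Helper53.Steinberg Cfsg.Agent.Lib.Helper53.SL2Pres

variable {G : Type*} [Group G] {K : Type*} [Field K]

/-- `h⁻¹ X(a) h = X(lam⁻² a)`. -/
theorem rk1_conj_inv (X : K → G) (h : G) (lam : K) (hlam : lam ≠ 0)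
    (hconj : ∀ a, h * X a * h⁻¹ = X (lam ^ 2 * a)) :
    ∀ a, h⁻¹ * X a * h = X (lam⁻¹ ^ 2 * a) := by
  intro a
  have h1 := hconj (lam⁻¹ ^ 2 * a)
  have e : lam ^ 2 * (lam⁻¹ ^ 2 * a) = a := by field_simp
  rw [e] at h1
  rw [← h1]; group

/-- `h t h = t` gives `t h⁻¹ = h t`. -/
theorem rk1_th (t h : G) (hst : h * t * h = t) : t * h⁻¹ = h * t := by
  calc t * h⁻¹ = (h * t * h) * h⁻¹ := by rw [hst]
    _ = h * t := by group

/-- `h Y(b) h⁻¹ = Y(lam⁻² b)` for `Y b = t X(-b) t⁻¹`. -/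
theorem rk1_conj_Y (X : K → G) (t h : G) (lam : K) (hlam : lam ≠ 0)
    (hconj : ∀ a, h * X a * h⁻¹ = X (lam ^ 2 * a))
    (hst : h * t * h = t) :
    ∀ b, h * (t * X (-b) * t⁻¹) * h⁻¹ = t * X (-(lam⁻¹ ^ 2 * b)) * t⁻¹ := by
  intro b
  have hth := rk1_th t h hst
  calc h * (t * X (-b) * t⁻¹) * h⁻¹ = (h * t) * X (-b) * (h * t)⁻¹ := by group
    _ = (t * h⁻¹) * X (-b) * (t * h⁻¹)⁻¹ := by rw [hth]
    _ = t * (h⁻¹ * X (-b) * h) * t⁻¹ := by group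
    _ = t * X (lam⁻¹ ^ 2 * (-b)) * t⁻¹ := by rw [rk1_conj_inv X h lam hlam hconj]
    _ = _ := by rw [mul_neg]

theorem rank_one_W_aux (X : K → G) (t h : G) (lam : K) (hlam : lam ≠ 0)
    (hconj : ∀ a, h * X a * h⁻¹ = X (lam ^ 2 * a))
    (hst : h * t * h = t)
    (hw1 : X 1 * (t * X 1 * t⁻¹) * X 1 = t)
    (hwl : X lam * (h * t * X lam * (h * t)⁻¹) * X lam = h * t) :
    ∀ j : ℕ, W X (fun b => t * X (-b) * t⁻¹) (lam ^ j) = h ^ j * t := by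
  have hth := rk1_th t h hst
  have hci := rk1_conj_inv X h lam hlam hconj
  have hY := rk1_conj_Y X t h lam hlam hconj hst
  have step : ∀ j : ℕ, W X (fun b => t * X (-b) * t⁻¹) (lam ^ (j + 2))
      = h * W X (fun b => t * X (-b) * t⁻¹) (lam ^ j) * h⁻¹ := by
    intro j
    simp only [W]
    have e1 : lam ^ (j + 2) = lam ^ 2 * lam ^ j := by ring
    have e2 : -(-(lam ^ (j + 2))⁻¹) = -(lam⁻¹ ^ 2 * -(lam ^ j)⁻¹) := by
      rw [pow_add, mul_inv, inv_pow]; ring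
    symm
    calc h * (X (lam ^ j) * (t * X (-(-(lam ^ j)⁻¹)) * t⁻¹) * X (lam ^ j)) * h⁻¹
        = (h * X (lam ^ j) * h⁻¹) * (h * (t * X (-(-(lam ^ j)⁻¹)) * t⁻¹) * h⁻¹)
            * (h * X (lam ^ j) * h⁻¹) := by group
      _ = X (lam ^ 2 * lam ^ j) * (t * X (-(lam⁻¹ ^ 2 * -(lam ^ j)⁻¹)) * t⁻¹)
            * X (lam ^ 2 * lam ^ j) := by rw [hconj, hY]
      _ = _ := by rw [← e1, ← e2]
  have h0 : W X (fun b => t * X (-b) * t⁻¹) (lam ^ 0) = h ^ 0 * t := by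
    simp only [W, pow_zero, inv_one, neg_neg, one_mul]
    exact hw1
  have h1 : W X (fun b => t * X (-b) * t⁻¹) (lam ^ 1) = h ^ 1 * t := by
    simp only [W, pow_one, neg_neg]
    have e : t * X lam⁻¹ * t⁻¹ = h * t * X lam * (h * t)⁻¹ := by
      symm
      calc h * t * X lam * (h * t)⁻¹ = (t * h⁻¹) * X lam * (t * h⁻¹)⁻¹ := by rw [hth]
        _ = t * (h⁻¹ * X lam * h) * t⁻¹ := by group
        _ = t * X (lam⁻¹ ^ 2 * lam) * t⁻¹ := by rw [hci]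
        _ = t * X lam⁻¹ * t⁻¹ := by
            have : lam⁻¹ ^ 2 * lam = lam⁻¹ := by field_simp
            rw [this]
    rw [e]
    exact hwl
  have key : ∀ j : ℕ, W X (fun b => t * X (-b) * t⁻¹) (lam ^ j) = h ^ j * t ∧
      W X (fun b => t * X (-b) * t⁻¹) (lam ^ (j + 1)) = h ^ (j + 1) * t := by
    intro j
    induction j with
    | zero => exact ⟨h0, h1⟩
    | succ n ih =>
      refine ⟨ih.2, ?_⟩
      rw [show n + 1 + 1 = n + 2 from rfl, step n, ih.1]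
      calc h * (h ^ n * t) * h⁻¹ = h ^ (n + 1) * (t * h⁻¹) := by rw [pow_succ']; group
        _ = h ^ (n + 1) * (h * t) := by rw [hth]
        _ = h ^ (n + 2) * t := by rw [pow_succ (a := h) (n := n + 1)]; group
  exact fun j => (key j).1

theorem rank_one_W (X : K → G) (t s : G) (lam : K) (hlam : lam ≠ 0)
    (hadd : ∀ a b, X a * X b = X (a + b))
    (hconj : ∀ a, (s * t⁻¹) * X a * (s * t⁻¹)⁻¹ = X (lam ^ 2 * a))
    (hst : s * s = t * t)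
    (hw1 : X 1 * (t * X 1 * t⁻¹) * X 1 = t)
    (hwl : X lam * (s * X lam * s⁻¹) * X lam = s) :
    ∀ j : ℕ, W X (fun b => t * X (-b) * t⁻¹) (lam ^ j) = (s * t⁻¹) ^ j * t := by
  have hs : s * t⁻¹ * t = s := by group
  apply rank_one_W_aux X t (s * t⁻¹) lam hlam hconj
  · calc s * t⁻¹ * t * (s * t⁻¹) = (s * s) * t⁻¹ := by group
      _ = t * t * t⁻¹ := by rw [hst]
      _ = t := by group
  · exact hw1
  · rw [hs]; exact hwl

end Cfsg.Agent.Lib.Helper36.SL2Pres
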