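import Mathlib
import Cfsg.Agent.Lib.Helper53.SL2Pres.Defs
import Cfsg.Agent.Lib.Helper36.SL2PresRank1A

/-!
helper36: S2286-[RANK1B] (helper53's sheet) : `relX`.
-/

set_option autoImplicit false

namespace Cfsg.Agent.Lib.Helper36.SL2Pres

open Cfsg.Agent.Lib.Helper53 Cfsg.Agent.Lib.Helper53.Steinberg Cfsg.Agent.Lib.Helper53.SL2Pres

variable {G : Type*} [Group G] {K : Type*} [Field K]

/-- `h (t X(c) t⁻¹) h⁻¹ = t X(lam⁻² c) t⁻¹`. -/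
theorem rk1_conj_tX (X : K → G) (t h : G) (lam : K) (hlam : lam ≠ 0)
    (hconj : ∀ a, h * X a * h⁻¹ = X (lam ^ 2 * a))
    (hst : h * t * h = t) :
    ∀ c, h * (t * X c * t⁻¹) * h⁻¹ = t * X (lam⁻¹ ^ 2 * c) * t⁻¹ := by
  intro c
  have hth := rk1_th t h hst
  calc h * (t * X c * t⁻¹) * h⁻¹ = (h * t) * X c * (h * t)⁻¹ := by group
    _ = (t * h⁻¹) * X c * (t * h⁻¹)⁻¹ := by rw [hth]
    _ = t * (h⁻¹ * X c * h) * t⁻¹ := by group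
    _ = t * X (lam⁻¹ ^ 2 * c) * t⁻¹ := by rw [rk1_conj_inv X h lam hlam hconj]

/-- iterated: `h^j (t X(c) t⁻¹) h^-j = t X(lam^(-2j) c) t⁻¹`. -/
theorem rk1_conj_tX_pow (X : K → G) (t h : G) (lam : K) (hlam : lam ≠ 0)
    (hconj : ∀ a, h * X a * h⁻¹ = X (lam ^ 2 * a))
    (hst : h * t * h = t) :
    ∀ (j : ℕ) (c : K), h ^ j * (t * X c * t⁻¹) * (h ^ j)⁻¹ = t * X ((lam⁻¹ ^ 2) ^ j * c) * t⁻¹ := by
  intro j
  induction j with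
  | zero => intro c; simp
  | succ n ih =>
    intro c
    have e : (lam⁻¹ ^ 2) ^ (n + 1) * c = lam⁻¹ ^ 2 * ((lam⁻¹ ^ 2) ^ n * c) := by ring
    calc h ^ (n + 1) * (t * X c * t⁻¹) * (h ^ (n + 1))⁻¹
        = h * (h ^ n * (t * X c * t⁻¹) * (h ^ n)⁻¹) * h⁻¹ := by rw [pow_succ']; group
      _ = h * (t * X ((lam⁻¹ ^ 2) ^ n * c) * t⁻¹) * h⁻¹ := by rw [ih]
      _ = t * X (lam⁻¹ ^ 2 * ((lam⁻¹ ^ 2) ^ n * c)) * t⁻¹ := by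
          rw [rk1_conj_tX X t h lam hlam hconj hst]
      _ = _ := by rw [e]

theorem rank_one_relX (X : K → G) (t s : G) (lam : K) (hlam : lam ≠ 0)
    (hgen : ∀ a : K, a ≠ 0 → ∃ j : ℕ, a = lam ^ j)
    (hadd : ∀ a b, X a * X b = X (a + b))
    (hconj : ∀ a, (s * t⁻¹) * X a * (s * t⁻¹)⁻¹ = X (lam ^ 2 * a))
    (hst : s * s = t * t)
    (hW : ∀ j : ℕ, W X (fun b => t * X (-b) * t⁻¹) (lam ^ j) = (s * t⁻¹) ^ j * t) :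
    ∀ τ a : K, τ ≠ 0 → MulAut.conj (W X (fun b => t * X (-b) * t⁻¹) τ) (X a) =
      t * X (-(-(τ⁻¹ ^ 2 * a))) * t⁻¹ := by
  intro τ a hτ
  obtain ⟨j, rfl⟩ := hgen τ hτ
  have hst' : s * t⁻¹ * t * (s * t⁻¹) = t := by
    calc s * t⁻¹ * t * (s * t⁻¹) = (s * s) * t⁻¹ := by group
      _ = t * t * t⁻¹ := by rw [hst]
      _ = t := by group
  have e : ((lam ^ j)⁻¹) ^ 2 = (lam⁻¹ ^ 2) ^ j := by
    rw [← inv_pow, ← pow_mul, ← pow_mul, mul_comm]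
  rw [MulAut.conj_apply, hW j, neg_neg, e,
    ← rk1_conj_tX_pow X t (s * t⁻¹) lam hlam hconj hst' j a]
  group

end Cfsg.Agent.Lib.Helper36.SL2Pres
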