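import Mathlib
import Cfsg.Agent.Lib.Helper53.SL2Pres.Defs

/-!
helper36: S2286-[RANK1C] (helper53's sheet) : `relY` from `relX`.
-/

set_option autoImplicit false

namespace Cfsg.Agent.Lib.Helper36.SL2Pres

open Cfsg.Agent.Lib.Helper53 Cfsg.Agent.Lib.Helper53.Steinberg Cfsg.Agent.Lib.Helper53.SL2Pres

variable {G : Type*} [Group G] {K : Type*} [Field K]

/-- if `t²` commutes with `x` then `t⁻¹ x t = t x t⁻¹`. -/
theorem conj_inv_eq_of_sq_comm (t x : G) (h : (t * t) * x = x * (t * t)) :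
    t⁻¹ * x * t = t * x * t⁻¹ := by
  calc t⁻¹ * x * t = t⁻¹ * (x * (t * t)) * t⁻¹ := by group
    _ = t⁻¹ * (t * t * x) * t⁻¹ := by rw [h]
    _ = t * x * t⁻¹ := by group

theorem rank_one_relY (X : K → G) (t : G)
    (hadd : ∀ a b, X a * X b = X (a + b))
    (ht2 : ∀ a, (t * t) * X a = X a * (t * t))
    (hrelX : ∀ τ a : K, τ ≠ 0 → MulAut.conj (W X (fun b => t * X (-b) * t⁻¹) τ) (X a) =
      t * X (-(-(τ⁻¹ ^ 2 * a))) * t⁻¹) :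
    ∀ τ a : K, τ ≠ 0 → MulAut.conj (W (fun b => t * X (-b) * t⁻¹) X τ) (t * X (-a) * t⁻¹) =
      X (-(τ⁻¹ ^ 2 * a)) := by
  intro τ a hτ
  have hW : W (fun b => t * X (-b) * t⁻¹) X τ
      = t * W X (fun b => t * X (-b) * t⁻¹) (-τ) * t⁻¹ := by
    unfold W
    have e1 : -(-(-τ)⁻¹) = -τ⁻¹ := by rw [inv_neg, neg_neg]
    simp only [e1]
    have h' := conj_inv_eq_of_sq_comm t (X (-τ⁻¹)) (ht2 _)
    calc t * X (-τ) * t⁻¹ * X (-τ⁻¹) * (t * X (-τ) * t⁻¹)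
        = t * X (-τ) * (t⁻¹ * X (-τ⁻¹) * t) * X (-τ) * t⁻¹ := by group
      _ = t * X (-τ) * (t * X (-τ⁻¹) * t⁻¹) * X (-τ) * t⁻¹ := by rw [h']
      _ = t * (X (-τ) * (t * X (-τ⁻¹) * t⁻¹) * X (-τ)) * t⁻¹ := by group
  have hr := hrelX (-τ) (-a) (neg_ne_zero.mpr hτ)
  have e2 : -(-((-τ)⁻¹ ^ 2 * -a)) = -(τ⁻¹ ^ 2 * a) := by
    rw [inv_neg, neg_sq]; ring
  rw [e2, MulAut.conj_apply] at hr
  rw [MulAut.conj_apply, hW]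
  set w := W X (fun b => t * X (-b) * t⁻¹) (-τ) with hw
  have h'' := conj_inv_eq_of_sq_comm t (X (-(τ⁻¹ ^ 2 * a))) (ht2 _)
  calc t * w * t⁻¹ * (t * X (-a) * t⁻¹) * (t * w * t⁻¹)⁻¹
      = t * (w * X (-a) * w⁻¹) * t⁻¹ := by group
    _ = t * (t * X (-(τ⁻¹ ^ 2 * a)) * t⁻¹) * t⁻¹ := by rw [hr]
    _ = t * t * X (-(τ⁻¹ ^ 2 * a)) * (t * t)⁻¹ := by group
    _ = X (-(τ⁻¹ ^ 2 * a)) * (t * t) * (t * t)⁻¹ := by rw [ht2]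
    _ = X (-(τ⁻¹ ^ 2 * a)) := by group

end Cfsg.Agent.Lib.Helper36.SL2Pres
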