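/-
helper36: S2282-[ALGA1] (sheet of helper53): pure field algebra.
-/
import Mathlib

set_option autoImplicit false

namespace Cfsg.Agent.Lib.Helper36.SUReg

variable {F : Type*} [Field F] {σ : F →+* F}

theorem alg_A1 (hσ2 : ∀ x, σ (σ x) = x) (ζ : F) (hζ : σ ζ ≠ ζ)
    (hθ : ∀ y : F, σ y = y → y ≠ 0 → ∃ j : ℕ, y = (ζ + σ ζ) ^ j)
    (A : AddSubgroup F) (a₀ : F) (ha₀ : a₀ ≠ 0) (h0 : a₀ ∈ A)
    (h1 : ∀ t ∈ A, ζ * t ∈ A) (h2 : ∀ t ∈ A, σ ζ * t ∈ A) : A = ⊤ := by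
  have hth : ∀ t ∈ A, (ζ + σ ζ) * t ∈ A := by
    intro t ht
    rw [add_mul]
    exact A.add_mem (h1 t ht) (h2 t ht)
  have hpow : ∀ (j : ℕ), ∀ t ∈ A, (ζ + σ ζ) ^ j * t ∈ A := by
    intro j
    induction j with
    | zero => intro t ht; simpa using ht
    | succ j ih =>
      intro t ht
      rw [pow_succ, mul_assoc]
      exact ih _ (hth t ht)
  have hfix : ∀ y : F, σ y = y → ∀ t ∈ A, y * t ∈ A := by
    intro y hy t ht
    by_cases hy0 : y = 0
    · rw [hy0, zero_mul]; exact A.zero_mem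
    · obtain ⟨j, hj⟩ := hθ y hy hy0
      rw [hj]
      exact hpow j t ht
  have hne : ζ - σ ζ ≠ 0 := fun h => hζ (sub_eq_zero.1 h).symm
  have hne' : σ ζ - ζ ≠ 0 := fun h => hζ (sub_eq_zero.1 h)
  rw [eq_top_iff]
  intro w _
  set x := w / a₀ with hx
  set b := (x - σ x) / (ζ - σ ζ) with hb
  set a := x - b * ζ with ha
  have hσb : σ b = b := by
    rw [hb, map_div₀, map_sub, map_sub, hσ2, hσ2]
    rw [div_eq_div_iff hne' hne]
    ring
  have hσa : σ a = a := by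
    rw [ha, map_sub, map_mul, hσb]
    have : b * (ζ - σ ζ) = x - σ x := by
      rw [hb]; field_simp
    linear_combination this
  have hw : w = a * a₀ + b * (ζ * a₀) := by
    have : w = x * a₀ := by rw [hx]; field_simp
    rw [this, ha]
    ring
  rw [hw]
  exact A.add_mem (hfix a hσa a₀ h0) (hfix b hσb _ (h1 a₀ h0))

end Cfsg.Agent.Lib.Helper36.SUReg
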