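/-
helper36: S2282-[CMULE] and S2282-[PUREA] (sheet of helper53): abstract group theory in a `URootSys`.
-/
import Cfsg.Agent.Lib.Helper53.SUReg.Basic

set_option autoImplicit false

namespace Cfsg.Agent.Lib.Helper36.SUReg

open Cfsg.Agent.Lib.Helper53.SUReg

variable {F : Type*} [Field F] {σ : F →+* F} {G : Type*} [Group G] {m : ℕ} {φ : F}
variable {R : URootSys F σ G m φ} {H : Subgroup G} {x₀ s₀ s₁ : F}

/-- `⁅b d, y⁆ = ⁅b, y⁆` when `d` commutes with `y` -/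
theorem comm_mul_right_central {b d y : G} (hdy : Commute d y) :
    (b * d) * y * (b * d)⁻¹ * y⁻¹ = b * y * b⁻¹ * y⁻¹ := by
  have h1 : d * y * d⁻¹ = y := mul_inv_eq_iff_eq_mul.2 hdy.eq
  calc (b * d) * y * (b * d)⁻¹ * y⁻¹ = b * (d * y * d⁻¹) * b⁻¹ * y⁻¹ := by group
    _ = b * y * b⁻¹ * y⁻¹ := by rw [h1]

/-- `⁅a z, b d⁆ = ⁅a, b⁆` when `z` commutes with `b, d` and `d` commutes with `a` -/
theorem comm_mul_mul_central {a z b d : G} (hzb : Commute z b) (hzd : Commute z d)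
    (hda : Commute d a) :
    (a * z) * (b * d) * (a * z)⁻¹ * (b * d)⁻¹ = a * b * a⁻¹ * b⁻¹ := by
  have h1 : z * (b * d) * z⁻¹ = b * d := mul_inv_eq_iff_eq_mul.2 (hzb.mul_right hzd).eq
  have h2 : d * a⁻¹ * d⁻¹ = a⁻¹ := mul_inv_eq_iff_eq_mul.2 hda.inv_right.eq
  calc (a * z) * (b * d) * (a * z)⁻¹ * (b * d)⁻¹
      = a * (z * (b * d) * z⁻¹) * a⁻¹ * (b * d)⁻¹ := by group
    _ = a * (b * d) * a⁻¹ * (b * d)⁻¹ := by rw [h1]
    _ = a * b * (d * a⁻¹ * d⁻¹) * b⁻¹ := by group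
    _ = a * b * a⁻¹ * b⁻¹ := by rw [h2]

theorem cmulE_mem (hm : 3 ≤ m) (h : UGen R H x₀ s₀ s₁) (k p : ℤ) (hp1 : k - (m : ℤ) < p)
    (hp2 : p < k - 1) (t : F) (ht : R.S (k - (m : ℤ)) p t ∈ H) :
    R.S (k - 1) p (s₀ * t * φ) ∈ H := by
  have hE := h.hE (k - 2) (k - 1)
  have e1 : k - 2 + 1 = k - 1 := by ring
  have e2 : k - 1 + 1 = k := by ring
  rw [e1, e2] at hE
  have hdy : Commute (R.S (k - 2) (k - 1) s₀) (R.S (k - (m : ℤ)) p t) :=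
    R.SS_comm (k - 2) (k - 1) (k - (m : ℤ)) p s₀ t
      (by rw [abs_lt]; constructor <;> omega) (by rw [abs_lt]; constructor <;> omega)
      (by rw [abs_lt]; constructor <;> omega) (by rw [abs_lt]; constructor <;> omega)
  have hrel := R.rel_SSa (k - 1) k p s₀ t (by omega) (by omega) hp1 (by omega) (by omega)
  rw [URootSys.comm_of_rel hrel, ← comm_mul_right_central (d := (R.S (k - 2) (k - 1) s₀)⁻¹) hdy.inv_left]
  exact H.mul_mem (H.mul_mem (H.mul_mem hE ht) (H.inv_mem hE)) (H.inv_mem ht)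

theorem pureA_mem (hm : 3 ≤ m) (hσ2 : ∀ x, σ (σ x) = x) (h : UGen R H x₀ s₀ s₁) :
    R.S 1 ((m : ℤ) - 1) (σ s₀ * σ s₀ * σ φ) ∈ H := by
  have hE1 := h.hE 1 0
  have hE2 := h.hE ((m : ℤ) - 2) ((m : ℤ) - 1)
  have e1 : (0 : ℤ) + 1 = 1 := by ring
  have e2 : (1 : ℤ) + 1 = 2 := by ring
  have e3 : (m : ℤ) - 1 + 1 = m := by ring
  have e4 : (m : ℤ) - 2 + 1 = m - 1 := by ring
  rw [e1, e2] at hE1
  rw [e3, e4] at hE2
  -- commutations
  have hzb : Commute (R.S 1 2 s₀) (R.S ((m : ℤ) - 1) m s₀) :=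
    R.SS_comm 1 2 ((m : ℤ) - 1) m s₀ s₀
      (by rw [abs_lt]; constructor <;> omega) (by rw [abs_lt]; constructor <;> omega)
      (by rw [abs_lt]; constructor <;> omega) (by rw [abs_lt]; constructor <;> omega)
  have hzd : Commute (R.S 1 2 s₀) (R.S ((m : ℤ) - 2) ((m : ℤ) - 1) s₀) :=
    R.SS_comm 1 2 ((m : ℤ) - 2) ((m : ℤ) - 1) s₀ s₀
      (by rw [abs_lt]; constructor <;> omega) (by rw [abs_lt]; constructor <;> omega)
      (by rw [abs_lt]; constructor <;> omega) (by rw [abs_lt]; constructor <;> omega)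
  have hda : Commute (R.S ((m : ℤ) - 2) ((m : ℤ) - 1) s₀) (R.S 0 1 s₀) :=
    R.SS_comm ((m : ℤ) - 2) ((m : ℤ) - 1) 0 1 s₀ s₀
      (by rw [abs_lt]; constructor <;> omega) (by rw [abs_lt]; constructor <;> omega)
      (by rw [abs_lt]; constructor <;> omega) (by rw [abs_lt]; constructor <;> omega)
  -- the relation
  have hrel := R.rel_SSb 1 0 ((m : ℤ) - 1) (-σ s₀) (-σ s₀) (by omega) (by omega) (by omega)
    (by omega) (by omega)
  have ea : R.S 1 0 (-σ s₀) = R.S 0 1 s₀ := (R.S_symm 1 0 s₀).symm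
  have eb : R.S (0 + (m : ℤ)) ((m : ℤ) - 1) (-σ s₀) = R.S ((m : ℤ) - 1) m s₀ := by
    rw [zero_add]
    exact (R.S_symm (m : ℤ) ((m : ℤ) - 1) s₀).symm
  have epar : -σ s₀ * -σ s₀ * σ φ = σ s₀ * σ s₀ * σ φ := by ring
  rw [ea, eb, epar] at hrel
  rw [URootSys.comm_of_rel hrel,
    ← comm_mul_mul_central (z := (R.S 1 2 s₀)⁻¹) (d := (R.S ((m : ℤ) - 2) ((m : ℤ) - 1) s₀)⁻¹)
      hzb.inv_left hzd.inv_left.inv_right hda.inv_left]
  exact H.mul_mem (H.mul_mem (H.mul_mem hE1 hE2) (H.inv_mem hE1)) (H.inv_mem hE2)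

end Cfsg.Agent.Lib.Helper36.SUReg
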