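/-
helper36: S2282-[REL1] and S2282-[CALC2] (sheet of helper53): the relation between a long root element and a Siegel
element of SU_n(q), and the commutation lemmas.
-/
import Cfsg.Agent.Lib.Helper53.SUReg.Act
import Cfsg.Agent.Lib.Helper36.SURegRel23

set_option autoImplicit false
set_option linter.unusedSimpArgs false

namespace Cfsg.Agent.Lib.Helper36.SUReg

open Matrix Cfsg.Agent.S0837 Cfsg.Agent.S0781 Cfsg.Agent.S2644
open Cfsg.Agent.Lib.Helper53.SUReg

variable {n : ℕ} {F : Type*} [Field F] {σ : F →+* F} {q : ℕ}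

local notation "SLn" => Matrix.SpecialLinearGroup (Fin n) F
local notation "Mn" => Matrix (Fin n) (Fin n) F

theorem tau_sig_rel (hσq : ∀ x, σ x = x ^ q) (hσ2 : ∀ x, σ (σ x) = x) {x y z : Fin n → F}
    (hx : hf σ x x = 0) (hy : hf σ y y = 0) (hz : hf σ z z = 0)
    (hxy : hf σ x y = 0) (hyz : hf σ y z = 0) (s t : F) :
    (tauU σ q z t : ↥(Cfsg.SU n F q)) * sigU σ q x y s =
      sigU σ q z y (s * (t - σ t) * hf σ x z) *
        tauU σ q y (-(s * hf σ x z * σ (s * hf σ x z) * t)) * sigU σ q x y s * tauU σ q z t := by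
  have hyx := hf_eq_zero_symm hσ2 hxy
  have hzy := hf_eq_zero_symm hσ2 hyz
  have hzx : σ (hf σ x z) = hf σ z x := (hf_symm σ hσ2 z x).symm
  have hxz' : σ (hf σ z x) = hf σ x z := (hf_symm σ hσ2 x z).symm
  apply su_ext
  intro v
  simp only [mul_mulVec, sigU_mulVec hσq hσ2 hx hy hxy, sigU_mulVec hσq hσ2 hz hy hzy,
    tauU_mulVec hσq hσ2 hy, tauU_mulVec hσq hσ2 hz, hf_add_left, hf_sub_left, hf_smul_left,
    hx, hy, hz, hxy, hyz, hyx, hzy, map_mul, map_sub, map_neg, hσ2, hzx, hxz',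
    mul_zero, add_zero, sub_zero]
  module

theorem tau_tau_comm (hσq : ∀ x, σ x = x ^ q) (hσ2 : ∀ x, σ (σ x) = x) {x y : Fin n → F}
    (hx : hf σ x x = 0) (hy : hf σ y y = 0) (hxy : hf σ x y = 0) (s t : F) :
    Commute (tauU σ q x s : ↥(Cfsg.SU n F q)) (tauU σ q y t) := by
  have hyx := hf_eq_zero_symm hσ2 hxy
  unfold Commute SemiconjBy
  apply su_ext
  intro v
  simp only [mul_mulVec, tauU_mulVec hσq hσ2 hx, tauU_mulVec hσq hσ2 hy, hf_add_left,
    hf_smul_left, hx, hy, hxy, hyx, mul_zero, add_zero]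
  module

theorem tau_sig_comm (hσq : ∀ x, σ x = x ^ q) (hσ2 : ∀ x, σ (σ x) = x) {x y z : Fin n → F}
    (hx : hf σ x x = 0) (hy : hf σ y y = 0) (hz : hf σ z z = 0)
    (hxz : hf σ x z = 0) (hyz : hf σ y z = 0) (s t : F) :
    Commute (tauU σ q z t : ↥(Cfsg.SU n F q)) (sigU σ q x y s) := by
  by_cases hxy : hf σ x y = 0
  · have hyx := hf_eq_zero_symm hσ2 hxy
    have hzx := hf_eq_zero_symm hσ2 hxz
    have hzy := hf_eq_zero_symm hσ2 hyz
    unfold Commute SemiconjBy
    apply su_ext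
    intro v
    simp only [mul_mulVec, tauU_mulVec hσq hσ2 hz, sigU_mulVec hσq hσ2 hx hy hxy, hf_add_left,
      hf_sub_left, hf_smul_left, hx, hy, hz, hxy, hyx, hxz, hzx, hyz, hzy, mul_zero, add_zero,
      sub_zero]
    module
  · rw [sigU_of_ne hxy]
    exact Commute.one_right _

theorem sig_sig_comm (hσq : ∀ x, σ x = x ^ q) (hσ2 : ∀ x, σ (σ x) = x) {x y z w : Fin n → F}
    (hx : hf σ x x = 0) (hy : hf σ y y = 0) (hz : hf σ z z = 0) (hw : hf σ w w = 0)
    (hxz : hf σ x z = 0) (hxw : hf σ x w = 0) (hyz : hf σ y z = 0) (hyw : hf σ y w = 0)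
    (s t : F) :
    Commute (sigU σ q x y s : ↥(Cfsg.SU n F q)) (sigU σ q z w t) := by
  by_cases hxy : hf σ x y = 0
  · by_cases hzw : hf σ z w = 0
    · have hyx := hf_eq_zero_symm hσ2 hxy
      have hwz := hf_eq_zero_symm hσ2 hzw
      have hzx := hf_eq_zero_symm hσ2 hxz
      have hwx := hf_eq_zero_symm hσ2 hxw
      have hzy := hf_eq_zero_symm hσ2 hyz
      have hwy := hf_eq_zero_symm hσ2 hyw
      unfold Commute SemiconjBy
      apply su_ext
      intro v
      simp only [mul_mulVec, sigU_mulVec hσq hσ2 hx hy hxy, sigU_mulVec hσq hσ2 hz hw hzw,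
        hf_add_left, hf_sub_left, hf_smul_left, hx, hy, hz, hw, hxy, hyx, hzw, hwz, hxz, hzx,
        hxw, hwx, hyz, hzy, hyw, hwy, mul_zero, add_zero, sub_zero]
      module
    · rw [sigU_of_ne hzw]
      exact Commute.one_right _
  · rw [sigU_of_ne hxy]
    exact Commute.one_left _

end Cfsg.Agent.Lib.Helper36.SUReg
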