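/-
helper36: hedge of module SPMD-[C-CASEB] of helper94's PROJECT SPMD (S2333): the number of standard pairs of a
quadratic form in characteristic two all of whose singular vectors lie in the radical of the polar form.
No Chevalley–Warning: the orthogonal complement of a hyperbolic-like pair consists of singular vectors
(one square root).
-/
import Mathlib
import Cfsg.Agent.Lib.Helper94.SPMD.Defs

set_option autoImplicit false

namespace Cfsg.Agent.Lib.Helper94.SPMD.CCaseB

open Matrix Module QuadraticMap

section gen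

/-- a fibrewise cardinality bound -/
theorem natCard_le_mul_of_fibers {α β : Type*} [Finite α] [Finite β] (f : α → β) (m : ℕ)
    (h : ∀ b, Nat.card {a // f a = b} ≤ m) : Nat.card α ≤ m * Nat.card β := by
  classical
  have : Fintype β := Fintype.ofFinite β
  rw [← Nat.card_congr (Equiv.sigmaFiberEquiv f), Nat.card_sigma]
  calc ∑ b, Nat.card {a // f a = b} ≤ ∑ _b : β, m := Finset.sum_le_sum (fun b _ => h b)
    _ = m * Nat.card β := by
      rw [Finset.sum_const, Finset.card_univ, smul_eq_mul, Nat.card_eq_fintype_card, mul_comm]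

end gen

section field
variable {F : Type*} [Field F]

theorem add_self_zero (h2 : (2 : F) = 0) (y : F) : y + y = 0 := by
  rw [← two_mul, h2, zero_mul]

theorem neg_eq_self (h2 : (2 : F) = 0) (y : F) : -y = y := by
  rw [neg_eq_iff_add_eq_zero]
  exact add_self_zero h2 y

/-- squaring is injective in characteristic two -/
theorem sq_inj_of_two (h2 : (2 : F) = 0) {c d : F} (h : c * c = d * d) : c = d := by
  have h3 : (c - d) * (c - d) = 0 := by
    linear_combination h + (d * d - c * d) * h2
  exact sub_eq_zero.mp (mul_self_eq_zero.mp h3)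

/-- squaring is surjective on a finite field of characteristic two -/
theorem exists_sq_of_two [Finite F] (h2 : (2 : F) = 0) (t : F) : ∃ c : F, c * c = t := by
  have : CharP F 2 := CharTwo.of_one_ne_zero_of_two_eq_zero one_ne_zero h2
  obtain ⟨c, hc⟩ := FiniteField.isSquare_of_char_two (ringChar.eq F 2) t
  exact ⟨c, hc.symm⟩

/-- the conic `α a² + a b + β b² = α`, `α ≠ 0`, has at most `q + 1` points (characteristic two) -/
theorem card_conic_le [Fintype F] (h2 : (2 : F) = 0) (α β : F) (hα : α ≠ 0) :
    Nat.card {p : F × F // α * p.1 * p.1 + p.1 * p.2 + β * p.2 * p.2 = α} ≤ Fintype.card F + 1 := by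
  classical
  let g : {p : F × F // α * p.1 * p.1 + p.1 * p.2 + β * p.2 * p.2 = α} → Option F :=
    fun p => if p.1.2 = 0 then none else some (p.1.1 / p.1.2)
  have hg : Function.Injective g := by
    rintro ⟨⟨a, b⟩, hp⟩ ⟨⟨a', b'⟩, hp'⟩ hgg
    simp only at hp hp'
    have hcross : a * b' = a' * b := by
      simp only [g] at hgg
      by_cases hb : b = 0
      · by_cases hb' : b' = 0
        · rw [hb, hb']; ring
        · simp [hb, hb'] at hgg
      · by_cases hb' : b' = 0
        · simp [hb, hb'] at hgg
        · simp only [hb, hb', if_false, Option.some.injEq] at hgg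
          rw [div_eq_div_iff hb hb'] at hgg
          exact hgg
    have hbb : b = b' := by
      apply sq_inj_of_two h2
      have : (b * b - b' * b') * α = 0 := by
        linear_combination -(b * b) * hp' + (b' * b') * hp - (α * (a * b' + a' * b) + b * b') * hcross
      rcases mul_eq_zero.mp this with h | h
      · exact sub_eq_zero.mp h
      · exact absurd h hα
    have haa : a = a' := by
      apply sq_inj_of_two h2
      have : (a * a - a' * a') * α = 0 := by
        linear_combination -(a * a) * hp' + (a' * a') * hp + (a * a' + β * (a * b' + a' * b)) * hcross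
      rcases mul_eq_zero.mp this with h | h
      · exact sub_eq_zero.mp h
      · exact absurd h hα
    subst hbb haa
    rfl
  calc Nat.card _ ≤ Nat.card (Option F) := Nat.card_le_card_of_injective g hg
    _ = Fintype.card F + 1 := by
      rw [Nat.card_eq_fintype_card, Fintype.card_option]

end field

section quad
variable {F : Type*} [Field F] {n : ℕ}

theorem polar_self_zero (h2 : (2 : F) = 0) (Q : QuadraticForm F (Fin n → F)) (x : Fin n → F) :
    polar Q x x = 0 := by
  rw [QuadraticMap.polar_self, two_smul]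
  exact add_self_zero h2 _

variable (h2 : (2 : F) = 0) (Q : QuadraticForm F (Fin n → F))
  (hsing : ∀ x, Q x = 0 → ∀ y, polar Q x y = 0) (u v : Fin n → F) (huv : polar Q u v = 1)

include h2 hsing huv in
/-- vectors orthogonal to `u` and `v` are singular -/
theorem perp_singular [Finite F] (w : Fin n → F) (hwu : polar Q w u = 0) (hwv : polar Q w v = 0) :
    Q w = 0 := by
  by_contra hγ
  obtain ⟨c, hc⟩ := exists_sq_of_two h2 (Q u / Q w)
  have hQ : Q (u + c • w) = 0 := by
    rw [QuadraticMap.map_add (⇑Q), QuadraticMap.map_smul, QuadraticMap.polar_smul_right,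
      QuadraticMap.polar_comm, hwu, hc, smul_eq_mul, smul_eq_mul, mul_zero, add_zero,
      div_mul_cancel₀ _ hγ]
    exact add_self_zero h2 _
  have h3 := hsing _ hQ v
  rw [QuadraticMap.polar_add_left, QuadraticMap.polar_smul_left, hwv, huv, smul_zero, add_zero] at h3
  exact one_ne_zero h3

include h2 hsing huv in
/-- the value of `Q` on `a u + b v + r`, `r ⟂ u, v` -/
theorem Q_decomp [Finite F] (a b : F) (r : Fin n → F) (hru : polar Q r u = 0) (hrv : polar Q r v = 0) :
    Q (a • u + b • v + r) = Q u * a * a + a * b + Q v * b * b := by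
  have hr0 : Q r = 0 := perp_singular h2 Q hsing u v huv r hru hrv
  have hrad := hsing r hr0
  rw [QuadraticMap.map_add (⇑Q), QuadraticMap.polar_comm, hrad, hr0, QuadraticMap.map_add (⇑Q),
    QuadraticMap.map_smul, QuadraticMap.map_smul, QuadraticMap.polar_smul_left,
    QuadraticMap.polar_smul_right, huv]
  simp only [smul_eq_mul]
  ring

include h2 huv in
/-- the residue `z - B(z,v) u - B(u,z) v` is orthogonal to `u` and `v` -/
theorem resid_perp (z : Fin n → F) :
    polar Q (z - polar Q z v • u - polar Q u z • v) u = 0 ∧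
      polar Q (z - polar Q z v • u - polar Q u z • v) v = 0 := by
  have hvu : polar Q v u = 1 := by rw [QuadraticMap.polar_comm]; exact huv
  constructor
  · rw [QuadraticMap.polar_sub_left, QuadraticMap.polar_sub_left, QuadraticMap.polar_smul_left,
      QuadraticMap.polar_smul_left, polar_self_zero h2, hvu, QuadraticMap.polar_comm Q u z]
    simp
  · rw [QuadraticMap.polar_sub_left, QuadraticMap.polar_sub_left, QuadraticMap.polar_smul_left,
      QuadraticMap.polar_smul_left, polar_self_zero h2, huv]
    simp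

theorem resid_eq (z : Fin n → F) (a b : F) :
    z = a • u + b • v + (z - a • u - b • v) := by
  abel

include h2 huv in
/-- the orthogonal complement of `⟨u, v⟩` has at most `q^(n-2)` elements -/
theorem card_perp_le [Fintype F] {q : ℕ} (hq : Fintype.card F = q) (hn : 2 ≤ n) :
    Nat.card {w : Fin n → F // polar Q w u = 0 ∧ polar Q w v = 0} ≤ q ^ (n - 2) := by
  classical
  have hvu : polar Q v u = 1 := by rw [QuadraticMap.polar_comm]; exact huv
  let g : F × F × {w : Fin n → F // polar Q w u = 0 ∧ polar Q w v = 0} → (Fin n → F) :=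
    fun t => t.1 • u + t.2.1 • v + t.2.2.1
  have hg : Function.Injective g := by
    rintro ⟨a, b, ⟨w, hwu, hwv⟩⟩ ⟨a', b', ⟨w', hwu', hwv'⟩⟩ h
    simp only [g] at h
    have ha : a = a' := by
      have := congrArg (fun z => polar Q z v) h
      simp only [QuadraticMap.polar_add_left, QuadraticMap.polar_smul_left, huv, hwv, hwv',
        polar_self_zero h2, smul_eq_mul, mul_one, mul_zero, add_zero] at this
      exact this
    have hb : b = b' := by
      have := congrArg (fun z => polar Q z u) h
      simp only [QuadraticMap.polar_add_left, QuadraticMap.polar_smul_left, hvu, hwu, hwu',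
        polar_self_zero h2, smul_eq_mul, mul_one, mul_zero, add_zero, zero_add] at this
      exact this
    subst ha hb
    have hw : w = w' := add_left_cancel h
    subst hw
    rfl
  have h1 := Nat.card_le_card_of_injective g hg
  rw [Nat.card_prod, Nat.card_prod, Nat.card_eq_fintype_card (α := F),
    Nat.card_eq_fintype_card (α := Fin n → F), Fintype.card_fun, Fintype.card_fin, hq] at h1
  have h3 : q ^ n = q * (q * q ^ (n - 2)) := by
    rw [← mul_assoc, ← pow_two, ← pow_add]
    congr 1
    omega
  rw [h3] at h1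
  have hq0 : 0 < q := by rw [← hq]; exact Fintype.card_pos
  exact Nat.le_of_mul_le_mul_left (Nat.le_of_mul_le_mul_left h1 hq0) hq0

end quad

section count
variable {F : Type*} [Field F] [Fintype F] {n : ℕ}

variable (h2 : (2 : F) = 0) (Q : QuadraticForm F (Fin n → F))
  (hsing : ∀ x, Q x = 0 → ∀ y, polar Q x y = 0)

include h2 hsing in
/-- the number of vectors of a given non-zero value `Q u` -/
theorem card_value_le {q : ℕ} (hq : Fintype.card F = q) (hn : 2 ≤ n) (u v : Fin n → F)
    (huv : polar Q u v = 1) :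
    Nat.card {x : Fin n → F // Q x = Q u} ≤ (q + 1) * q ^ (n - 2) := by
  classical
  have hα : Q u ≠ 0 := by
    intro h0
    have := hsing u h0 v
    rw [huv] at this
    exact one_ne_zero this
  let g : {x : Fin n → F // Q x = Q u} →
      {p : F × F // Q u * p.1 * p.1 + p.1 * p.2 + Q v * p.2 * p.2 = Q u} ×
        {w : Fin n → F // polar Q w u = 0 ∧ polar Q w v = 0} :=
    fun x => (⟨(polar Q x.1 v, polar Q u x.1), by
        have h3 := Q_decomp h2 Q hsing u v huv (polar Q x.1 v) (polar Q u x.1) _
          (resid_perp h2 Q u v huv x.1).1 (resid_perp h2 Q u v huv x.1).2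
        rw [← resid_eq, x.2] at h3
        exact h3.symm⟩,
      ⟨x.1 - polar Q x.1 v • u - polar Q u x.1 • v, resid_perp h2 Q u v huv x.1⟩)
  have hg : Function.Injective g := by
    rintro ⟨x, hx⟩ ⟨x', hx'⟩ h
    simp only [g, Prod.mk.injEq, Subtype.mk.injEq] at h
    obtain ⟨⟨ha, hb⟩, hr⟩ := h
    apply Subtype.ext
    show x = x'
    rw [resid_eq u v x (polar Q x v) (polar Q u x), resid_eq u v x' (polar Q x' v) (polar Q u x'),
      hr, ha, hb]
  calc Nat.card _ ≤ Nat.card ({p : F × F // Q u * p.1 * p.1 + p.1 * p.2 + Q v * p.2 * p.2 = Q u} ×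
        {w : Fin n → F // polar Q w u = 0 ∧ polar Q w v = 0}) := Nat.card_le_card_of_injective g hg
    _ = Nat.card {p : F × F // Q u * p.1 * p.1 + p.1 * p.2 + Q v * p.2 * p.2 = Q u} *
        Nat.card {w : Fin n → F // polar Q w u = 0 ∧ polar Q w v = 0} := Nat.card_prod _ _
    _ ≤ (q + 1) * q ^ (n - 2) := by
      apply Nat.mul_le_mul
      · rw [← hq]
        exact card_conic_le h2 _ _ hα
      · exact card_perp_le h2 Q u v huv hq hn

include h2 hsing in
/-- for a fixed `x`, the number of `y` with `B(x,y) = 1` and a given value -/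
theorem card_partner_le {q : ℕ} (hq : Fintype.card F = q) (hn : 2 ≤ n) (x : Fin n → F) (β : F) :
    Nat.card {y : Fin n → F // Q y = β ∧ polar Q x y = 1} ≤ 2 * q ^ (n - 2) := by
  classical
  rcases isEmpty_or_nonempty {y : Fin n → F // Q y = β ∧ polar Q x y = 1} with hemp | hne
  · rw [Nat.card_of_isEmpty]
    exact Nat.zero_le _
  obtain ⟨⟨y₀, hy₀, hxy₀⟩⟩ := hne
  have hα : Q x ≠ 0 := by
    intro h0
    have := hsing x h0 y₀
    rw [hxy₀] at this
    exact one_ne_zero this
  -- the coefficient `a = B(y, y₀)` is `0` or `(Q x)⁻¹`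
  have hcoef : ∀ y : Fin n → F, Q y = β → polar Q x y = 1 →
      polar Q y y₀ = 0 ∨ polar Q y y₀ = (Q x)⁻¹ := by
    intro y hy hxy
    have h3 := Q_decomp h2 Q hsing x y₀ hxy₀ (polar Q y y₀) (polar Q x y) _
      (resid_perp h2 Q x y₀ hxy₀ y).1 (resid_perp h2 Q x y₀ hxy₀ y).2
    rw [← resid_eq, hy, hxy, hy₀] at h3
    have h4 : polar Q y y₀ * (Q x * polar Q y y₀ + 1) = 0 := by
      linear_combination -h3
    rcases mul_eq_zero.mp h4 with h | h
    · exact Or.inl h
    · right
      have h5 : Q x * polar Q y y₀ = 1 := by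
        have := eq_neg_of_add_eq_zero_left h
        rw [this, neg_eq_self h2]
      exact eq_inv_of_mul_eq_one_right h5
  let g : {y : Fin n → F // Q y = β ∧ polar Q x y = 1} →
      Bool × {w : Fin n → F // polar Q w x = 0 ∧ polar Q w y₀ = 0} :=
    fun y => (decide (polar Q y.1 y₀ = 0),
      ⟨y.1 - polar Q y.1 y₀ • x - polar Q x y.1 • y₀, resid_perp h2 Q x y₀ hxy₀ y.1⟩)
  have hg : Function.Injective g := by
    rintro ⟨y, hy, hxy⟩ ⟨y', hy', hxy'⟩ h
    simp only [g, Prod.mk.injEq, Subtype.mk.injEq, decide_eq_decide] at h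
    obtain ⟨hdec, hr⟩ := h
    have ha : polar Q y y₀ = polar Q y' y₀ := by
      rcases hcoef y hy hxy with h0 | h1
      · rw [h0, hdec.mp h0]
      · rcases hcoef y' hy' hxy' with h0' | h1'
        · rw [hdec.mpr h0', h0']
        · rw [h1, h1']
    apply Subtype.ext
    show y = y'
    rw [resid_eq x y₀ y (polar Q y y₀) (polar Q x y), resid_eq x y₀ y' (polar Q y' y₀) (polar Q x y'),
      hr, ha, hxy, hxy']
  calc Nat.card _ ≤ Nat.card (Bool × {w : Fin n → F // polar Q w x = 0 ∧ polar Q w y₀ = 0}) :=
        Nat.card_le_card_of_injective g hg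
    _ = 2 * Nat.card {w : Fin n → F // polar Q w x = 0 ∧ polar Q w y₀ = 0} := by
      rw [Nat.card_prod, Nat.card_eq_fintype_card (α := Bool), Fintype.card_bool]
    _ ≤ 2 * q ^ (n - 2) := Nat.mul_le_mul_left _ (card_perp_le h2 Q x y₀ hxy₀ hq hn)

end count

end Cfsg.Agent.Lib.Helper94.SPMD.CCaseB

namespace Cfsg.Agent.Lib.Helper94.SPMD

open Matrix Module
open Cfsg.Agent.Lib.Helper94.SPMD.CCaseB

variable {F : Type*} [Field F] [Fintype F] {n : ℕ}

/-- **[C-CASEB]** Case B: every singular vector lies in the radical of the polar form -/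
theorem card_stdPairs_le_of_aniso {q : ℕ} (hq : Fintype.card F = q) (h2 : (2 : F) = 0)
    (hn : 2 ≤ n) (Q : QuadraticForm F (Fin n → F))
    (hsing : ∀ x, Q x = 0 → ∀ y, QuadraticMap.polar Q x y = 0) (x₁ y₁ : Fin n → F)
    (h1 : QuadraticMap.polar Q x₁ y₁ = 1) :
    Nat.card (stdPairs Q (Q x₁) (Q y₁)) ≤ 2 * (q + 1) * q ^ (2 * (n - 2)) := by
  classical
  let f : ↥(stdPairs Q (Q x₁) (Q y₁)) → {x : Fin n → F // Q x = Q x₁} :=
    fun p => ⟨p.1.1, p.2.2.1⟩
  have hfib : ∀ x : {x : Fin n → F // Q x = Q x₁},
      Nat.card {p : ↥(stdPairs Q (Q x₁) (Q y₁)) // f p = x} ≤ 2 * q ^ (n - 2) := by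
    intro x
    let g : {p : ↥(stdPairs Q (Q x₁) (Q y₁)) // f p = x} →
        {y : Fin n → F // Q y = Q y₁ ∧ QuadraticMap.polar Q x.1 y = 1} :=
      fun p => ⟨p.1.1.2, p.1.2.2.2, by
        have h3 := p.1.2.1
        have h4 : p.1.1.1 = x.1 := congrArg Subtype.val p.2
        rw [h4] at h3
        exact h3⟩
    have hg : Function.Injective g := by
      rintro ⟨⟨⟨a, b⟩, hp⟩, hpx⟩ ⟨⟨⟨a', b'⟩, hp'⟩, hpx'⟩ h
      simp only [g, Subtype.mk.injEq] at h
      have h4 : a = x.1 := congrArg Subtype.val hpx
      have h4' : a' = x.1 := congrArg Subtype.val hpx'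
      apply Subtype.ext
      apply Subtype.ext
      show (a, b) = (a', b')
      rw [h4, h4', h]
    exact le_trans (Nat.card_le_card_of_injective g hg)
      (card_partner_le h2 Q hsing hq hn x.1 (Q y₁))
  have h5 := natCard_le_mul_of_fibers f (2 * q ^ (n - 2)) hfib
  have h6 := card_value_le h2 Q hsing hq hn x₁ y₁ h1
  calc Nat.card ↥(stdPairs Q (Q x₁) (Q y₁))
      ≤ 2 * q ^ (n - 2) * Nat.card {x : Fin n → F // Q x = Q x₁} := h5
    _ ≤ 2 * q ^ (n - 2) * ((q + 1) * q ^ (n - 2)) := Nat.mul_le_mul_left _ h6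
    _ = 2 * (q + 1) * q ^ (2 * (n - 2)) := by
      rw [two_mul (n - 2), pow_add]
      ring

end Cfsg.Agent.Lib.Helper94.SPMD
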