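import Mathlib

set_option autoImplicit false

/-!
# Square-zero endomorphisms

* `sqZero_model`: a square-zero endomorphism `N` of a finite-dimensional space `V` is, up to a linear
  equivalence `Φ : range N × range N × C ≃ V`, the operator `(y, y', c) ↦ (0, y, 0)`.
* `exists_linearEquiv_conj_of_sqZero`: two square-zero endomorphisms with ranges of equal dimension are
  conjugate under a linear automorphism.
-/

namespace Cfsg.Agent.Lib.Helper36

open Module

universe u v

variable {K : Type u} [Field K] {V : Type v} [AddCommGroup V] [Module K V] [FiniteDimensional K V]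

theorem sqZero_model (N : V →ₗ[K] V) (hN : ∀ x, N (N x) = 0) :
    ∃ (C : Submodule K (LinearMap.ker N))
      (Φ : (LinearMap.range N × LinearMap.range N × C) ≃ₗ[K] V),
      finrank K C + 2 * finrank K (LinearMap.range N) = finrank K V ∧
      ∀ (y y' : LinearMap.range N) (c : C), N (Φ (y, y', c)) = Φ (0, y, 0) := by
  have hIK : LinearMap.range N ≤ LinearMap.ker N := by
    rintro _ ⟨x, rfl⟩; exact hN x
  obtain ⟨σ, hσ⟩ := N.rangeRestrict.exists_rightInverse_of_surjective
    (LinearMap.range_rangeRestrict N)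
  have hσ' : ∀ y : LinearMap.range N, N (σ y) = y := fun y => by
    have := LinearMap.congr_fun hσ y
    exact congrArg Subtype.val this
  obtain ⟨C, hC⟩ := Submodule.exists_isCompl
    ((LinearMap.range N).comap (LinearMap.ker N).subtype)
  let incI : LinearMap.range N →ₗ[K] V := (LinearMap.range N).subtype
  let incC : C →ₗ[K] V := (LinearMap.ker N).subtype ∘ₗ C.subtype
  let Φ₀ : (LinearMap.range N × LinearMap.range N × C) →ₗ[K] V := σ.coprod (incI.coprod incC)
  have hΦ₀ : ∀ y y' c, Φ₀ (y, y', c) = σ y + ((y' : V) + ((c : LinearMap.ker N) : V)) := by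
    intro y y' c
    simp [Φ₀, incI, incC, LinearMap.coprod_apply]
  have hNy' : ∀ y' : LinearMap.range N, N (y' : V) = 0 := fun y' => hIK y'.2
  have hNc : ∀ c : C, N ((c : LinearMap.ker N) : V) = 0 := fun c => (c : LinearMap.ker N).2
  have hNΦ : ∀ y y' c, N (Φ₀ (y, y', c)) = (y : V) := by
    intro y y' c
    rw [hΦ₀, map_add, map_add, hσ', hNy', hNc, add_zero, add_zero]
  have hinj : Function.Injective Φ₀ := by
    rw [← LinearMap.ker_eq_bot, LinearMap.ker_eq_bot']
    rintro ⟨y, y', c⟩ h
    have hy : (y : V) = 0 := by rw [← hNΦ y y' c, h, map_zero]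
    have hy0 : y = 0 := Subtype.ext hy
    subst hy0
    rw [hΦ₀, map_zero, zero_add] at h
    -- y' + c = 0 in V; lift to ker N
    have hmem : (⟨(y' : V), hIK y'.2⟩ : LinearMap.ker N) ∈
        (LinearMap.range N).comap (LinearMap.ker N).subtype := y'.2
    have hsum : (⟨(y' : V), hIK y'.2⟩ : LinearMap.ker N) + (c : LinearMap.ker N) = 0 :=
      Subtype.ext h
    have hneg : (⟨(y' : V), hIK y'.2⟩ : LinearMap.ker N) = -(c : LinearMap.ker N) :=
      eq_neg_of_add_eq_zero_left hsum
    have hmemC : (⟨(y' : V), hIK y'.2⟩ : LinearMap.ker N) ∈ C := by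
      rw [hneg]; exact C.neg_mem c.2
    have hzero : (⟨(y' : V), hIK y'.2⟩ : LinearMap.ker N) = 0 :=
      (Submodule.disjoint_def.mp hC.disjoint) _ hmem hmemC
    have hy'0 : y' = 0 := by
      apply Subtype.ext
      have := congrArg (fun z : LinearMap.ker N => (z : V)) hzero
      simpa using this
    have hc0 : c = 0 := by
      apply Subtype.ext
      have : -(c : LinearMap.ker N) = 0 := by rw [← hneg, hzero]
      exact neg_eq_zero.mp this
    rw [hy'0, hc0]
    rfl
  have hdimC : finrank K C + finrank K (LinearMap.range N) = finrank K (LinearMap.ker N) := by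
    have h1 := Submodule.finrank_add_eq_of_isCompl hC
    have h2 : finrank K ((LinearMap.range N).comap (LinearMap.ker N).subtype) =
        finrank K (LinearMap.range N) :=
      LinearEquiv.finrank_eq (Submodule.comapSubtypeEquivOfLe hIK)
    omega
  have hrn : finrank K (LinearMap.range N) + finrank K (LinearMap.ker N) = finrank K V :=
    LinearMap.finrank_range_add_finrank_ker N
  have hdim : finrank K (LinearMap.range N × LinearMap.range N × C) = finrank K V := by
    rw [Module.finrank_prod, Module.finrank_prod]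
    omega
  refine ⟨C, LinearMap.linearEquivOfInjective Φ₀ hinj hdim, by omega, ?_⟩
  intro y y' c
  rw [LinearMap.linearEquivOfInjective_apply, LinearMap.linearEquivOfInjective_apply, hNΦ, hΦ₀]
  simp

/-- Two square-zero endomorphisms whose ranges have the same dimension are conjugate. -/
theorem exists_linearEquiv_conj_of_sqZero (N N' : V →ₗ[K] V) (hN : ∀ x, N (N x) = 0)
    (hN' : ∀ x, N' (N' x) = 0)
    (hrank : finrank K (LinearMap.range N) = finrank K (LinearMap.range N')) :
    ∃ e : V ≃ₗ[K] V, ∀ x, e (N x) = N' (e x) := by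
  obtain ⟨C, Φ, hd, hΦ⟩ := sqZero_model N hN
  obtain ⟨C', Φ', hd', hΦ'⟩ := sqZero_model N' hN'
  have hCC : finrank K C = finrank K C' := by omega
  let α : LinearMap.range N ≃ₗ[K] LinearMap.range N' := LinearEquiv.ofFinrankEq _ _ hrank
  let γ : C ≃ₗ[K] C' := LinearEquiv.ofFinrankEq _ _ hCC
  let E : (LinearMap.range N × LinearMap.range N × C) ≃ₗ[K]
      (LinearMap.range N' × LinearMap.range N' × C') := α.prodCongr (α.prodCongr γ)
  refine ⟨Φ.symm.trans (E.trans Φ'), ?_⟩
  intro x
  obtain ⟨⟨y, y', c⟩, rfl⟩ := Φ.surjective x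
  rw [hΦ]
  simp only [LinearEquiv.trans_apply, LinearEquiv.symm_apply_apply]
  have h1 : E (0, y, 0) = (0, α y, 0) := by simp [E]
  have h2 : E (y, y', c) = (α y, α y', γ c) := by simp [E]
  rw [h1, h2, hΦ']

end Cfsg.Agent.Lib.Helper36
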