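import Mathlib
import Cfsg.Agent.Lib.Helper36.SqZero

set_option autoImplicit false

/-!
# Square-zero matrices: conjugacy and centralizers with prescribed determinant

* `exists_intertwiner_matrix`: square-zero matrices of equal rank are intertwined by an invertible matrix.
* `exists_commuting_det_sq`: a nonzero square-zero matrix commutes with a matrix of determinant `δ * δ`.
* `exists_commuting_det_of_lt`: a square-zero matrix `N` with `2 * rank N < n` commutes with a matrix of any
  prescribed determinant.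
-/

namespace Cfsg.Agent.Lib.Helper36

open Matrix Module

variable {F : Type*} [Field F] {n : ℕ}

/-- `GL`-conjugacy of square-zero matrices of equal rank, in matrix form. -/
theorem exists_intertwiner_matrix (N N' : Matrix (Fin n) (Fin n) F) (hNN : N * N = 0)
    (hNN' : N' * N' = 0) (hrank : N.rank = N'.rank) :
    ∃ P : Matrix (Fin n) (Fin n) F, P.det ≠ 0 ∧ P * N = N' * P := by
  have h1 : ∀ x, N.mulVecLin (N.mulVecLin x) = 0 := fun x => by
    simp only [mulVecLin_apply, mulVec_mulVec, hNN, zero_mulVec]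
  have h2 : ∀ x, N'.mulVecLin (N'.mulVecLin x) = 0 := fun x => by
    simp only [mulVecLin_apply, mulVec_mulVec, hNN', zero_mulVec]
  obtain ⟨e, he⟩ := exists_linearEquiv_conj_of_sqZero N.mulVecLin N'.mulVecLin h1 h2 hrank
  refine ⟨LinearMap.toMatrix' e.toLinearMap, ?_, ?_⟩
  · have hinv : LinearMap.toMatrix' e.toLinearMap * LinearMap.toMatrix' e.symm.toLinearMap = 1 := by
      rw [← LinearMap.toMatrix'_comp]
      simp
    intro h0
    have := congrArg det hinv
    rw [det_mul, h0, zero_mul, det_one] at this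
    exact zero_ne_one this
  · have hcomp : e.toLinearMap ∘ₗ N.mulVecLin = N'.mulVecLin ∘ₗ e.toLinearMap := by
      apply LinearMap.ext
      intro x
      exact he x
    have := congrArg LinearMap.toMatrix' hcomp
    rw [LinearMap.toMatrix'_comp, LinearMap.toMatrix'_comp, ← Matrix.toLin'_apply',
      ← Matrix.toLin'_apply', LinearMap.toMatrix'_toLin', LinearMap.toMatrix'_toLin'] at this
    exact this

/-- A nonzero square-zero matrix commutes with a matrix of determinant `δ * δ`. -/
theorem exists_commuting_det_sq (N : Matrix (Fin n) (Fin n) F) (hNN : N * N = 0) (hN0 : N ≠ 0)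
    (δ : F) : ∃ H : Matrix (Fin n) (Fin n) F, H * N = N * H ∧ H.det = δ * δ := by
  have hex : ∃ v : Fin n → F, N *ᵥ v ≠ 0 := by
    by_contra hcon
    push Not at hcon
    apply hN0
    ext i j
    have := congrFun (hcon (Pi.single j 1)) i
    simpa using this
  obtain ⟨v, hv⟩ := hex
  set u := N *ᵥ v with hu
  have hex2 : ∃ i, u i ≠ 0 := by
    by_contra hcon
    push Not at hcon
    exact hv (funext hcon)
  obtain ⟨i, hi⟩ := hex2
  set β : Fin n → F := (u i)⁻¹ • Pi.single i 1 with hβ
  have hβu : β ⬝ᵥ u = 1 := by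
    rw [hβ, smul_dotProduct, single_dotProduct, one_mul, smul_eq_mul, inv_mul_cancel₀ hi]
  have hNu : N *ᵥ u = 0 := by rw [hu, mulVec_mulVec, hNN, zero_mulVec]
  set c := δ - 1 with hc
  set H₁ : Matrix (Fin n) (Fin n) F := 1 + vecMulVec (c • u) β with hH₁
  set H₂ : Matrix (Fin n) (Fin n) F := 1 + vecMulVec (c • v) (β ᵥ* N) with hH₂
  have h1 : H₂ * N = N := by
    rw [hH₂, Matrix.add_mul, Matrix.one_mul, vecMulVec_mul, vecMul_vecMul, hNN, vecMul_zero,
      vecMulVec_zero, add_zero]
  have h2 : N * H₁ = N := by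
    rw [hH₁, Matrix.mul_add, Matrix.mul_one, mul_vecMulVec, mulVec_smul, hNu, smul_zero,
      zero_vecMulVec, add_zero]
  have h3 : H₁ * N = N + vecMulVec (c • u) (β ᵥ* N) := by
    rw [hH₁, Matrix.add_mul, Matrix.one_mul, vecMulVec_mul]
  have h4 : N * H₂ = N + vecMulVec (c • u) (β ᵥ* N) := by
    rw [hH₂, Matrix.mul_add, Matrix.mul_one, mul_vecMulVec, mulVec_smul]
  have hd1 : H₁.det = δ := by
    rw [hH₁, vecMulVec_eq Unit, det_one_add_replicateCol_mul_replicateRow, dotProduct_smul, hβu,
      hc, smul_eq_mul, mul_one]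
    ring
  have hd2 : H₂.det = δ := by
    rw [hH₂, vecMulVec_eq Unit, det_one_add_replicateCol_mul_replicateRow, dotProduct_smul,
      ← dotProduct_mulVec, ← hu, hβu, hc, smul_eq_mul, mul_one]
    ring
  refine ⟨H₁ * H₂, ?_, ?_⟩
  · rw [Matrix.mul_assoc, h1, h3, ← Matrix.mul_assoc, h2, h4]
  · rw [det_mul, hd1, hd2]

/-- A square-zero matrix `N` with `2 * rank N < n` commutes with a matrix of any prescribed
determinant. -/
theorem exists_commuting_det_of_lt (N : Matrix (Fin n) (Fin n) F) (hNN : N * N = 0)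
    (hlt : 2 * N.rank < n) (d : F) :
    ∃ H : Matrix (Fin n) (Fin n) F, H * N = N * H ∧ H.det = d := by
  -- range ⊊ ker
  have hle : LinearMap.range N.mulVecLin ≤ LinearMap.ker N.mulVecLin := by
    rintro _ ⟨x, rfl⟩
    simp only [LinearMap.mem_ker, mulVecLin_apply, mulVec_mulVec, hNN, zero_mulVec]
  have hrn : finrank F (LinearMap.range N.mulVecLin) + finrank F (LinearMap.ker N.mulVecLin) = n := by
    rw [LinearMap.finrank_range_add_finrank_ker]
    simp
  have hrk : finrank F (LinearMap.range N.mulVecLin) = N.rank := rfl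
  have hlt' : LinearMap.range N.mulVecLin < LinearMap.ker N.mulVecLin := by
    refine lt_of_le_of_ne hle ?_
    intro heq
    have : finrank F (LinearMap.range N.mulVecLin) = finrank F (LinearMap.ker N.mulVecLin) := by
      rw [heq]
    omega
  obtain ⟨c, hcK, hcI⟩ := SetLike.exists_of_lt hlt'
  obtain ⟨f, hfc, hfI⟩ := Submodule.exists_dual_map_eq_bot_of_notMem hcI inferInstance
  have hNc : N *ᵥ c = 0 := hcK
  -- the functional as a vector
  set γ : Fin n → F := fun i => (f c)⁻¹ * f (Pi.single i 1) with hγ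
  have hγapp : ∀ y : Fin n → F, γ ⬝ᵥ y = (f c)⁻¹ * f y := by
    intro y
    have hy : y = ∑ i, y i • (Pi.single i (1 : F) : Fin n → F) := by
      ext j
      simp [Finset.sum_apply, Pi.single_apply]
    conv_rhs => rw [hy, map_sum, Finset.mul_sum]
    simp only [dotProduct, hγ, map_smul, smul_eq_mul]
    apply Finset.sum_congr rfl
    intro i _
    ring
  have hγc : γ ⬝ᵥ c = 1 := by rw [hγapp, inv_mul_cancel₀ hfc]
  have hfN : ∀ x, f (N *ᵥ x) = 0 := by
    intro x
    have hmem : f (N *ᵥ x) ∈ (LinearMap.range N.mulVecLin).map f :=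
      Submodule.mem_map_of_mem ⟨x, rfl⟩
    rw [hfI] at hmem
    exact (Submodule.mem_bot F).mp hmem
  have hγN : γ ᵥ* N = 0 := by
    ext j
    have : (γ ᵥ* N) j = γ ⬝ᵥ (N *ᵥ Pi.single j 1) := by
      rw [dotProduct_mulVec]
      simp
    rw [this, hγapp, hfN, mul_zero]
    rfl
  refine ⟨1 + vecMulVec ((d - 1) • c) γ, ?_, ?_⟩
  · rw [Matrix.add_mul, Matrix.mul_add, Matrix.one_mul, Matrix.mul_one, vecMulVec_mul, hγN,
      vecMulVec_zero, mul_vecMulVec, mulVec_smul, hNc, smul_zero, zero_vecMulVec]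
  · rw [vecMulVec_eq Unit, det_one_add_replicateCol_mul_replicateRow, dotProduct_smul, hγc,
      smul_eq_mul, mul_one]
    ring

end Cfsg.Agent.Lib.Helper36
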