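/-
helper36: hedge of module SQF-[IDX-H] (LEMMA H) of helper85's PROJECT SQF (S4130), with own copies of [PIDX] and
[IDX-C] (built on helper58's `SQ.relIndex_dvd_prime`).
-/
import Mathlib
import Cfsg.Agent.Lib.Helper85.SqfDefs
import Cfsg.Agent.Lib.Helper58.SQF.Basic

set_option autoImplicit false

namespace Cfsg.Agent.Lib.Helper36.Sqf

open Cfsg.Agent.Lib.Helper85.Sqf

variable {G : Type*} [Group G]

/-- relative index of the centraliser in a normal `p`-subgroup divides `p` -/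
theorem relIndex_centralizer_dvd [Finite G] (h : SqF G) {p : ℕ} [Fact p.Prime] (N : Subgroup G)
    [N.Normal] (hN : IsPGroup p N) (x : G) :
    (N ⊓ Subgroup.centralizer ({x} : Set G)).relIndex N ∣ p := by
  rw [Subgroup.inf_relIndex_left]
  exact Cfsg.Agent.Lib.Helper58.SQF.SQ.relIndex_dvd_prime (fun y => h y) p N hN x

/-- [PIDX] -/
theorem card_dvd_mul_card_inf [Finite G] (h : SqF G) {p : ℕ} [Fact p.Prime] (N : Subgroup G)
    [N.Normal] (hN : IsPGroup p N) (x : G) :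
    Nat.card N ∣ p * Nat.card ↥(N ⊓ Subgroup.centralizer ({x} : Set G)) := by
  have h1 := Cfsg.Agent.Lib.Helper58.SQF.card_mul_relIndex'
    (inf_le_left : N ⊓ Subgroup.centralizer ({x} : Set G) ≤ N)
  rw [← h1, mul_comm]
  exact Nat.mul_dvd_mul_right (relIndex_centralizer_dvd h N hN x) _

/-- [IDX-C] -/
theorem centralizes_of_inner_coprime [Finite G] {p : ℕ} [Fact p.Prime] (P M : Subgroup G)
    (hP : IsPGroup p P) (hMP : M ≤ P) (hMn : ∀ c ∈ P, ∀ m ∈ M, c * m * c⁻¹ ∈ M)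
    (y c : G) (hc : c ∈ P) (hy : ∀ m ∈ M, y * m * y⁻¹ = c * m * c⁻¹)
    (n : ℕ) (hn : n.Coprime p) (hyn : ∀ m ∈ M, y ^ n * m = m * y ^ n) :
    ∀ m ∈ M, y * m = m * y := by
  have key : ∀ j : ℕ, ∀ m ∈ M, y ^ j * m * (y ^ j)⁻¹ = c ^ j * m * (c ^ j)⁻¹ ∧
      c ^ j * m * (c ^ j)⁻¹ ∈ M := by
    intro j
    induction j with
    | zero =>
      intro m hm
      simp [hm]
    | succ j ih =>
      intro m hm
      obtain ⟨e, hmem⟩ := ih m hm
      have e1 : y ^ (j + 1) * m * (y ^ (j + 1))⁻¹ = c ^ (j + 1) * m * (c ^ (j + 1))⁻¹ := by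
        calc y ^ (j + 1) * m * (y ^ (j + 1))⁻¹ = y * (y ^ j * m * (y ^ j)⁻¹) * y⁻¹ := by
              rw [pow_succ']; group
          _ = y * (c ^ j * m * (c ^ j)⁻¹) * y⁻¹ := by rw [e]
          _ = c * (c ^ j * m * (c ^ j)⁻¹) * c⁻¹ := hy _ hmem
          _ = c ^ (j + 1) * m * (c ^ (j + 1))⁻¹ := by
              rw [pow_succ']; group
      refine ⟨e1, ?_⟩
      have : c ^ (j + 1) * m * (c ^ (j + 1))⁻¹ = c * (c ^ j * m * (c ^ j)⁻¹) * c⁻¹ := by
        rw [pow_succ']; group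
      rw [this]
      exact hMn c hc _ hmem
  -- `c ^ n` centralises `M`
  have hcn : ∀ m ∈ M, c ^ n * m * (c ^ n)⁻¹ = m := by
    intro m hm
    rw [← (key n m hm).1, hyn m hm, mul_inv_cancel_right]
  -- `c` is a power of `c ^ n`
  obtain ⟨k, hk⟩ := hP ⟨c, hc⟩
  have hk' : c ^ p ^ k = 1 := by
    have := congrArg Subtype.val hk
    simpa using this
  have hcop : n.Coprime (orderOf c) := by
    have h1 : orderOf c ∣ p ^ k := orderOf_dvd_of_pow_eq_one hk'
    exact Nat.Coprime.coprime_dvd_right h1 (Nat.Coprime.pow_right k hn)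
  obtain ⟨i, hi⟩ := exists_pow_eq_self_of_coprime hcop
  have hcc : ∀ m ∈ M, c * m * c⁻¹ = m := by
    intro m hm
    have h2 : Commute (c ^ n) m := by
      have := hcn m hm
      show c ^ n * m = m * c ^ n
      calc c ^ n * m = c ^ n * m * (c ^ n)⁻¹ * c ^ n := by group
        _ = m * c ^ n := by rw [this]
    have h3 : Commute c m := by
      rw [← hi]
      exact h2.pow_left i
    rw [h3.eq, mul_inv_cancel_right]
  intro m hm
  have h4 := hy m hm
  rw [hcc m hm] at h4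
  calc y * m = y * m * y⁻¹ * y := by group
    _ = m * y := by rw [h4]

/-- a subgroup of relative index `p` in a `p`-group is normalised by it -/
theorem conj_mem_of_relIndex_eq_prime [Finite G] {p : ℕ} [Fact p.Prime] (P K : Subgroup G)
    (hP : IsPGroup p P) (hKP : K ≤ P) (hidx : K.relIndex P = p) :
    ∀ a ∈ P, ∀ m ∈ K, a * m * a⁻¹ ∈ K := by
  have hp : p.Prime := Fact.out
  have hcard : Nat.card P = Nat.card K * p := by
    rw [← hidx]
    exact (Cfsg.Agent.Lib.Helper58.SQF.card_mul_relIndex' hKP).symm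
  obtain ⟨k, hk⟩ := IsPGroup.iff_card.mp hP
  have hk0 : k ≠ 0 := by
    rintro rfl
    rw [pow_zero] at hk
    have h1 : p ∣ 1 := by
      rw [← hk, hcard]
      exact dvd_mul_left _ _
    exact hp.one_lt.ne' (Nat.dvd_one.mp h1)
  have hmf : (Nat.card P).minFac = p := by
    rw [hk]
    exact Nat.Prime.pow_minFac hp hk0
  have hnorm : (K.subgroupOf P).Normal := by
    apply Subgroup.normal_of_index_eq_minFac_card
    rw [hmf]
    exact hidx
  intro a ha m hm
  have h2 := hnorm.conj_mem ⟨m, hKP hm⟩ (Subgroup.mem_subgroupOf.mpr hm) ⟨a, ha⟩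
  exact Subgroup.mem_subgroupOf.mp h2

/-- the relative index of `C_P(z)` in `P` is `p` if `z` does not centralise `P` -/
theorem relIndex_eq_prime_of_not_centralizes [Finite G] (h : SqF G) {p : ℕ} [Fact p.Prime]
    (P : Subgroup G) [P.Normal] (hP : IsPGroup p P) (z : G)
    (hz : ¬ ∀ v ∈ P, z * v = v * z) :
    (P ⊓ Subgroup.centralizer ({z} : Set G)).relIndex P = p := by
  have hp : p.Prime := Fact.out
  rcases (Nat.dvd_prime hp).mp (relIndex_centralizer_dvd h P hP z) with h1 | h1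
  · exfalso
    apply hz
    intro v hv
    have h2 : P ≤ P ⊓ Subgroup.centralizer ({z} : Set G) := Subgroup.relIndex_eq_one.mp h1
    have h3 : v ∈ Subgroup.centralizer ({z} : Set G) := (h2 hv).2
    rw [Subgroup.mem_centralizer_singleton_iff] at h3
    exact h3.symm
  · exact h1

/-- [IDX-H] (LEMMA H) -/
theorem inf_centralizer_eq_of_inner_comm [Finite G] (h : SqF G) {p : ℕ} [Fact p.Prime]
    (P : Subgroup G) [P.Normal] (hP : IsPGroup p P) (x x' : G)
    (hx : ¬ ∀ v ∈ P, x * v = v * x) (hx' : ¬ ∀ v ∈ P, x' * v = v * x')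
    (n n' : ℕ) (hn : n.Coprime p) (hn' : n'.Coprime p)
    (hxn : ∀ v ∈ P, x ^ n * v = v * x ^ n) (hxn' : ∀ v ∈ P, x' ^ n' * v = v * x' ^ n')
    (c : G) (hc : c ∈ P)
    (hcomm : ∀ v ∈ P, (x' * x * x'⁻¹ * x⁻¹) * v * (x' * x * x'⁻¹ * x⁻¹)⁻¹ = c * v * c⁻¹) :
    P ⊓ Subgroup.centralizer ({x} : Set G) = P ⊓ Subgroup.centralizer ({x'} : Set G) := by
  have hp : p.Prime := Fact.out
  set M := P ⊓ Subgroup.centralizer ({x} : Set G) with hMdef
  set M' := P ⊓ Subgroup.centralizer ({x'} : Set G) with hM'def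
  have hMP : M ≤ P := inf_le_left
  have hM'P : M' ≤ P := inf_le_left
  have hMx : ∀ m ∈ M, m * x = x * m := fun m hm =>
    Subgroup.mem_centralizer_singleton_iff.mp hm.2
  have hM'x : ∀ m ∈ M', m * x' = x' * m := fun m hm =>
    Subgroup.mem_centralizer_singleton_iff.mp hm.2
  have hMidx : M.relIndex P = p := relIndex_eq_prime_of_not_centralizes h P hP x hx
  have hM'idx : M'.relIndex P = p := relIndex_eq_prime_of_not_centralizes h P hP x' hx'
  have hMnorm := conj_mem_of_relIndex_eq_prime P M hP hMP hMidx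
  have hcardM : Nat.card P = Nat.card M * p := by
    rw [← hMidx]
    exact (Cfsg.Agent.Lib.Helper58.SQF.card_mul_relIndex' hMP).symm
  have hcardM' : Nat.card P = Nat.card M' * p := by
    rw [← hM'idx]
    exact (Cfsg.Agent.Lib.Helper58.SQF.card_mul_relIndex' hM'P).symm
  have hcardeq : Nat.card M = Nat.card M' :=
    Nat.eq_of_mul_eq_mul_right hp.pos (hcardM.symm.trans hcardM')
  -- (a) `x'` normalises `M`
  have ha : ∀ m ∈ M, x' * m * x'⁻¹ ∈ M := by
    have hy : ∀ m ∈ M, (x' * x * x'⁻¹) * m * (x' * x * x'⁻¹)⁻¹ = c * m * c⁻¹ := by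
      intro m hm
      rw [← hcomm m (hMP hm)]
      have h1 : x * m * x⁻¹ = m := by
        rw [← hMx m hm, mul_inv_cancel_right]
      calc (x' * x * x'⁻¹) * m * (x' * x * x'⁻¹)⁻¹
          = (x' * x * x'⁻¹ * x⁻¹) * (x * m * x⁻¹) * (x' * x * x'⁻¹ * x⁻¹)⁻¹ := by group
        _ = (x' * x * x'⁻¹ * x⁻¹) * m * (x' * x * x'⁻¹ * x⁻¹)⁻¹ := by rw [h1]
    have hyn : ∀ m ∈ M, (x' * x * x'⁻¹) ^ n * m = m * (x' * x * x'⁻¹) ^ n := by
      intro m hm
      rw [conj_pow]
      have h1 : x'⁻¹ * m * x' ∈ P := by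
        have := (inferInstance : P.Normal).conj_mem m (hMP hm) x'⁻¹
        simpa using this
      have h2 := hxn _ h1
      calc x' * x ^ n * x'⁻¹ * m = x' * (x ^ n * (x'⁻¹ * m * x')) * x'⁻¹ := by group
        _ = x' * ((x'⁻¹ * m * x') * x ^ n) * x'⁻¹ := by rw [h2]
        _ = m * (x' * x ^ n * x'⁻¹) := by group
    have hyc := centralizes_of_inner_coprime P M hP hMP hMnorm (x' * x * x'⁻¹) c hc hy n hn hyn
    -- conjugation by `x'⁻¹` maps `M` into `M`
    have hinv : ∀ m ∈ M, x'⁻¹ * m * x' ∈ M := by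
      intro m hm
      refine ⟨?_, ?_⟩
      · have := (inferInstance : P.Normal).conj_mem m (hMP hm) x'⁻¹
        simpa using this
      · show x'⁻¹ * m * x' ∈ Subgroup.centralizer ({x} : Set G)
        rw [Subgroup.mem_centralizer_singleton_iff]
        have h3 := hyc m hm
        calc x'⁻¹ * m * x' * x = x'⁻¹ * (m * (x' * x * x'⁻¹)) * x' := by group
          _ = x'⁻¹ * ((x' * x * x'⁻¹) * m) * x' := by rw [h3]
          _ = x * (x'⁻¹ * m * x') := by group
    let φ : ↥M → ↥M := fun m => ⟨x'⁻¹ * m.1 * x', hinv m.1 m.2⟩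
    have hφ : Function.Injective φ := by
      intro a b hab
      have h4 : x'⁻¹ * a.1 * x' = x'⁻¹ * b.1 * x' := congrArg Subtype.val hab
      apply Subtype.ext
      have h5 : a.1 = x' * (x'⁻¹ * a.1 * x') * x'⁻¹ := by group
      have h6 : b.1 = x' * (x'⁻¹ * b.1 * x') * x'⁻¹ := by group
      rw [h5, h6, h4]
    have hφs := Finite.injective_iff_surjective.mp hφ
    intro m hm
    obtain ⟨m₀, hm₀⟩ := hφs ⟨m, hm⟩
    have h7 : x'⁻¹ * m₀.1 * x' = m := congrArg Subtype.val hm₀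
    have h8 : x' * m * x'⁻¹ = m₀.1 := by
      rw [← h7]; group
    rw [h8]
    exact m₀.2
  -- (b)
  by_contra hne
  have hM'notle : ¬ M' ≤ M := by
    intro hle
    exact hne (Subgroup.eq_of_le_of_card_ge hle hcardeq.le).symm
  have hMnotle : ¬ M ≤ M' := by
    intro hle
    exact hne (Subgroup.eq_of_le_of_card_ge hle hcardeq.ge)
  have hsup : P ≤ M ⊔ M' := by
    have hL : M ⊔ M' ≤ P := sup_le hMP hM'P
    have h1 := Subgroup.relIndex_mul_relIndex M (M ⊔ M') P le_sup_left hL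
    rw [hMidx] at h1
    have h2 : M.relIndex (M ⊔ M') ∣ p := Dvd.intro _ h1
    rcases (Nat.dvd_prime hp).mp h2 with h3 | h3
    · exfalso
      apply hM'notle
      exact le_trans le_sup_right (Subgroup.relIndex_eq_one.mp h3)
    · rw [h3] at h1
      have h4 : (M ⊔ M').relIndex P = 1 := by
        have := Nat.eq_of_mul_eq_mul_left hp.pos (h1.trans (mul_one p).symm)
        exact this
      exact Subgroup.relIndex_eq_one.mp h4
  -- the subgroup of `v ∈ P` with `[x', v] ∈ M`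
  let S : Subgroup G :=
    { carrier := {v | v ∈ P ∧ x' * v * x'⁻¹ * v⁻¹ ∈ M}
      one_mem' := by
        refine ⟨P.one_mem, ?_⟩
        have : x' * 1 * x'⁻¹ * (1 : G)⁻¹ = 1 := by group
        rw [this]
        exact M.one_mem
      mul_mem' := by
        rintro v w ⟨hv, hv2⟩ ⟨hw, hw2⟩
        refine ⟨P.mul_mem hv hw, ?_⟩
        have : x' * (v * w) * x'⁻¹ * (v * w)⁻¹ =
            (x' * v * x'⁻¹ * v⁻¹) * (v * (x' * w * x'⁻¹ * w⁻¹) * v⁻¹) := by group
        rw [this]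
        exact M.mul_mem hv2 (hMnorm v hv _ hw2)
      inv_mem' := by
        rintro v ⟨hv, hv2⟩
        refine ⟨P.inv_mem hv, ?_⟩
        have : x' * v⁻¹ * x'⁻¹ * v⁻¹⁻¹ = v⁻¹ * (x' * v * x'⁻¹ * v⁻¹)⁻¹ * v⁻¹⁻¹ := by group
        rw [this]
        exact hMnorm v⁻¹ (P.inv_mem hv) _ (M.inv_mem hv2) }
  have hMS : M ≤ S := by
    intro m hm
    exact ⟨hMP hm, M.mul_mem (ha m hm) (M.inv_mem hm)⟩
  have hM'S : M' ≤ S := by
    intro m hm
    refine ⟨hM'P hm, ?_⟩
    have : x' * m * x'⁻¹ * m⁻¹ = 1 := by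
      rw [← hM'x m hm]; group
    rw [this]
    exact M.one_mem
  have hS : ∀ v ∈ P, x' * v * x'⁻¹ * v⁻¹ ∈ M := by
    intro v hv
    exact ((sup_le hMS hM'S) (hsup hv)).2
  -- a vector centralised by `x x'` outside `M ⊓ M'`
  set K := P ⊓ Subgroup.centralizer ({x * x'} : Set G) with hKdef
  have hKcard : Nat.card M ≤ Nat.card K := by
    have h1 := card_dvd_mul_card_inf h P hP (x * x')
    rw [hcardM, mul_comm] at h1
    have h2 : Nat.card M ∣ Nat.card K := Nat.dvd_of_mul_dvd_mul_left hp.pos h1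
    exact Nat.le_of_dvd Nat.card_pos h2
  have hex : ∃ v ∈ K, v ∉ M ⊓ M' := by
    by_contra hall
    push Not at hall
    have hKle : K ≤ M ⊓ M' := hall
    have h1 : Nat.card K ≤ Nat.card ↥(M ⊓ M') := Subgroup.card_le_of_le hKle
    have h2 : M ⊓ M' = M :=
      Subgroup.eq_of_le_of_card_ge inf_le_left (le_trans hKcard h1)
    exact hMnotle (h2 ▸ inf_le_right)
  obtain ⟨v, hvK, hvn⟩ := hex
  have hvP : v ∈ P := hvK.1
  have hvc : v * (x * x') = x * x' * v := Subgroup.mem_centralizer_singleton_iff.mp hvK.2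
  have hvM : v ∉ M := by
    intro hvM
    apply hvn
    refine ⟨hvM, hvP, ?_⟩
    show v ∈ Subgroup.centralizer ({x'} : Set G)
    rw [Subgroup.mem_centralizer_singleton_iff]
    have h1 := hMx v hvM
    have h2 : x * (v * x') = x * (x' * v) := by
      calc x * (v * x') = (x * v) * x' := by group
        _ = (v * x) * x' := by rw [h1]
        _ = v * (x * x') := by group
        _ = x * x' * v := hvc
        _ = x * (x' * v) := by group
    exact mul_left_cancel h2
  set m₁ := x' * v * x'⁻¹ * v⁻¹ with hm₁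
  have hm₁M : m₁ ∈ M := hS v hvP
  have hconj : x⁻¹ * v * x = m₁ * v := by
    have h1 : x⁻¹ * v * x = x' * v * x'⁻¹ := by
      calc x⁻¹ * v * x = x⁻¹ * (v * (x * x')) * x'⁻¹ := by group
        _ = x⁻¹ * (x * x' * v) * x'⁻¹ := by rw [hvc]
        _ = x' * v * x'⁻¹ := by group
    rw [h1, hm₁]; group
  have hxm : Commute x m₁ := (hMx m₁ hm₁M).symm
  have hpow : ∀ j : ℕ, (x ^ j)⁻¹ * v * x ^ j = m₁ ^ j * v := by
    intro j
    induction j with
    | zero => simp
    | succ j ih =>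
      have hc1 : Commute x⁻¹ (m₁ ^ j) := (hxm.pow_right j).inv_left
      calc (x ^ (j + 1))⁻¹ * v * x ^ (j + 1) = x⁻¹ * ((x ^ j)⁻¹ * v * x ^ j) * x := by
            rw [pow_succ]; group
        _ = x⁻¹ * (m₁ ^ j * v) * x := by rw [ih]
        _ = (x⁻¹ * m₁ ^ j) * v * x := by group
        _ = (m₁ ^ j * x⁻¹) * v * x := by rw [hc1.eq]
        _ = m₁ ^ j * (x⁻¹ * v * x) := by group
        _ = m₁ ^ j * (m₁ * v) := by rw [hconj]
        _ = m₁ ^ (j + 1) * v := by rw [pow_succ]; group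
  have hm₁n : m₁ ^ n = 1 := by
    have h1 := hpow n
    have h2 : (x ^ n)⁻¹ * v * x ^ n = v := by
      rw [mul_assoc, ← hxn v hvP, inv_mul_cancel_left]
    rw [h2] at h1
    exact (mul_eq_right.mp h1.symm)
  have hm₁1 : m₁ = 1 := by
    obtain ⟨k, hk⟩ := hP ⟨m₁, hMP hm₁M⟩
    have hk' : m₁ ^ p ^ k = 1 := by
      have := congrArg Subtype.val hk
      simpa using this
    have h1 : orderOf m₁ ∣ n := orderOf_dvd_of_pow_eq_one hm₁n
    have h2 : orderOf m₁ ∣ p ^ k := orderOf_dvd_of_pow_eq_one hk'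
    have h3 : orderOf m₁ ∣ 1 := by
      have := Nat.dvd_gcd h1 h2
      rwa [Nat.Coprime.pow_right k hn] at this
    exact orderOf_eq_one_iff.mp (Nat.dvd_one.mp h3)
  apply hvM
  refine ⟨hvP, ?_⟩
  show v ∈ Subgroup.centralizer ({x} : Set G)
  rw [Subgroup.mem_centralizer_singleton_iff]
  rw [hm₁1, one_mul] at hconj
  calc v * x = x * (x⁻¹ * v * x) := by group
    _ = x * v := by rw [hconj]

end Cfsg.Agent.Lib.Helper36.Sqf
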