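/-
helper36: hedge of module SQF-[MIN-P] of helper85's PROJECT SQF (S4130): a normal subgroup acting on a minimal normal
`p`-subgroup through a `p`-group centralises it (fixed points of a `p`-group action).
-/
import Mathlib

set_option autoImplicit false

namespace Cfsg.Agent.Lib.Helper36.Sqf

variable {G : Type*} [Group G]

/-- [MIN-P] -/
theorem centralizes_of_pPower_action [Finite G] {p : ℕ} [Fact p.Prime] (N : Subgroup G) [N.Normal]
    (hNp : IsPGroup p N) (hN : N ≠ ⊥)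
    (hmin : ∀ M : Subgroup G, M.Normal → M ≤ N → M = ⊥ ∨ M = N)
    (A : Subgroup G) [A.Normal]
    (hA : ∀ a ∈ A, ∃ k : ℕ, ∀ v ∈ N, a ^ p ^ k * v = v * a ^ p ^ k) :
    ∀ a ∈ A, ∀ v ∈ N, a * v = v * a := by
  classical
  let ρ : ↥A →* MulAut ↥N := (MulAut.conjNormal (H := N)).comp A.subtype
  have hρ : ∀ (a : ↥A) (v : ↥N), ((ρ a) v : G) = a.1 * v.1 * a.1⁻¹ := fun a v =>
    MulAut.conjNormal_apply a.1 v
  let Q : Subgroup (MulAut ↥N) := ρ.range
  have hQ : IsPGroup p Q := by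
    rintro ⟨_, a, rfl⟩
    obtain ⟨k, hk⟩ := hA a.1 a.2
    refine ⟨k, ?_⟩
    apply Subtype.ext
    show (ρ a) ^ (p ^ k) = 1
    rw [← map_pow]
    ext v
    rw [hρ]
    have h1 := hk v.1 v.2
    show ((a ^ p ^ k : ↥A) : G) * v.1 * ((a ^ p ^ k : ↥A) : G)⁻¹ = v.1
    rw [Subgroup.coe_pow, h1, mul_inv_cancel_right]
  have hdvd : p ∣ Nat.card ↥N := by
    obtain ⟨n, hn⟩ := IsPGroup.iff_card.mp hNp
    have hn0 : n ≠ 0 := by
      rintro rfl
      rw [pow_zero] at hn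
      exact hN (Subgroup.card_eq_one.mp hn)
    rw [hn]
    exact dvd_pow_self p hn0
  have h1 : (1 : ↥N) ∈ MulAction.fixedPoints Q ↥N := by
    intro q
    exact map_one q.1
  obtain ⟨v, hvfix, hv1⟩ := hQ.exists_fixed_point_of_prime_dvd_card_of_fixed_point ↥N hdvd h1
  -- `v` is centralised by `A`
  have hvA : v.1 ∈ N ⊓ Subgroup.centralizer (A : Set G) := by
    refine ⟨v.2, ?_⟩
    show v.1 ∈ Subgroup.centralizer (A : Set G)
    rw [Subgroup.mem_centralizer_iff]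
    intro a ha
    have h2 : (ρ ⟨a, ha⟩) v = v := hvfix ⟨ρ ⟨a, ha⟩, ⟨a, ha⟩, rfl⟩
    have h3 : a * v.1 * a⁻¹ = v.1 := by
      rw [← hρ ⟨a, ha⟩ v, h2]
    calc a * v.1 = a * v.1 * a⁻¹ * a := by group
      _ = v.1 * a := by rw [h3]
  have hDn : (N ⊓ Subgroup.centralizer (A : Set G)).Normal := inferInstance
  rcases hmin _ hDn inf_le_left with h0 | h0
  · exfalso
    rw [h0, Subgroup.mem_bot] at hvA
    apply hv1
    apply Subtype.ext
    exact hvA.symm
  · intro a ha w hw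
    have hw' : w ∈ N ⊓ Subgroup.centralizer (A : Set G) := by rw [h0]; exact hw
    have hw2 : w ∈ Subgroup.centralizer (A : Set G) := hw'.2
    exact (Subgroup.mem_centralizer_iff.mp hw2) a ha

end Cfsg.Agent.Lib.Helper36.Sqf
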