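/-
helper36: SUZ2-[B4] (helper85's SUZ2 project, S3776 + S3797; hedge of helper65's claim):
if some pure element at `τ ≠ 1` has a non-zero coordinate then `Fix τ = F₂` and every scalar is the coordinate
of a pure element.
-/
import Mathlib
import Cfsg.Agent.Lib.Helper85.Suz2Defs
import Cfsg.Agent.Lib.Helper37.Suz2B3
import Cfsg.Agent.Lib.Helper98.Suz2Coord

set_option autoImplicit false

namespace Cfsg.Agent.Lib.Helper36.Suz2

open Cfsg.Agent.Lib.Helper19.Suz Cfsg.Agent.Lib.Helper85.Suz2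

universe u

/-- the arithmetic core: `(2^r - 1)(2^t - 1) = 2^n - 1`, `1 ≤ r < n`, `1 ≤ t` forces `r = 1` -/
theorem pow_two_arith (A B r t n : ℕ) (hA : A + 1 = 2 ^ r) (hB : B + 1 = 2 ^ t)
    (hAB : A * B + 1 = 2 ^ n) (hA1 : 1 ≤ A) (hB1 : 1 ≤ B) (hAn : A + 1 < 2 ^ n) : A = 1 := by
  have hr1 : 1 ≤ r := by
    by_contra h
    have : r = 0 := by omega
    rw [this] at hA
    simp at hA
    omega
  have ht1 : 1 ≤ t := by
    by_contra h
    have : t = 0 := by omega
    rw [this] at hB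
    simp at hB
    omega
  have hrn : r < n := by
    rw [hA] at hAn
    exact (Nat.pow_lt_pow_iff_right (by norm_num : 1 < 2)).mp hAn
  by_contra hne
  have hr2 : 2 ≤ r := by
    by_contra h
    have : r = 1 := by omega
    rw [this] at hA
    simp at hA
    omega
  rcases Nat.lt_or_ge t 2 with ht | ht
  · have : t = 1 := by omega
    rw [this] at hB
    simp at hB
    have hB' : B = 1 := by omega
    rw [hB', mul_one] at hAB
    omega
  · obtain ⟨a, ha⟩ : ∃ a, 2 ^ r = 4 * a := ⟨2 ^ (r - 2), by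
      have : r = 2 + (r - 2) := by omega
      conv_lhs => rw [this, pow_add]
      norm_num⟩
    obtain ⟨b, hb⟩ : ∃ b, 2 ^ t = 4 * b := ⟨2 ^ (t - 2), by
      have : t = 2 + (t - 2) := by omega
      conv_lhs => rw [this, pow_add]
      norm_num⟩
    obtain ⟨e, he⟩ : ∃ e, 2 ^ n = 4 * e := ⟨2 ^ (n - 2), by
      have : n = 2 + (n - 2) := by omega
      conv_lhs => rw [this, pow_add]
      norm_num⟩
    have h1 : (A + 1) * (B + 1) = A * B + A + B + 1 := by ring
    rw [hA, hB, ha, hb] at h1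
    have h2 : 4 * a * (4 * b) = 16 * (a * b) := by ring
    rw [h2] at h1
    generalize a * b = m at h1
    generalize hAB' : A * B = AB at h1 hAB
    omega

variable {P : Type u} [Group P] {Y : Subgroup (MulAut P)}

section coords
variable {F : Type} [Field F] [Fintype F] {aZ : P → F} {κ : MulAut P → F}
  {σ : MulAut P → (F ≃+* F)} {c : (F ≃+* F) → P → F}

/-- the coordinates of the identity vanish -/
theorem CHyp.c_id (H : CHyp P Y F aZ κ σ c) (τ' : F ≃+* F) : c τ' (1 : P) = 0 := by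
  have h := H.c_mul τ' 1 1
  rw [mul_one] at h
  have : c τ' (1 : P) + c τ' 1 = c τ' 1 + 0 := by rw [add_zero]; exact h.symm
  exact add_left_cancel this

/-- the scalars `w / τ w` are coordinates of pure elements -/
theorem CHyp.pure_quot (H : CHyp P Y F aZ κ σ c)
    {τ : F ≃+* F} {g₀ : P} (hp : IsPure c τ g₀) (hne : c τ g₀ ≠ 0) (w : F) (hw : w ≠ 0) :
    ∃ g : P, IsPure c τ g ∧ c τ g = w * (τ w)⁻¹ := by
  obtain ⟨-, -, v₀, hv₀, hv⟩ := Cfsg.Agent.Lib.Helper37.Suz2.CHyp.pure_facts H hp hne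
  obtain ⟨z₀, hz₀, hz₀v⟩ := H.zc.aZ_surj v₀
  obtain ⟨z, hz, hzw⟩ := H.zc.aZ_surj w
  have hone := Cfsg.Agent.Lib.Helper37.Suz2.ZCoord.aZ_one H.zc
  have hz₀1 : z₀ ≠ 1 := by
    rintro rfl
    exact hv₀ (hz₀v ▸ hone)
  have hz1 : z ≠ 1 := by
    rintro rfl
    exact hw (hzw ▸ hone)
  obtain ⟨k, hk, hkz⟩ := H.suz.trans z₀ z hz₀1 hz₀.2 hz1 hz.2
  have hw' : w = κ k * σ k v₀ := by
    rw [← hzw, ← hkz, H.zc.act k hk z₀ hz₀, hz₀v]
  refine ⟨k g₀, ?_, ?_⟩
  · intro τ' hτ'
    rw [H.c_act τ' k hk, hp τ' hτ', map_zero, mul_zero]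
  · rw [H.c_act τ k hk]
    have h1 : σ k (c τ g₀) * τ (σ k v₀) = σ k v₀ := by
      rw [← Cfsg.Agent.Lib.Helper98.Suz2.ringAut_comm_apply (σ k) τ v₀, ← map_mul, hv]
    have hκ : κ k ≠ 0 := H.zc.κ_ne k hk
    have hσv : σ k v₀ ≠ 0 := by
      rw [Ne, map_eq_zero]; exact hv₀
    have hτσ : τ (σ k v₀) ≠ 0 := by
      rw [Ne, map_eq_zero]; exact hσv
    have hτκ : τ (κ k) ≠ 0 := by
      rw [Ne, map_eq_zero]; exact hκ
    have h2 : σ k (c τ g₀) = σ k v₀ * (τ (σ k v₀))⁻¹ := (eq_mul_inv_iff_mul_eq₀ hτσ).mpr h1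
    rw [h2, hw', map_mul, mul_inv]
    ring

-- [B4]
theorem CHyp.pure_full (H : CHyp P Y F aZ κ σ c)
    {τ : F ≃+* F} (hτ : τ ≠ 1) {g₀ : P} (hp : IsPure c τ g₀) (hne : c τ g₀ ≠ 0) :
    (∀ x : F, τ x = x → x = 0 ∨ x = 1) ∧ ∀ u : F, ∃ g : P, IsPure c τ g ∧ c τ g = u := by
  classical
  have hchar := H.zc.char2
  -- the additive group of coordinates of pure elements
  let D : AddSubgroup F :=
    { carrier := {u | ∃ g : P, IsPure c τ g ∧ c τ g = u}
      zero_mem' := ⟨1, fun τ' _ => CHyp.c_id H τ', CHyp.c_id H τ⟩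
      add_mem' := by
        rintro _ _ ⟨g, hg, rfl⟩ ⟨g', hg', rfl⟩
        refine ⟨g * g', fun τ' hτ' => ?_, H.c_mul τ g g'⟩
        rw [H.c_mul, hg τ' hτ', hg' τ' hτ', add_zero]
      neg_mem' := by
        rintro u hu
        rw [CharTwo.neg_eq]
        exact hu }
  have hDmem : ∀ u : F, u ∈ D ↔ ∃ g : P, IsPure c τ g ∧ c τ g = u := fun u => Iff.rfl
  -- the fixed field, as an additive group
  let K : AddSubgroup F :=
    { carrier := {x | τ x = x}
      zero_mem' := map_zero τ
      add_mem' := by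
        intro a b ha hb
        show τ (a + b) = a + b
        rw [map_add, ha, hb]
      neg_mem' := by
        intro a ha
        show τ (-a) = -a
        rw [map_neg, ha] }
  have hKmem : ∀ x : F, x ∈ K ↔ τ x = x := fun x => Iff.rfl
  -- the homomorphism `v ↦ v / τ v`
  let φ : Fˣ →* Fˣ :=
    { toFun := fun v => v * (Units.map (τ : F →* F) v)⁻¹
      map_one' := by simp
      map_mul' := by
        intro a b
        rw [map_mul, mul_inv, mul_mul_mul_comm] }
  have hφval : ∀ v : Fˣ, ((φ v : Fˣ) : F) = (v : F) * (τ (v : F))⁻¹ := by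
    intro v
    show ((v * (Units.map (τ : F →* F) v)⁻¹ : Fˣ) : F) = _
    rw [Units.val_mul, Units.val_inv_eq_inv_val, Units.coe_map]
    rfl
  have hKset : (K : Set F) = insert 0 (Units.val '' (φ.ker : Set Fˣ)) := by
    ext x
    simp only [Set.mem_insert_iff, Set.mem_image, SetLike.mem_coe, MonoidHom.mem_ker]
    constructor
    · intro hx
      by_cases hx0 : x = 0
      · exact Or.inl hx0
      · right
        refine ⟨Units.mk0 x hx0, ?_, rfl⟩
        apply Units.ext
        rw [hφval, Units.val_mk0, (hKmem x).mp hx, mul_inv_cancel₀ hx0, Units.val_one]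
    · rintro (rfl | ⟨v, hv, rfl⟩)
      · exact K.zero_mem
      · have h1 := congrArg Units.val hv
        rw [hφval, Units.val_one] at h1
        have hτv : τ (v : F) ≠ 0 := by
          rw [Ne, map_eq_zero]; exact v.ne_zero
        rw [hKmem]
        have h2 := (mul_inv_eq_one₀ hτv).mp h1
        exact h2.symm
  have hDset : (D : Set F) = insert 0 (Units.val '' (φ.range : Set Fˣ)) := by
    ext u
    simp only [Set.mem_insert_iff, Set.mem_image, SetLike.mem_coe, MonoidHom.mem_range]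
    constructor
    · intro hu
      by_cases hu0 : u = 0
      · exact Or.inl hu0
      · right
        obtain ⟨g, hg, rfl⟩ := (hDmem u).mp hu
        obtain ⟨-, -, v, hv0, hv⟩ := Cfsg.Agent.Lib.Helper37.Suz2.CHyp.pure_facts H hg hu0
        refine ⟨φ (Units.mk0 v hv0), ⟨_, rfl⟩, ?_⟩
        rw [hφval, Units.val_mk0]
        have hτv : τ v ≠ 0 := by
          rw [Ne, map_eq_zero]; exact hv0
        exact ((eq_mul_inv_iff_mul_eq₀ hτv).mpr hv).symm
    · rintro (rfl | ⟨_, ⟨v, rfl⟩, rfl⟩)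
      · exact D.zero_mem
      · rw [hφval]
        exact (hDmem _).mpr (CHyp.pure_quot H hp hne (v : F) v.ne_zero)
  -- cardinalities
  have h0K : (0 : F) ∉ Units.val '' (φ.ker : Set Fˣ) := by
    rintro ⟨v, -, hv⟩
    exact v.ne_zero hv
  have h0D : (0 : F) ∉ Units.val '' (φ.range : Set Fˣ) := by
    rintro ⟨v, -, hv⟩
    exact v.ne_zero hv
  have hcK : Nat.card K = Nat.card φ.ker + 1 := by
    have e1 : Nat.card K = (K : Set F).ncard := Nat.card_coe_set_eq (K : Set F)
    have e2 : Nat.card φ.ker = (φ.ker : Set Fˣ).ncard := Nat.card_coe_set_eq (φ.ker : Set Fˣ)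
    rw [e1, e2, hKset, Set.ncard_insert_of_notMem h0K,
      Set.ncard_image_of_injective _ Units.val_injective]
  have hcD : Nat.card D = Nat.card φ.range + 1 := by
    have e1 : Nat.card D = (D : Set F).ncard := Nat.card_coe_set_eq (D : Set F)
    have e2 : Nat.card φ.range = (φ.range : Set Fˣ).ncard := Nat.card_coe_set_eq (φ.range : Set Fˣ)
    rw [e1, e2, hDset, Set.ncard_insert_of_notMem h0D,
      Set.ncard_image_of_injective _ Units.val_injective]
  obtain ⟨n, -, hq⟩ := FiniteField.card F 2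
  have hcF : Nat.card F = 2 ^ (n : ℕ) := by rw [Nat.card_eq_fintype_card, hq]
  have hprod : Nat.card φ.ker * Nat.card φ.range + 1 = 2 ^ (n : ℕ) := by
    have h1 := Subgroup.card_mul_index φ.ker
    rw [Subgroup.index_ker, Nat.card_eq_fintype_card (α := Fˣ), Fintype.card_units, hq] at h1
    rw [h1]
    have : 0 < 2 ^ (n : ℕ) := by positivity
    omega
  obtain ⟨r, -, hr⟩ := (Nat.dvd_prime_pow Nat.prime_two).mp
    (hcF ▸ AddSubgroup.card_addSubgroup_dvd_card K)
  obtain ⟨t, -, ht⟩ := (Nat.dvd_prime_pow Nat.prime_two).mp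
    (hcF ▸ AddSubgroup.card_addSubgroup_dvd_card D)
  have hA1 : 1 ≤ Nat.card φ.ker := Nat.card_pos
  have hB1 : 1 ≤ Nat.card φ.range := Nat.card_pos
  have hKlt : Nat.card K < 2 ^ (n : ℕ) := by
    rw [← hcF]
    by_contra hge
    have hle : Nat.card K ≤ Nat.card F := Nat.le_of_dvd Nat.card_pos (AddSubgroup.card_addSubgroup_dvd_card K)
    have heq : Nat.card K = Nat.card F := le_antisymm hle (not_lt.mp hge)
    have htop : K = ⊤ := (AddSubgroup.card_eq_iff_eq_top K).mp heq
    apply hτ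
    ext x
    have : x ∈ K := by rw [htop]; exact AddSubgroup.mem_top x
    exact this
  have hAone : Nat.card φ.ker = 1 :=
    pow_two_arith (Nat.card φ.ker) (Nat.card φ.range) r t n (by rw [← hcK, hr]) (by rw [← hcD, ht])
      hprod hA1 hB1 (by rw [← hcK]; exact hKlt)
  constructor
  · intro x hx
    by_cases hx0 : x = 0
    · exact Or.inl hx0
    · right
      have hbot : φ.ker = ⊥ := Subgroup.card_eq_one.mp hAone
      have hmem : Units.mk0 x hx0 ∈ φ.ker := by
        have hxK : x ∈ (K : Set F) := hx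
        rw [hKset] at hxK
        rcases hxK with h | ⟨v, hv, hvx⟩
        · exact absurd h hx0
        · have : v = Units.mk0 x hx0 := Units.ext (by rw [hvx, Units.val_mk0])
          rw [← this]
          exact hv
      rw [hbot, Subgroup.mem_bot] at hmem
      have := congrArg Units.val hmem
      rwa [Units.val_mk0, Units.val_one] at this
  · intro u
    have hDtop : D = ⊤ := by
      apply (AddSubgroup.card_eq_iff_eq_top D).mp
      rw [hcD, hcF, ← hprod, hAone, one_mul]
    have : u ∈ D := by rw [hDtop]; exact AddSubgroup.mem_top u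
    exact (hDmem u).mp this

end coords

end Cfsg.Agent.Lib.Helper36.Suz2
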