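/-
helper36: SUZ2-[B5] (helper85's SUZ2 project, S3776 + S3797; hedge of helper65's claim):
the centraliser of `Nsub P` lies in `Nsub P`.
-/
import Mathlib
import Cfsg.Agent.Lib.Helper85.Suz2Defs
import Cfsg.Agent.Lib.Helper37.Suz2B3

set_option autoImplicit false

namespace Cfsg.Agent.Lib.Helper36.Suz2

open Cfsg.Agent.Lib.Helper19.Suz Cfsg.Agent.Lib.Helper85.Suz2

universe u

variable {P : Type u} [Group P] {Y : Subgroup (MulAut P)}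

section coords
variable {F : Type} [Field F] [Fintype F] {aZ : P → F} {κ : MulAut P → F}
  {σ : MulAut P → (F ≃+* F)} {c : (F ≃+* F) → P → F}

/-- the centraliser of `Nsub P` is closed under conjugation -/
theorem cent_conj {x : P} (hx : ∀ a ∈ Nsub P, a * x = x * a) (g : P) :
    ∀ a ∈ Nsub P, a * (g⁻¹ * x * g) = (g⁻¹ * x * g) * a := by
  intro a ha
  have hn : g * a * g⁻¹ ∈ Nsub P := (Nsub_normal (P := P)).conj_mem a ha g
  have h1 := hx _ hn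
  calc a * (g⁻¹ * x * g) = g⁻¹ * ((g * a * g⁻¹) * x) * g := by group
    _ = g⁻¹ * (x * (g * a * g⁻¹)) * g := by rw [h1]
    _ = (g⁻¹ * x * g) * a := by group

theorem cent_mul {x y : P} (hx : ∀ a ∈ Nsub P, a * x = x * a) (hy : ∀ a ∈ Nsub P, a * y = y * a) :
    ∀ a ∈ Nsub P, a * (x * y) = (x * y) * a := by
  intro a ha
  rw [← mul_assoc, hx a ha, mul_assoc, hy a ha, mul_assoc]

/-- a pure element inverts the centraliser of `Nsub P` modulo `Z0 P` -/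
theorem CHyp.pure_inverts (H : CHyp P Y F aZ κ σ c)
    (hCab : ∀ x y : P, (∀ a ∈ Nsub P, a * x = x * a) → (∀ a ∈ Nsub P, a * y = y * a) → x * y = y * x)
    {τ : F ≃+* F} {g : P} (hp : IsPure c τ g) (hne : c τ g ≠ 0)
    {x : P} (hx : ∀ a ∈ Nsub P, a * x = x * a) : x * (g⁻¹ * x * g) ∈ Z0 P := by
  obtain ⟨hcent, hg2, -⟩ := Cfsg.Agent.Lib.Helper37.Suz2.CHyp.pure_facts H hp hne
  have hxg := cent_conj hx g
  apply hcent _ (cent_mul hx hxg)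
  -- `y = x * x^g` commutes with `g`
  have hgg : (g * g)⁻¹ * x * (g * g) = x := by
    have h1 : x * (g * g) = (g * g) * x := Subgroup.mem_center_iff.mp hg2.1 x
    rw [mul_assoc, h1]
    group
  have hcomm : (g⁻¹ * x * g) * x = x * (g⁻¹ * x * g) := hCab _ _ hxg hx
  calc x * (g⁻¹ * x * g) * g = g * ((g⁻¹ * x * g) * ((g * g)⁻¹ * x * (g * g))) := by group
    _ = g * ((g⁻¹ * x * g) * x) := by rw [hgg]
    _ = g * (x * (g⁻¹ * x * g)) := by rw [hcomm]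

-- [B5]
theorem CHyp.cent_le_N (H : CHyp P Y F aZ κ σ c)
    (hCab : ∀ x y : P, (∀ a ∈ Nsub P, a * x = x * a) → (∀ a ∈ Nsub P, a * y = y * a) → x * y = y * x)
    (hcard : 4 ≤ Fintype.card F)
    {τ : F ≃+* F} (hfull : ∀ u : F, ∃ g : P, IsPure c τ g ∧ c τ g = u)
    (x : P) (hx : ∀ a ∈ Nsub P, a * x = x * a) : x ∈ Nsub P := by
  classical
  have hchar := H.zc.char2
  -- two distinct nonzero scalars
  obtain ⟨u₁, u₂, hu₁, hu₂, hu₁₂⟩ : ∃ u₁ u₂ : F, u₁ ≠ 0 ∧ u₂ ≠ 0 ∧ u₁ ≠ u₂ := by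
    have h3 : 2 < Fintype.card F := by omega
    obtain ⟨u₁, u₂, u₃, h12, h13, h23⟩ := Fintype.two_lt_card_iff.mp h3
    by_cases h1 : u₁ = 0
    · refine ⟨u₂, u₃, ?_, ?_, h23⟩
      · rw [← h1]; exact fun h => h12 h.symm
      · rw [← h1]; exact fun h => h13 h.symm
    · by_cases h2 : u₂ = 0
      · refine ⟨u₁, u₃, h1, ?_, h13⟩
        rw [← h2]; exact fun h => h23 h.symm
      · exact ⟨u₁, u₂, h1, h2, h12⟩
  obtain ⟨g₁, hp₁, hc₁⟩ := hfull u₁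
  obtain ⟨g₂, hp₂, hc₂⟩ := hfull u₂
  have hp₃ : IsPure c τ (g₁ * g₂) := by
    intro τ' hτ'
    rw [H.c_mul, hp₁ τ' hτ', hp₂ τ' hτ', add_zero]
  have hc₃ : c τ (g₁ * g₂) ≠ 0 := by
    rw [H.c_mul, hc₁, hc₂]
    intro h
    apply hu₁₂
    have h2 : u₁ = -u₂ := eq_neg_of_add_eq_zero_left h
    rw [h2, CharTwo.neg_eq]
  -- `x * x ∈ Z0 P`
  have hA := cent_conj hx g₁
  have h1 := CHyp.pure_inverts H hCab hp₁ (by rw [hc₁]; exact hu₁) hx
  have h2 := CHyp.pure_inverts H hCab hp₂ (by rw [hc₂]; exact hu₂) hA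
  have h3 := CHyp.pure_inverts H hCab hp₃ hc₃ hx
  have hcomm : x * (g₁⁻¹ * x * g₁) = (g₁⁻¹ * x * g₁) * x := hCab _ _ hx hA
  have hxx : x * x ∈ Z0 P := by
    have e : x * x = (x * ((g₁ * g₂)⁻¹ * x * (g₁ * g₂)))
        * ((g₁⁻¹ * x * g₁) * (g₂⁻¹ * (g₁⁻¹ * x * g₁) * g₂))⁻¹ * (x * (g₁⁻¹ * x * g₁)) := by
      calc x * x = x * (g₁⁻¹ * x * g₁)⁻¹ * ((g₁⁻¹ * x * g₁) * x) := by group
        _ = x * (g₁⁻¹ * x * g₁)⁻¹ * (x * (g₁⁻¹ * x * g₁)) := by rw [hcomm]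
        _ = _ := by group
    rw [e]
    exact Subgroup.mul_mem _ (Subgroup.mul_mem _ h3 (Subgroup.inv_mem _ h2)) h1
  -- a square root of `x * x` in `Nsub P`
  obtain ⟨a, ha, haa⟩ := H.α_surj (aZ (x * x))
  have haa' : a * a = x * x :=
    Cfsg.Agent.Lib.Helper37.Suz2.ZCoord.aZ_eq H.zc (mem_Nsub.mp ha).1 hxx haa
  have hainv : a⁻¹ ∈ Nsub P := Subgroup.inv_mem _ ha
  have hcx : a⁻¹ * x = x * a⁻¹ := hx _ hainv
  have hz : a⁻¹ * x ∈ Z0 P := by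
    rw [H.suz.mem_Z0_iff]
    calc a⁻¹ * x * (a⁻¹ * x) = a⁻¹ * (x * a⁻¹) * x := by group
      _ = a⁻¹ * (a⁻¹ * x) * x := by rw [hcx]
      _ = (a * a)⁻¹ * (x * x) := by group
      _ = 1 := by rw [haa', inv_mul_cancel]
  have : x = a * (a⁻¹ * x) := by group
  rw [this]
  exact Subgroup.mul_mem _ ha (Z0_le_Nsub hz)

end coords

end Cfsg.Agent.Lib.Helper36.Suz2
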