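/-
helper36: SUZ2-[B6] (helper85's SUZ2 project, S3776 + S3797; hedge of helper65's claim):
the form `β(x, y) = aZ([x, y]²)`.
-/
import Mathlib
import Cfsg.Agent.Lib.Helper85.Suz2Defs

set_option autoImplicit false

namespace Cfsg.Agent.Lib.Helper36.Suz2

open Cfsg.Agent.Lib.Helper19.Suz Cfsg.Agent.Lib.Helper85.Suz2

universe u

variable {P : Type u} [Group P] {Y : Subgroup (MulAut P)}

section general

theorem z0_central {z : P} (hz : z ∈ Z0 P) (g : P) : g * z = z * g :=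
  Subgroup.mem_center_iff.mp hz.1 g

theorem z0_inv {z : P} (hz : z ∈ Z0 P) : z⁻¹ = z := inv_eq_of_mul_eq_one_left hz.2

/-- `[x x', y] = [x, y] * [[x, y], x'] * [x', y]` -/
theorem comm_mul_left (x x' y : P) :
    (x * x')⁻¹ * y⁻¹ * (x * x') * y
      = (x⁻¹ * y⁻¹ * x * y) * ((x⁻¹ * y⁻¹ * x * y)⁻¹ * x'⁻¹ * (x⁻¹ * y⁻¹ * x * y) * x')
        * (x'⁻¹ * y⁻¹ * x' * y) := by
  group

/-- `[y, x] = [x, y]⁻¹` -/
theorem comm_swap (x y : P) : y⁻¹ * x⁻¹ * y * x = (x⁻¹ * y⁻¹ * x * y)⁻¹ := by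
  group

/-- an element of `Nsub P` commutes with all commutators -/
theorem commute_comm_of_mem_Nsub {a : P} (ha : a ∈ Nsub P) (x y : P) :
    a * (x⁻¹ * y⁻¹ * x * y) = (x⁻¹ * y⁻¹ * x * y) * a := by
  have hζ : ∀ g : P, a⁻¹ * g * a * g⁻¹ ∈ Z0 P := by
    intro g
    have := (mem_Nsub.mp ha).2 g⁻¹
    rwa [inv_inv] at this
  have c1 : ∀ g : P, g * a * g⁻¹ = a * (a⁻¹ * g * a * g⁻¹) := by
    intro g; group
  have c2 : ∀ g h : P, g * h * a * (g * h)⁻¹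
      = a * (a⁻¹ * g * a * g⁻¹) * (a⁻¹ * h * a * h⁻¹) := by
    intro g h
    calc g * h * a * (g * h)⁻¹ = g * (h * a * h⁻¹) * g⁻¹ := by group
      _ = g * (a * (a⁻¹ * h * a * h⁻¹)) * g⁻¹ := by rw [c1 h]
      _ = g * a * ((a⁻¹ * h * a * h⁻¹) * g⁻¹) := by simp only [mul_assoc]
      _ = g * a * (g⁻¹ * (a⁻¹ * h * a * h⁻¹)) := by rw [z0_central (hζ h) g⁻¹]
      _ = (g * a * g⁻¹) * (a⁻¹ * h * a * h⁻¹) := by simp only [mul_assoc]
      _ = a * (a⁻¹ * g * a * g⁻¹) * (a⁻¹ * h * a * h⁻¹) := by rw [c1 g]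
  have key : x * y * a * (x * y)⁻¹ = y * x * a * (y * x)⁻¹ := by
    rw [c2 x y, c2 y x, mul_assoc a (a⁻¹ * x * a * x⁻¹), mul_assoc a (a⁻¹ * y * a * y⁻¹),
      z0_central (hζ y) (a⁻¹ * x * a * x⁻¹)]
  calc a * (x⁻¹ * y⁻¹ * x * y) = (y * x)⁻¹ * (y * x * a * (y * x)⁻¹) * (x * y) := by group
    _ = (y * x)⁻¹ * (x * y * a * (x * y)⁻¹) * (x * y) := by rw [key]
    _ = (x⁻¹ * y⁻¹ * x * y) * a := by group

end general

section coords
variable {F : Type} [Field F] [Fintype F] {aZ : P → F} {κ : MulAut P → F}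
  {σ : MulAut P → (F ≃+* F)} {c : (F ≃+* F) → P → F}

-- [B6]
theorem CHyp.bet_facts (H : CHyp P Y F aZ κ σ c)
    (hCE : ∀ x : P, (∀ a ∈ Nsub P, a * x = x * a) → x ∈ Nsub P) :
    (∀ x y : P, x⁻¹ * y⁻¹ * x * y ∈ Nsub P) ∧
    (∀ x x' y : P, bet aZ (x * x') y = bet aZ x y + bet aZ x' y) ∧
    (∀ x y : P, bet aZ x y = bet aZ y x) ∧
    (∀ (τ : F ≃+* F) (g : P), IsPure c τ g → g * g ∈ Z0 P →
      ∀ y : P, c τ g * τ (bet aZ g y) = bet aZ g y) ∧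
    (∀ x y : P, bet aZ x y = 0 → x⁻¹ * y⁻¹ * x * y ∈ Z0 P) := by
  classical
  have hE : ∀ x y : P, x⁻¹ * y⁻¹ * x * y ∈ Nsub P := by
    intro x y
    apply hCE
    intro a ha
    exact commute_comm_of_mem_Nsub ha x y
  have hsq : ∀ x y : P, (x⁻¹ * y⁻¹ * x * y) * (x⁻¹ * y⁻¹ * x * y) ∈ Z0 P :=
    fun x y => (mem_Nsub.mp (hE x y)).1
  refine ⟨hE, ?_, ?_, ?_, ?_⟩
  · -- additivity
    intro x x' y
    unfold bet
    set u := x⁻¹ * y⁻¹ * x * y with hu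
    set u' := x'⁻¹ * y⁻¹ * x' * y with hu'
    have huE : u ∈ Nsub P := hE x y
    have hu'E : u' ∈ Nsub P := hE x' y
    have hw : u⁻¹ * x'⁻¹ * u * x' ∈ Z0 P := (mem_Nsub.mp huE).2 x'
    set w := u⁻¹ * x'⁻¹ * u * x' with hwdef
    have e1 : (x * x')⁻¹ * y⁻¹ * (x * x') * y = u * w * u' := comm_mul_left x x' y
    have e2 : u * w * u' = w * (u * u') := by
      rw [z0_central hw u, mul_assoc]
    have hcomm1 : Commute (u * u') w := (z0_central hw (u * u'))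
    have hcomm2 : Commute u' u := H.Eab u' hu'E u huE
    have e3 : (w * (u * u')) * (w * (u * u')) = (u * u) * (u' * u') := by
      rw [Commute.mul_mul_mul_comm hcomm1, hw.2, one_mul, Commute.mul_mul_mul_comm hcomm2]
    rw [e1, e2, e3]
    exact H.zc.aZ_mul _ (hsq x y) _ (hsq x' y)
  · -- symmetry
    intro x y
    unfold bet
    rw [comm_swap x y, ← mul_inv_rev (x⁻¹ * y⁻¹ * x * y) (x⁻¹ * y⁻¹ * x * y), z0_inv (hsq x y)]
  · -- pure elements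
    intro τ g hp hg2 y
    unfold bet
    set a := g⁻¹ * y⁻¹ * g * y with ha
    have haE : a ∈ Nsub P := hE g y
    have hag : a⁻¹ * g⁻¹ * a * g ∈ Z0 P := (mem_Nsub.mp haE).2 g
    have e1 : (g * g)⁻¹ * y⁻¹ * (g * g) * y = a * (a⁻¹ * g⁻¹ * a * g) * a := comm_mul_left g g y
    have e0 : (g * g)⁻¹ * y⁻¹ * (g * g) * y = 1 := by
      rw [mul_assoc ((g * g)⁻¹ * y⁻¹), ← z0_central hg2 y]
      group
    have e2 : (a * a) * (a⁻¹ * g⁻¹ * a * g) = 1 := by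
      rw [mul_assoc a a, z0_central hag a, ← mul_assoc, ← e1, e0]
    have e3 : a⁻¹ * g⁻¹ * a * g = a * a := by
      have h1 : a⁻¹ * g⁻¹ * a * g = (a * a)⁻¹ := eq_inv_of_mul_eq_one_right e2
      rw [h1, z0_inv (hsq g y)]
    have hexp := H.expand g a haE
    rw [e3] at hexp
    rw [Finset.sum_eq_single τ] at hexp
    · exact hexp.symm
    · intro τ' _ hne
      rw [hp τ' hne, zero_mul]
    · intro h
      exact absurd (Finset.mem_univ τ) h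
  · -- vanishing
    intro x y h0
    unfold bet at h0
    have h1 := H.zc.aZ_inj _ (hsq x y) h0
    exact H.suz.mem_Z0_iff.mpr h1

end coords

end Cfsg.Agent.Lib.Helper36.Suz2
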