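/-
helper36: SUZ2-[HOMO] (helper85's SUZ2 project, S3776 + S3797):
an abelian 2-group with a group of automorphisms transitive on its involutions is homocyclic.
-/
import Mathlib
import Cfsg.Agent.Lib.Helper85.Suz2Defs

set_option autoImplicit false
set_option linter.style.haveILetI false

namespace Cfsg.Agent.Lib.Helper36.Suz2

open Cfsg.Agent.Lib.Helper19.Suz Cfsg.Agent.Lib.Helper85.Suz2

universe u

/-- elements of `Multiplicative (ZMod N)` have order dividing `N` -/
theorem zmod_pow_eq_one (N : ℕ) (hN : 1 < N) (a : Multiplicative (ZMod N)) : a ^ N = 1 := by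
  haveI : NeZero N := ⟨by omega⟩
  have h := pow_card_eq_one' (G := Multiplicative (ZMod N)) (x := a)
  rw [Nat.card_eq_fintype_card, Fintype.card_multiplicative, ZMod.card] at h
  exact h

theorem zmod_ofAdd_pow_ne_one (N a : ℕ) (ha0 : 0 < a) (haN : a < N) :
    (Multiplicative.ofAdd (1 : ZMod N)) ^ a ≠ 1 := by
  intro h
  have h1 : ((a : ℕ) • (1 : ZMod N)) = 0 := by
    have := congrArg Multiplicative.toAdd h
    simpa using this
  rw [nsmul_eq_mul, mul_one, ZMod.natCast_eq_zero_iff] at h1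
  exact absurd (Nat.le_of_dvd ha0 h1) (by omega)

/-- the key abstract statement: if all involutions are `2^(m-1)`-th powers then all cyclic factors have order `2^m` -/
theorem SHyp.homocyclic {P : Type u} [Group P] {Y : Subgroup (MulAut P)} (h : SHyp P Y)
    (hab : ∀ x y : P, x * y = y * x) :
    ∃ m r : ℕ, Nonempty (P ≃* (Fin r → Multiplicative (ZMod (2 ^ m)))) := by
  classical
  haveI := h.fin
  letI cg : CommGroup P := { (inferInstance : Group P) with mul_comm := hab }
  obtain ⟨ι, _, n, hn1, ⟨e⟩⟩ := CommGroup.equiv_prod_multiplicative_zmod_of_finite P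
  -- each `n i` is a power of two
  obtain ⟨a, ha⟩ := (IsPGroup.iff_card (p := 2) (G := P)).mp h.pgrp
  have hcard : Nat.card P = ∏ i, n i := by
    rw [Nat.card_congr e.toEquiv, Nat.card_pi]
    apply Finset.prod_congr rfl
    intro i _
    haveI : NeZero (n i) := ⟨by have := hn1 i; omega⟩
    rw [Nat.card_eq_fintype_card, Fintype.card_multiplicative, ZMod.card]
  have hpow : ∀ i, ∃ k, n i = 2 ^ k := by
    intro i
    have hd : n i ∣ 2 ^ a := by
      rw [← ha, hcard]
      exact Finset.dvd_prod_of_mem n (Finset.mem_univ i)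
    obtain ⟨k, -, hk⟩ := (Nat.dvd_prime_pow Nat.prime_two).mp hd
    exact ⟨k, hk⟩
  choose k hk using hpow
  have hk1 : ∀ i, 1 ≤ k i := by
    intro i
    have h1 := hn1 i
    rw [hk i] at h1
    by_contra hc
    have : k i = 0 := by omega
    rw [this] at h1
    simp at h1
  set m := Finset.univ.sup k with hm
  have hkm : ∀ i, k i ≤ m := fun i => Finset.le_sup (Finset.mem_univ i)
  -- every element has order dividing `2 ^ m`
  have hexp : ∀ y : P, y ^ (2 ^ m) = 1 := by
    intro y
    apply e.injective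
    rw [map_pow, map_one]
    funext i
    rw [Pi.pow_apply, Pi.one_apply]
    obtain ⟨c, hc⟩ : 2 ^ k i ∣ 2 ^ m := pow_dvd_pow 2 (hkm i)
    rw [hc, pow_mul, ← hk i, zmod_pow_eq_one (n i) (hn1 i), one_pow]
  by_cases hall : ∀ i, k i = m
  · -- all factors equal
    have hn : n = fun _ => 2 ^ m := funext fun i => by rw [hk i, hall i]
    subst hn
    refine ⟨m, Fintype.card ι, ⟨?_⟩⟩
    have e2 : ((i : ι) → Multiplicative (ZMod (2 ^ m))) ≃* (Fin (Fintype.card ι) → Multiplicative (ZMod (2 ^ m))) :=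
      MulEquiv.arrowCongr (Fintype.equivFin ι) (MulEquiv.refl _)
    exact
      { toEquiv := (e.trans e2).toEquiv
        map_mul' := (e.trans e2).map_mul }
  · exfalso
    push Not at hall
    obtain ⟨j, hj⟩ := hall
    have hjm : k j < m := lt_of_le_of_ne (hkm j) hj
    haveI : Nonempty ι := ⟨j⟩
    obtain ⟨i₀, -, hi₀⟩ := Finset.exists_mem_eq_sup Finset.univ Finset.univ_nonempty k
    have hi₀' : k i₀ = m := hi₀.symm
    have hm1 : 1 ≤ m := le_trans (hk1 j) (hkm j)
    -- the subgroup of `2^(m-1)`-th powers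
    let H : Subgroup P :=
      { carrier := {x | ∃ y : P, y ^ (2 ^ (m - 1)) = x}
        mul_mem' := by
          rintro _ _ ⟨y, rfl⟩ ⟨y', rfl⟩
          exact ⟨y * y', (Commute.mul_pow (hab y y') _)⟩
        one_mem' := ⟨1, one_pow _⟩
        inv_mem' := by
          rintro _ ⟨y, rfl⟩
          exact ⟨y⁻¹, inv_pow y _⟩ }
    have hHZ : H ≤ Z0 P := by
      rintro _ ⟨y, rfl⟩
      rw [h.mem_Z0_iff, ← pow_add, ← two_mul, ← pow_succ']
      have : m - 1 + 1 = m := by omega
      rw [this]
      exact hexp y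
    have hHinv : ∀ κ ∈ Y, ∀ x ∈ H, κ x ∈ H := by
      rintro κ - _ ⟨y, rfl⟩
      exact ⟨κ y, (map_pow κ y _).symm⟩
    have hHne : H ≠ ⊥ := by
      intro hbot
      have hx : (e.symm (Pi.mulSingle i₀ (Multiplicative.ofAdd (1 : ZMod (n i₀))))) ^ (2 ^ (m - 1)) ∈ H :=
        ⟨_, rfl⟩
      rw [hbot, Subgroup.mem_bot, ← map_pow, MulEquiv.map_eq_one_iff] at hx
      have hx' := congrFun hx i₀
      rw [Pi.pow_apply, Pi.mulSingle_eq_same, Pi.one_apply] at hx'
      refine zmod_ofAdd_pow_ne_one (n i₀) (2 ^ (m - 1)) (by positivity) ?_ hx'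
      rw [hk i₀, hi₀']
      exact Nat.pow_lt_pow_right (by norm_num) (by omega)
    have hHeq := h.Z0_irred H hHZ hHinv hHne
    -- an involution in the `j`-th coordinate
    set z : P := e.symm (Pi.mulSingle j ((Multiplicative.ofAdd (1 : ZMod (n j))) ^ (2 ^ (k j - 1)))) with hz
    have hzj : (e z) j = (Multiplicative.ofAdd (1 : ZMod (n j))) ^ (2 ^ (k j - 1)) := by
      rw [hz, MulEquiv.apply_symm_apply, Pi.mulSingle_eq_same]
    have hzz : z * z = 1 := by
      apply e.injective
      rw [map_mul, map_one, hz, MulEquiv.apply_symm_apply, ← Pi.mulSingle_mul, ← pow_add, ← two_mul, ← pow_succ']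
      have : k j - 1 + 1 = k j := by have := hk1 j; omega
      rw [this, ← hk j, zmod_pow_eq_one (n j) (hn1 j), Pi.mulSingle_one]
    have hzH : z ∈ H := by
      rw [hHeq, h.mem_Z0_iff]
      exact hzz
    obtain ⟨y, hy⟩ := hzH
    have h1 := congrFun (congrArg e hy) j
    rw [map_pow, Pi.pow_apply, hzj] at h1
    obtain ⟨c, hc⟩ : 2 ^ k j ∣ 2 ^ (m - 1) := pow_dvd_pow 2 (by omega)
    rw [hc, pow_mul, ← hk j, zmod_pow_eq_one (n j) (hn1 j), one_pow] at h1
    refine zmod_ofAdd_pow_ne_one (n j) (2 ^ (k j - 1)) (by positivity) ?_ h1.symm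
    rw [hk j]
    exact Nat.pow_lt_pow_right (by norm_num) (by have := hk1 j; omega)

end Cfsg.Agent.Lib.Helper36.Suz2
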