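/-
helper36: SUZ2-[SEP] (helper85's SUZ2 project, S3776 + S3797; hedge of helper45's claim):
pairwise non-conjugate roots of unity of odd order in a finite field of characteristic 2 are separated by
polynomials with coefficients in the prime field.
-/
import Mathlib

set_option autoImplicit false

namespace Cfsg.Agent.Lib.Helper36.Suz2

open Polynomial

variable {F : Type*} [Field F]

/-- the "orbit polynomial" `Π_{k<N} (X - c^(2^k))` -/
noncomputable def orbPoly (N : ℕ) (c : F) : F[X] :=
  ∏ k ∈ Finset.range N, (X - C (c ^ (2 ^ k)))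

theorem orbPoly_eval_self {N : ℕ} (hN : 0 < N) (c : F) : (orbPoly N c).eval c = 0 := by
  unfold orbPoly
  rw [Polynomial.eval_prod]
  apply Finset.prod_eq_zero (Finset.mem_range.mpr hN)
  simp

theorem orbPoly_eval (N : ℕ) (c x : F) :
    (orbPoly N c).eval x = ∏ k ∈ Finset.range N, (x - c ^ (2 ^ k)) := by
  unfold orbPoly
  rw [Polynomial.eval_prod]
  simp

/-- the orbit polynomial is invariant under the Frobenius map on coefficients -/
theorem orbPoly_map_frobenius [CharP F 2] {N : ℕ} (c : F) (hc : c ^ (2 ^ N) = c) :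
    (orbPoly N c).map (frobenius F 2) = orbPoly N c := by
  unfold orbPoly
  rw [Polynomial.map_prod]
  have h1 : ∀ k ∈ Finset.range N, (X - C (c ^ (2 ^ k)) : F[X]).map (frobenius F 2)
      = X - C (c ^ (2 ^ (k + 1))) := by
    intro k _
    rw [Polynomial.map_sub, Polynomial.map_X, Polynomial.map_C, frobenius_def, ← pow_mul, ← pow_succ]
  rw [Finset.prod_congr rfl h1]
  have h2 := Finset.prod_range_succ (fun k => (X - C (c ^ (2 ^ k)) : F[X])) N
  have h3 := Finset.prod_range_succ' (fun k => (X - C (c ^ (2 ^ k)) : F[X])) N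
  rw [h2] at h3
  simp only [pow_zero, pow_one] at h3
  rw [hc] at h3
  have hne : (X - C c : F[X]) ≠ 0 := Polynomial.X_sub_C_ne_zero c
  exact (mul_right_cancel₀ hne h3).symm

/-- a Frobenius-invariant polynomial has coefficients `0` or `1` -/
theorem coeff_eq_zero_or_one_of_map_frobenius [CharP F 2] (p : F[X]) (hp : p.map (frobenius F 2) = p)
    (a : ℕ) : p.coeff a = 0 ∨ p.coeff a = 1 := by
  have h := congrArg (fun r : F[X] => r.coeff a) hp
  simp only [Polynomial.coeff_map, frobenius_def] at h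
  have h2 : p.coeff a * (p.coeff a - 1) = 0 := by
    rw [mul_sub, mul_one, ← sq, h, sub_self]
  rcases mul_eq_zero.mp h2 with h3 | h3
  · exact Or.inl h3
  · exact Or.inr (sub_eq_zero.mp h3)

-- [SEP]
theorem exists_sep [Fintype F] [CharP F 2] {ι : Type*} [Fintype ι] [DecidableEq ι] (μ : ι → F) (m : ℕ)
    (hm : Odd m) (hpow : ∀ i, μ i ^ m = 1)
    (hnc : ∀ i i', i ≠ i' → ∀ k : ℕ, μ i ^ (2 ^ k) ≠ μ i') (i₀ : ι) :
    ∃ d : ℕ → ℕ, ∀ i, ∑ j ∈ Finset.range m, (d j : F) * μ i ^ j = if i = i₀ then 1 else 0 := by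
  classical
  obtain ⟨N, -, hq⟩ := FiniteField.card F 2
  have hNpos : 0 < (N : ℕ) := N.pos
  have hfrob : ∀ c : F, c ^ (2 ^ (N : ℕ)) = c := by
    intro c
    rw [← hq]
    exact FiniteField.pow_card c
  have hmpos : 0 < m := hm.pos
  -- the separating polynomial
  set H : F[X] := ∏ i ∈ Finset.univ.erase i₀, orbPoly N (μ i) with hH
  set P : F[X] := H ^ (Fintype.card F - 1) with hP
  have hHmap : H.map (frobenius F 2) = H := by
    rw [hH, Polynomial.map_prod]
    apply Finset.prod_congr rfl
    intro i _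
    exact orbPoly_map_frobenius (μ i) (hfrob (μ i))
  have hPmap : P.map (frobenius F 2) = P := by
    rw [hP, Polynomial.map_pow, hHmap]
  have hcard1 : Fintype.card F - 1 ≠ 0 := by
    have := Fintype.one_lt_card (α := F)
    omega
  have hP0 : ∀ i, i ≠ i₀ → P.eval (μ i) = 0 := by
    intro i hi
    rw [hP, Polynomial.eval_pow, hH, Polynomial.eval_prod]
    apply pow_eq_zero_iff hcard1 |>.mpr
    apply Finset.prod_eq_zero (Finset.mem_erase.mpr ⟨hi, Finset.mem_univ i⟩)
    exact orbPoly_eval_self hNpos (μ i)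
  have hP1 : P.eval (μ i₀) = 1 := by
    rw [hP, Polynomial.eval_pow]
    apply FiniteField.pow_card_sub_one_eq_one
    rw [hH, Polynomial.eval_prod]
    apply Finset.prod_ne_zero_iff.mpr
    intro i hi
    rw [orbPoly_eval]
    apply Finset.prod_ne_zero_iff.mpr
    intro k _
    rw [sub_ne_zero]
    exact fun h => hnc i i₀ (Finset.ne_of_mem_erase hi) k h.symm
  -- coefficients
  set D := P.natDegree + 1 with hD
  let δ : ℕ → ℕ := fun a => if P.coeff a = 0 then 0 else 1
  have hδ : ∀ a, P.coeff a = (δ a : F) := by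
    intro a
    rcases coeff_eq_zero_or_one_of_map_frobenius P hPmap a with h | h
    · simp [δ, h]
    · simp [δ, h]
  refine ⟨fun j => ∑ a ∈ (Finset.range D).filter (fun a => a % m = j), δ a, ?_⟩
  intro i
  have heval : P.eval (μ i) = ∑ j ∈ Finset.range m,
      ((∑ a ∈ (Finset.range D).filter (fun a => a % m = j), δ a : ℕ) : F) * μ i ^ j := by
    rw [Polynomial.eval_eq_sum_range]
    have hmaps : ∀ a ∈ Finset.range D, a % m ∈ Finset.range m :=
      fun a _ => Finset.mem_range.mpr (Nat.mod_lt a hmpos)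
    rw [← Finset.sum_fiberwise_of_maps_to hmaps]
    apply Finset.sum_congr rfl
    intro j _
    rw [Nat.cast_sum, Finset.sum_mul]
    apply Finset.sum_congr rfl
    intro a ha
    rw [Finset.mem_filter] at ha
    rw [hδ a]
    congr 1
    conv_lhs => rw [← Nat.div_add_mod a m]
    rw [pow_add, pow_mul, hpow i, one_pow, one_mul, ha.2]
  rw [← heval]
  by_cases hi : i = i₀
  · rw [if_pos hi, hi, hP1]
  · rw [if_neg hi, hP0 i hi]

end Cfsg.Agent.Lib.Helper36.Suz2
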