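/-
helper36: SUZ2-[T-B2] (helper85's SUZ2 project, part 2 = S3797):
under `THyp G`, the 2-core with the automorphisms induced by `G` satisfies `SHyp`.
-/
import Mathlib
import Cfsg.Agent.Lib.Helper85.Suz2ThDefs
import Cfsg.Agent.Lib.Helper76.PCore
import Cfsg.Agent.Lib.Helper42.Suz2TShyp
import Cfsg.Agent.Lib.Helper84.Suz2TInv

set_option autoImplicit false
set_option linter.style.haveILetI false

namespace Cfsg.Agent.Lib.Helper36.Suz2

open Cfsg Cfsg.Agent.Lib.Helper19.Suz Cfsg.Agent.Lib.Helper85.Suz2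

universe u

variable {G : Type u} [Group G]

/-- [T-B2], relative to the statements of [T-SHYP] and [T-INV] -/
theorem shyp_core_of (h : THyp G)
    (hshyp : ∀ (H N : Subgroup G), N ≤ Subgroup.normalizer (H : Set G) →
      Group.IsSolvable N → IsPGroup 2 H →
      (∀ x ∈ H, ∀ y ∈ H, x ≠ 1 → x * x = 1 → y ≠ 1 → y * y = 1 → ∃ n ∈ N, n * x * n⁻¹ = y) →
      (∃ x ∈ H, ∃ y ∈ H, x ≠ y ∧ x ≠ 1 ∧ x * x = 1 ∧ y ≠ 1 ∧ y * y = 1) →
      SHyp ↥H (conjY H N))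
    (hinv : ∀ {x : G}, x ≠ 1 → x * x = 1 → x ∈ pCore 2 G ∧ ∀ p ∈ pCore 2 G, p * x = x * p) :
    SHyp ↥(pCore 2 G) (conjY (pCore 2 G) ⊤) := by
  haveI : Fact (Nat.Prime 2) := ⟨Nat.prime_two⟩
  haveI : (pCore 2 G).Normal := by
    unfold pCore
    exact Subgroup.sSup_normal _ fun N hN => hN.1
  apply hshyp
  · intro g _
    exact Subgroup.normalizer_eq_top (H := pCore 2 G) ▸ Subgroup.mem_top g
  · haveI := h.sol
    exact Group.isSolvable_of_surjective (f := (Subgroup.topEquiv (G := G)).symm.toMonoidHom)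
      (Subgroup.topEquiv (G := G)).symm.surjective
  · exact Cfsg.Agent.Lib.Helper76.pCore_isPGroup 2
  · intro x _ y _ hx1 hx2 hy1 hy2
    obtain ⟨g, hg⟩ := h.conj x y hx1 hx2 hy1 hy2
    exact ⟨g, Subgroup.mem_top g, hg⟩
  · obtain ⟨x, y, hxy, hx1, hx2, hy1, hy2⟩ := h.two
    exact ⟨x, (hinv hx1 hx2).1, y, (hinv hy1 hy2).1, hxy, hx1, hx2, hy1, hy2⟩

-- [T-B2]
theorem THyp.shyp_core (h : THyp G) : SHyp ↥(pCore 2 G) (conjY (pCore 2 G) ⊤) := by
  haveI := h.fin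
  exact shyp_core_of h (fun H N => Cfsg.Agent.Lib.Helper42.Suz2.shyp_conjY H N)
    (fun {x} hx1 hx2 => Cfsg.Agent.Lib.Helper84.Suz2.THyp.inv_mem h hx1 hx2)

end Cfsg.Agent.Lib.Helper36.Suz2
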