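import Mathlib
import Cfsg.Agent.Lib.Helper36.DicksonMatrix
import Cfsg.Agent.Lib.Helper36.ThreeTransp

set_option autoImplicit false

/-!
# Matrix form: the elements `g` of `O(Q)` over `𝔽₂` with `rank (g - 1) = 1` form a class of
3-transpositions.
-/

namespace Cfsg.Agent.Lib.Helper36

open Module Matrix Cfsg.Agent.Lib.Helper13

variable {ι : Type} [Fintype ι] [DecidableEq ι] {F : Type*} [Field F]

theorem rank_one_iff_mem_reflSet (Q : QuadraticForm F (ι → F))
    (hQ : (QuadraticMap.polarBilin Q).Nondegenerate) (g : ↥(Cfsg.isometryGroup F (⇑Q))) :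
    (((g : GL ι F) : Matrix ι ι F) - 1).rank = 1 ↔
      ((isometryGroupEquiv Q g : ↥(isoGroup Q)) : (ι → F) ≃ₗ[F] (ι → F)) ∈ reflSet Q := by
  rw [mem_reflSet_iff_rank_one Q hQ _ (isometryGroupEquiv Q g).2, rank_sub_one_eq]
  rfl

theorem isThreeTranspositionClass_rank_one [CharP F 2] [Nonempty ι] (Q : QuadraticForm F (ι → F))
    (hQ : (QuadraticMap.polarBilin Q).Nondegenerate) (h01 : ∀ a : F, a = 0 ∨ a = 1)
    (hcard : Fintype.card ι ≠ 4) :
    Cfsg.IsThreeTranspositionClass {g : ↥(Cfsg.isometryGroup F (⇑Q)) |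
      (((g : GL ι F) : Matrix ι ι F) - 1).rank = 1} := by
  have hdim : Module.finrank F (ι → F) ≠ 4 := by
    rw [Module.finrank_fintype_fun_eq_card]
    exact hcard
  exact isThreeTranspositionClass_of_equiv (isometryGroupEquiv Q)
    {g : ↥(Cfsg.isometryGroup F (⇑Q)) | (((g : GL ι F) : Matrix ι ι F) - 1).rank = 1}
    {T : ↥(isoGroup Q) | (T : (ι → F) ≃ₗ[F] (ι → F)) ∈ reflSet Q}
    (fun g => rank_one_iff_mem_reflSet Q hQ g) (isThreeTranspositionClass_refl Q hQ h01 hdim)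

end Cfsg.Agent.Lib.Helper36
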